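import Cfsg.Agent.ClassicalMax.OOWreath.Slot

/-!
A tensor power of a slot: the slot root elements span all matrices, and a subalgebra stable under their conjugations
that is not scalar contains all matrices of one slot.
-/

set_option autoImplicit false
set_option linter.unusedSectionVars false
set_option linter.unusedSimpArgs false

namespace Cfsg.Agent.ClassicalMax.OOWreath

open Matrix Cfsg.Agent.ClassicalMax.TPow

variable {F : Type*} [Field F] {k : ℕ} {J : Matrix (Fin k) (Fin k) F} {β : Type} [Fintype β] [DecidableEq β]

/-- monomials of a set of slots -/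
def mono (S : Finset β) (U : β → Matrix (Fin k) (Fin k) F) : Matrix (β → Fin k) (β → Fin k) F :=
  tens (S.piecewise U 1)

theorem mono_congr {S : Finset β} {U U' : β → Matrix (Fin k) (Fin k) F} (h : ∀ j ∈ S, U j = U' j) :
    mono S U = mono S U' := by
  rw [mono, mono]
  congr 1
  funext j
  by_cases hj : j ∈ S
  · simp [hj, h j hj]
  · simp [hj]

theorem mono_insert {S : Finset β} {l : β} (hl : l ∉ S) (U : β → Matrix (Fin k) (Fin k) F) :
    mono (insert l S) U = sl l (U l) * mono S U := by
  rw [mono, mono, sl, tens_mul]
  congr 1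
  funext j
  rcases eq_or_ne j l with rfl | hj
  · simp [hl]
  · simp [Finset.piecewise, hj]

theorem mono_mul (S : Finset β) (U U' : β → Matrix (Fin k) (Fin k) F) :
    mono S U * mono S U' = mono S fun j => U j * U' j := by
  rw [mono, mono, mono, tens_mul]
  congr 1
  funext j
  by_cases hj : j ∈ S <;> simp [hj]

theorem mono_commute {S : Finset β} {l : β} (hl : l ∉ S) (U : β → Matrix (Fin k) (Fin k) F)
    (A : Matrix (Fin k) (Fin k) F) : Commute (mono S U) (sl l A) :=
  sl_commute_of_one (Finset.piecewise_eq_of_notMem S _ _ hl) A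

/-- a matrix commuting with the slots of a monomial is not killed by it -/
theorem mono_cancel {S : Finset β} {U : β → Matrix (Fin k) (Fin k) F} (hU : ∀ j ∈ S, U j ≠ 0)
    {R : Matrix (β → Fin k) (β → Fin k) F} (hR : ∀ j ∈ S, ∀ A, Commute R (sl j A)) (h : mono S U * R = 0) :
    R = 0 := by
  induction S using Finset.induction_on with
  | empty => rwa [mono, Finset.piecewise_empty, tens_one, one_mul] at h
  | insert l S hl ih =>
    refine ih (fun j hj => hU j (Finset.mem_insert_of_mem hj)) (fun j hj => hR j (Finset.mem_insert_of_mem hj)) ?_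
    rw [mono_insert hl, mul_assoc] at h
    exact eq_zero_of_sl_mul (hU l (Finset.mem_insert_self _ _))
      (fun A => (mono_commute hl U A).mul_left (hR l (Finset.mem_insert_self _ _) A)) h

/-- a matrix commuting with a monomial -/
theorem commute_mono {S : Finset β} {U : β → Matrix (Fin k) (Fin k) F} {R : Matrix (β → Fin k) (β → Fin k) F}
    (hR : ∀ j ∈ S, ∀ A, Commute R (sl j A)) : Commute R (mono S U) := by
  induction S using Finset.induction_on with
  | empty => rw [mono, Finset.piecewise_empty, tens_one]; exact Commute.one_right R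
  | insert l S hl ih =>
    rw [mono_insert hl]
    exact (hR l (Finset.mem_insert_self _ _) _).mul_right (ih fun j hj => hR j (Finset.mem_insert_of_mem hj))

theorem slice'_mul_tens (l : β) (Z Z' : Matrix (β → Fin k) (β → Fin k) F) (a b x y : β → Fin k) :
    slice' (Z * tens (Function.update (fun j => Matrix.single (a j) (b j) (1 : F)) l 1) * Z') l x y =
      slice' Z l x a * slice' Z' l b y := by
  classical
  set M := tens (Function.update (fun j => Matrix.single (a j) (b j) (1 : F)) l 1) with hM
  have hMe : ∀ z z', M z z' = if z = Function.update a l (z l) ∧ z' = Function.update b l (z l) then 1 else 0 := by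
    intro z z'
    rw [hM, tens_apply]
    split_ifs with h
    · refine Finset.prod_eq_one fun j _ => ?_
      rcases eq_or_ne j l with rfl | hj
      · rw [Function.update_self, h.2, Function.update_self, Matrix.one_apply_eq]
      · rw [h.1, h.2]; simp [hj]
    · have : ∃ j, Function.update (fun j => Matrix.single (a j) (b j) (1 : F)) l 1 j (z j) (z' j) = 0 := by
        by_contra! hall
        refine h ⟨funext fun j => ?_, funext fun j => ?_⟩ <;> rcases eq_or_ne j l with rfl | hj
        · simp
        · have := hall j
          simp [hj, Matrix.single_apply] at this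
          simp [hj, this.1]
        · have := hall j
          simp [Matrix.one_apply] at this
          simp [this]
        · have := hall j
          simp [hj, Matrix.single_apply] at this
          simp [hj, this.2]
      obtain ⟨j, hj⟩ := this
      exact Finset.prod_eq_zero (Finset.mem_univ j) hj
  ext i i'
  simp only [slice', Matrix.of_apply, Matrix.mul_apply, Finset.sum_mul]
  rw [Finset.sum_comm]
  refine (Finset.sum_of_injOn (fun c => Function.update a l c) (fun c _ c' _ h => ?_) (by simp) (fun z _ hz => ?_)
    (fun c _ => ?_)).symm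
  · simpa using congrFun h l
  · refine Finset.sum_eq_zero fun z' _ => ?_
    rw [hMe, if_neg fun h => hz ⟨z l, by simp, h.1.symm⟩, mul_zero, zero_mul]
  · rw [Finset.sum_eq_single (Function.update b l c)]
    · rw [hMe, if_pos ⟨by simp, by simp⟩, mul_one]
    · intro z' _ hz'
      rw [hMe, if_neg fun h => hz' (by simpa using h.2), mul_zero, zero_mul]
    · exact fun h => absurd (Finset.mem_univ _) h

theorem slice'_add (l : β) (Z Z' : Matrix (β → Fin k) (β → Fin k) F) (x y : β → Fin k) :
    slice' (Z + Z') l x y = slice' Z l x y + slice' Z' l x y := rfl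

theorem slice'_smul (l : β) (c : F) (Z : Matrix (β → Fin k) (β → Fin k) F) (x y : β → Fin k) :
    slice' (c • Z) l x y = c • slice' Z l x y := rfl

theorem slice'_sub (l : β) (Z Z' : Matrix (β → Fin k) (β → Fin k) F) (x y : β → Fin k) :
    slice' (Z - Z') l x y = slice' Z l x y - slice' Z' l x y := rfl

theorem eq_zero_of_slices (l : β) {Z : Matrix (β → Fin k) (β → Fin k) F} (h : ∀ x y, slice' Z l x y = 0) :
    Z = 0 := by
  ext x y
  have := congrFun (congrFun (h x y) (x l)) (y l)
  simpa [slice'] using this

/-- a subalgebra -/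
structure IsAlg (P : Matrix (β → Fin k) (β → Fin k) F → Prop) : Prop where
  one : P 1
  add : ∀ c d, P c → P d → P (c + d)
  smul : ∀ c, P c → ∀ s : F, P (s • c)
  mul : ∀ c d, P c → P d → P (c * d)

/-- a subalgebra stable under the slot root elements -/
structure Inv (J : Matrix (Fin k) (Fin k) F) (P : Matrix (β → Fin k) (β → Fin k) F → Prop) : Prop extends IsAlg P where
  conj : ∀ c, P c → ∀ (l : β) (p e : Fin k → F), bf J p p = 0 → bf J p e = 0 →
    P (sl l (eS J p e) * c * sl l (eS J p (-e)))

namespace IsAlg

variable {P : Matrix (β → Fin k) (β → Fin k) F → Prop} (hP : IsAlg P)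
include hP

theorem zero : P 0 := by
  have := hP.smul _ hP.one (0 : F)
  rwa [zero_smul] at this

theorem sub {c d : Matrix (β → Fin k) (β → Fin k) F} (hc : P c) (hd : P d) : P (c - d) := by
  have := hP.add _ _ hc (hP.smul _ hd (-1))
  rwa [neg_one_smul, ← sub_eq_add_neg] at this

theorem sum {γ : Type} (s : Finset γ) (f : γ → Matrix (β → Fin k) (β → Fin k) F) (h : ∀ x ∈ s, P (f x)) :
    P (∑ x ∈ s, f x) := Finset.sum_induction f P hP.add hP.zero h

theorem prod_slots {T : β → Matrix (Fin k) (Fin k) F} (h : ∀ j, P (sl j (T j))) : P (tens T) := by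
  suffices ∀ s : Finset β, P (mono s T) by simpa [mono, Finset.piecewise_univ] using this Finset.univ
  intro s
  induction s using Finset.induction_on with
  | empty => rw [mono, Finset.piecewise_empty, tens_one]; exact hP.one
  | insert j s hj ih => rw [mono_insert hj]; exact hP.mul _ _ (h j) ih

/-- the slot root elements generate everything -/
theorem slot_of_roots [Finite F] (hJ : SJ J) {l : β}
    (h : ∀ p e, bf J p p = 0 → bf J p e = 0 → P (sl l (eS J p e))) (A : Matrix (Fin k) (Fin k) F) : P (sl l A) := by
  have h2 := hJ.two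
  have hneg : ∀ p e, bf J p e = 0 → bf J p (-e) = 0 := fun p e he => by
    rw [← neg_one_smul F e, bf_smul_right, he, mul_zero]
  have hx : ∀ p e, bf J p p = 0 → bf J p e = 0 → P (sl l (xp J p e)) := fun p e hp he => by
    have h1 := hP.smul _ (hP.sub (h p e hp he) (h p (-e) hp (hneg p e he))) (2 : F)⁻¹
    refine cast (congrArg P ?_) h1
    rw [eS, eS, xp_neg, neg_mul_neg, sl_add, sl_add, sl_add, sl_add,
      show sl l (-xp J p e) = -sl l (xp J p e) by rw [← neg_one_smul F (xp J p e), sl_smul, neg_one_smul]]
    match_scalars <;> field_simp <;> ring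
  have hQ : ∀ p, bf J p p = 0 → P (sl l (rk J p p)) := fun p hp => by
    rcases eq_or_ne p 0 with rfl | hp0
    · rw [rk, zero_vecMulVec, sl_zero]; exact hP.zero
    obtain ⟨q, e, -, -, hpe, -, he⟩ := hJ.exists_frame hp0 hp
    have h1 := hP.smul _ (hP.mul _ _ (hx p e hp hpe) (hx p e hp hpe)) (-bf J e e)⁻¹
    rwa [sl_mul, hJ.xp_mul hp hpe hpe, sl_smul, smul_smul, inv_mul_cancel₀ (neg_ne_zero.2 he), one_smul] at h1
  let R : (Fin k → F) → Submodule F (Fin k → F) := fun u =>
    { carrier := {w | P (sl l (rk J u w))}
      zero_mem' := by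
        show P (sl l (rk J u 0))
        rw [show rk J u (0 : Fin k → F) = 0 by rw [rk, zero_vecMul, vecMulVec_zero], sl_zero]; exact hP.zero
      add_mem' := fun {a b} ha hb => by
        show P (sl l (rk J u (a + b)))
        rw [rk_add_right, sl_add]; exact hP.add _ _ ha hb
      smul_mem' := fun c a ha => by
        show P (sl l (rk J u (c • a)))
        rw [rk_smul_right, sl_smul]; exact hP.smul _ ha c }
  let L : (Fin k → F) → Submodule F (Fin k → F) := fun w =>
    { carrier := {u | P (sl l (rk J u w))}
      zero_mem' := by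
        show P (sl l (rk J 0 w))
        rw [rk, zero_vecMulVec, sl_zero]; exact hP.zero
      add_mem' := fun {a b} ha hb => by
        show P (sl l (rk J (a + b) w))
        rw [rk_add_left, sl_add]; exact hP.add _ _ ha hb
      smul_mem' := fun c a ha => by
        show P (sl l (rk J (c • a) w))
        rw [rk_smul_left, sl_smul]; exact hP.smul _ ha c }
  have hR : ∀ p w, p ≠ 0 → bf J p p = 0 → P (sl l (rk J p w)) := fun p w hp0 hp => by
    suffices R p = ⊤ from (this ▸ Submodule.mem_top : w ∈ R p)
    refine hJ.partner_span hp0 hp (R p) fun g hg hpg => ?_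
    have h1 := hP.smul _ (hP.mul _ _ (hQ p hp) (hQ g hg)) (bf J p g)⁻¹
    rwa [sl_mul, rk_mul_rk, sl_smul, smul_smul, inv_mul_cancel₀ hpg, one_smul] at h1
  have hall : ∀ u w, P (sl l (rk J u w)) := fun u w => by
    suffices L w = ⊤ from (this ▸ Submodule.mem_top : u ∈ L w)
    refine hJ.iso_span (L w) fun g hg => ?_
    rcases eq_or_ne g 0 with rfl | hg0
    · exact Submodule.zero_mem _
    · exact hR g w hg0 hg
  have e : A = ∑ b, rk J (Pi.single b 1) (A.row b ᵥ* J⁻¹) := by
    ext x y
    simp only [rk, Matrix.sum_apply, vecMulVec_apply, vecMul_vecMul, nonsing_inv_mul J hJ.det, vecMul_one,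
      Pi.single_apply, ite_mul, one_mul, zero_mul, Finset.sum_ite_eq, Finset.mem_univ, if_true]
    rfl
  rw [e]
  have e2 : ∀ s : Finset (Fin k), sl l (∑ b ∈ s, rk J (Pi.single b 1) (A.row b ᵥ* J⁻¹)) =
      ∑ b ∈ s, sl l (rk J (Pi.single b 1) (A.row b ᵥ* J⁻¹)) := fun s => by
    induction s using Finset.induction_on with
    | empty => simp [sl_zero]
    | insert b s hb ih => rw [Finset.sum_insert hb, Finset.sum_insert hb, sl_add, ih]
  rw [e2]
  exact hP.sum _ _ fun b _ => hall _ _

/-- the root elements of all slots give all matrices -/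
theorem all_of_slots (h : ∀ (l : β) (A : Matrix (Fin k) (Fin k) F), P (sl l A))
    (M : Matrix (β → Fin k) (β → Fin k) F) : P M := by
  rw [Matrix.matrix_eq_sum_single M]
  refine hP.sum _ _ fun x _ => hP.sum _ _ fun y _ => ?_
  have e : Matrix.single x y (M x y) = M x y • tens (fun j => Matrix.single (x j) (y j) (1 : F)) := by
    ext z w
    rw [Matrix.smul_apply, tens_apply, Matrix.single_apply, smul_eq_mul]
    split_ifs with hzw
    · obtain ⟨rfl, rfl⟩ := hzw
      rw [Finset.prod_eq_one (fun j _ => by simp), mul_one]
    · obtain ⟨j, hj⟩ : ∃ j, ¬ (x j = z j ∧ y j = w j) := by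
        by_contra! hall
        exact hzw ⟨funext fun j => (hall j).1, funext fun j => (hall j).2⟩
      rw [Finset.prod_eq_zero (Finset.mem_univ j) (by rw [Matrix.single_apply, if_neg hj]), mul_zero]
  rw [e]
  exact hP.smul _ (hP.prod_slots fun j => h j _) _

end IsAlg

end Cfsg.Agent.ClassicalMax.OOWreath
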