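import Cfsg.Agent.ClassicalMax.OOWreath.Alg
import Cfsg.Agent.Classical.QuadDecomp

/-!
A subalgebra stable under the slot root elements that is not scalar contains all matrices of one slot.
-/

set_option autoImplicit false
set_option linter.unusedSectionVars false
set_option linter.unusedSimpArgs false

namespace Cfsg.Agent.ClassicalMax.OOWreath

open Matrix Module QuadraticMap Cfsg.Agent.Classical Cfsg.Agent.Classical.Quad Cfsg.Agent.ClassicalMax.TPow

variable {F : Type*} [Field F] {k : ℕ} {J : Matrix (Fin k) (Fin k) F} {β : Type} [Fintype β] [DecidableEq β]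

/-- the second difference -/
def ddf (J : Matrix (Fin k) (Fin k) F) (p e : Fin k → F) (S : Matrix (Fin k) (Fin k) F) : Matrix (Fin k) (Fin k) F :=
  eS J p e * S * eS J p (-e) + eS J p (-e) * S * eS J p e - (2 : F) • S

/-- the second difference of a big matrix in one slot -/
def bdf (J : Matrix (Fin k) (Fin k) F) (l : β) (p e : Fin k → F) (R : Matrix (β → Fin k) (β → Fin k) F) :
    Matrix (β → Fin k) (β → Fin k) F :=
  sl l (eS J p e) * R * sl l (eS J p (-e)) + sl l (eS J p (-e)) * R * sl l (eS J p e) - (2 : F) • R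

theorem slice'_bdf (l : β) (p e : Fin k → F) (R : Matrix (β → Fin k) (β → Fin k) F) (x y : β → Fin k) :
    slice' (bdf J l p e R) l x y = ddf J p e (slice' R l x y) := by
  rw [bdf, ddf, slice'_sub, slice'_add, slice'_smul, slice'_mul_sl, slice'_sl_mul, slice'_mul_sl, slice'_sl_mul]

/-- conjugations keeping the predicate and commuting with the slots of a set -/
def Mov (P : Matrix (β → Fin k) (β → Fin k) F → Prop) (T : Finset β) : Set (Matrix (β → Fin k) (β → Fin k) F) :=
  {M | ∃ M', M * M' = 1 ∧ M' * M = 1 ∧ (∀ c, P c → P (M * c * M')) ∧ ∀ l ∈ T, ∀ A, Commute M (sl l A)}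

namespace SJ

variable (hJ : SJ J)
include hJ

theorem ddf_eq {p e : Fin k → F} (hp : bf J p p = 0) (he : bf J p e = 0) (S : Matrix (Fin k) (Fin k) F) :
    ddf J p e S = (-bf J e e) • (rk J p p * S + S * rk J p p) - (2 : F) • (xp J p e * S * xp J p e) +
      (bf J e e ^ 2 / 2 * bf J p (S *ᵥ p)) • rk J p p := by
  have he' : bf J p (-e) = 0 := by rw [← neg_one_smul F e, bf_smul_right, he, mul_zero]
  have hq : bf J (-e) (-e) = bf J e e := by
    rw [← neg_one_smul F e, bf_smul_left, bf_smul_right]; ring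
  have hπ : rk J p p * S * rk J p p = bf J p (S *ᵥ p) • rk J p p := by rw [mul_assoc, mul_rk, rk_mul_rk]
  have h2 := hJ.two
  rw [ddf, hJ.eS_eq hp he, hJ.eS_eq hp he', hq, xp_neg]
  simp only [add_mul, mul_add, one_mul, mul_one, mul_neg, neg_mul, smul_mul_assoc, mul_smul_comm, hπ, smul_smul,
    smul_add]
  match_scalars <;> field_simp <;> ring

/-- without value on `p` the second difference is a root operator -/
theorem ddf_xp {p e : Fin k → F} (hp : bf J p p = 0) (he : bf J p e = 0) {S : Matrix (Fin k) (Fin k) F} {κ : F}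
    (hκ : S + adjJ J S = κ • (1 : Matrix (Fin k) (Fin k) F)) (h0 : bf J p (S *ᵥ p) = 0) :
    ddf J p e S = xp J p (bf J e e • (S *ᵥ p) + (-(2 * bf J e (S *ᵥ p))) • e) := by
  have h2 := hJ.two
  have hA : adjJ J S = κ • 1 - S := eq_sub_of_add_eq' hκ
  have hSp : adjJ J S *ᵥ p = κ • p - S *ᵥ p := by rw [hA, sub_mulVec, smul_mulVec, one_mulVec]
  have hee : bf J e (S *ᵥ e) = κ * bf J e e / 2 := by
    have h := hJ.bf_adjJ S e e
    rw [hA, sub_mulVec, smul_mulVec, one_mulVec, sub_eq_add_neg, ← neg_one_smul F (S *ᵥ e), bf_add_left,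
      bf_smul_left, bf_smul_left, hJ.comm (S *ᵥ e) e] at h
    field_simp
    linear_combination -h
  have hpe : bf J p (S *ᵥ e) = -bf J e (S *ᵥ p) := by
    rw [← hJ.bf_adjJ, hSp, sub_eq_add_neg, ← neg_one_smul F (S *ᵥ p), bf_add_left, bf_smul_left, bf_smul_left, he,
      hJ.comm (S *ᵥ p) e]
    ring
  have hr : ∀ a b c d : Fin k → F, rk J a b * S * rk J c d = bf J b (S *ᵥ c) • rk J a d := fun a b c d => by
    rw [mul_assoc, mul_rk, rk_mul_rk]
  have hX : xp J p e * S * xp J p e = bf J e (S *ᵥ p) • rk J p e - (κ * bf J e e / 2) • rk J p p +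
      (-bf J e (S *ᵥ p)) • rk J e p := by
    simp only [xp, mul_sub, sub_mul, hr, h0, hee, hpe, zero_smul, sub_zero]
    module
  have hsub : rk J p (κ • p - S *ᵥ p) = κ • rk J p p - rk J p (S *ᵥ p) := by
    rw [sub_eq_add_neg, ← neg_one_smul F (S *ᵥ p), rk_add_right, rk_smul_right, rk_smul_right]
    module
  rw [hJ.ddf_eq hp he, h0, mul_zero, zero_smul, add_zero, hJ.rk_mul, hSp, mul_rk, xp_add, xp_smul, xp_smul, hsub, hX]
  simp only [xp]
  match_scalars <;> field_simp <;> ring

variable [Finite F]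

/-- a combination of second differences isolating the value on `p` -/
theorem exists_comb {p : Fin k → F} (hp0 : p ≠ 0) (hp : bf J p p = 0) :
    ∃ (n : ℕ) (a : Fin n → F) (e : Fin n → Fin k → F) (c : F), c ≠ 0 ∧ (∀ i, bf J p (e i) = 0) ∧
      ∀ S, ∑ i, a i • ddf J p (e i) S = (c * bf J p (S *ᵥ p)) • rk J p p := by
  obtain ⟨q, e, hq, hpq, hpe, hqe, he⟩ := hJ.exists_frame hp0 hp
  have h2 := hJ.two
  by_cases h5 : 5 ≤ Nat.card F
  · classical
    letI := Fintype.ofFinite F
    obtain ⟨s, -, hs⟩ := Finset.exists_mem_notMem_of_card_lt_card (s := ({0, 1, -1} : Finset F))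
      (t := Finset.univ) (lt_of_le_of_lt Finset.card_le_three (by
        rw [Finset.card_univ, ← Nat.card_eq_fintype_card]; omega))
    simp only [Finset.mem_insert, Finset.mem_singleton, not_or] at hs
    obtain ⟨hs0, hs1, hs2⟩ := hs
    have hse : bf J p (s • e) = 0 := by rw [bf_smul_right, hpe, mul_zero]
    refine ⟨2, ![1, -(s ^ 2)], ![s • e, e], bf J e e ^ 2 / 2 * (s ^ 2 * ((s - 1) * (s + 1))), ?_, ?_, fun S => ?_⟩
    · exact mul_ne_zero (div_ne_zero (pow_ne_zero _ he) h2) (mul_ne_zero (pow_ne_zero _ hs0)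
        (mul_ne_zero (sub_ne_zero.2 hs1) fun h => hs2 (eq_neg_of_add_eq_zero_left h)))
    · intro i; fin_cases i <;> assumption
    simp only [Fin.sum_univ_two, Matrix.cons_val_zero, Matrix.cons_val_one, Matrix.cons_val_fin_one,
      hJ.ddf_eq hp hse, hJ.ddf_eq hp hpe, xp_smul, bf_smul_left, bf_smul_right, smul_mul_assoc, mul_smul_comm,
      smul_smul, smul_add, smul_sub, one_mul, one_smul]
    match_scalars <;> field_simp <;> ring
  · obtain ⟨e', hpe', -, hee', he'⟩ := hJ.exists_frame4 (hJ.q5.resolve_left h5) hp hq hpq hpe hqe he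
    have h1 : bf J p (e + e') = 0 := by rw [bf_add_right, hpe, hpe', add_zero]
    have hm : bf J p (e + (-1 : F) • e') = 0 := by rw [bf_add_right, bf_smul_right, hpe, hpe']; ring
    refine ⟨4, ![1, 1, -2, -2], ![e + e', e + (-1 : F) • e', e, e'], 2 * (bf J e e * bf J e' e'),
      mul_ne_zero h2 (mul_ne_zero he he'), ?_, fun S => ?_⟩
    · intro i; fin_cases i <;> assumption
    simp only [Fin.sum_univ_four, Matrix.cons_val, hJ.ddf_eq hp h1, hJ.ddf_eq hp hm, hJ.ddf_eq hp hpe,
      hJ.ddf_eq hp hpe', xp_add, xp_smul, bf_add_left, bf_add_right, bf_smul_left, bf_smul_right, hee',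
      hJ.comm e' e, add_mul, mul_add, smul_mul_assoc, mul_smul_comm, smul_smul, smul_add, smul_sub, one_mul,
      one_smul]
    match_scalars <;> field_simp <;> ring

/-- a root element fixing `p` and moving a singular vector orthogonal to it off its orthogonal -/
theorem exists_levi {p y : Fin k → F} (hp0 : p ≠ 0) (hp : bf J p p = 0) (hy : bf J y y = 0) (hpy : bf J p y = 0)
    (hne : ∀ c : F, y ≠ c • p) :
    ∃ f u, bf J f f = 0 ∧ bf J f u = 0 ∧ bf J p f = 0 ∧ bf J p u = 0 ∧ bf J f y ≠ 0 ∧ bf J u u ≠ 0 := by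
  have h2 := hJ.two
  obtain ⟨z, hpz, hyz⟩ : ∃ z, bf J p z = 0 ∧ bf J y z ≠ 0 := by
    by_contra! hc
    obtain ⟨q, e, hq, hpq, -, -, -⟩ := hJ.exists_frame hp0 hp
    obtain ⟨w, hw⟩ := exists_bf_ne J hJ.det (show y + (-bf J y q) • p ≠ 0 from fun e =>
      hne (bf J y q) (by linear_combination (norm := module) e))
    have h3 := hc (w + (-bf J p w) • q) (by rw [bf_add_right, bf_smul_right, hpq]; ring)
    rw [bf_add_right, bf_smul_right] at h3
    exact hw (by rw [bf_add_left, bf_smul_left]; linear_combination h3)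
  set f := z + (-(bf J z z / (2 * bf J y z))) • y with hfd
  have hf : bf J f f = 0 := by
    simp only [hfd, bf_add_left, bf_add_right, bf_smul_left, bf_smul_right, hy, hJ.comm z y]
    field_simp
    ring
  have hpf : bf J p f = 0 := by rw [hfd, bf_add_right, bf_smul_right, hpz, hpy]; ring
  have hfy : bf J f y ≠ 0 := by rw [hfd, bf_add_left, bf_smul_left, hy, hJ.comm z y]; simpa using hyz
  by_contra! hall
  have hiso : ∀ v, bf J p v = 0 → bf J f v = 0 → bf J v v = 0 := fun v h1 h3 => hall f v hf h3 hpf h1 hfy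
  set S := LinearMap.ker ((polarBilin (qJ J) p).prod (polarBilin (qJ J) f)) with hSd
  have hS : ∀ u ∈ S, qJ J u = 0 := fun u hu => by
    simp only [hSd, LinearMap.mem_ker, LinearMap.prod_apply, Function.prod_apply, Prod.mk_eq_zero,
      polarBilin_apply_apply, hJ.polar_qJ] at hu
    rw [qJ_apply]
    exact hiso u ((mul_eq_zero.1 hu.1).resolve_left h2) ((mul_eq_zero.1 hu.2).resolve_left h2)
  have h1 := two_mul_finrank_le hJ.qJ_nd hS
  have h3 := LinearMap.finrank_range_add_finrank_ker ((polarBilin (qJ J) p).prod (polarBilin (qJ J) f))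
  have h4 := Submodule.finrank_le (LinearMap.range ((polarBilin (qJ J) p).prod (polarBilin (qJ J) f)))
  rw [finrank_prod, finrank_self, ← hSd, Module.finrank_fintype_fun_eq_card, Fintype.card_fin] at *
  have hk := hJ.kk
  rcases (by omega : k = 4 ∨ k = 3) with hk4 | hk3
  · obtain ⟨c, hc⟩ := hJ.nop hk4 p y hp0 hp hy hpy
    exact hne c hc
  · have hpl : ∀ v ∈ Submodule.span F ({p, y} : Set (Fin k → F)), qJ J v = 0 := fun v hv => by
      obtain ⟨a, b, rfl⟩ := Submodule.mem_span_pair.1 hv
      simp [qJ_apply, bf_add_left, bf_add_right, bf_smul_left, bf_smul_right, hp, hy, hpy, hJ.comm y p]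
    have h5 := two_mul_finrank_le hJ.qJ_nd hpl
    have h6 : finrank F (Submodule.span F ({p, y} : Set (Fin k → F))) = 2 := by
      have hli : LinearIndependent F ![p, y] := by
        rw [LinearIndependent.pair_iff' hp0]
        exact fun a e => hne a e.symm
      have h := finrank_span_eq_card hli
      rw [Matrix.range_cons, Matrix.range_cons, Matrix.range_empty, Set.union_empty, Set.singleton_union,
        Fintype.card_fin] at h
      exact h
    rw [h6, Module.finrank_fintype_fun_eq_card, Fintype.card_fin] at h5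
    omega

end SJ

namespace Inv

variable [Finite F] {P : Matrix (β → Fin k) (β → Fin k) F → Prop} (hP : Inv J P) (hJ : SJ J)
include hP hJ

theorem bdf_mem {c : Matrix (β → Fin k) (β → Fin k) F} (hc : P c) (l : β) {p e : Fin k → F} (hp : bf J p p = 0)
    (he : bf J p e = 0) : P (bdf J l p e c) := by
  have he' : bf J p (-e) = 0 := by rw [← neg_one_smul F e, bf_smul_right, he, mul_zero]
  have h1 := hP.conj c hc l p (-e) hp he'
  rw [neg_neg] at h1
  exact hP.toIsAlg.sub (hP.add _ _ (hP.conj c hc l p e hp he) h1) (hP.smul _ hc 2)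

/-- two matrices that the allowed conjugations keep apart -/
theorem separate (T : Finset β) (Φ : Matrix (β → Fin k) (β → Fin k) F →ₗ[F] Matrix (β → Fin k) (β → Fin k) F)
    (h : ∀ M ∈ Mov P T, Φ M = 0) (G : β → Matrix (Fin k) (Fin k) F) (hG : ∀ l ∈ T, G l = 1) : Φ (tens G) = 0 := by
  set W := Submodule.span F (Mov P T) with hW
  have h1 : (1 : Matrix (β → Fin k) (β → Fin k) F) ∈ Mov P T :=
    ⟨1, by simp, by simp, fun c hc => by simpa using hc, fun l _ A => Commute.one_left _⟩
  have hmul : ∀ M ∈ Mov P T, ∀ N ∈ Mov P T, M * N ∈ Mov P T := by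
    rintro M ⟨M', a, b, c, d⟩ N ⟨N', a', b', c', d'⟩
    refine ⟨N' * M', by rw [mul_assoc, ← mul_assoc N, a', one_mul, a],
      by rw [mul_assoc, ← mul_assoc M', b, one_mul, b'], fun x hx => ?_, fun l hl A => (d l hl A).mul_left (d' l hl A)⟩
    rw [show M * N * x * (N' * M') = M * (N * x * N') * M' by simp only [mul_assoc]]
    exact c _ (c' _ hx)
  have hA : IsAlg fun M => M ∈ W := by
    refine ⟨Submodule.subset_span h1, fun a b => W.add_mem, fun a ha s => W.smul_mem s ha, fun a b ha hb => ?_⟩
    refine Submodule.span_induction (p := fun a _ => a * b ∈ W) (fun M hM => ?_) (by simp) (fun x y _ _ hx hy => ?_)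
      (fun s x _ hx => ?_) ha
    · refine Submodule.span_induction (p := fun b _ => M * b ∈ W) (fun N hN => Submodule.subset_span (hmul M hM N hN))
        (by simp) (fun x y _ _ hx hy => ?_) (fun s x _ hx => ?_) hb
      · rw [mul_add]; exact W.add_mem hx hy
      · rw [mul_smul_comm]; exact W.smul_mem s hx
    · rw [add_mul]; exact W.add_mem hx hy
    · rw [smul_mul_assoc]; exact W.smul_mem s hx
  have hker : W ≤ LinearMap.ker Φ := Submodule.span_le.2 fun M hM => h M hM
  refine hker (hA.prod_slots fun j => ?_)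
  by_cases hj : j ∈ T
  · rw [hG j hj, sl_one]; exact hA.one
  refine hA.slot_of_roots hJ (fun p e hp he => Submodule.subset_span ⟨sl j (eS J p (-e)), ?_, ?_, fun c hc =>
    hP.conj c hc j p e hp he, fun l hl A => sl_commute (fun e' => hj (by rw [e']; exact hl)) _ _⟩) _
  · rw [sl_mul, hJ.eS_inv hp he, sl_one]
  · have he' : bf J p (-e) = 0 := by rw [← neg_one_smul F e, bf_smul_right, he, mul_zero]
    have h2 := hJ.eS_inv hp he'
    rw [neg_neg] at h2
    rw [sl_mul, h2, sl_one]

/-- a shaped element of the predicate -/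
structure Shape (P : Matrix (β → Fin k) (β → Fin k) F → Prop) (J : Matrix (Fin k) (Fin k) F)
    (R₀ : Matrix (β → Fin k) (β → Fin k) F) (s : Finset β) where
  S : Finset β
  U : β → Matrix (Fin k) (Fin k) F
  R : Matrix (β → Fin k) (β → Fin k) F
  sub : S ⊆ s
  idem : ∀ j ∈ S, ∃ p q, bf J p p = 0 ∧ bf J q q = 0 ∧ bf J p q = 1 ∧ U j = rk J p q
  ne : R ≠ 0
  com : ∀ j ∈ s, ∀ A, Commute R (sl j A)
  mem : P (mono S U * R)
  base : S = ∅ → R = R₀

omit hP in
theorem idem_ne {p q : Fin k → F} (hpq : bf J p q = 1) : rk J p q ≠ 0 ∧ rk J p q * rk J p q = rk J p q := by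
  refine ⟨hJ.rk_ne (fun e => ?_) (fun e => ?_), by rw [rk_mul_rk, hJ.comm q p, hpq, one_smul]⟩
  · rw [e, bf, zero_dotProduct] at hpq; exact zero_ne_one hpq
  · rw [e, bf, mulVec_zero, dotProduct_zero] at hpq; exact zero_ne_one hpq

/-- the product of a shaped element with a moved one, in the remaining part -/
theorem mem_prod {S : Finset β} {U : β → Matrix (Fin k) (Fin k) F}
    (hU : ∀ j ∈ S, ∃ p q, bf J p p = 0 ∧ bf J q q = 0 ∧ bf J p q = 1 ∧ U j = rk J p q)
    {Z Z' : Matrix (β → Fin k) (β → Fin k) F} (hZ : ∀ j ∈ S, ∀ A, Commute Z (sl j A))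
    (h : P (mono S U * Z)) (h' : P (mono S U * Z')) {M M' : Matrix (β → Fin k) (β → Fin k) F}
    (hM : ∀ j ∈ S, ∀ A, Commute M (sl j A)) (hcm : ∀ c, P c → P (M * c * M')) :
    P (mono S U * (Z * M * Z' * M')) := by
  have h1 := hP.mul _ _ h (hcm _ h')
  have e1 : M * mono S U = mono S U * M := (commute_mono hM).eq
  have e2 : Z * mono S U = mono S U * Z := (commute_mono hZ).eq
  have e3 : mono S U * mono S U = mono S U := by
    rw [mono_mul]
    refine mono_congr fun j hj => ?_
    obtain ⟨p, q, -, -, hpq, e⟩ := hU j hj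
    rw [e, (idem_ne hJ hpq).2]
  refine cast (congrArg P ?_) h1
  calc mono S U * Z * (M * (mono S U * Z') * M')
      = mono S U * ((Z * mono S U) * (M * Z' * M')) := by
        rw [← mul_assoc M, e1]
        simp only [mul_assoc]
    _ = mono S U * (Z * M * Z' * M') := by
        rw [e2, ← mul_assoc (mono S U), ← mul_assoc (mono S U), e3]
        simp only [mul_assoc]

omit hP in
theorem commute_rest {l j : β} (hlj : j ≠ l) {Q : Matrix (Fin k) (Fin k) F} (hQ : Q ≠ 0)
    {W : Matrix (β → Fin k) (β → Fin k) F} (φ : Matrix (Fin k) (Fin k) F →ₗ[F] F) (hWe : W = sl l Q * lift l φ W)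
    (hW : ∀ A, Commute W (sl j A)) (A : Matrix (Fin k) (Fin k) F) : Commute (lift l φ W) (sl j A) := by
  refine sub_eq_zero.1 (eq_zero_of_sl_mul (i := l) (Z := lift l φ W * sl j A - sl j A * lift l φ W) hQ
    (fun B => ?_) ?_)
  · exact ((lift_commute l φ W B).mul_left (sl_commute hlj A B)).sub_left
      ((sl_commute hlj A B).mul_left (lift_commute l φ W B))
  · rw [mul_sub, ← mul_assoc, ← hWe, ← mul_assoc, (sl_commute hlj.symm Q A).eq, mul_assoc, ← hWe, (hW A).eq,
      sub_self]

omit hP in
/-- a matrix with all slices multiples of a non-zero one splits -/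
theorem factor {s : Finset β} {l : β} (hls : l ∉ s) {Q : Matrix (Fin k) (Fin k) F} (hQ : Q ≠ 0)
    (φ : Matrix (Fin k) (Fin k) F →ₗ[F] F) {W : Matrix (β → Fin k) (β → Fin k) F} (hW0 : W ≠ 0)
    (hW : ∀ j ∈ s, ∀ A, Commute W (sl j A)) (hsl : ∀ x y, slice' W l x y = φ (slice' W l x y) • Q) :
    W = sl l Q * lift l φ W ∧ lift l φ W ≠ 0 ∧ ∀ j ∈ insert l s, ∀ A, Commute (lift l φ W) (sl j A) := by
  have hWe : W = sl l Q * lift l φ W := eq_sl_mul_lift l φ hsl
  refine ⟨hWe, fun e => hW0 (by rw [hWe, e, mul_zero]), fun j hj A => ?_⟩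
  rcases Finset.mem_insert.1 hj with rfl | hjs
  · exact lift_commute _ _ _ A
  · exact commute_rest hJ (fun e : j = l => hls (by rw [← e]; exact hjs)) hQ φ hWe (hW j hjs) A

/-- a slot where the slices are multiples of the square of a singular vector -/
theorem shape_of_square {R₀ : Matrix (β → Fin k) (β → Fin k) F} {s : Finset β} (sh : Shape P J R₀ s) {l : β}
    (hls : l ∉ s) {p : Fin k → F} (hp0 : p ≠ 0) (hp : bf J p p = 0) {W : Matrix (β → Fin k) (β → Fin k) F}
    (hW0 : W ≠ 0) (hWc : ∀ j ∈ s, ∀ A, Commute W (sl j A)) (hmem : P (mono sh.S sh.U * W))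
    (hsl : ∀ x y, ∃ c : F, slice' W l x y = c • rk J p p) : Nonempty (Shape P J R₀ (insert l s)) := by
  obtain ⟨q, u, hq, hpq, hpu, hqu, hu⟩ := hJ.exists_frame hp0 hp
  let φ : Matrix (Fin k) (Fin k) F →ₗ[F] F :=
    { toFun := fun S => bf J q (S *ᵥ q)
      map_add' := fun S S' => by rw [add_mulVec, bf_add_right]
      map_smul' := fun c S => by rw [smul_mulVec, bf_smul_right, RingHom.id_apply, smul_eq_mul] }
  have hsl' : ∀ x y, slice' W l x y = φ (slice' W l x y) • rk J p p := fun x y => by
    obtain ⟨c, hc⟩ := hsl x y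
    show _ = bf J q (_ *ᵥ q) • _
    rw [hc, smul_mulVec, rk_mulVec, hpq, one_smul, bf_smul_right, hJ.comm q p, hpq, mul_one]
  obtain ⟨hWe, hR0, hRc⟩ := factor hJ hls (hJ.rk_ne hp0 hp0) φ hW0 hWc hsl'
  set R := lift l φ W with hRd
  -- two copies kept apart
  obtain ⟨M, ⟨M', hMM, hM'M, hcm, hMc⟩, hne⟩ : ∃ M ∈ Mov P (insert l s), R * M * R ≠ 0 := by
    by_contra! hall
    obtain ⟨x, a, hxa⟩ : ∃ x a, R x a ≠ 0 := by
      by_contra! h0
      exact hR0 (Matrix.ext h0)
    let G : β → Matrix (Fin k) (Fin k) F := fun j => Matrix.single (a j) (x j) 1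
    have h1 := hP.separate hJ (insert l s) ((LinearMap.mulRight F R).comp (LinearMap.mulLeft F R))
      (fun M hM => hall M hM) ((insert l s).piecewise 1 G) fun j hj => Finset.piecewise_eq_of_mem _ _ _ hj
    simp only [LinearMap.comp_apply, LinearMap.mulLeft_apply, LinearMap.mulRight_apply] at h1
    have e1 : mono (insert l s) G * tens ((insert l s).piecewise 1 G) = tens G := by
      rw [mono, tens_mul]
      congr 1
      funext j
      by_cases hj : j ∈ insert l s <;> simp [hj]
    have h2 : R * tens G * R = 0 := by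
      rw [← e1, ← mul_assoc R, (commute_mono hRc).eq, mul_assoc, mul_assoc, ← mul_assoc R, h1, mul_zero]
    have h3 := congrFun (congrFun h2 x) a
    rw [Matrix.mul_apply, Finset.sum_eq_single x, Matrix.mul_apply, Finset.sum_eq_single a] at h3
    · have : tens G a x = 1 := by
        rw [tens_apply]
        exact Finset.prod_eq_one fun j _ => by simp [G]
      rw [this, mul_one, Matrix.zero_apply] at h3
      exact hxa ((mul_self_eq_zero).1 h3)
    · intro b _ hb
      obtain ⟨j, hj⟩ := Function.ne_iff.1 hb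
      rw [show tens G b x = 0 from Finset.prod_eq_zero (Finset.mem_univ j)
        (by simp [G, Matrix.single_apply, Ne.symm hj]), mul_zero]
    · exact fun h => absurd (Finset.mem_univ _) h
    · intro b _ hb
      have : (R * tens G) x b = 0 := by
        rw [Matrix.mul_apply]
        refine Finset.sum_eq_zero fun z _ => ?_
        obtain ⟨j, hj⟩ := Function.ne_iff.1 hb
        rw [show tens G z b = 0 from Finset.prod_eq_zero (Finset.mem_univ j)
          (by simp [G, Matrix.single_apply, Ne.symm hj]), mul_zero]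
      rw [this, zero_mul]
    · exact fun h => absurd (Finset.mem_univ _) h
  -- the slot element
  set g := eS J q u with hg
  have hu' : bf J q (-u) = 0 := by rw [← neg_one_smul F u, bf_smul_right, hqu, mul_zero]
  set g' := eS J q (-u) with hg'
  have hgg : g * g' = 1 := hJ.eS_inv hq hqu
  have hgg' : g' * g = 1 := by
    have := hJ.eS_inv hq hu'
    rwa [neg_neg] at this
  set p' := g *ᵥ p with hp'
  have hgad : adjJ J g' = g := by
    rw [hg, hg', hJ.eS_eq hq hqu, hJ.eS_eq hq hu', xp_neg, xp, ← neg_one_smul F u, bf_smul_left, bf_smul_right]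
    simp only [adjJ, transpose_add, transpose_neg, transpose_sub, transpose_smul, transpose_one, Matrix.mul_add,
      Matrix.add_mul, Matrix.mul_smul, Matrix.smul_mul, Matrix.mul_one, Matrix.mul_sub, Matrix.sub_mul,
      Matrix.neg_mul, Matrix.mul_neg, nonsing_inv_mul J hJ.det]
    simp only [← Matrix.mul_assoc, ← adjJ.eq_def]
    simp only [hJ.adjJ_rk]
    module
  have hp'val : p' = p + bf J u p • q + (-(1 : F)) • u + (-(bf J u u / 2)) • q := by
    rw [hp', hg, hJ.eS_eq hq hqu, xp, add_mulVec, add_mulVec, one_mulVec, sub_mulVec, smul_mulVec]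
    simp only [rk_mulVec, hJ.comm q p, hpq]
    module
  have hb : bf J p p' = -(bf J u u / 2) := by
    rw [hp'val, bf_add_right, bf_add_right, bf_add_right, bf_smul_right, bf_smul_right, bf_smul_right, hp, hpq, hpu,
      hJ.comm u p, hpu]
    ring
  have hp'p' : bf J p' p' = 0 := by
    have h := hJ.bf_adjJ g' p (g *ᵥ p)
    rw [hgad, mulVec_mulVec, hgg', one_mulVec, hp] at h
    exact h
  set d := bf J p p' with hd
  have hd0 : d ≠ 0 := by rw [hb]; exact neg_ne_zero.2 (div_ne_zero hu hJ.two)
  have hlS : l ∉ sh.S := fun e => hls (sh.sub e)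
  have hcm' : ∀ c, P c → P (sl l g * M * c * (M' * sl l g')) := fun c hc => by
    have h1 := hP.conj _ (hcm c hc) l q u hq hqu
    rw [← hg, ← hg'] at h1
    simpa only [mul_assoc] using h1
  have hm := mem_prod hP hJ sh.idem (fun j hj A => hWc j (sh.sub hj) A) hmem hmem
    (M := sl l g * M) (M' := M' * sl l g')
    (fun j hj A => (sl_commute (fun e : l = j => hlS (by rw [e]; exact hj)) _ _).mul_left
      (hMc j (Finset.mem_insert_of_mem (sh.sub hj)) A)) hcm'
  have e : W * (sl l g * M) * W * (M' * sl l g') = sl l (d • rk J p p') * (R * M * R * M') := by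
    have c1 : ∀ A, M * sl l A = sl l A * M := fun A => (hMc l (Finset.mem_insert_self l s) A).eq
    have c2 : ∀ A, R * sl l A = sl l A * R := fun A => (hRc l (Finset.mem_insert_self l s) A).eq
    have c3 : ∀ A, M' * sl l A = sl l A * M' := fun A => by
      calc M' * sl l A = M' * (sl l A * M) * M' := by simp only [mul_assoc, hMM, mul_one]
        _ = sl l A * M' := by rw [← c1, ← mul_assoc, hM'M, one_mul]
    have c1' : ∀ A X, M * (sl l A * X) = sl l A * (M * X) := fun A X => by rw [← mul_assoc, c1, mul_assoc]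
    have c2' : ∀ A X, R * (sl l A * X) = sl l A * (R * X) := fun A X => by rw [← mul_assoc, c2, mul_assoc]
    have hmat : rk J p p * g * rk J p p * g' = d • rk J p p' := by
      rw [mul_assoc (rk J p p) g, mul_rk, rk_mul_rk, ← hp', smul_mul_assoc, hJ.rk_mul, hgad]
    rw [hWe, ← hmat, ← sl_mul, ← sl_mul, ← sl_mul]
    simp only [mul_assoc, c1, c2, c3, c1', c2']
  rw [e] at hm
  refine ⟨⟨insert l sh.S, Function.update sh.U l (rk J p (d⁻¹ • p')), (d * d) • (R * M * R * M'),
    Finset.insert_subset_insert l sh.sub, fun j hj => ?_, ?_, fun j hj A => ?_, ?_,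
    fun h => absurd h (Finset.insert_ne_empty l _)⟩⟩
  · rcases eq_or_ne j l with rfl | hjl
    · refine ⟨p, d⁻¹ • p', hp, ?_, ?_, Function.update_self ..⟩
      · rw [bf_smul_left, bf_smul_right, hp'p', mul_zero, mul_zero]
      · rw [bf_smul_right, ← hd, inv_mul_cancel₀ hd0]
    · rw [Function.update_of_ne hjl]
      exact sh.idem j ((Finset.mem_insert.1 hj).resolve_left hjl)
  · refine smul_ne_zero (mul_ne_zero hd0 hd0) fun e0 => hne ?_
    have := congrArg (· * M) e0
    rwa [zero_mul, mul_assoc, hM'M, mul_one] at this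
  · have c3 : Commute M' (sl j A) := by
      have c := (hMc j hj A).eq
      show M' * sl j A = sl j A * M'
      calc M' * sl j A = M' * (sl j A * M) * M' := by simp only [mul_assoc, hMM, mul_one]
        _ = sl j A * M' := by rw [← c, ← mul_assoc, hM'M, one_mul]
    exact ((((hRc j hj A).mul_left (hMc j hj A)).mul_left (hRc j hj A)).mul_left c3).smul_left _
  · rw [mono_insert hlS, Function.update_self,
      mono_congr (U' := sh.U) fun j hj => Function.update_of_ne (fun e0 : j = l => hlS (by rw [← e0]; exact hj)) _ _]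
    refine cast (congrArg P ?_) hm
    rw [rk_smul_right, sl_smul, sl_smul]
    simp only [smul_mul_assoc, mul_smul_comm, smul_smul, ← mul_assoc (mono sh.S sh.U), (mono_commute hlS _ _).eq]
    congr 1
    field_simp

/-- one more slot -/
theorem shape_step {R₀ : Matrix (β → Fin k) (β → Fin k) F} {s : Finset β} (sh : Shape P J R₀ s) {l : β}
    (hls : l ∉ s) : Nonempty (Shape P J R₀ (insert l s)) := by
  classical
  have hlS : l ∉ sh.S := fun e => hls (sh.sub e)
  by_cases hsc : ∀ x y, ∃ c : F, slice' sh.R l x y = c • (1 : Matrix (Fin k) (Fin k) F)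
  · exact ⟨⟨sh.S, sh.U, sh.R, fun j hj => Finset.mem_insert_of_mem (sh.sub hj), sh.idem, sh.ne, fun j hj A => by
      rcases Finset.mem_insert.1 hj with rfl | hjs
      · exact commute_of_slice_scalar _ hsc A
      · exact sh.com j hjs A, sh.mem, sh.base⟩⟩
  have hcl : ∀ j ∈ s, ∀ A B : Matrix (Fin k) (Fin k) F, Commute (sl l B) (sl j A) := fun j hj A B =>
    sl_commute (fun e : l = j => hls (by rw [e]; exact hj)) B A
  have hbc : ∀ p e, ∀ j ∈ s, ∀ A, Commute (bdf J l p e sh.R) (sl j A) := fun p e j hj A =>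
    ((((hcl j hj A _).mul_left (sh.com j hj A)).mul_left (hcl j hj A _)).add_left
      (((hcl j hj A _).mul_left (sh.com j hj A)).mul_left (hcl j hj A _))).sub_left ((sh.com j hj A).smul_left _)
  have hbm : ∀ p e, bf J p p = 0 → bf J p e = 0 → P (mono sh.S sh.U * bdf J l p e sh.R) := fun p e hp he => by
    have h := bdf_mem hP hJ sh.mem l hp he
    refine cast (congrArg P ?_) h
    have c : ∀ A X, sl l A * (mono sh.S sh.U * X) = mono sh.S sh.U * (sl l A * X) := fun A X => by
      rw [← mul_assoc, ← (mono_commute hlS _ _).eq, mul_assoc]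
    simp only [bdf, mul_add, mul_sub, mul_smul_comm, mul_assoc, c]
  by_cases hα : ∃ p x y, bf J p p = 0 ∧ bf J p (slice' sh.R l x y *ᵥ p) ≠ 0
  · obtain ⟨p, x, y, hp, hv⟩ := hα
    have hp0 : p ≠ 0 := fun e => hv (by rw [e, bf, zero_dotProduct])
    obtain ⟨n, a, e, c, hc, hpe, hS⟩ := hJ.exists_comb hp0 hp
    set W := ∑ i, a i • bdf J l p (e i) sh.R with hWd
    have hsl : ∀ x y, slice' W l x y = (c * bf J p (slice' sh.R l x y *ᵥ p)) • rk J p p := fun x y => by
      rw [← hS]
      rw [hWd]
      have hsum : ∀ (f : Fin n → Matrix (β → Fin k) (β → Fin k) F) (s : Finset (Fin n)),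
          slice' (∑ m ∈ s, f m) l x y = ∑ m ∈ s, slice' (f m) l x y := fun f s => by
        induction s using Finset.induction_on with
        | empty => rfl
        | insert m s hm ih => rw [Finset.sum_insert hm, Finset.sum_insert hm, slice'_add, ih]
      rw [hsum]
      exact Finset.sum_congr rfl fun m _ => by rw [slice'_smul, slice'_bdf]
    refine shape_of_square hP hJ sh hls hp0 hp (W := W) (fun e0 => ?_) (fun j hj A => ?_) ?_
      fun x y => ⟨_, hsl x y⟩
    · have h1 := hsl x y
      rw [e0, show slice' (0 : Matrix (β → Fin k) (β → Fin k) F) l x y = 0 from rfl, eq_comm, smul_eq_zero] at h1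
      exact h1.elim (mul_ne_zero hc hv) (hJ.rk_ne hp0 hp0)
    · exact Finset.sum_induction _ (fun Z => Commute Z (sl j A)) (fun _ _ => Commute.add_left) (Commute.zero_left _)
        fun i _ => (hbc p (e i) j hj A).smul_left _
    · rw [Finset.mul_sum]
      exact hP.toIsAlg.sum _ _ fun i _ => by rw [mul_smul_comm]; exact hP.smul _ (hbm p (e i) hp (hpe i)) _
  push Not at hα
  have hκ : ∀ x y, ∃ κ : F, slice' sh.R l x y + adjJ J (slice' sh.R l x y) = κ • (1 : Matrix (Fin k) (Fin k) F) :=
    fun x y => hJ.cone fun p hp => hα p x y hp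
  choose κ hκ using hκ
  push Not at hsc
  obtain ⟨x₀, y₀, hxy⟩ := hsc
  set S₀ := slice' sh.R l x₀ y₀ with hS₀
  set A₀ := S₀ - (κ x₀ y₀ / 2) • (1 : Matrix (Fin k) (Fin k) F) with hA₀
  have h2 := hJ.two
  have hA₀s : adjJ J A₀ = -A₀ := by
    have h1 : adjJ J S₀ = κ x₀ y₀ • 1 - S₀ := eq_sub_of_add_eq' (hκ x₀ y₀)
    rw [hA₀, sub_eq_add_neg, ← neg_smul]
    simp only [adjJ, transpose_add, transpose_smul, transpose_one, Matrix.mul_add, Matrix.add_mul, Matrix.mul_smul,
      Matrix.smul_mul, Matrix.mul_one, nonsing_inv_mul J hJ.det]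
    rw [← adjJ.eq_def, h1]
    match_scalars <;> field_simp <;> ring
  obtain ⟨p, hp, hmv⟩ := hJ.exists_moved hA₀s fun e => hxy _ (sub_eq_zero.1 e)
  have hp0 : p ≠ 0 := fun e => hmv 0 (by rw [e, mulVec_zero, smul_zero])
  obtain ⟨q, u, hq, hpq, hpu, hqu, hu⟩ := hJ.exists_frame hp0 hp
  set Z := bdf J l p u sh.R with hZd
  let yv : (β → Fin k) → (β → Fin k) → Fin k → F := fun x y =>
    bf J u u • (slice' sh.R l x y *ᵥ p) + (-(2 * bf J u (slice' sh.R l x y *ᵥ p))) • u
  have hZ : ∀ x y, slice' Z l x y = xp J p (yv x y) := fun x y => by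
    rw [hZd, slice'_bdf, hJ.ddf_xp hp hpu (hκ x y) (hα p x y hp)]
  have hyp : ∀ x y, bf J p (yv x y) = 0 := fun x y => by
    simp only [yv, bf_add_right, bf_smul_right, hpu, hα p x y hp]; ring
  obtain ⟨w, hw⟩ : ∃ w, w = yv x₀ y₀ := ⟨_, rfl⟩
  have hwne : ∀ c : F, w ≠ c • p := fun c hc => by
    simp only [hw, yv, ← hS₀] at hc
    have h1 := congrArg (bf J u) hc
    rw [bf_add_right, bf_smul_right, bf_smul_right, bf_smul_right, hJ.comm u p, hpu, mul_zero] at h1
    have h2' : bf J u (S₀ *ᵥ p) = 0 := by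
      have : (-1 : F) * bf J u u * bf J u (S₀ *ᵥ p) = 0 := by linear_combination h1
      exact (mul_eq_zero.1 this).resolve_left (mul_ne_zero (neg_ne_zero.2 one_ne_zero) hu)
    rw [h2', mul_zero, neg_zero, zero_smul, add_zero] at hc
    refine hmv ((bf J u u)⁻¹ * c - κ x₀ y₀ / 2) ?_
    rw [hA₀, sub_mulVec, smul_mulVec, one_mulVec, sub_smul, mul_smul, ← hc, inv_smul_smul₀ hu]
  -- a root element fixing `p`
  obtain ⟨g, g', hgg, hgp, hgad, hgm, hbw⟩ : ∃ g g' : Matrix (Fin k) (Fin k) F, g' * g = 1 ∧ g *ᵥ p = p ∧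
      adjJ J g' = g ∧ (∀ c, P c → P (sl l g * c * sl l g')) ∧ bf J w (g *ᵥ w) ≠ 0 := by
    by_cases hww : bf J w w = 0
    · obtain ⟨f, v, hf, hfv, hpf, hpv, hfw, hv⟩ := hJ.exists_levi hp0 hp hww (by rw [hw]; exact hyp _ _) hwne
      have hfv' : bf J f (-v) = 0 := by rw [← neg_one_smul F v, bf_smul_right, hfv, mul_zero]
      refine ⟨eS J f v, eS J f (-v), ?_, ?_, ?_, fun c hc => hP.conj c hc l f v hf hfv, ?_⟩
      · have := hJ.eS_inv hf hfv'
        rwa [neg_neg] at this
      · rw [hJ.eS_eq hf hfv, xp, add_mulVec, add_mulVec, one_mulVec, sub_mulVec, smul_mulVec]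
        simp [rk_mulVec, hJ.comm v p, hpv, hJ.comm f p, hpf]
      · rw [hJ.eS_eq hf hfv, hJ.eS_eq hf hfv', xp_neg, xp, ← neg_one_smul F v, bf_smul_left, bf_smul_right]
        simp only [adjJ, transpose_add, transpose_neg, transpose_sub, transpose_smul, transpose_one, Matrix.mul_add,
          Matrix.add_mul, Matrix.mul_smul, Matrix.smul_mul, Matrix.mul_one, Matrix.mul_sub, Matrix.sub_mul,
          Matrix.neg_mul, Matrix.mul_neg, nonsing_inv_mul J hJ.det]
        simp only [← Matrix.mul_assoc, ← adjJ.eq_def]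
        simp only [hJ.adjJ_rk]
        module
      · rw [hJ.eS_eq hf hfv, xp, add_mulVec, add_mulVec, one_mulVec, sub_mulVec, smul_mulVec]
        simp only [rk_mulVec, bf_add_right, bf_smul_right, sub_eq_add_neg, ← neg_smul, hww, hJ.comm w f, hJ.comm w v]
        rw [show (0 : F) + (bf J v w * bf J f w + -bf J f w * bf J v w) + -(bf J v v / 2) * (bf J f w * bf J f w) =
          -(bf J v v / 2) * (bf J f w * bf J f w) by ring]
        exact mul_ne_zero (neg_ne_zero.2 (div_ne_zero hv h2)) (mul_ne_zero hfw hfw)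
    · refine ⟨1, 1, one_mul _, one_mulVec p, ?_, fun c hc => by simpa [sl_one] using hc, by rwa [one_mulVec]⟩
      simp [adjJ, nonsing_inv_mul J hJ.det]
  have hX : ∀ y, g * xp J p y * g' = xp J p (g *ᵥ y) := fun y => by
    simp only [xp, mul_sub, sub_mul, mul_rk, hJ.rk_mul, hgp, hgad]
  set Z' := sl l g * Z * sl l g' with hZ'
  have hZ'sl : ∀ x y, slice' Z' l x y = xp J p (g *ᵥ yv x y) := fun x y => by
    rw [hZ', slice'_mul_sl, slice'_sl_mul, hZ, hX]
  have hZ'm : P (mono sh.S sh.U * Z') := by
    refine cast (congrArg P ?_) (hgm _ (hbm p u hp hpu))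
    rw [hZ', hZd, ← mul_assoc (sl l g), ← (mono_commute hlS _ _).eq]
    simp only [mul_assoc]
  have hgy : ∀ x y, bf J p (g *ᵥ yv x y) = 0 := fun x y => by
    have h := hJ.bf_adjJ g' p (g *ᵥ yv x y)
    rw [hgad, hgp, mulVec_mulVec, hgg, one_mulVec] at h
    rw [h, hyp]
  -- two copies kept apart
  obtain ⟨M, ⟨M', hMM, hM'M, hcm, hMc⟩, hne⟩ : ∃ M ∈ Mov P (insert l s), Z * M * Z' ≠ 0 := by
    by_contra! hall
    let G : β → Matrix (Fin k) (Fin k) F := fun j => Matrix.single (y₀ j) (x₀ j) 1
    have h1 := hP.separate hJ (insert l s) ((LinearMap.mulRight F Z').comp (LinearMap.mulLeft F Z))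
      (fun M hM => hall M hM) ((insert l s).piecewise 1 G) fun j hj => Finset.piecewise_eq_of_mem _ _ _ hj
    simp only [LinearMap.comp_apply, LinearMap.mulLeft_apply, LinearMap.mulRight_apply] at h1
    have e1 : mono s G * tens ((insert l s).piecewise 1 G) = tens (Function.update G l 1) := by
      rw [mono, tens_mul]
      congr 1
      funext j
      rcases eq_or_ne j l with rfl | hjl
      · simp [hls]
      · by_cases hj : j ∈ s <;> simp [hj, hjl]
    have h2 : Z * tens (Function.update G l 1) * Z' = 0 := by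
      rw [← e1, ← mul_assoc Z, (commute_mono fun j hj A => hbc p u j hj A).eq, mul_assoc, mul_assoc, ← mul_assoc Z,
        h1, mul_zero]
    have h3 := slice'_mul_tens l Z Z' y₀ x₀ x₀ y₀
    rw [h2, hZ, hZ'sl, hJ.xp_mul hp (hyp _ _) (hgy _ _), show slice' (0 : Matrix (β → Fin k) (β → Fin k) F) l x₀ y₀ = 0
      from rfl, eq_comm, smul_eq_zero] at h3
    exact h3.elim (neg_ne_zero.2 (hw ▸ hbw)) (hJ.rk_ne hp0 hp0)
  have hlg : ∀ j ∈ s, ∀ A B, Commute (sl l B) (sl j A) := hcl
  refine shape_of_square hP hJ sh hls hp0 hp (W := Z * M * Z' * M') (fun e0 => hne ?_) (fun j hj A => ?_)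
    (mem_prod hP hJ sh.idem (fun j hj A => hbc p u j (sh.sub hj) A) (hbm p u hp hpu) hZ'm
      (fun j hj A => hMc j (Finset.mem_insert_of_mem (sh.sub hj)) A) hcm) fun x y => ?_
  · have := congrArg (· * M) e0
    rwa [zero_mul, mul_assoc, hM'M, mul_one] at this
  · have hj' := Finset.mem_insert_of_mem (a := j) (b := l) hj
    have c3 : Commute M' (sl j A) := by
      show M' * sl j A = sl j A * M'
      calc M' * sl j A = M' * (sl j A * M) * M' := by simp only [mul_assoc, hMM, mul_one]
        _ = sl j A * M' := by rw [← (hMc j hj' A).eq, ← mul_assoc, hM'M, one_mul]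
    exact (((hbc p u j hj A).mul_left (hMc j hj' A)).mul_left
      (((hcl j hj A g).mul_left (hbc p u j hj A)).mul_left (hcl j hj A g'))).mul_left c3
  · -- all slices are multiples
    have hml : ∀ A, M' * sl l A = sl l A * M' := fun A => by
      calc M' * sl l A = M' * (sl l A * M) * M' := by simp only [mul_assoc, hMM, mul_one]
        _ = sl l A * M' := by rw [← (hMc l (Finset.mem_insert_self l s) A).eq, ← mul_assoc, hM'M, one_mul]
    obtain ⟨π, hπ⟩ : ∃ π : Fin k → F, π = p := ⟨p, rfl⟩
    let φ : Matrix (Fin k) (Fin k) F →ₗ[F] F :=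
      { toFun := fun S => bf J q (S *ᵥ q)
        map_add' := fun S S' => by rw [add_mulVec, bf_add_right]
        map_smul' := fun c S => by rw [smul_mulVec, bf_smul_right, RingHom.id_apply, smul_eq_mul] }
    refine ⟨φ (slice' (Z * M * Z' * M') l x y), ?_⟩
    -- the slices of a product
    have hmul : ∀ (X Y : Matrix (β → Fin k) (β → Fin k) F) x y, slice' (X * Y) l x y =
        ∑ z ∈ Finset.univ.filter (fun z : β → Fin k => z l = x l), slice' X l x z * slice' Y l z y := fun X Y x y => by
      ext i i'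
      simp only [slice', Matrix.sum_apply, Matrix.mul_apply, Matrix.of_apply]
      rw [Finset.sum_comm, ← Finset.sum_fiberwise_of_maps_to (g := fun z : β → Fin k => z l) (t := Finset.univ)
        (fun z _ => Finset.mem_univ _)]
      refine Finset.sum_congr rfl fun c _ => ?_
      refine (Finset.sum_bij (fun z _ => Function.update z l c) (fun z _ => by simp) (fun z hz z' hz' h => ?_)
        (fun z hz => ⟨Function.update z l (x l), by simp, ?_⟩) fun z _ => by simp).symm
      · simp only [Finset.mem_filter, Finset.mem_univ, true_and] at hz hz'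
        funext j
        rcases eq_or_ne j l with rfl | hj
        · rw [hz, hz']
        · simpa [hj] using congrFun h j
      · simp only [Finset.mem_filter, Finset.mem_univ, true_and] at hz
        rw [Function.update_idem, ← hz, Function.update_eq_self]
    have hMs : ∀ x y, ∃ c : F, slice' M' l x y = c • (1 : Matrix (Fin k) (Fin k) F) := fun x y => by
      refine ⟨slice' M' l x y (x l) (x l), Matrix.ext fun i i' => ?_⟩
      have h1 := congrFun (congrFun (congrArg (fun Z => slice' Z l x y) (hml (Matrix.single i (x l) 1))) i) (x l)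
      have h4 := congrFun (congrFun (congrArg (fun Z => slice' Z l x y) (hml (Matrix.single i' (x l) 1))) i) (x l)
      simp only [slice'_mul_sl, slice'_sl_mul, Matrix.mul_apply, Matrix.single_apply, ite_and, mul_ite, ite_mul,
        one_mul, mul_one, zero_mul, mul_zero, Finset.sum_ite_eq, Finset.mem_univ, if_true] at h1 h4
      rw [Matrix.smul_apply, Matrix.one_apply]
      rcases eq_or_ne i i' with rfl | hii
      · rw [if_pos rfl, smul_eq_mul, mul_one]
        simpa using h1
      · rw [if_neg hii, smul_zero]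
        simpa [hii, Ne.symm hii] using h4
    have hMs' : ∀ x y, ∃ c : F, slice' M l x y = c • (1 : Matrix (Fin k) (Fin k) F) := fun x y => by
      have hml' := fun A => (hMc l (Finset.mem_insert_self l s) A).eq
      refine ⟨slice' M l x y (x l) (x l), Matrix.ext fun i i' => ?_⟩
      have h1 := congrFun (congrFun (congrArg (fun Z => slice' Z l x y) (hml' (Matrix.single i (x l) 1))) i) (x l)
      have h4 := congrFun (congrFun (congrArg (fun Z => slice' Z l x y) (hml' (Matrix.single i' (x l) 1))) i) (x l)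
      simp only [slice'_mul_sl, slice'_sl_mul, Matrix.mul_apply, Matrix.single_apply, ite_and, mul_ite, ite_mul,
        one_mul, mul_one, zero_mul, mul_zero, Finset.sum_ite_eq, Finset.mem_univ, if_true] at h1 h4
      rw [Matrix.smul_apply, Matrix.one_apply]
      rcases eq_or_ne i i' with rfl | hii
      · rw [if_pos rfl, smul_eq_mul, mul_one]
        simpa using h1
      · rw [if_neg hii, smul_zero]
        simpa [hii, Ne.symm hii] using h4
    have hW : ∀ x y, ∃ c : F, slice' (Z * M * Z' * M') l x y = c • rk J p p := fun x y => by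
      rw [hmul]
      refine Finset.sum_induction _ (fun Z => ∃ c : F, Z = c • rk J p p)
        (fun a b ⟨c, hc⟩ ⟨c', hc'⟩ => ⟨c + c', by rw [hc, hc', add_smul]⟩) ⟨0, (zero_smul ..).symm⟩ fun z _ => ?_
      rw [hmul, Finset.sum_mul]
      refine Finset.sum_induction _ (fun Z => ∃ c : F, Z = c • rk J p p)
        (fun a b ⟨c, hc⟩ ⟨c', hc'⟩ => ⟨c + c', by rw [hc, hc', add_smul]⟩) ⟨0, (zero_smul ..).symm⟩ fun z' _ => ?_
      rw [hmul, Finset.sum_mul, Finset.sum_mul]
      refine Finset.sum_induction _ (fun Z => ∃ c : F, Z = c • rk J p p)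
        (fun a b ⟨c, hc⟩ ⟨c', hc'⟩ => ⟨c + c', by rw [hc, hc', add_smul]⟩) ⟨0, (zero_smul ..).symm⟩ fun z'' _ => ?_
      obtain ⟨a, ha⟩ := hMs z y
      obtain ⟨b, hb⟩ := hMs' z'' z'
      rw [ha, hb, hZ, hZ'sl]
      simp only [mul_smul_comm, smul_mul_assoc, mul_one, smul_smul, hJ.xp_mul hp (hyp _ _) (hgy _ _)]
      exact ⟨_, rfl⟩
    obtain ⟨c, hc⟩ := hW x y
    show _ = bf J q (_ *ᵥ q) • _
    rw [hc, smul_mulVec, rk_mulVec, hpq, one_smul, bf_smul_right, hJ.comm q p, hpq, mul_one]

/-- an invariant algebra that is not scalar contains a slot -/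
theorem exists_slot {c : Matrix (β → Fin k) (β → Fin k) F} (hc : P c)
    (hns : ∀ κ : F, c ≠ κ • (1 : Matrix (β → Fin k) (β → Fin k) F)) :
    ∃ l : β, ∀ A : Matrix (Fin k) (Fin k) F, P (sl l A) := by
  classical
  haveI : Nonempty (Fin k) := ⟨⟨0, by have := hJ.kk; omega⟩⟩
  have hsh : ∀ s : Finset β, Nonempty (Shape P J c s) := by
    intro s
    induction s using Finset.induction_on with
    | empty =>
      refine ⟨⟨∅, fun _ => 1, c, le_rfl, fun j hj => absurd hj (Finset.notMem_empty j), fun e => hns 0 (by rw [e, zero_smul]),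
        fun j hj => absurd hj (Finset.notMem_empty j), ?_, fun _ => rfl⟩⟩
      rwa [mono, Finset.piecewise_empty, tens_one, one_mul]
    | insert l s hls ih => exact ih.elim fun sh => shape_step hP hJ sh hls
  obtain ⟨sh⟩ := hsh Finset.univ
  obtain ⟨κ, hκ⟩ := eq_smul_one_of_commute sh.R fun j A => (sh.com j (Finset.mem_univ j) A).eq
  have hκ0 : κ ≠ 0 := fun e => sh.ne (by rw [hκ, e, zero_smul])
  have hmono : P (mono sh.S sh.U) := by
    have := hP.smul _ sh.mem κ⁻¹
    rwa [hκ, mul_smul_comm, mul_one, smul_smul, inv_mul_cancel₀ hκ0, one_smul] at this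
  rcases sh.S.eq_empty_or_nonempty with he | ⟨l, hl⟩
  · exact absurd ((sh.base he).symm.trans hκ) (hns κ)
  -- every factor can be changed
  have hfree : ∀ (j : β), j ∈ sh.S → ∀ V : β → Matrix (Fin k) (Fin k) F, (∀ i ∈ sh.S, V i * V i = V i) →
      V j = sh.U j → P (mono sh.S V) → ∀ A, P (mono sh.S (Function.update V j A)) := by
    intro j hj V hidem hVj hV
    obtain ⟨p, q, hp, hq, hpq, he⟩ := sh.idem j hj
    let K : Matrix (Fin k) (Fin k) F → Prop := fun A => P (mono sh.S (Function.update V j A))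
    have hupd : ∀ A, mono sh.S (Function.update V j A) = tens (Function.update (sh.S.piecewise V 1) j A) := fun A => by
      rw [mono]
      congr 1
      funext i
      rcases eq_or_ne i j with rfl | hi
      · simp [hj]
      · by_cases hiS : i ∈ sh.S <;> simp [hi, hiS]
    have hadd : ∀ A B, K A → K B → K (A + B) := fun A B hA hB => by
      show P _
      rw [hupd, tens_update_add, ← hupd, ← hupd]
      exact hP.add _ _ hA hB
    have hsmul : ∀ (s : F) A, K A → K (s • A) := fun s A hA => by
      show P _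
      rw [hupd, tens_update_smul, ← hupd]
      exact hP.smul _ hA s
    have hKmul : ∀ A B, K A → K B → K (A * B) := fun A B hA hB => by
      have h := hP.mul _ _ hA hB
      rw [mono_mul] at h
      refine cast (congrArg P (mono_congr fun i hi => ?_)) h
      rcases eq_or_ne i j with rfl | hij
      · simp
      · simp [hij, hidem i hi]
    have hK1 : K (rk J p q) := by
      show P _
      rw [← he, ← hVj, Function.update_eq_self]
      exact hV
    have hKconj : ∀ f e, bf J f f = 0 → bf J f e = 0 → ∀ A, K A → K (eS J f e * A * eS J f (-e)) := by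
      intro f e hf hfe A hA
      have h := hP.conj _ hA j f e hf hfe
      refine cast (congrArg P ?_) h
      rw [mono, mono, sl, sl, tens_mul, tens_mul]
      congr 1
      funext i
      rcases eq_or_ne i j with rfl | hij
      · simp [hj]
      · by_cases hiS : i ∈ sh.S <;> simp [hij, hiS]
    have hp0 : p ≠ 0 := fun e => by rw [e, bf, zero_dotProduct] at hpq; exact zero_ne_one hpq
    have hq0 : q ≠ 0 := fun e => by rw [e, bf, mulVec_zero, dotProduct_zero] at hpq; exact zero_ne_one hpq
    have hK0 : K 0 := by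
      have := hsmul 0 _ hK1
      rwa [zero_smul] at this
    -- the root elements fixing one vector move its partners
    have move : ∀ a b g : Fin k → F, bf J a a = 0 → bf J b b = 0 → bf J a b = 1 → bf J g g = 0 → bf J a g = 1 →
        ∃ e, bf J a e = 0 ∧ eS J a e *ᵥ a = a ∧ eS J a e *ᵥ b = g ∧ adjJ J (eS J a (-e)) = eS J a e := by
      intro a b g ha hb hab hg hag
      set e := b + (-1 : F) • g + bf J g b • a with he'
      have hae : bf J a e = 0 := by
        rw [he', bf_add_right, bf_add_right, bf_smul_right, bf_smul_right, hab, hag, ha]; ring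
      have hae' : bf J a (-e) = 0 := by rw [← neg_one_smul F e, bf_smul_right, hae, mul_zero]
      refine ⟨e, hae, ?_, ?_, ?_⟩
      · rw [hJ.eS_eq ha hae, xp, add_mulVec, add_mulVec, one_mulVec, sub_mulVec, smul_mulVec]
        simp [rk_mulVec, hJ.comm e a, hae, ha]
      · have hee : bf J e e = -2 * bf J g b := by
          simp only [he', bf_add_left, bf_add_right, bf_smul_left, bf_smul_right, ha, hb, hg, hab, hag,
            hJ.comm b a, hJ.comm g a, hJ.comm b g]
          ring
        have heb : bf J e b = 0 := by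
          simp only [he', bf_add_left, bf_smul_left, hb, hab]
          ring
        rw [hJ.eS_eq ha hae, xp, add_mulVec, add_mulVec, one_mulVec, sub_mulVec, smul_mulVec]
        simp only [rk_mulVec, hee, heb, hab]
        rw [he']
        have h2 := hJ.two
        match_scalars <;> field_simp <;> ring
      · have hq' : bf J (-e) (-e) = bf J e e := by
          rw [← neg_one_smul F e, bf_smul_left, bf_smul_right]; ring
        rw [hJ.eS_eq ha hae, hJ.eS_eq ha hae', hq', xp_neg, xp]
        simp only [adjJ, transpose_add, transpose_neg, transpose_sub, transpose_smul, transpose_one, Matrix.mul_add,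
          Matrix.add_mul, Matrix.mul_smul, Matrix.smul_mul, Matrix.mul_one, Matrix.mul_sub, Matrix.sub_mul,
          Matrix.neg_mul, Matrix.mul_neg, nonsing_inv_mul J hJ.det]
        simp only [← Matrix.mul_assoc, ← adjJ.eq_def]
        simp only [hJ.adjJ_rk]
        module
    let Rs : Submodule F (Fin k → F) :=
      { carrier := {w | K (rk J p w)}
        zero_mem' := by
          show K (rk J p 0)
          rw [show rk J p (0 : Fin k → F) = 0 by rw [rk, zero_vecMul, vecMulVec_zero]]; exact hK0
        add_mem' := fun {a b} ha hb => by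
          show K (rk J p (a + b))
          rw [rk_add_right]; exact hadd _ _ ha hb
        smul_mem' := fun c a ha => by
          show K (rk J p (c • a))
          rw [rk_smul_right]; exact hsmul _ _ ha }
    let Ls : Submodule F (Fin k → F) :=
      { carrier := {w | K (rk J w q)}
        zero_mem' := by
          show K (rk J 0 q)
          rw [rk, zero_vecMulVec]; exact hK0
        add_mem' := fun {a b} ha hb => by
          show K (rk J (a + b) q)
          rw [rk_add_left]; exact hadd _ _ ha hb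
        smul_mem' := fun c a ha => by
          show K (rk J (c • a) q)
          rw [rk_smul_left]; exact hsmul _ _ ha }
    have hR : Rs = ⊤ := hJ.partner_span hp0 hp Rs fun g hg hpg => by
      obtain ⟨e, hpe, h1, h2', h3⟩ := move p q ((bf J p g)⁻¹ • g) hp hq hpq
        (by rw [bf_smul_left, bf_smul_right, hg, mul_zero, mul_zero]) (by rw [bf_smul_right, inv_mul_cancel₀ hpg])
      have := hKconj p e hp hpe _ hK1
      rw [mul_rk, h1, hJ.rk_mul, h3, h2', rk_smul_right] at this
      have := hsmul (bf J p g) _ this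
      rwa [smul_smul, mul_inv_cancel₀ hpg, one_smul] at this
    have hL : Ls = ⊤ := hJ.partner_span hq0 hq Ls fun g hg hqg => by
      obtain ⟨e, hqe, h1, h2', h3⟩ := move q p ((bf J q g)⁻¹ • g) hq hp (by rw [hJ.comm, hpq])
        (by rw [bf_smul_left, bf_smul_right, hg, mul_zero, mul_zero]) (by rw [bf_smul_right, inv_mul_cancel₀ hqg])
      have := hKconj q e hq hqe _ hK1
      rw [mul_rk, h2', hJ.rk_mul, h3, h1, rk_smul_left] at this
      have := hsmul (bf J q g) _ this
      rwa [smul_smul, mul_inv_cancel₀ hqg, one_smul] at this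
    have hall : ∀ u w, K (rk J u w) := fun u w => by
      have h := hKmul _ _ (show K (rk J u q) from (hL ▸ Submodule.mem_top : u ∈ Ls))
        (show K (rk J p w) from (hR ▸ Submodule.mem_top : w ∈ Rs))
      rwa [rk_mul_rk, hJ.comm q p, hpq, one_smul] at h
    intro A
    have e : A = ∑ b, rk J (Pi.single b 1) (A.row b ᵥ* J⁻¹) := by
      ext x y
      simp only [rk, Matrix.sum_apply, vecMulVec_apply, vecMul_vecMul, nonsing_inv_mul J hJ.det, vecMul_one,
        Pi.single_apply, ite_mul, one_mul, zero_mul, Finset.sum_ite_eq, Finset.mem_univ, if_true]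
      rfl
    rw [e]
    exact Finset.sum_induction _ K hadd hK0 fun b _ => hall _ _
  have hid : ∀ i ∈ sh.S, sh.U i * sh.U i = sh.U i := fun i hi => by
    obtain ⟨p, q, -, -, hpq, e⟩ := sh.idem i hi
    rw [e, (idem_ne hJ hpq).2]
  -- replace the other factors by the identity
  have hone : ∀ T : Finset β, T ⊆ sh.S.erase l → P (mono sh.S (T.piecewise 1 sh.U)) := by
    intro T
    induction T using Finset.induction_on with
    | empty => intro _; rwa [Finset.piecewise_empty]
    | insert j T hj ih =>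
      intro hsub
      have h1 := hfree j (Finset.mem_of_mem_erase (hsub (Finset.mem_insert_self j T))) (T.piecewise 1 sh.U)
        (fun i hi => by by_cases hiT : i ∈ T <;> simp [hiT, hid i hi]) (Finset.piecewise_eq_of_notMem _ _ _ hj)
        (ih fun i hi => hsub (Finset.mem_insert_of_mem hi)) 1
      rwa [show Function.update (T.piecewise (1 : β → Matrix (Fin k) (Fin k) F) sh.U) j 1 =
        (insert j T).piecewise 1 sh.U by rw [Finset.piecewise_insert]; rfl] at h1
  refine ⟨l, fun A => ?_⟩
  have h1 := hfree l hl ((sh.S.erase l).piecewise 1 sh.U)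
    (fun i hi => by by_cases hiT : i ∈ sh.S.erase l <;> simp [hiT, hid i hi])
    (Finset.piecewise_eq_of_notMem _ _ _ (Finset.notMem_erase l _)) (hone _ le_rfl) A
  refine cast (congrArg P ?_) h1
  rw [mono, sl]
  congr 1
  funext i
  rcases eq_or_ne i l with rfl | hi
  · simp [hl]
  · by_cases hiS : i ∈ sh.S <;> simp [hi, hiS]

end Inv

end Cfsg.Agent.ClassicalMax.OOWreath
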