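import Cfsg.Agent.ClassicalMax.OOWreath.Good
import Cfsg.Agent.ClassicalMax.OOWreath.Invariant

/-!
Groups of isometries of a tensor power of a slot containing the slot root elements, signed reflections, pairs of
reflections and even permutations of a set of active slots.
-/

set_option autoImplicit false
set_option linter.unusedSectionVars false
set_option linter.unusedSimpArgs false

namespace Cfsg.Agent.ClassicalMax.OOWreath

open Matrix Cfsg.Agent.ClassicalMax.TPow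
open Cfsg.Agent.ClassicalMax.SpWreath (GV GV_det)

variable {F : Type*} [Field F] {k t : ℕ}

/-- the matrix is that of an element of the group -/
def MG (G : Subgroup (GL (Fin t → Fin k) F)) (M : Matrix (Fin t → Fin k) (Fin t → Fin k) F) : Prop :=
  ∃ g ∈ G, (g : Matrix (Fin t → Fin k) (Fin t → Fin k) F) = M

/-- a group with the active slots `Sg` -/
structure Setting (J : Matrix (Fin k) (Fin k) F) (Sg : Finset (Fin t)) (G : Subgroup (GL (Fin t → Fin k) F)) :
    Prop where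
  sj : SJ J
  iso : ∀ g ∈ G, adjJ (GV J) (g : Matrix (Fin t → Fin k) (Fin t → Fin k) F) *
    (g : Matrix (Fin t → Fin k) (Fin t → Fin k) F) = 1
  out : ∀ g ∈ G, ∀ l ∉ Sg, ∀ A, Commute (g : Matrix (Fin t → Fin k) (Fin t → Fin k) F) (sl l A)
  root : ∀ l ∈ Sg, ∀ p e : Fin k → F, bf J p p = 0 → bf J p e = 0 → MG G (sl l (eS J p e))
  refl : ∀ l ∈ Sg, ∀ u, Good J u → MG G (sl l (dl J u))
  pair : ∀ l ∈ Sg, ∀ a b, bf J a a ≠ 0 → bf J a a = bf J b b → MG G (sl l (rf J a * rf J b))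
  perm : ∀ σ : Equiv.Perm (Fin t), Equiv.Perm.sign σ = 1 → (∀ l ∉ Sg, σ l = l) →
    Asch.permU (F := F) (m := k) σ ∈ G

/-- the element permutes the slot algebras -/
def Std (M : Matrix (Fin t → Fin k) (Fin t → Fin k) F) : Prop :=
  ∀ l : Fin t, ∃ l' : Fin t, ∀ A : Matrix (Fin k) (Fin k) F, ∃ B : Matrix (Fin k) (Fin k) F,
    M * sl l A = sl l' B * M

variable {J : Matrix (Fin k) (Fin k) F} {G : Subgroup (GL (Fin t → Fin k) F)}

theorem MG.one : MG G 1 := ⟨1, G.one_mem, Units.val_one⟩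

theorem MG.mul {M N : Matrix (Fin t → Fin k) (Fin t → Fin k) F} (h : MG G M) (h' : MG G N) : MG G (M * N) := by
  obtain ⟨g, hg, rfl⟩ := h
  obtain ⟨g', hg', rfl⟩ := h'
  exact ⟨g * g', G.mul_mem hg hg', Units.val_mul g g'⟩

namespace Setting

variable {Sg : Finset (Fin t)} (hS : Setting J Sg G)
include hS

theorem GV_det' : IsUnit (GV J (β := Fin t)).det := GV_det hS.sj.det

theorem GV_sym : (GV J (β := Fin t))ᵀ = GV J := GV_symm hS.sj.symm

theorem adj_mul' (A B : Matrix (Fin t → Fin k) (Fin t → Fin k) F) :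
    adjJ (GV J) (A * B) = adjJ (GV J) B * adjJ (GV J) A := adj_mul hS.GV_det' A B

theorem adj_adj' (A : Matrix (Fin t → Fin k) (Fin t → Fin k) F) : adjJ (GV J) (adjJ (GV J) A) = A :=
  adj_adj hS.GV_sym hS.GV_det' A

/-- the adjoint is the inverse -/
theorem adj_inv {M : Matrix (Fin t → Fin k) (Fin t → Fin k) F} (h : MG G M) :
    MG G (adjJ (GV J) M) ∧ adjJ (GV J) M * M = 1 ∧ M * adjJ (GV J) M = 1 := by
  obtain ⟨g, hg, rfl⟩ := h
  have h1 := hS.iso g hg
  have h2 : ((g⁻¹ : GL (Fin t → Fin k) F) : Matrix (Fin t → Fin k) (Fin t → Fin k) F) = adjJ (GV J) (g : Matrix _ _ F) := by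
    calc ((g⁻¹ : GL (Fin t → Fin k) F) : Matrix (Fin t → Fin k) (Fin t → Fin k) F)
        = adjJ (GV J) (g : Matrix _ _ F) * (g : Matrix _ _ F) * ((g⁻¹ : GL (Fin t → Fin k) F) : Matrix _ _ F) := by
          rw [h1, one_mul]
      _ = _ := by rw [mul_assoc, ← Units.val_mul, mul_inv_cancel, Units.val_one, mul_one]
  exact ⟨⟨g⁻¹, G.inv_mem hg, h2⟩, h1, mul_eq_one_comm.1 h1⟩

theorem conj_mem {M N : Matrix (Fin t → Fin k) (Fin t → Fin k) F} (hM : MG G M) (hN : MG G N) :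
    MG G (M * N * adjJ (GV J) M) := (hM.mul hN).mul (hS.adj_inv hM).1

theorem out' {M : Matrix (Fin t → Fin k) (Fin t → Fin k) F} (hM : MG G M) {l : Fin t} (hl : l ∉ Sg)
    (A : Matrix (Fin k) (Fin k) F) : Commute M (sl l A) := by
  obtain ⟨g, hg, rfl⟩ := hM
  exact hS.out g hg l hl A

/-- the part commuting with one slot -/
theorem drop (i : Fin t) : ∃ G' : Subgroup (GL (Fin t → Fin k) F), Setting J (Sg.erase i) G' ∧ G' ≤ G ∧
    ∀ M, MG G' M ↔ (MG G M ∧ ∀ A, Commute M (sl i A)) := by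
  refine ⟨{ carrier := {g | g ∈ G ∧ ∀ A, Commute (g : Matrix (Fin t → Fin k) (Fin t → Fin k) F) (sl i A)}
            one_mem' := ⟨G.one_mem, fun A => by rw [Units.val_one]; exact Commute.one_left _⟩
            mul_mem' := fun {a b} ha hb => ⟨G.mul_mem ha.1 hb.1, fun A => by
              rw [Units.val_mul]; exact (ha.2 A).mul_left (hb.2 A)⟩
            inv_mem' := fun {a} ha => ⟨G.inv_mem ha.1, fun A => (ha.2 A).units_inv_left⟩ }, ?_, fun g hg => hg.1,
    fun M => ⟨fun ⟨g, hg, e⟩ => ⟨⟨g, hg.1, e⟩, e ▸ hg.2⟩, fun ⟨⟨g, hg, e⟩, h⟩ => ⟨g, ⟨hg, e ▸ h⟩, e⟩⟩⟩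
  refine ⟨hS.sj, fun g hg => hS.iso g hg.1, ?_, ?_, ?_, ?_, ?_⟩
  · intro g hg l hl A
    rcases eq_or_ne l i with rfl | hli
    · exact hg.2 A
    · exact hS.out g hg.1 l (fun h => hl (Finset.mem_erase.2 ⟨hli, h⟩)) A
  · intro l hl p e hp he
    obtain ⟨g, hg, hge⟩ := hS.root l (Finset.mem_of_mem_erase hl) p e hp he
    exact ⟨g, ⟨hg, fun A => by rw [hge]; exact sl_commute (Finset.ne_of_mem_erase hl) _ _⟩, hge⟩
  · intro l hl u hu
    obtain ⟨g, hg, hge⟩ := hS.refl l (Finset.mem_of_mem_erase hl) u hu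
    exact ⟨g, ⟨hg, fun A => by rw [hge]; exact sl_commute (Finset.ne_of_mem_erase hl) _ _⟩, hge⟩
  · intro l hl a b ha hab
    obtain ⟨g, hg, hge⟩ := hS.pair l (Finset.mem_of_mem_erase hl) a b ha hab
    exact ⟨g, ⟨hg, fun A => by rw [hge]; exact sl_commute (Finset.ne_of_mem_erase hl) _ _⟩, hge⟩
  · intro σ hσ hfix
    refine ⟨hS.perm σ hσ fun l hl => hfix l fun h => hl (Finset.mem_of_mem_erase h), fun A => ?_⟩
    show _ = _
    show Asch.permM σ * sl i A = sl i A * Asch.permM σ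
    rw [permM_mul_sl, hfix i (Finset.notMem_erase i Sg)]

end Setting

end Cfsg.Agent.ClassicalMax.OOWreath
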