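import Cfsg.Agent.ClassicalMax.OOWreath.Refl

/-!
A subgroup of the isometry group containing the standard elements of the commutator subgroup: the setting of all
slots, and elements permuting the slot algebras are standard.
-/

set_option autoImplicit false
set_option linter.unusedSectionVars false
set_option linter.unusedSimpArgs false

namespace Cfsg.Agent.ClassicalMax.OOWreath

open Matrix Module QuadraticMap Cfsg.Geo Cfsg.Agent.Classical Cfsg.Agent.Classical.Quad
open Cfsg.Agent.ClassicalMax.TPow
open Cfsg.Agent.ClassicalMax.SpWreath (GV GV_det)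
open Cfsg.Agent.ClassicalMax.OWreath (mt mt_mulVec mt_injective)

variable {F : Type*} [Field F] {k t : ℕ} {J : Matrix (Fin k) (Fin k) F}

/-- an element of one slot is standard -/
theorem sl_mem_standard {g : GL (Fin t → Fin k) F} {l : Fin t} {A A' : Matrix (Fin k) (Fin k) F} (hA : A' * A = 1)
    (hg : (g : Matrix (Fin t → Fin k) (Fin t → Fin k) F) = sl l A) : g ∈ tensorWreathStandard k t F := by
  let U : GL (Fin k) F := ⟨A, A', mul_eq_one_comm.1 hA, hA⟩
  rw [show g = Asch.pureU (Function.update 1 l U) from Units.ext (by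
    rw [hg]
    show _ = tens (fun j => (Function.update (1 : Fin t → GL (Fin k) F) l U j : Matrix (Fin k) (Fin k) F))
    rw [sl]
    congr 1
    funext j
    rcases eq_or_ne j l with rfl | hj
    · simp [U]
    · simp [hj])]
  exact Subgroup.subset_closure (Or.inl ⟨_, fun _ _ => rfl⟩)

/-- an element permuting the slot algebras is standard -/
theorem mem_standard_of_std (hk : 2 ≤ k) (ht : 0 < t) {g : GL (Fin t → Fin k) F}
    (h : Std (g : Matrix (Fin t → Fin k) (Fin t → Fin k) F)) : g ∈ tensorWreathStandard k t F := by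
  choose π hπ using h
  exact mem_wreath hk ht π hπ

variable [Finite F] {Q : QuadraticForm F ((Fin t → Fin k) → F)} {c : F}

namespace SSpace

variable (hV : SSpace Q J c)
include hV

/-- the setting of all slots -/
theorem setting (hev : Even k) (ht : 2 ≤ t) (hsq : 3 ≤ t ∨ IsSquare J.det) {H : Subgroup (oG Q)}
    (hH : ∀ g ∈ commutator (oG Q), mt g ∈ tensorWreathStandard k t F → g ∈ H) :
    Setting J Finset.univ (H.map mt) := by
  have key : ∀ (l : Fin t) (A : Matrix (Fin k) (Fin k) F), InCm Q (sl l A) → adjJ J A * A = 1 →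
      MG (H.map mt) (sl l A) := by
    rintro l A ⟨g, hg, hge⟩ hA
    exact ⟨mt g, Subgroup.mem_map_of_mem _ (hH g hg (sl_mem_standard hA hge)), hge⟩
  refine ⟨hV.sj, ?_, fun g _ l hl => absurd (Finset.mem_univ l) hl, ?_, ?_, ?_, ?_⟩
  · rintro _ ⟨g, -, rfl⟩
    exact hV.mt_iso g
  · exact fun l _ p e hp he => key l _ (hV.root_inC l hp he) (hV.eS_isoJ hp he)
  · intro l _ u hu
    rw [dl, show sg F k = 1 from hev.neg_one_pow, one_smul]
    exact key l _ (hV.refl_inC hev ht hsq l hu.1) (hV.rf_isoJ hu.1)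
  · intro l _ a b ha hab
    refine key l _ (hV.pair_inC l ha hab) ?_
    rw [adj_mul hV.sj.det, hV.sj.rf_adj, hV.sj.rf_adj, mul_assoc, ← mul_assoc (rf J a), rf_sq ha, one_mul,
      rf_sq (hab ▸ ha)]
  · intro σ hσ _
    obtain ⟨g, hg, e⟩ := hV.perm_inC hσ
    refine ⟨g, hH g hg ?_, e⟩
    rw [e]
    exact Subgroup.subset_closure (Or.inr ⟨σ, fun _ _ => rfl⟩)

/-- a group with an element outside the stabiliser has full centres -/
theorem full_of_not_standard (hev : Even k) (hk : 4 ≤ k) (ht : 2 ≤ t) (hsq : 3 ≤ t ∨ IsSquare J.det)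
    {H : Subgroup (oG Q)} (hH : ∀ g ∈ commutator (oG Q), mt g ∈ tensorWreathStandard k t F → g ∈ H) {g : oG Q}
    (hg : g ∈ H) (hgS : mt g ∉ tensorWreathStandard k t F) : Full J Finset.univ (H.map mt) := by
  by_contra hF
  exact hgS (mem_standard_of_std (by omega) (by omega)
    (std_of_not_full hk hev Finset.univ _ (hV.setting hev ht hsq hH) hF ⟨mt g, Subgroup.mem_map_of_mem _ hg, rfl⟩))

end SSpace

end Cfsg.Agent.ClassicalMax.OOWreath
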