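import Cfsg.Agent.ClassicalMax.OOWreath.Fix

/-!
The centraliser of a signed reflection in even dimension permutes the slot algebras, provided the stabilisers of the
slots do.
-/

set_option autoImplicit false
set_option linter.unusedSectionVars false
set_option linter.unusedSimpArgs false

namespace Cfsg.Agent.ClassicalMax.OOWreath

open Matrix Cfsg.Agent.ClassicalMax.TPow
open Cfsg.Agent.ClassicalMax.SpWreath (GV GV_det)

variable {F : Type*} [Field F] {k t : ℕ} {J : Matrix (Fin k) (Fin k) F}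

theorem dl_perp_even (hev : Even k) {u x : Fin k → F} (h : bf J u x = 0) : dl J u *ᵥ x = x := by
  rw [dl_perp h, sg, hev.neg_one_pow, one_smul]

theorem dl_self_even (hev : Even k) {u : Fin k → F} (hu : bf J u u ≠ 0) : dl J u *ᵥ u = (-1 : F) • u := by
  rw [dl_self hu, sg, hev.neg_one_pow]

theorem maps_smul_op {i : Fin t} {M a : Matrix (Fin t → Fin k) (Fin t → Fin k) F} {v v' : Fin k → F} {c : F}
    (h : Maps J i M v (c • v') a) : Maps J i M v v' (c • a) := fun z => by
  rw [h z, rk_smul_left, sl_smul, smul_mul_assoc, mul_smul_comm]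

theorem maps_slot_eq (hJ : SJ J) {i : Fin t} {A : Matrix (Fin k) (Fin k) F} {v v' : Fin k → F}
    (h : Maps J i (sl i A) v v' 1) : A *ᵥ v = v' := by
  by_contra hne
  have hw : A *ᵥ v - v' ≠ 0 := sub_ne_zero.2 hne
  haveI : Nonempty (Fin k) := ⟨⟨0, by have := hJ.kk; omega⟩⟩
  refine hJ.rk_ne hw hw ?_
  have h1 := h (A *ᵥ v - v')
  rw [sl_mul, mul_rk, mul_one] at h1
  have h2 := sl_injective i h1
  obtain ⟨w, hw'⟩ : ∃ w, w = A *ᵥ v - v' := ⟨_, rfl⟩
  rw [← hw'] at h2 ⊢
  conv_lhs => arg 2; rw [hw']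
  rw [sub_eq_add_neg, ← neg_one_smul F v', rk_add_left, rk_smul_left, h2, neg_one_smul, add_neg_cancel]

/-- an element mapping every line to itself with one operator is that operator -/
theorem eq_of_maps_self (hJ : SJ J) {i : Fin t} {M b : Matrix (Fin t → Fin k) (Fin t → Fin k) F}
    (h : ∀ v, Maps J i M v v b) : M = b := by
  have e : (1 : Matrix (Fin k) (Fin k) F) =
      ∑ x, rk J (Pi.single x 1) ((1 : Matrix (Fin k) (Fin k) F).row x ᵥ* J⁻¹) := by
    ext x y
    simp only [rk, Matrix.sum_apply, vecMulVec_apply, vecMul_vecMul, nonsing_inv_mul J hJ.det, vecMul_one,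
      Pi.single_apply, ite_mul, one_mul, zero_mul, Finset.sum_ite_eq, Finset.mem_univ, if_true]
    rfl
  calc M = ∑ x, M * sl i (rk J (Pi.single x 1) ((1 : Matrix (Fin k) (Fin k) F).row x ᵥ* J⁻¹)) := by
        rw [← Finset.mul_sum, ← sl_sum, ← e, sl_one, mul_one]
    _ = ∑ x, sl i (rk J (Pi.single x 1) ((1 : Matrix (Fin k) (Fin k) F).row x ᵥ* J⁻¹)) * b :=
        Finset.sum_congr rfl fun x _ => h _ _
    _ = b := by rw [← Finset.sum_mul, ← sl_sum, ← e, sl_one, one_mul]

variable [Finite F]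

theorem exists_value_perp (hJ : SJ J) {n : ℕ} (hn : n + 1 < k) (f : Fin n → Fin k → F)
    (hf : ∀ a b, a ≠ b → bf J (f a) (f b) = 0) (hf0 : ∀ a, bf J (f a) (f a) ≠ 0) {c : F} (hc : c ≠ 0) :
    ∃ w, bf J w w = c ∧ ∀ a, bf J (f a) w = 0 := by
  obtain ⟨e, he, hef⟩ := hJ.exists_orth (by omega) f hf hf0
  obtain ⟨e', he', hef'⟩ := hJ.exists_orth (n := n + 1) hn (Fin.cons e f) (by
    intro a b hab
    refine Fin.cases ?_ (fun a' => ?_) a b hab
    · intro b hab
      refine Fin.cases (fun h => absurd rfl h) (fun b' _ => ?_) b hab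
      simp only [Fin.cons_zero, Fin.cons_succ]
      rw [hJ.comm, hef]
    · intro b hab
      refine Fin.cases (fun _ => ?_) (fun b' h => ?_) b hab
      · simp only [Fin.cons_zero, Fin.cons_succ]; exact hef a'
      · simp only [Fin.cons_succ]; exact hf a' b' fun e => h (by rw [e]))
    (fun a => Fin.cases (by simpa using he) (fun a' => by simpa using hf0 a') a)
  obtain ⟨x, y, hxy⟩ := hJ.exists_binary he he' (by simpa using hef' 0) hc
  refine ⟨x • e + y • e', hxy, fun a => ?_⟩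
  rw [bf_add_right, bf_smul_right, bf_smul_right, hef a, show bf J (f a) e' = 0 by simpa using hef' a.succ]
  ring

theorem fam1 {e : Fin k → F} (he : bf J e e ≠ 0) : (∀ a b, a ≠ b → bf J (![e] a) (![e] b) = 0) ∧
    ∀ a, bf J (![e] a) (![e] a) ≠ 0 :=
  ⟨fun a b h => absurd (Subsingleton.elim a b) h, fun a => by simpa [Subsingleton.elim a 0] using he⟩

theorem fam2 (hJ : SJ J) {u d : Fin k → F} (hu : bf J u u ≠ 0) (hd : bf J d d ≠ 0) (h : bf J u d = 0) :
    (∀ a b, a ≠ b → bf J (![u, d] a) (![u, d] b) = 0) ∧ ∀ a, bf J (![u, d] a) (![u, d] a) ≠ 0 := by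
  refine ⟨fun a b hab => ?_, fun a => ?_⟩
  · fin_cases a <;> fin_cases b <;> first | exact absurd rfl hab | simp [h, hJ.comm d u]
  · fin_cases a <;> assumption

theorem fam3 (hJ : SJ J) {u d w : Fin k → F} (hu : bf J u u ≠ 0) (hd : bf J d d ≠ 0) (hw : bf J w w ≠ 0)
    (hud : bf J u d = 0) (huw : bf J u w = 0) (hdw : bf J d w = 0) :
    (∀ a b, a ≠ b → bf J (![u, d, w] a) (![u, d, w] b) = 0) ∧ ∀ a, bf J (![u, d, w] a) (![u, d, w] a) ≠ 0 := by
  refine ⟨fun a b hab => ?_, fun a => ?_⟩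
  · fin_cases a <;> fin_cases b <;>
      first | exact absurd rfl hab | simp [hud, huw, hdw, hJ.comm d u, hJ.comm w u, hJ.comm w d]
  · fin_cases a <;> assumption

/-- in dimension 4 the orthogonal complement of a hyperbolic plane is anisotropic -/
theorem SJ.nop4 (hJ : SJ J) (hk : k = 4) {u d v w : Fin k → F} (hud : bf J u d = 0) (hd : bf J d d = -bf J u u)
    (hu : bf J u u ≠ 0) (huv : bf J u v = 0) (hdv : bf J d v = 0) (huw : bf J u w = 0) (hdw : bf J d w = 0)
    (hv : bf J v v ≠ 0) (hvw : bf J v w = 0) : bf J w w ≠ -bf J v v := fun h => by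
  have hdu : bf J d u = 0 := by rw [hJ.comm, hud]
  have hwv : bf J w v = 0 := by rw [hJ.comm, hvw]
  have hpu : bf J (u + d) u ≠ 0 := by rwa [bf_add_left, hdu, add_zero]
  obtain ⟨c, hc⟩ := hJ.nop hk (u + d) (v + w) (fun e => hpu (by rw [e]; simp [bf]))
    (by simp only [bf_add_left, bf_add_right, hud, hdu, hd]; ring)
    (by simp only [bf_add_left, bf_add_right, hvw, hwv, h]; ring)
    (by simp only [bf_add_left, bf_add_right, huv, hdv, huw, hdw, add_zero])
  have h1 := congrArg (fun z => bf J z v) hc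
  simp only [bf_add_left, bf_smul_left, huv, hdv, hwv, add_zero, mul_zero] at h1
  exact hv h1

variable {Sg : Finset (Fin t)} {G : Subgroup (GL (Fin t → Fin k) F)}

namespace Setting

variable (hS : Setting J Sg G)
include hS

theorem maps_adj {i : Fin t} {g a : Matrix (Fin t → Fin k) (Fin t → Fin k) F} (hg : MG G g) {v v' : Fin k → F}
    (h : Maps J i g v v' a) (ha : adjJ (GV J) a * a = 1) : Maps J i (adjJ (GV J) g) v' v (adjJ (GV J) a) := fun z => by
  have h1 := congrArg (fun X => adjJ (GV J) g * X * adjJ (GV J) a) (h z)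
  simp only [← mul_assoc, (hS.adj_inv hg).2.1, one_mul] at h1
  simp only [mul_assoc, mul_eq_one_comm.1 ha, mul_one] at h1
  exact h1.symm

theorem slot_iso {i : Fin t} {A : Matrix (Fin k) (Fin k) F} (h : MG G (sl i A)) : adjJ J A * A = 1 := by
  haveI : Nonempty (Fin k) := ⟨⟨0, by have := hS.sj.kk; omega⟩⟩
  refine sl_injective i ?_
  rw [← sl_mul, ← adj_sl hS.sj.det, (hS.adj_inv h).2.1, sl_one]

theorem sq_one {s : F} {a : Matrix (Fin t → Fin k) (Fin t → Fin k) F} (ha : adjJ (GV J) a * a = 1)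
    (h : adjJ (GV J) (s • a) * (s • a) = 1) : s * s = 1 := by
  haveI : Nonempty (Fin k) := ⟨⟨0, by have := hS.sj.kk; omega⟩⟩
  rw [adj_smul, smul_mul_assoc, mul_smul_comm, smul_smul, ha] at h
  obtain ⟨x⟩ : Nonempty (Fin t → Fin k) := inferInstance
  simpa using congrFun (congrFun h x) x

theorem commute_conj {g X Y : Matrix (Fin t → Fin k) (Fin t → Fin k) F} (hg : MG G g) (h : Commute X Y) :
    Commute (g * X * adjJ (GV J) g) (g * Y * adjJ (GV J) g) := by
  show _ = _
  rw [hS.conj_mul hg, hS.conj_mul hg, h.eq]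

theorem commute_of_conj {g X : Matrix (Fin t → Fin k) (Fin t → Fin k) F} (hg : MG G g)
    (h : g * X * adjJ (GV J) g = X) : Commute g X := by
  show g * X = X * g
  conv_rhs => rw [← h, mul_assoc, (hS.adj_inv hg).2.1, mul_one]

/-- a permuting element fixing a line lies in that slot -/
theorem std_fix {i : Fin t} {u : Fin k → F} (hu : u ≠ 0) {h : Matrix (Fin t → Fin k) (Fin t → Fin k) F}
    (hh : Std h) (hf : Maps J i h u u 1) : ∃ A, h = sl i A := by
  have hJ := hS.sj
  haveI : Nonempty (Fin k) := ⟨⟨0, by have := hJ.kk; omega⟩⟩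
  refine eq_sl_of_commute hJ i fun l hl A => ?_
  by_cases hA : ∃ c : F, A = c • 1
  · obtain ⟨c, rfl⟩ := hA
    rw [sl_smul, sl_one]
    exact (Commute.one_right h).smul_right c
  push Not at hA
  obtain ⟨l', hl'⟩ := hh l
  obtain ⟨B, hB⟩ := hl' A
  have e : sl l' B * sl i (rk J u u) = sl i (rk J u u) * sl l A := by
    have h1 := hf u
    rw [mul_one] at h1
    calc sl l' B * sl i (rk J u u) = sl l' B * (h * sl i (rk J u u)) := by rw [h1]
      _ = h * (sl l A * sl i (rk J u u)) := by rw [← mul_assoc, ← hB, mul_assoc]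
      _ = h * sl i (rk J u u) * sl l A := by rw [(sl_commute hl A _).eq, mul_assoc]
      _ = _ := by rw [h1]
  rcases eq_or_ne l' i with rfl | hl'i
  · exfalso
    rw [sl_mul] at e
    obtain ⟨c, hc⟩ : ∃ c : F, A = c • 1 := SpWreath.scalar_of_commute fun C => by
      refine sl_injective l (eq_of_sl l' (hJ.rk_ne hu hu) (fun D => sl_commute hl _ D) (fun D => sl_commute hl _ D) ?_)
      rw [← sl_mul, ← sl_mul]
      calc sl l' (rk J u u) * (sl l A * sl l C) = sl l' (B * rk J u u) * sl l C := by rw [e, mul_assoc]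
        _ = sl l C * sl l' (B * rk J u u) := (sl_commute (Ne.symm hl) _ C).eq
        _ = _ := by rw [e, ← mul_assoc, (sl_commute hl C _).eq, mul_assoc]
    exact hA c hc
  · have h2 : sl l A = sl l' B := eq_of_sl i (hJ.rk_ne hu hu) (fun D => sl_commute hl _ D)
      (fun D => sl_commute hl'i _ D) (by rw [← e, (sl_commute hl'i B _).eq])
    show h * sl l A = sl l A * h
    rw [hB, h2]

/-- a conjugate of a reflection which is a reflection times an element of another slot -/
theorem slot_times_refl (hk : 4 ≤ k) {i0 i j : Fin t} (hij : i ≠ j) {u0 v : Fin k → F} (hu0 : bf J u0 u0 ≠ 0)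
    (hv : bf J v v ≠ 0) {g : Matrix (Fin t → Fin k) (Fin t → Fin k) F} (hg : MG G g) (hi0 : MG G (sl i0 (dl J u0)))
    (hj : MG G (sl j (dl J v))) {X : Matrix (Fin k) (Fin k) F}
    (h : g * sl i0 (dl J u0) * adjJ (GV J) g = sl i X * sl j (dl J v)) :
    g * sl i0 (dl J u0) * adjJ (GV J) g = sl j (dl J v) := by
  have hJ := hS.sj
  haveI : Nonempty (Fin k) := ⟨⟨0, by omega⟩⟩
  have hX : MG G (sl i X) := by
    have := (hS.conj_mem hg hi0).mul hj
    rwa [h, mul_assoc, sl_mul, dl_sq hv, sl_one, mul_one] at this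
  have hXi := hS.slot_iso hX
  rcases classify hS hu0 hg h.symm ((Std.sl i hXi).mul (Std.sl j (dl_sq hv))) with ⟨l, w, hw, e⟩ | ⟨hk3, -⟩
  swap
  · omega
  have hXu : IsUnit X.det := (isUnit_iff_isUnit_det X).1 (IsUnit.of_mul_eq_one_right _ hXi)
  rcases slot_prod hJ hij.symm hXu (fun e0 => dl_ne_scalar hJ hv 0 (by rw [e0, zero_smul])) e with ⟨c, hc⟩ | ⟨c, hc⟩
  · exact absurd hc (dl_ne_scalar hJ hv c)
  rw [hc, sl_smul, sl_one, smul_mul_assoc, one_mul, ← sl_smul] at h e
  have hc0 : c ≠ 0 := fun e0 => by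
    rw [e0, zero_smul, sl_zero] at e
    exact dl_ne_scalar hJ hw 0 (by rw [zero_smul]; exact (sl_injective l (e.symm.trans (sl_zero l).symm)))
  obtain rfl := slot_eq e fun r hr => dl_ne_scalar hJ hv (c⁻¹ * r) (by
    rw [mul_smul, ← hr, smul_smul, inv_mul_cancel₀ hc0, one_smul])
  have h2 := sl_injective j e
  have h3 := dl_eq_of_smul hJ hw hv h2.symm
  rw [h, h2, h3]

variable (hev : Even k) (hk : 4 ≤ k)
include hev hk

/-- an element commuting with the signed reflections of a slot commutes with the slot -/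
theorem commute_slot_of_good {j : Fin t} {h : Matrix (Fin t → Fin k) (Fin t → Fin k) F} (hh : MG G h)
    (hc : ∀ w, Good J w → Commute h (sl j (dl J w))) (A : Matrix (Fin k) (Fin k) F) : Commute h (sl j A) := by
  have hJ := hS.sj
  obtain ⟨hconn, hspan⟩ := hJ.conn_even hev (n := 0) ![] (by omega) (fun a => a.elim0) (fun a => a.elim0)
    (fun e => absurd e (by omega))
  obtain ⟨w0, hw0, -⟩ := exists_good_perp hJ (n := 0) (by omega) ![] (fun a => a.elim0) (fun a => a.elim0)
  obtain ⟨b, hbo, -, hb⟩ := hS.scalar_on ![] hh (fun w hw _ => hc w hw) hconn hspan hw0 (fun a => a.elim0)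
  rw [eq_of_maps_self hJ fun v => hb v fun a => a.elim0]
  exact hbo.self A

theorem slot_of_refl {i : Fin t} {h : Matrix (Fin t → Fin k) (Fin t → Fin k) F} (hh : MG G h)
    (hc : ∀ j ∈ Sg, j ≠ i → ∀ e, Good J e → Commute h (sl j (dl J e))) : ∃ A, h = sl i A :=
  eq_sl_of_commute hS.sj i fun j hj A => by
    by_cases hjs : j ∈ Sg
    · exact hS.commute_slot_of_good hev hk hh (hc j hjs hj) A
    · exact hS.out' hh hjs A

variable (hF : ¬ Full J Sg G)
include hF

/-- commuting with the reflection of an axis and those orthogonal to it -/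
theorem axis {m : Fin t} (hm : m ∈ Sg) {e : Fin k → F} (he : bf J e e ≠ 0)
    {z : Matrix (Fin t → Fin k) (Fin t → Fin k) F} (hz : MG G z) (hze : Commute z (sl m (dl J e)))
    (hzv : ∀ v, Good J v → bf J e v = 0 → Commute z (sl m (dl J v))) :
    (∀ A, Commute z (sl m A)) ∨ ∀ A, Commute (z * sl m (dl J e)) (sl m A) := by
  have hJ := hS.sj
  obtain ⟨a, hao, ha, haa⟩ := hS.commute_line he hz hze
  obtain ⟨hf, hf0⟩ := fam1 (J := J) he
  obtain ⟨hconn, hspan⟩ := hJ.conn_even hev (n := 1) ![e] (by omega) hf hf0 (fun e => absurd e (by omega))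
  obtain ⟨w0, hw0, hw0'⟩ := exists_good_perp hJ (n := 1) (by omega) ![e] hf hf0
  obtain ⟨b, hbo, hbb, hb⟩ := hS.scalar_on ![e] hz (fun v hv hv' => hzv v hv (hv' 0)) hconn hspan hw0 hw0'
  obtain ⟨w1, hw1, hw1'⟩ := exists_value_perp hJ (n := 1) (by omega) ![e] hf hf0 he
  have hew1 : bf J e w1 = 0 := hw1' 0
  obtain ⟨hf', hf0'⟩ := fam2 hJ he (hw1 ▸ he) hew1
  obtain ⟨w2, hw2, hw2'⟩ := exists_value_perp hJ (n := 2) (by omega) ![e, w1] hf' hf0' (neg_ne_zero.2 he)
  have hew2 : bf J e w2 = 0 := hw2' 0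
  have h12 : bf J w1 w2 = 0 := hw2' 1
  obtain ⟨p, hp⟩ : ∃ p, p = w1 + w2 := ⟨_, rfl⟩
  have hep : bf J e p = 0 := by rw [hp, bf_add_right, hew1, hew2, add_zero]
  have hp0 : p ≠ 0 := fun h0 => by
    have h1 : bf J w1 p = bf J e e := by rw [hp, bf_add_right, hw1, h12, add_zero]
    rw [h0, bf, mulVec_zero, dotProduct_zero] at h1
    exact he h1.symm
  obtain ⟨s, hs⟩ := hS.split hF hm hp0 (by
      simp only [hp, bf_add_left, bf_add_right, hw1, hw2, h12, hJ.comm w2 w1]; ring)
    (by rw [hJ.comm, hep]) he hz (hb p fun a => by simpa [Subsingleton.elim a 0] using hep) ha hbo hao haa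
  have hall : ∀ (z' a' : Matrix (Fin t → Fin k) (Fin t → Fin k) F), Op Sg m a' → Maps J m z' e e a' →
      (∀ v, bf J e v = 0 → Maps J m z' v v a') → ∀ A, Commute z' (sl m A) := fun z' a' hao' h1 h2 A => by
    rw [eq_of_maps_self hJ (i := m) (M := z') (b := a') fun v => ?_]
    · exact hao'.self A
    have h3 := maps_comb h1 (h2 (v + (-(bf J e v / bf J e e)) • e)
      (by rw [bf_add_right, bf_smul_right, neg_mul, div_mul_cancel₀ _ he, add_neg_cancel])) (bf J e v / bf J e e) 1
    rwa [show (bf J e v / bf J e e) • e + (1 : F) • (v + (-(bf J e v / bf J e e)) • e) = v by module] at h3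
  rcases mul_self_eq_one_iff.1 (hS.sq_one haa (hs ▸ hbb)) with rfl | rfl
  · left
    exact hall z a hao ha fun v hv => by
      have := hb v fun a => by simpa [Subsingleton.elim a 0] using hv
      rwa [hs, one_smul] at this
  · right
    refine hall _ ((-1 : F) • a) (hao.smul _) ?_ fun v hv => ?_
    · have h1 := (maps_sl (J := J) m (dl J e) e)
      rw [dl_self_even hev he] at h1
      have h2 := maps_smul_op (h1.mul (maps_scale ha (-1)))
      rwa [mul_one] at h2
    · have h1 := (maps_sl (J := J) m (dl J e) v)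
      rw [dl_perp_even hev hv] at h1
      have h2 := h1.mul (hb v fun a => by simpa [Subsingleton.elim a 0] using hv)
      rwa [mul_one, hs] at h2

variable {i : Fin t} (hi : i ∈ Sg) {u : Fin k → F} (hu : bf J u u ≠ 0)
include hi hu

/-- an element fixing the axis and commuting with a reflection of the other class lies in the slot -/
theorem fix_cent {d : Fin k → F} (hud : bf J u d = 0) (hd : bf J d d = -bf J u u)
    {h : Matrix (Fin t → Fin k) (Fin t → Fin k) F} (hh : MG G h) (hf : Maps J i h u u 1)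
    (hc : Commute h (sl i (dl J d))) : ∃ A, h = sl i A := by
  classical
  have hJ := hS.sj
  haveI : Nonempty (Fin k) := ⟨⟨0, by omega⟩⟩
  have hdd : bf J d d ≠ 0 := hd ▸ neg_ne_zero.2 hu
  have hdu : bf J d u = 0 := by rw [hJ.comm, hud]
  obtain ⟨a, hao, ha, haa⟩ := hS.commute_line hdd hh hc
  have haa' : a * adjJ (GV J) a = 1 := mul_eq_one_comm.1 haa
  have hone : adjJ (GV J) (1 : Matrix (Fin t → Fin k) (Fin t → Fin k) F) = 1 := adj_one hS.GV_det'
  obtain ⟨hha, hh1, hh2⟩ := hS.adj_inv hh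
  have hfa := (hS.fix_left hh hf u).2
  have hda := hS.maps_adj hh ha haa
  -- the slot elements fixing the two axes up to scalars
  let S : Type _ := {A : Matrix (Fin k) (Fin k) F //
    MG G (sl i A) ∧ (∃ ε : F, A *ᵥ u = ε • u) ∧ ∃ ε : F, A *ᵥ d = ε • d}
  have himg : ∀ A : S, ∃ B : S, sl i B.1 = h * sl i A.1 * adjJ (GV J) h := by
    rintro ⟨A, hA, ⟨ε, hε⟩, ε', hε'⟩
    have e1 : Maps J i (sl i A) u (ε • u) 1 := hε ▸ maps_sl i A u
    have e2 : Maps J i (sl i A) d (ε' • d) 1 := hε' ▸ maps_sl i A d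
    have m1 : Maps J i (h * sl i A * adjJ (GV J) h) u (ε • u) 1 := by
      have := hfa.mul (e1.mul (maps_scale hf ε))
      rwa [mul_one, mul_one] at this
    have m2 : Maps J i (h * sl i A * adjJ (GV J) h) d (ε' • d) 1 := by
      have := hda.mul (e2.mul (maps_scale ha ε'))
      rwa [mul_one, haa'] at this
    obtain ⟨hAa, hA1, hA2⟩ := hS.adj_inv hA
    have n1 := m1.mul (hS.maps_adj hA e1 (by rw [hone, one_mul]))
    have n2 := m2.mul (hS.maps_adj hA e2 (by rw [hone, one_mul]))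
    rw [hone, one_mul] at n1 n2
    obtain ⟨C, hC⟩ := hS.fix_pair hF hi hu hud hd (hAa.mul (hS.conj_mem hh hA)) n1 n2
    have e : h * sl i A * adjJ (GV J) h = sl i (A * C) := by
      rw [← sl_mul, ← hC, ← mul_assoc (sl i A), hA2, one_mul]
    rw [e] at m1 m2
    exact ⟨⟨A * C, e ▸ hS.conj_mem hh hA, ⟨ε, maps_slot_eq hJ m1⟩, ε', maps_slot_eq hJ m2⟩, e.symm⟩
  choose φ hφ using himg
  have hφi : Function.Injective φ := fun A B hAB => by
    have h1 := congrArg (fun X => adjJ (GV J) h * X * h) ((hφ A).symm.trans ((congrArg (fun C : S => sl (β := Fin t) i C.1) hAB).trans (hφ B)))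
    simp only [← mul_assoc, hh1, one_mul] at h1
    simp only [mul_assoc, hh1, mul_one] at h1
    exact Subtype.ext (sl_injective i h1)
  have hsur := Finite.surjective_of_injective hφi
  refine hS.slot_of_refl hev hk hh fun j hj hji e he => hS.commute_of_conj hh ?_
  obtain ⟨c, hcdef⟩ : ∃ c, c = sl (β := Fin t) j (dl J e) := ⟨_, rfl⟩
  rw [← hcdef]
  have hcM : MG G c := hcdef ▸ hS.refl j hj e he
  have hcc : c * c = 1 := by rw [hcdef, sl_mul, dl_sq he.1, sl_one]
  have hci : ∀ A, Commute c (sl i A) := fun A => hcdef ▸ sl_commute hji _ A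
  have hcs : adjJ (GV J) c = c := by rw [hcdef, adj_sl hJ.det, hJ.dl_adj]
  obtain ⟨y, hy⟩ : ∃ y, y = h * c * adjJ (GV J) h := ⟨_, rfl⟩
  have hyS : ∀ B : S, Commute y (sl i B.1) := fun B => by
    obtain ⟨A, rfl⟩ := hsur B
    rw [hy, hφ]
    exact hS.commute_conj hh (hci _)
  obtain ⟨z, hz⟩ : ∃ z, z = y * c := ⟨_, rfl⟩
  have hzM : MG G z := hz ▸ hy ▸ (hS.conj_mem hh hcM).mul hcM
  have hzu : Maps J i z u u 1 := by
    have := (maps_commute hci u).mul (hfa.mul ((maps_commute hci u).mul hf))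
    rwa [← hy, ← hz, mul_one, one_mul, hcc] at this
  have hzd : Maps J i z d d (a * c * adjJ (GV J) a * c) := by
    have := (maps_commute hci d).mul (hda.mul ((maps_commute hci d).mul ha))
    rwa [← hy, ← hz] at this
  obtain ⟨a', ha'⟩ : ∃ a', a' = a * c * adjJ (GV J) a * c := ⟨_, rfl⟩
  rw [← ha'] at hzd
  have hco : Op Sg i c := hS.op_of_MG hcM hci
  have ha'o : Op Sg i a' := ha' ▸ ((hao.mul hco).mul (hao.adj hJ.symm hJ.det)).mul hco
  have ha'a : adjJ (GV J) a' * a' = 1 := by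
    rw [ha', hS.adj_mul', hS.adj_mul', hS.adj_mul', hS.adj_adj', hcs]
    rw [show c * (a * (c * adjJ (GV J) a)) * (a * c * adjJ (GV J) a * c) =
      c * (a * (c * (adjJ (GV J) a * a) * c) * adjJ (GV J) a) * c by simp only [mul_assoc], haa, mul_one, hcc, mul_one,
      haa', mul_one, hcc]
  obtain ⟨hf2, hf20⟩ := fam2 hJ hu hdd hud
  have hR : ∀ v, Good J v → (∀ x, bf J (![u, d] x) v = 0) → Commute z (sl i (dl J v)) := fun v hv hv' => by
    have h1 : bf J v u = 0 := by rw [hJ.comm]; exact hv' 0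
    have h2 : bf J v d = 0 := by rw [hJ.comm]; exact hv' 1
    rw [hz]
    exact (hyS ⟨dl J v, hS.refl i hi v hv, ⟨1, by rw [dl_perp_even hev h1, one_smul]⟩, 1,
      by rw [dl_perp_even hev h2, one_smul]⟩).mul_left (hci _)
  obtain ⟨hconn, hspan⟩ := hJ.conn_even hev (n := 2) ![u, d] (by omega) hf2 hf20 fun e v w hv hw hv0 hvw =>
    hJ.nop4 (by omega) hud hd hu (hv 0) (hv 1) (hw 0) (hw 1) hv0 hvw
  obtain ⟨w1, hw1, hw1'⟩ := exists_value_perp hJ (n := 2) (by omega) ![u, d] hf2 hf20 (c := -bf J u u) (neg_ne_zero.2 hu)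
  have huw1 : bf J u w1 = 0 := hw1' 0
  have hdw1 : bf J d w1 = 0 := hw1' 1
  have hw10 : bf J w1 w1 ≠ 0 := hw1 ▸ neg_ne_zero.2 hu
  obtain ⟨b, hbo, hbb, hb⟩ := hS.scalar_on ![u, d] hzM hR hconn hspan (hJ.good_aniso hev hw10) hw1'
  obtain ⟨hf3, hf30⟩ := fam3 hJ hu hdd hw10 hud huw1 hdw1
  obtain ⟨w2, hw20, hw2', hsum⟩ : ∃ w2, bf J w2 w2 ≠ 0 ∧ (∀ x, bf J (![u, d, w1] x) w2 = 0) ∧
      bf J d d + bf J w2 w2 ≠ 0 := by
    rcases eq_or_ne k 4 with h4 | h4
    · obtain ⟨w2, hw2, hw2'⟩ := hJ.exists_orth (n := 3) (by omega) ![u, d, w1] hf3 hf30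
      refine ⟨w2, hw2, hw2', fun e0 => hJ.nop4 h4 hud hd hu huw1 hdw1 (hw2' 0) (hw2' 1) hw10 (hw2' 2) ?_⟩
      rw [hw1, ← hd]
      linear_combination e0
    · obtain ⟨w2, hw2, hw2'⟩ := exists_value_perp hJ (n := 3) (by omega) ![u, d, w1] hf3 hf30 hdd
      refine ⟨w2, hw2 ▸ hdd, hw2', ?_⟩
      rw [hw2, ← two_mul]
      exact mul_ne_zero hJ.two hdd
  have huw2 : bf J u w2 = 0 := hw2' 0
  have hdw2 : bf J d w2 = 0 := hw2' 1
  have hw12 : bf J w1 w2 = 0 := hw2' 2
  have hw2d : bf J w2 d = 0 := by rw [hJ.comm, hdw2]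
  have hbd : ∀ v, bf J u v = 0 → bf J d v = 0 → Maps J i z v v b := fun v h1 h2 =>
    hb v fun x => by fin_cases x <;> assumption
  obtain ⟨hza, hz1, hz2⟩ := hS.adj_inv hzM
  -- conjugate the reflection of the sum
  obtain ⟨x, hx⟩ : ∃ x, x = d + w2 := ⟨_, rfl⟩
  have hxx : bf J x x ≠ 0 := by
    simp only [hx, bf_add_left, bf_add_right, hdw2, hw2d, add_zero, zero_add]
    exact hsum
  have hσ := hS.refl i hi x (hJ.good_aniso hev hxx)
  have hzua := (hS.fix_left hzM hzu u).2
  have eu : Maps J i (sl i (dl J x)) u u 1 := by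
    have := maps_sl (J := J) i (dl J x) u
    rwa [dl_perp_even hev (by rw [hx, bf_add_left, hdu, hJ.comm w2 u, huw2, add_zero])] at this
  have ew : Maps J i (sl i (dl J x)) w1 w1 1 := by
    have := maps_sl (J := J) i (dl J x) w1
    rwa [dl_perp_even hev (by rw [hx, bf_add_left, hdw1, hJ.comm w2 w1, hw12, add_zero])] at this
  have n1 : Maps J i (sl i (dl J x) * (z * sl i (dl J x) * adjJ (GV J) z)) u u 1 := by
    have := (hzua.mul (eu.mul hzu)).mul eu
    rwa [mul_one, mul_one, mul_one] at this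
  have n2 : Maps J i (sl i (dl J x) * (z * sl i (dl J x) * adjJ (GV J) z)) w1 w1 1 := by
    have := ((hS.maps_adj hzM (hbd w1 huw1 hdw1) hbb).mul (ew.mul (hbd w1 huw1 hdw1))).mul ew
    rwa [mul_one, mul_eq_one_comm.1 hbb, one_mul] at this
  obtain ⟨B, hB⟩ := hS.fix_pair hF hi hu huw1 hw1 (hσ.mul (hS.conj_mem hzM hσ)) n1 n2
  have hB' : z * sl i (dl J x) * adjJ (GV J) z = sl i (dl J x * B) := by
    rw [← sl_mul, ← hB, ← mul_assoc (sl i (dl J x)) (sl i (dl J x)), sl_mul, dl_sq hxx, sl_one, one_mul]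
  obtain ⟨μ, hμ⟩ : ∃ μ, μ = 2 / bf J x x * bf J d d := ⟨_, rfl⟩
  have hμ0 : μ * bf J w2 w2 ≠ 0 := hμ ▸ mul_ne_zero (mul_ne_zero (div_ne_zero hJ.two hxx) hdd) hw20
  obtain ⟨κ, hκ⟩ : ∃ κ : F, b = κ • a' := by
    have hda' := hS.maps_adj hzM hzd ha'a
    have h1 : sl i (rk J ((dl J x * B) *ᵥ d) d) = sl i (rk J ((1 - μ) • d) d) +
        sl i (rk J ((-μ) • w2) d) * (b * adjJ (GV J) a') := by
      rw [← mul_rk, ← sl_mul, ← hB']
      have e1 : dl J x *ᵥ d = (1 - μ) • d + (-μ) • w2 := by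
        rw [dl, sg, hev.neg_one_pow, one_smul, rf_mulVec, hμ,
          show bf J x d = bf J d d by rw [hx, bf_add_left, hw2d, add_zero], hx]
        module
      rw [mul_assoc, hda' d, ← mul_assoc, mul_assoc z, sl_mul, mul_rk, e1, rk_add_left, sl_add, mul_add, add_mul,
        maps_scale hzd (1 - μ) d, maps_scale (hbd w2 huw2 hdw2) (-μ) d, mul_assoc, mul_assoc,
        mul_eq_one_comm.1 ha'a, mul_one]
    have h2 := congrArg (sl i (rk J w2 w2) * ·) h1
    simp only [mul_add, ← mul_assoc, sl_mul, rk_mul_rk, bf_smul_right, hw2d, mul_zero, zero_smul, sl_zero, zero_add]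
      at h2
    rw [sl_smul, sl_smul, smul_mul_assoc] at h2
    refine ⟨(-μ * bf J w2 w2)⁻¹ * bf J w2 ((dl J x * B) *ᵥ d), ?_⟩
    have h3 := eq_of_sl i (hJ.rk_ne (u := w2) (v := d) (fun e => hw20 (by rw [e]; simp [bf])) (fun e => hdd (by rw [e]; simp [bf])))
      (fun A => ((hbo.self A).mul_left ((ha'o.adj hJ.symm hJ.det).self A)).smul_left (-μ * bf J w2 w2))
      (fun A => (Commute.one_left (sl i A)).smul_left (bf J w2 ((dl J x * B) *ᵥ d)))
      (by rw [mul_smul_comm, mul_smul_comm, mul_one, ← mul_assoc, ← smul_mul_assoc]; exact h2.symm)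
    have h4 := congrArg (fun X => (-μ * bf J w2 w2)⁻¹ • (X * a')) h3
    simp only [smul_mul_assoc, mul_assoc, ha'a, mul_one, one_mul, smul_smul,
      inv_mul_cancel₀ (show -μ * bf J w2 w2 ≠ 0 by rw [neg_mul]; exact neg_ne_zero.2 hμ0), one_smul] at h4
    exact h4
  obtain ⟨w, hww, hw'⟩ := exists_value_perp hJ (n := 2) (by omega) ![u, d] hf2 hf20 hu
  have huw : bf J u w = 0 := hw' 0
  have hdw : bf J d w = 0 := hw' 1
  -- an element with one operator off the axis
  have hfin : ∀ z1 a1, MG G z1 → Op Sg i a1 → Maps J i z1 u u 1 → Maps J i z1 d d a1 →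
      (∀ v, bf J u v = 0 → bf J d v = 0 → Maps J i z1 v v a1) → ∃ B, z1 = sl i B := by
    intro z1 a1 hz1M ha1 h1 h2 h3
    have hp := maps_comb h2 (h3 w huw hdw) 1 1
    have hp0 : (1 : F) • d + (1 : F) • w ≠ 0 := fun e => hdd (by
      have := congrArg (bf J d) e
      simp only [one_smul, bf_add_right, hdw, add_zero] at this
      rw [this]; simp [bf])
    obtain ⟨s, hs⟩ := hS.split hF hi hp0 (by
        simp only [bf_add_left, bf_add_right, bf_smul_left, bf_smul_right, hdw, hJ.comm w d, hww, hd]; ring)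
      (by simp only [bf_add_left, bf_smul_left, hdu, hJ.comm w u, huw]; ring) hu hz1M hp h1 ha1 Op.one
      (by rw [hone, one_mul])
    obtain ⟨A, hA⟩ := slot_of_maps hJ (i := i) (M := z1) (b := 1) fun v => by
      obtain ⟨r, hr⟩ : ∃ r, r = v + (-(bf J u v / bf J u u)) • u + (-(bf J d v / bf J d d)) • d := ⟨_, rfl⟩
      have hr1 : bf J u r = 0 := by
        rw [hr, bf_add_right, bf_add_right, bf_smul_right, bf_smul_right, hud, neg_mul, div_mul_cancel₀ _ hu]; ring
      have hr2 : bf J d r = 0 := by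
        rw [hr, bf_add_right, bf_add_right, bf_smul_right, bf_smul_right, hdu, neg_mul (bf J d v / _),
          div_mul_cancel₀ _ hdd]; ring
      have h4 := h3 r hr1 hr2
      rw [hs] at h2 h4
      have h5 := maps_comb (maps_comb h1 (maps_op_smul h2) (bf J u v / bf J u u) (bf J d v / bf J d d))
        (maps_op_smul h4) 1 1
      refine ⟨_, (show (1 : F) • ((bf J u v / bf J u u) • u + (bf J d v / bf J d d) • d) + (1 : F) • r = v by
        rw [hr]; module) ▸ h5⟩
    exact ⟨A, by rw [hA, mul_one]⟩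
  obtain ⟨B', hB''⟩ : ∃ B', z = sl i B' := by
    rcases mul_self_eq_one_iff.1 (hS.sq_one ha'a (hκ ▸ hbb)) with rfl | rfl
    · exact hfin z a' hzM ha'o hzu hzd fun v h1 h2 => by
        have := hbd v h1 h2
        rwa [hκ, one_smul] at this
    · have m0 := (maps_sl (J := J) i (dl J d) u)
      rw [dl_perp_even hev hdu] at m0
      have m1 := (maps_sl (J := J) i (dl J d) d)
      rw [dl_self_even hev hdd] at m1
      obtain ⟨C, hC⟩ := hfin (z * sl i (dl J d)) ((-1 : F) • a') (hzM.mul (hS.refl i hi d (hJ.good_aniso hev hdd)))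
        (ha'o.smul _) (by simpa only [mul_one] using m0.mul hzu)
        (by simpa only [mul_one] using maps_smul_op (m1.mul (maps_scale hzd (-1))))
        (fun v h1 h2 => by
          have m2 := (maps_sl (J := J) i (dl J d) v)
          rw [dl_perp_even hev h2] at m2
          simpa only [mul_one, hκ] using m2.mul (hbd v h1 h2))
      refine ⟨C * dl J d, ?_⟩
      rw [← sl_mul, ← hC, mul_assoc, sl_mul, dl_sq hdd, sl_one, mul_one]
  rw [hz] at hB''
  have hy' : y = sl i B' * c := by rw [← hB'', mul_assoc, hcc, mul_one]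
  rw [hy, hcdef] at hy'
  have := hS.slot_times_refl hk (Ne.symm hji) he.1 he.1 hh (hS.refl j hj e he) (hS.refl j hj e he) hy'
  rwa [← hcdef] at this

/-- an element acting on the axis by an operator commuting with a reflection of another slot -/
theorem fusion {j : Fin t} (hj : j ∈ Sg) (hji : j ≠ i) {e : Fin k → F} (he : Good J e) {d w : Fin k → F}
    (hud : bf J u d = 0) (hd : bf J d d = -bf J u u) {g a : Matrix (Fin t → Fin k) (Fin t → Fin k) F} (hg : MG G g)
    (ha : Maps J i g u u a) (haa : adjJ (GV J) a * a = 1) (hac : Commute a (sl j (dl J e)))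
    (hgd : g * sl i (dl J w) * adjJ (GV J) g = sl i (dl J d)) :
    g * sl j (dl J e) * adjJ (GV J) g = sl j (dl J e) := by
  have hJ := hS.sj
  have hcM := hS.refl j hj e he
  have hci : ∀ A, Commute (sl (β := Fin t) j (dl J e)) (sl i A) := fun A => sl_commute hji _ A
  obtain ⟨c, hc⟩ : ∃ c, c = sl (β := Fin t) j (dl J e) := ⟨_, rfl⟩
  rw [← hc] at hci hcM hac ⊢
  have hcc : c * c = 1 := by rw [hc, sl_mul, dl_sq he.1, sl_one]
  have h1 : Maps J i (g * c * adjJ (GV J) g * c) u u 1 := by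
    have := (maps_commute hci u).mul ((hS.maps_adj hg ha haa).mul ((maps_commute hci u).mul ha))
    rwa [hac.eq, mul_assoc c a, mul_eq_one_comm.1 haa, mul_one, hcc] at this
  have h2 : Commute (g * c * adjJ (GV J) g * c) (sl i (dl J d)) := by
    refine Commute.mul_left ?_ (hci _)
    rw [← hgd]
    exact hS.commute_conj hg (hci _)
  obtain ⟨B, hB⟩ := hS.fix_cent hev hk hF hi hu hud hd ((hS.conj_mem hg hcM).mul hcM) h1 h2
  have h3 : g * c * adjJ (GV J) g = sl i B * c := by rw [← hB, mul_assoc (g * c * adjJ (GV J) g), hcc, mul_one]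
  rw [hc] at h3 ⊢
  exact hS.slot_times_refl hk (Ne.symm hji) he.1 he.1 hg (hS.refl j hj e he) (hS.refl j hj e he) h3

/-- an element fixing the axis and commuting with the pairs lies in the slot -/
theorem fix_pairs {q : Matrix (Fin t → Fin k) (Fin t → Fin k) F} (hq : MG G q) (hf : Maps J i q u u 1)
    (hp : ∀ a b, bf J u a = 0 → bf J a a = -bf J u u → bf J u b = 0 → bf J b b = -bf J u u → bf J a b = 0 →
      Commute q (sl i (dl J a * dl J b))) : ∃ A, q = sl i A := by
  have hJ := hS.sj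
  have hc0 : -bf J u u ≠ 0 := neg_ne_zero.2 hu
  obtain ⟨hf1, hf10⟩ := fam1 (J := J) hu
  obtain ⟨a, ha, ha'⟩ := exists_value_perp hJ (n := 1) (by omega) ![u] hf1 hf10 hc0
  have hua : bf J u a = 0 := ha' 0
  have ha0 : bf J a a ≠ 0 := ha ▸ hc0
  obtain ⟨hf2, hf20⟩ := fam2 hJ hu ha0 hua
  obtain ⟨b, hb, hb'⟩ := exists_value_perp hJ (n := 2) (by omega) ![u, a] hf2 hf20 hc0
  have hub : bf J u b = 0 := hb' 0
  have hab : bf J a b = 0 := hb' 1
  have hb0 : bf J b b ≠ 0 := hb ▸ hc0
  obtain ⟨hf3, hf30⟩ := fam3 hJ hu ha0 hb0 hua hub hab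
  obtain ⟨e, he0, he', hsum⟩ : ∃ e, bf J e e ≠ 0 ∧ (∀ x, bf J (![u, a, b] x) e = 0) ∧
      bf J b b + bf J e e ≠ 0 := by
    rcases eq_or_ne k 4 with h4 | h4
    · obtain ⟨e, he, he'⟩ := hJ.exists_orth (n := 3) (by omega) ![u, a, b] hf3 hf30
      exact ⟨e, he, he', fun e0 => hJ.nop4 h4 hua ha hu hub hab (he' 0) (he' 1) hb0 (he' 2)
        (eq_neg_of_add_eq_zero_right e0)⟩
    · obtain ⟨e, he, he'⟩ := exists_value_perp hJ (n := 3) (by omega) ![u, a, b] hf3 hf30 hb0
      refine ⟨e, he ▸ hb0, he', ?_⟩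
      rw [he, ← two_mul]
      exact mul_ne_zero hJ.two hb0
  have hue : bf J u e = 0 := he' 0
  have hae : bf J a e = 0 := he' 1
  have hbe : bf J b e = 0 := he' 2
  obtain ⟨β, hβ⟩ : ∃ β, β = (bf J b b - bf J e e) / (bf J b b + bf J e e) := ⟨_, rfl⟩
  obtain ⟨γ, hγ⟩ : ∃ γ, γ = 2 * bf J b b / (bf J b b + bf J e e) := ⟨_, rfl⟩
  obtain ⟨f, hf'⟩ : ∃ f, f = β • b + γ • e := ⟨_, rfl⟩
  have huf : bf J u f = 0 := by rw [hf', bf_add_right, bf_smul_right, bf_smul_right, hub, hue]; ring
  have haf : bf J a f = 0 := by rw [hf', bf_add_right, bf_smul_right, bf_smul_right, hab, hae]; ring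
  have hfa : bf J f a = 0 := by rw [hJ.comm, haf]
  have hbf : bf J b f = β * bf J b b := by rw [hf', bf_add_right, bf_smul_right, bf_smul_right, hbe]; ring
  have hff : bf J f f = -bf J u u := by
    rw [← hb, hf']
    simp only [bf_add_left, bf_add_right, bf_smul_left, bf_smul_right, hbe, hJ.comm e b, hβ, hγ]
    field_simp
    ring
  have hfb : bf J f b = β * bf J b b := by rw [hJ.comm, hbf]
  have hβ1 : 1 - β * β ≠ 0 := by
    rw [hβ, show 1 - (bf J b b - bf J e e) / (bf J b b + bf J e e) * ((bf J b b - bf J e e) / (bf J b b + bf J e e)) =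
      2 * 2 * bf J b b * bf J e e / ((bf J b b + bf J e e) * (bf J b b + bf J e e)) by field_simp; ring]
    exact div_ne_zero (mul_ne_zero (mul_ne_zero (mul_ne_zero hJ.two hJ.two) hb0) he0) (mul_ne_zero hsum hsum)
  have hP : ∀ x, bf J u x = 0 → bf J x x = -bf J u u → bf J a x = 0 → Commute q (sl i (pj J a + pj J x)) := by
    intro x hux hxx hax
    have h2 := hJ.two
    rw [show pj J a + pj J x = (2 : F)⁻¹ • ((1 : Matrix (Fin k) (Fin k) F) + (-1 : F) • (dl J a * dl J x)) by
      rw [dl_mul_orth hJ hax]; match_scalars <;> field_simp <;> ring]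
    rw [sl_smul, sl_add, sl_smul, sl_one]
    exact ((Commute.one_right q).add_right ((hp a x hua ha hux hxx hax).smul_right _)).smul_right _
  have e1 : (pj J a + pj J b) * (pj J a + pj J f) * (pj J a + pj J b) + (-(β * β)) • (pj J a + pj J b) =
      (1 - β * β) • pj J a := by
    have hba : bf J b a = 0 := by rw [hJ.comm, hab]
    have e2 : pj J b * pj J f * pj J b = (β * β) • pj J b := by
      simp only [pj, smul_mul_assoc, mul_smul_comm, rk_mul_rk, smul_smul, hbf, hfb, hb, hff]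
      congr 1
      field_simp
    simp only [add_mul, mul_add, pj_mul ha0, pj_orth hab, pj_orth hba, pj_orth haf, pj_orth hfa, zero_mul, mul_zero,
      add_zero, zero_add, mul_assoc (pj J b) (pj J f) (pj J a)]
    rw [e2]
    module
  have hqa : Commute q (sl i (pj J a)) := by
    have h1 := hP b hub hb hab
    have h2 : Commute q (sl i ((1 - β * β) • pj J a)) := by
      rw [← e1, sl_add, sl_smul, ← sl_mul, ← sl_mul]
      exact ((h1.mul_right (hP f huf hff haf)).mul_right h1).add_right (h1.smul_right _)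
    have h3 := h2.smul_right (1 - β * β)⁻¹
    rwa [← sl_smul, smul_smul, inv_mul_cancel₀ hβ1, one_smul] at h3
  refine hS.fix_cent hev hk hF hi hu hua ha hq hf ?_
  rw [dl, rf_eq, sub_eq_add_neg, ← neg_smul, sl_smul, sl_add, sl_smul, sl_one]
  exact ((Commute.one_right q).add_right (hqa.smul_right _)).smul_right _

variable (hG : ∀ j ∈ Sg, ∀ g, MG G g → (∀ A, Commute g (sl j A)) → Std g)
include hG

/-- an element fixing the axis and commuting with a reflection of another slot lies in the slot -/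
theorem fix_cent_other {m : Fin t} (hm : m ∈ Sg) (hmi : m ≠ i) {e : Fin k → F} (he : Good J e)
    {h : Matrix (Fin t → Fin k) (Fin t → Fin k) F} (hh : MG G h) (hf : Maps J i h u u 1)
    (hc : Commute h (sl m (dl J e))) : ∃ A, h = sl i A := by
  classical
  have hJ := hS.sj
  have hone : adjJ (GV J) (1 : Matrix (Fin t → Fin k) (Fin t → Fin k) F) = 1 := adj_one hS.GV_det'
  let Q : Type _ := {x : Matrix (Fin t → Fin k) (Fin t → Fin k) F //
    MG G x ∧ Maps J i x u u 1 ∧ Maps J m x e e 1}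
  have hQslot : ∀ x : Q, (∃ A, x.1 = sl i A) → x.1 = 1 := fun x ⟨A, hA⟩ => by
    rw [hA]
    refine eq_of_sl m (hJ.rk_ne (u := e) (v := e) (fun e0 => he.1 (by rw [e0]; simp [bf])) (fun e0 => he.1 (by rw [e0]; simp [bf])))
      (fun C => sl_commute (Ne.symm hmi) A C) (fun C => Commute.one_left _) ?_
    rw [mul_one, ← (sl_commute (Ne.symm hmi) A (rk J e e)).eq, ← hA, x.2.2.2 e, mul_one]
  have hinv : ∀ (x : Q) (d : Fin k → F), bf J u d = 0 → bf J d d = -bf J u u →
      sl i (dl J d) * x.1 * sl i (dl J d) = adjJ (GV J) x.1 := by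
    intro x d hud hd
    have hdd : bf J d d ≠ 0 := hd ▸ neg_ne_zero.2 hu
    obtain ⟨D, hD⟩ : ∃ D, D = sl (β := Fin t) i (dl J d) := ⟨_, rfl⟩
    rw [← hD]
    have hDM : MG G D := hD ▸ hS.refl i hi d (hJ.good_aniso hev hdd)
    have hDD : D * D = 1 := by rw [hD, sl_mul, dl_sq hdd, sl_one]
    have hDs : adjJ (GV J) D = D := by rw [hD, adj_sl hJ.det, hJ.dl_adj]
    have hDu : Maps J i D u u 1 := by
      have := maps_sl (J := J) i (dl J d) u
      rwa [dl_perp_even hev (by rw [hJ.comm, hud]), ← hD] at this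
    have hDe : Maps J m D e e D := maps_commute (fun A => hD ▸ sl_commute (Ne.symm hmi) _ A) e
    have hψ : ∀ y : Q, ∃ y' : Q, y'.1 = adjJ (GV J) y.1 * (D * y.1 * D) := fun y => by
      obtain ⟨ha, h1, h2⟩ := hS.adj_inv y.2.1
      refine ⟨⟨_, ha.mul ((hDM.mul y.2.1).mul hDM), ?_, ?_⟩, rfl⟩
      · have := (hDu.mul (y.2.2.1.mul hDu)).mul (hS.fix_left y.2.1 y.2.2.1 u).2
        rwa [one_mul, one_mul, one_mul] at this
      · have := (hDe.mul (y.2.2.2.mul hDe)).mul (hS.maps_adj y.2.1 y.2.2.2 (by rw [hone, one_mul]))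
        rwa [hone, one_mul, mul_one, hDD] at this
    choose ψ hψ' using hψ
    have hψi : Function.Injective ψ := fun y z hyz => by
      obtain ⟨hya, hy1, hy2⟩ := hS.adj_inv y.2.1
      obtain ⟨hza, hz1, hz2⟩ := hS.adj_inv z.2.1
      have h3 := congrArg Subtype.val hyz
      rw [hψ', hψ'] at h3
      obtain ⟨r, hr⟩ : ∃ r, r = z.1 * adjJ (GV J) y.1 := ⟨_, rfl⟩
      have hrM : MG G r := hr ▸ z.2.1.mul hya
      have hru : Maps J i r u u 1 := by
        have := (hS.fix_left y.2.1 y.2.2.1 u).2.mul z.2.2.1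
        rwa [mul_one, ← hr] at this
      have hre : Maps J m r e e 1 := by
        have := (hS.maps_adj y.2.1 y.2.2.2 (by rw [hone, one_mul])).mul z.2.2.2
        rwa [hone, mul_one, ← hr] at this
      have hrD : Commute r D := by
        have h4 := congrArg (fun X => z.1 * X * (D * adjJ (GV J) y.1)) h3
        have hDD' : ∀ X, D * (D * X) = X := fun X => by rw [← mul_assoc, hDD, one_mul]
        simp only [← mul_assoc, hz2, one_mul] at h4
        simp only [mul_assoc, hDD', hy2, mul_one] at h4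
        show r * D = D * r
        rw [hr]
        simp only [mul_assoc]
        exact h4
      obtain ⟨A, hA⟩ := hS.fix_cent hev hk hF hi hu hud hd hrM hru (hD ▸ hrD)
      have h5 := hQslot ⟨r, hrM, hru, hre⟩ ⟨A, hA⟩
      refine Subtype.ext ?_
      have h6 := congrArg (· * y.1) (hr.symm.trans h5)
      simp only [mul_assoc, hy1, mul_one, one_mul] at h6
      exact h6.symm
    obtain ⟨y, hy⟩ := Finite.surjective_of_injective hψi x
    rw [← hy, hψ', hS.adj_mul', hS.adj_mul', hS.adj_mul', hS.adj_adj', hDs]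
    simp only [mul_assoc]
    rw [hDD, mul_one]
  have hQ1 : ∀ x : Q, x.1 = 1 := fun x => by
    refine hQslot x (hS.fix_pairs hev hk hF hi hu x.2.1 x.2.2.1 fun a b hua ha hub hb _ => ?_)
    have e1 := (hinv x a hua ha).trans (hinv x b hub hb).symm
    have h2 := congrArg (fun X => sl i (dl J a) * X * sl i (dl J b)) e1
    have hca : bf J a a ≠ 0 := ha ▸ neg_ne_zero.2 hu
    have hcb : bf J b b ≠ 0 := hb ▸ neg_ne_zero.2 hu
    simp only [← mul_assoc, sl_mul, dl_sq hca, sl_one, one_mul] at h2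
    simp only [mul_assoc, sl_mul, dl_sq hcb, sl_one, mul_one] at h2
    show x.1 * sl i (dl J a * dl J b) = sl i (dl J a * dl J b) * x.1
    exact h2
  obtain ⟨a, hao, ha, haa⟩ := hS.commute_line he.1 hh hc
  have hHs : Std h := by
    have hax := hS.axis hev hk hF hm he.1 hh hc fun v hv hev' => by
      obtain ⟨σ, hσ⟩ : ∃ σ, σ = sl (β := Fin t) m (dl J v) := ⟨_, rfl⟩
      rw [← hσ]
      have hσM : MG G σ := hσ ▸ hS.refl m hm v hv
      have hσu : Maps J i σ u u σ := maps_commute (fun A => hσ ▸ sl_commute hmi _ A) u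
      have hσσ : σ * σ = 1 := by rw [hσ, sl_mul, dl_sq hv.1, sl_one]
      have hσe : Maps J m σ e e 1 := by
        have := maps_sl (J := J) m (dl J v) e
        rwa [dl_perp_even hev (by rw [hJ.comm, hev']), ← hσ] at this
      have n1 := (hσu.mul ((hS.fix_left hh hf u).2.mul (hσu.mul hf)))
      rw [mul_one, one_mul, hσσ] at n1
      have n2 := (hσe.mul ((hS.maps_adj hh ha haa).mul (hσe.mul ha)))
      rw [mul_one, mul_one, mul_eq_one_comm.1 haa] at n2
      have h3 := hQ1 ⟨_, (hS.conj_mem hh hσM).mul hσM, n1, n2⟩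
      refine hS.commute_of_conj hh ?_
      have h4 := congrArg (· * σ) h3
      simp only [mul_assoc, hσσ, mul_one, one_mul] at h4
      rw [mul_assoc]
      exact h4
    rcases hax with h1 | h1
    · exact hG m hm h hh h1
    · have h2 := (hG m hm _ (hh.mul (hS.refl m hm e he)) h1).mul (Std.sl m (dl_sq he.1))
      rwa [mul_assoc, sl_mul, dl_sq he.1, sl_one, mul_one] at h2
  exact hS.std_fix (fun e0 => hu (by rw [e0]; simp [bf])) hHs hf

/-- the elements fixing the axis lie in the slot -/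
theorem fix_axis {h : Matrix (Fin t → Fin k) (Fin t → Fin k) F} (hh : MG G h) (hf : Maps J i h u u 1) :
    ∃ A, h = sl i A := by
  classical
  have hJ := hS.sj
  haveI : Nonempty (Fin k) := ⟨⟨0, by omega⟩⟩
  refine hS.slot_of_refl hev hk hh fun j hj hji e he => hS.commute_of_conj hh ?_
  obtain ⟨c, hc⟩ : ∃ c, c = sl (β := Fin t) j (dl J e) := ⟨_, rfl⟩
  rw [← hc]
  have hcM : MG G c := hc ▸ hS.refl j hj e he
  have hcc : c * c = 1 := by rw [hc, sl_mul, dl_sq he.1, sl_one]
  have hci : ∀ A, Commute c (sl i A) := fun A => hc ▸ sl_commute hji _ A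
  have hcs : adjJ (GV J) c = c := by rw [hc, adj_sl hJ.det, hJ.dl_adj]
  have hcn : ∀ n : ℕ, c ^ n = 1 ∨ c ^ n = c := fun n => by
    induction n with
    | zero => exact Or.inl (pow_zero c)
    | succ n ih => rcases ih with h | h <;> rw [pow_succ, h] <;> simp [hcc]
  obtain ⟨hha, hh1, hh2⟩ := hS.adj_inv hh
  obtain ⟨y, hy⟩ : ∃ y, y = h * c * adjJ (GV J) h := ⟨_, rfl⟩
  rw [← hy]
  have hyM : MG G y := hy ▸ hS.conj_mem hh hcM
  have hys : adjJ (GV J) y = y := by rw [hy, hS.adj_mul', hS.adj_mul', hS.adj_adj', hcs, mul_assoc]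
  have hyy : y * y = 1 := by rw [hy, hS.conj_mul hh, hcc, mul_one, hh2]
  have hyu : Maps J i y u u c := by
    have := (hS.fix_left hh hf u).2.mul ((maps_commute hci u).mul hf)
    rwa [mul_one, one_mul, ← hy] at this
  have hkey : ∀ d, bf J u d = 0 → bf J d d = -bf J u u → Commute y (sl i (dl J d) * c) := by
    intro d hud hd
    have hdd : bf J d d ≠ 0 := hd ▸ neg_ne_zero.2 hu
    obtain ⟨D, hD⟩ : ∃ D, D = sl (β := Fin t) i (dl J d) := ⟨_, rfl⟩
    rw [← hD]
    have hDM : MG G D := hD ▸ hS.refl i hi d (hJ.good_aniso hev hdd)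
    have hDD : D * D = 1 := by rw [hD, sl_mul, dl_sq hdd, sl_one]
    have hDs : adjJ (GV J) D = D := by rw [hD, adj_sl hJ.det, hJ.dl_adj]
    have hDc : Commute D c := hD ▸ (hci _).symm
    have hDu : Maps J i D u u 1 := by
      have := maps_sl (J := J) i (dl J d) u
      rwa [dl_perp_even hev (by rw [hJ.comm, hud]), ← hD] at this
    obtain ⟨v, hv⟩ : ∃ v, v = D * y := ⟨_, rfl⟩
    have hvM : MG G v := hv ▸ hDM.mul hyM
    have hvn : ∀ n : ℕ, Maps J i (v ^ n) u u (c ^ n) := fun n => by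
      induction n with
      | zero => rw [pow_zero, pow_zero]; exact Maps.one i u
      | succ n ih =>
        have := (hyu.mul hDu).mul ih
        rwa [one_mul, ← hv, ← pow_succ, ← pow_succ] at this
    have hrev : ∀ n : ℕ, D * adjJ (GV J) (v ^ n) = v ^ n * D := fun n => by
      induction n with
      | zero => rw [pow_zero, adj_one hS.GV_det', one_mul, mul_one]
      | succ n ih =>
        conv_lhs => rw [pow_succ, hS.adj_mul']
        rw [pow_succ' v, hv, hS.adj_mul', hys, hDs, ← hv, mul_assoc y D, ih]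
        rw [← mul_assoc, ← hv, mul_assoc]
    let P : ℕ → Prop := fun n => 0 < n ∧ ∃ B, v ^ n * c ^ n = sl i B
    have hP : ∃ n, P n := by
      obtain ⟨g, hgG, hg⟩ := hvM
      refine ⟨2 * orderOf g, Nat.mul_pos two_pos (orderOf_pos g), 1, ?_⟩
      rw [sl_one, pow_mul c, pow_two, hcc, one_pow, mul_one, ← hg, ← Units.val_pow_eq_pow_val,
        show g ^ (2 * orderOf g) = 1 by rw [mul_comm, pow_mul, pow_orderOf_eq_one, one_pow], Units.val_one]
    obtain ⟨hmpos, B, hB⟩ := Nat.find_spec hP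
    have hmin : ∀ n < Nat.find hP, ¬ P n := fun n hn => Nat.find_min hP hn
    generalize Nat.find hP = m at hmpos hB hmin
    rcases Nat.even_or_odd' m with ⟨r, rfl | rfl⟩
    · exfalso
      have hc2 : c ^ (2 * r) = 1 := by rw [pow_mul, pow_two, hcc, one_pow]
      rw [hc2, mul_one] at hB
      obtain ⟨q, hq⟩ : ∃ q, q = v ^ r := ⟨_, rfl⟩
      have hqM : MG G q := hq ▸ hvM.pow r
      obtain ⟨hqa, hq1, hq2⟩ := hS.adj_inv hqM
      have hqq : q * sl i (dl J d) * adjJ (GV J) q = sl i (B * dl J d) := by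
        rw [← hD, mul_assoc, hq, hrev, ← mul_assoc, ← pow_add, ← two_mul, hB, hD, sl_mul]
      obtain ⟨l, w, hw, hlw⟩ := hS.classify_slot hdd hqM hqq
      obtain rfl : l = i := slot_eq (hlw.symm.trans hqq) (dl_ne_scalar hJ hw)
      have hcr : adjJ (GV J) (c ^ r) = c ^ r := by
        rcases hcn r with h | h <;> rw [h]
        · exact adj_one hS.GV_det'
        · exact hcs
      have hcrr : c ^ r * c ^ r = 1 := by rw [← pow_add, ← two_mul, hc2]
      have hqu : Maps J l q u u (c ^ r) := hq ▸ hvn r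
      have hqu' := hS.maps_adj hqM hqu (by rw [hcr, hcrr])
      rw [hcr] at hqu'
      have hgd : adjJ (GV J) q * sl l (dl J w) * adjJ (GV J) (adjJ (GV J) q) = sl l (dl J d) := by
        rw [← hlw, hS.adj_adj', ← mul_assoc, ← mul_assoc, hq1, one_mul, mul_assoc, hq1, mul_one]
      have hfus := hS.fusion hev hk hF hi hu hj hji he hud hd hqa hqu' (by rw [hcr, hcrr])
        (hc ▸ (Commute.refl c).pow_left r) hgd
      rw [← hc] at hfus
      have hqc : Commute q c := by
        have h1 := hS.commute_of_conj hqa hfus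
        have h2 := congrArg (fun X => q * X * q) h1.eq
        simp only [← mul_assoc, hq2, one_mul] at h2
        rw [mul_assoc (q * c), hq1, mul_one] at h2
        exact h2.symm
      have hqcu : Maps J l (q * c ^ r) u u 1 := by
        have := (maps_commute (fun A => (hci A).pow_left r) u).mul hqu
        rwa [hcrr] at this
      obtain ⟨A, hA⟩ := hS.fix_cent_other hev hk hF hi hu hG hj hji he (hqM.mul (hcM.pow r)) hqcu
        (hc ▸ hqc.mul_left ((Commute.refl c).pow_left r))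
      exact hmin r (by omega) ⟨by omega, A, hq ▸ hA⟩
    · have hc1 : c ^ (2 * r + 1) = c := by rw [pow_succ, pow_mul, pow_two, hcc, one_pow, one_mul]
      rw [hc1] at hB
      have hvm : v ^ (2 * r + 1) = sl i B * c := by rw [← hB, mul_assoc, hcc, mul_one]
      obtain ⟨q, hq⟩ : ∃ q, q = v ^ r := ⟨_, rfl⟩
      obtain ⟨hqa, hq1, hq2⟩ := hS.adj_inv (hq ▸ hvM.pow r : MG G q)
      have hrev' : D * q = adjJ (GV J) q * D := by
        have h1 := congrArg (fun X => D * X * D) (hrev r)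
        simp only [← mul_assoc, hDD, one_mul] at h1
        rw [mul_assoc (D * v ^ r), hDD, mul_one, ← hq] at h1
        exact h1.symm
      have hconj : adjJ (GV J) q * h * sl j (dl J e) * adjJ (GV J) (adjJ (GV J) q * h) =
          sl i (dl J d * B) * sl j (dl J e) := by
        rw [← hc, hS.adj_mul', hS.adj_adj', ← sl_mul, ← hD, mul_assoc D, ← hvm, show 2 * r + 1 = r + 1 + r by omega,
          pow_add, pow_succ, ← hq]
        rw [← mul_assoc D, ← mul_assoc D, hrev', hv, show adjJ (GV J) q * D * (D * y) = adjJ (GV J) q * (D * D) * y by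
          simp only [mul_assoc], hDD, mul_one, hy]
        simp only [mul_assoc]
      have h5 := hS.slot_times_refl hk (Ne.symm hji) he.1 he.1 (hqa.mul hh) (hS.refl j hj e he) (hS.refl j hj e he)
        hconj
      rw [hconj, ← sl_mul, ← hD, ← hc, mul_assoc, ← hvm] at h5
      have h6 : v ^ (2 * r + 1) = D * c := by
        have := congrArg (D * ·) h5
        simpa only [← mul_assoc, hDD, one_mul] using this
      have h7 := (Commute.pow_self v (2 * r + 1)).eq
      rw [h6, hv] at h7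
      show y * (D * c) = D * c * y
      have h8 := congrArg (D * ·) h7
      simp only [← mul_assoc, hDD, one_mul] at h8
      rw [mul_assoc y D c, ← hDc.eq] at h8
      exact h8.symm
  obtain ⟨z, hz⟩ : ∃ z, z = y * c := ⟨_, rfl⟩
  have hzu : Maps J i z u u 1 := by
    have := (maps_commute hci u).mul hyu
    rwa [hcc, ← hz] at this
  obtain ⟨A, hA⟩ := hS.fix_pairs hev hk hF hi hu (hz ▸ hyM.mul hcM) hzu fun a b hua ha hub hb _ => by
    rw [hz]
    refine Commute.mul_left ?_ (hci _)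
    have := (hkey a hua ha).mul_right (hkey b hub hb)
    rwa [show sl i (dl J a) * c * (sl i (dl J b) * c) = sl i (dl J a * dl J b) by
      rw [mul_assoc, ← mul_assoc c, (hci _).eq, mul_assoc, hcc, mul_one, sl_mul]] at this
  have h3 : y = sl i A * c := by rw [← hA, hz, mul_assoc, hcc, mul_one]
  rw [hy, hc] at h3 ⊢
  exact hS.slot_times_refl hk (Ne.symm hji) he.1 he.1 hh (hS.refl j hj e he) (hS.refl j hj e he) h3

omit hu in
/-- the centraliser of a signed reflection permutes the slots -/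
theorem cent_refl {u : Fin k → F} (hu : Good J u) {g : Matrix (Fin t → Fin k) (Fin t → Fin k) F} (hg : MG G g)
    (hc : Commute g (sl i (dl J u))) : Std g := by
  have hJ := hS.sj
  obtain ⟨hga, hg1, hg2⟩ := hS.adj_inv hg
  obtain ⟨a, -, ha, haa⟩ := hS.commute_line hu.1 hg hc
  refine std_of_but hJ hg2 i fun j hji => ?_
  by_cases hj : j ∈ Sg
  swap
  · exact ⟨j, fun A => ⟨A, (hS.out' hg hj A).eq⟩⟩
  have hgood : ∀ c p e, Good J c → bf J p p = 0 → bf J p e = 0 → Good J (eS J p e *ᵥ c) := fun c p e hc hp he =>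
    hJ.good_aniso hev (by rw [bf_iso hJ (eS_iso hJ hp he).1]; exact hc.1)
  refine hS.slot_image hg (fun c => Good J c) (fun c h => h.1) hgood ⟨u, hu⟩ fun c hcg => ?_
  obtain ⟨y, hy⟩ : ∃ y, y = g * sl j (dl J c) * adjJ (GV J) g := ⟨_, rfl⟩
  have hyM : MG G y := hy ▸ hS.conj_mem hg (hS.refl j hj c hcg)
  have hgx : g * sl i (dl J u) * adjJ (GV J) g = sl i (dl J u) := by rw [hc.eq, mul_assoc, hg2, mul_one]
  have hyx : Commute y (sl i (dl J u)) := by
    rw [hy, ← hgx]
    exact hS.commute_conj hg (sl_commute hji _ _)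
  have hyv : ∀ v, Good J v → bf J u v = 0 → Commute y (sl i (dl J v)) := fun v hv huv => by
    have hvu : Maps J i (sl i (dl J v)) u u 1 := by
      have := maps_sl (J := J) i (dl J v) u
      rwa [dl_perp_even hev (by rw [hJ.comm, huv])] at this
    have h1 : Maps J i (adjJ (GV J) g * sl i (dl J v) * g) u u 1 := by
      have := ha.mul (hvu.mul (hS.maps_adj hg ha haa))
      rwa [mul_one, haa] at this
    obtain ⟨A, hA⟩ := hS.fix_axis hev hk hF hi hu.1 hG ((hga.mul (hS.refl i hi v hv)).mul hg) h1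
    have h2 : g * sl i A * adjJ (GV J) g = sl i (dl J v) := by
      rw [← hA, ← mul_assoc, ← mul_assoc, hg2, one_mul, mul_assoc, hg2, mul_one]
    rw [hy, ← h2]
    exact hS.commute_conj hg (sl_commute hji _ _)
  have hys : Std y := by
    rcases hS.axis hev hk hF hi hu.1 hyM hyx hyv with h1 | h1
    · exact hG i hi y hyM h1
    · have h2 := (hG i hi _ (hyM.mul (hS.refl i hi u hu)) h1).mul (Std.sl i (dl_sq hu.1))
      rwa [mul_assoc, sl_mul, dl_sq hu.1, sl_one, mul_one] at h2
  rcases classify hS hcg.1 hg hy hys with ⟨l, w, hw, e⟩ | ⟨hk3, -⟩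
  · exact ⟨l, w, hw, hy ▸ e⟩
  · omega

omit hi hu in
theorem centStd : CentStd J Sg G := fun _ hi _ hu _ hg hc => hS.cent_refl hev hk hF hi hG hu hg hc

end Setting

end Cfsg.Agent.ClassicalMax.OOWreath
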