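import Cfsg.Agent.ClassicalMax.OOWreath.Ranks

/-!
The conjugates of a signed reflection of one slot that permute the slot algebras.
-/

set_option autoImplicit false
set_option linter.unusedSectionVars false
set_option linter.unusedSimpArgs false

namespace Cfsg.Agent.ClassicalMax.OOWreath

open Matrix Cfsg.Agent.ClassicalMax.TPow
open Cfsg.Agent.ClassicalMax.SpWreath (GV GV_det)

variable {F : Type*} [Field F] {k t : ℕ} {J : Matrix (Fin k) (Fin k) F}

/-- a matrix with given values on independent vectors -/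
theorem exists_values {n : ℕ} {f : Fin n → Fin k → F} (hf : LinearIndependent F f) (y : Fin n → Fin k → F) :
    ∃ A : Matrix (Fin k) (Fin k) F, ∀ a, A *ᵥ f a = y a := by
  classical
  let Φ : (Fin n → F) →ₗ[F] (Fin k → F) := (Matrix.of fun i a => f a i).mulVecLin
  have hΦ : LinearMap.ker Φ = ⊥ := by
    refine LinearMap.ker_eq_bot'.2 fun v hv => funext fun a => ?_
    refine Fintype.linearIndependent_iff.1 hf v (funext fun i => (Eq.trans ?_ (congrFun hv i))) a
    simp [Φ, Matrix.mulVec, dotProduct, Finset.sum_apply, mul_comm]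
  obtain ⟨g, hg⟩ := Φ.exists_leftInverse_of_injective hΦ
  refine ⟨LinearMap.toMatrix' ((Matrix.of fun i a => y a i).mulVecLin.comp g), fun a => ?_⟩
  rw [LinearMap.toMatrix'_mulVec, LinearMap.comp_apply]
  have h1 : Φ (Pi.single a 1) = f a := by
    simp only [Φ, mulVecLin_apply, Matrix.mulVec_single_one]; rfl
  rw [← h1, show g (Φ (Pi.single a 1)) = Pi.single a 1 from LinearMap.congr_fun hg _]
  simp only [mulVecLin_apply, Matrix.mulVec_single_one]
  rfl

/-- the projection to the line of a vector -/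
noncomputable def pj (J : Matrix (Fin k) (Fin k) F) (a : Fin k → F) : Matrix (Fin k) (Fin k) F :=
  (bf J a a)⁻¹ • rk J a a

theorem pj_mul {a : Fin k → F} (ha : bf J a a ≠ 0) : pj J a * pj J a = pj J a := by
  rw [pj, smul_mul_assoc, mul_smul_comm, rk_mul_rk, smul_smul, smul_smul]
  congr 1
  field_simp

theorem pj_orth {a b : Fin k → F} (h : bf J a b = 0) : pj J a * pj J b = 0 := by
  rw [pj, pj, smul_mul_assoc, mul_smul_comm, rk_mul_rk, h, zero_smul, smul_zero, smul_zero]

theorem rf_eq (a : Fin k → F) : rf J a = 1 - (2 : F) • pj J a := by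
  rw [rf, pj, smul_smul, div_eq_mul_inv]

theorem rf_pj {a : Fin k → F} (ha : bf J a a ≠ 0) : rf J a * pj J a = -pj J a ∧ pj J a * rf J a = -pj J a := by
  constructor <;>
    simp only [rf_eq, sub_mul, mul_sub, one_mul, mul_one, smul_mul_assoc, mul_smul_comm, pj_mul ha] <;>
    rw [two_smul] <;> abel

theorem rf_pj_orth {a b : Fin k → F} (hab : bf J a b = 0) (hba : bf J b a = 0) :
    rf J a * pj J b = pj J b ∧ pj J b * rf J a = pj J b := by
  constructor
  · rw [rf_eq, sub_mul, one_mul, smul_mul_assoc, pj_orth hab, smul_zero, sub_zero]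
  · rw [rf_eq, mul_sub, mul_one, mul_smul_comm, pj_orth hba, smul_zero, sub_zero]

theorem pj_ne (hJ : SJ J) {a : Fin k → F} (ha : bf J a a ≠ 0) : pj J a ≠ 0 := by
  have ha0 : a ≠ 0 := fun e => ha (by rw [e, bf, zero_dotProduct])
  exact smul_ne_zero (inv_ne_zero ha) (hJ.rk_ne ha0 ha0)

/-- the two signs of a reflection in one slot cannot both be killed -/
theorem transfer (hJ : SJ J) {l : Fin t} {a b : Fin k → F} (ha : bf J a a ≠ 0) (hb : bf J b b ≠ 0) (hab : bf J a b = 0)
    {V V' Q M : Matrix (Fin t → Fin k) (Fin t → Fin k) F} (s : F) (hV : ∀ A, Commute V (sl l A))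
    (hQ : ∀ A, Commute Q (sl l A)) (hVQ : Commute V Q) (hVV : V' * V = 1) (hM : M = sl l (rf J a) * V) :
    (sl l (pj J b) * Q).rank ≤ (sl l (pj J a) * Q * (M - s • 1)).rank + (sl l (pj J b) * Q * (M - s • 1)).rank := by
  have hba : bf J b a = 0 := by rw [hJ.comm, hab]
  have e1 : ∀ {P : Matrix (Fin k) (Fin k) F} {c : F}, P * rf J a = c • P →
      sl l P * Q * (M - s • 1) = c • (sl l P * (Q * V)) - s • (sl l P * Q) := fun {P c} h => by
    rw [mul_sub, mul_smul_comm, mul_one, hM, mul_assoc (sl l P), ← mul_assoc Q, (hQ _).eq, mul_assoc (sl l (rf J a)),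
      ← mul_assoc (sl l P), sl_mul, h, sl_smul, smul_mul_assoc]
  have ea := e1 (P := pj J a) (c := -1) (by rw [(rf_pj ha).2, neg_one_smul])
  have eb := e1 (P := pj J b) (c := 1) (by rw [(rf_pj_orth hab hba).2, one_smul])
  obtain ⟨X, X', hXX⟩ : ∃ X X', X * pj J a * X' = pj J b := by
    refine ⟨rk J b a, (bf J a a * bf J b b)⁻¹ • rk J a b, ?_⟩
    simp only [pj, smul_mul_assoc, mul_smul_comm, rk_mul_rk, smul_smul]
    congr 1
    field_simp
  have htr : ∀ {R : Matrix (Fin t → Fin k) (Fin t → Fin k) F}, (∀ A, Commute R (sl l A)) →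
      sl l X * (sl l (pj J a) * R) * sl l X' = sl l (pj J b) * R := fun {R} hR => by
    rw [← mul_assoc (sl l X), sl_mul, mul_assoc, (hR X').eq, ← mul_assoc, sl_mul, hXX]
  have key : (sl l (pj J b) * Q) = (2 : F)⁻¹ •
      ((sl l (pj J b) * Q * (M - s • 1) - sl l X * (sl l (pj J a) * Q * (M - s • 1)) * sl l X') * V') := by
    have hQV : ∀ A, Commute (Q * V) (sl l A) := fun A => (hQ A).mul_left (hV A)
    rw [ea, eb]
    simp only [mul_sub, sub_mul, mul_smul_comm, smul_mul_assoc, htr hQ, htr hQV]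
    rw [one_smul]
    have e2 : sl l (pj J b) * (Q * V) * V' = sl l (pj J b) * Q := by
      rw [mul_assoc, mul_assoc Q, mul_eq_one_comm.1 hVV, mul_one]
    rw [e2]
    have h2 := hJ.two
    match_scalars <;> field_simp <;> ring
  conv_lhs => rw [key]
  refine (rank_smul_le _ _).trans ((rank_mul_le_left _ _).trans ((rank_sub_le' _ _).trans ?_))
  rw [add_comm]
  exact Nat.add_le_add_right ((rank_mul_le_left _ _).trans (rank_mul_le_right _ _)) _

/-- a slot matrix with small commutators is a reflection up to a factor -/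
theorem refl_of_comm (hJ : SJ J) {B : Matrix (Fin k) (Fin k) F} (hBu : IsUnit B.det) {μ ε : F}
    (hsq : B * B = μ • 1) (hadj : adjJ J B = ε • B) (hε : ε * ε = 1)
    (hrk : ∀ A : Matrix (Fin k) (Fin k) F, ∀ w : Fin 3 → Fin k → F,
      ¬ LinearIndependent F fun a => (B * A - A * B) *ᵥ w a)
    (hns : ∀ c : F, B ≠ c • 1) : ∃ (a : Fin k → F) (c : F), bf J a a ≠ 0 ∧ c ≠ 0 ∧ B = c • rf J a := by
  have hk := hJ.kk
  have h2 := hJ.two
  haveI : Nonempty (Fin k) := ⟨⟨0, by omega⟩⟩
  have hBB : ∀ v, B *ᵥ (B *ᵥ v) = μ • v := fun v => by rw [mulVec_mulVec, hsq, smul_mulVec, one_mulVec]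
  have hsmall : ∀ {n : ℕ} (f : Fin n → Fin k → F), n < k → ∃ v, ∀ c : Fin n → F, v ≠ ∑ i, c i • f i := fun {n} f hn => by
    by_contra! h
    have hle : (⊤ : Submodule F (Fin k → F)) ≤ Submodule.span F (Set.range f) := fun v _ => by
      obtain ⟨c, rfl⟩ := h v
      exact Submodule.sum_mem _ fun i _ => Submodule.smul_mem _ _ (Submodule.subset_span ⟨i, rfl⟩)
    have h1 := Submodule.finrank_mono hle
    rw [finrank_top, Module.finrank_fintype_fun_eq_card, Fintype.card_fin] at h1
    have h3 := finrank_range_le_card (R := F) f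
    rw [Fintype.card_fin] at h3
    simp only [Set.finrank] at h3
    omega
  by_cases hμ : IsSquare μ
  swap
  · refine absurd ?_ hμ
    obtain ⟨a1, ha1⟩ := hsmall (![] : Fin 0 → Fin k → F) (by omega)
    have ha10 : a1 ≠ 0 := fun e => ha1 ![] (by simp [e])
    obtain ⟨a2, ha2⟩ := hsmall ![a1, B *ᵥ a1] (by omega)
    by_contra hμ'
    have hno : ∀ (z w : F) (v : Fin k → F), v ≠ 0 → z • v + w • (B *ᵥ v) = 0 → z = 0 ∧ w = 0 := by
      intro z w v hv h
      have h' := congrArg (B *ᵥ ·) h
      simp only [mulVec_add, mulVec_smul, hBB, mulVec_zero] at h'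
      have h3 : (z * z - μ * (w * w)) • v = 0 := by
        have : z • (z • v + w • (B *ᵥ v)) - w • (z • (B *ᵥ v) + w • μ • v) = 0 := by rw [h, h']; simp
        refine Eq.trans ?_ this
        module
      rcases eq_or_ne w 0 with hw | hw
      · subst hw
        rw [zero_smul, add_zero] at h
        exact ⟨(smul_eq_zero.1 h).resolve_right hv, rfl⟩
      · refine absurd ⟨z / w, ?_⟩ hμ'
        have := (smul_eq_zero.1 h3).resolve_right hv
        field_simp
        linear_combination -this
    have hli : LinearIndependent F ![a1, B *ᵥ a1, a2, B *ᵥ a2] := by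
      refine Fintype.linearIndependent_iff.2 fun g hg => ?_
      simp [Fin.sum_univ_four] at hg
      have hzw : g 2 = 0 ∧ g 3 = 0 := by
        by_contra hne
        have h' := congrArg (B *ᵥ ·) hg
        simp only [mulVec_add, mulVec_smul, hBB, mulVec_zero] at h'
        have hd : g 2 * g 2 - μ * (g 3 * g 3) ≠ 0 := fun h0 => by
          rcases eq_or_ne (g 3) 0 with h3 | h3
          · rw [h3] at h0
            exact hne ⟨by simpa using h0, h3⟩
          · exact hμ' ⟨g 2 / g 3, by field_simp; linear_combination -h0⟩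
        refine ha2 ![-(g 2 * g 0 - g 3 * μ * g 1) / (g 2 * g 2 - μ * (g 3 * g 3)),
          -(g 2 * g 1 - g 3 * g 0) / (g 2 * g 2 - μ * (g 3 * g 3))] (smul_right_injective _ hd ?_)
        simp [Fin.sum_univ_two, smul_add, smul_smul, mul_div_cancel₀ _ hd]
        linear_combination (norm := module) (g 2) • hg - (g 3) • h'
      have h01 : g 0 = 0 ∧ g 1 = 0 := hno _ _ a1 ha10 (by simpa [hzw.1, hzw.2] using hg)
      intro i; fin_cases i
      exacts [h01.1, h01.2, hzw.1, hzw.2]
    obtain ⟨A, hA⟩ := exists_values hli ![a1, 0, a2, 0]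
    have e0 : A *ᵥ a1 = a1 := by simpa using hA 0
    have e1 : A *ᵥ (B *ᵥ a1) = 0 := by simpa using hA 1
    have e2 : A *ᵥ a2 = a2 := by simpa using hA 2
    have e3 : A *ᵥ (B *ᵥ a2) = 0 := by simpa using hA 3
    have hμ0 : μ ≠ 0 := fun e => hμ' ⟨0, by rw [e, mul_zero]⟩
    refine hrk A ![a1, B *ᵥ a1, a2] (Fintype.linearIndependent_iff.2 fun g hg => ?_)
    simp [Fin.sum_univ_three, sub_mulVec, ← mulVec_mulVec, e0, e1, e2, e3, hBB, mulVec_smul] at hg
    have h4 := Fintype.linearIndependent_iff.1 hli ![-(g 1 * μ), g 0, 0, g 2] (by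
      simp [Fin.sum_univ_four]
      linear_combination (norm := module) hg)
    intro i; fin_cases i
    · simpa using h4 1
    · simpa [hμ0] using h4 0
    · simpa using h4 3
  obtain ⟨η, rfl⟩ := hμ
  have hη0 : η ≠ 0 := fun e => by
    have h0 := congrArg Matrix.det hsq
    rw [det_mul, e, mul_zero, zero_smul, det_zero] at h0
    exact hBu.ne_zero (by simpa using h0)
  let P : F → Matrix (Fin k) (Fin k) F := fun s => (2 : F)⁻¹ • (1 + s • B)
  have hPB : ∀ s, s = η⁻¹ ∨ s = -η⁻¹ → ∀ v, B *ᵥ (P s *ᵥ v) = s⁻¹ • (P s *ᵥ v) := fun s hs v => by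
    simp only [P, smul_mulVec, add_mulVec, one_mulVec, mulVec_smul, mulVec_add, hBB, smul_add, smul_smul]
    rcases hs with rfl | rfl <;> match_scalars <;> field_simp
  have hdec : ∀ v, v = P η⁻¹ *ᵥ v + P (-η⁻¹) *ᵥ v := fun v => by
    simp only [P, smul_mulVec, add_mulVec, one_mulVec, neg_smul, smul_add, smul_neg, smul_smul]
    match_scalars <;> field_simp <;> ring
  -- one eigenspace is a line
  obtain ⟨s, hs, a, ha0, hBa, hline⟩ : ∃ s, s * s = η * η ∧ ∃ a : Fin k → F, a ≠ 0 ∧ B *ᵥ a = s • a ∧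
      ∀ v, B *ᵥ v = s • v → ∃ c : F, v = c • a := by
    have hex : ∀ s, s * s = η * η → ∃ a : Fin k → F, a ≠ 0 ∧ B *ᵥ a = s • a := fun s hs => by
      have hs0 : s ≠ 0 := fun e => hη0 (mul_self_eq_zero.1 (by rw [← hs, e, mul_zero]))
      by_contra! h
      refine hns (-s) (Matrix.ext_iff.1 ?_)
      refine fun i j => congrFun (congrFun (Matrix.toLin'.injective (LinearMap.ext fun v => ?_)) i) j
      rw [Matrix.toLin'_apply, Matrix.toLin'_apply, smul_mulVec, one_mulVec]
      by_contra hne
      refine h (v + s⁻¹ • (B *ᵥ v)) (fun e => hne ?_) ?_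
      · have := congrArg (s • ·) e
        simp only [smul_add, smul_smul, mul_inv_cancel₀ hs0, one_smul, smul_zero] at this
        rw [neg_smul]
        exact eq_neg_of_add_eq_zero_right this
      · rw [mulVec_add, mulVec_smul, hBB, smul_smul, smul_add, smul_smul, mul_inv_cancel₀ hs0, one_smul,
          ← hs, ← mul_assoc, inv_mul_cancel₀ hs0, one_mul]
        abel
    by_contra! hcon
    obtain ⟨a1, ha1, hBa1⟩ := hex η rfl
    obtain ⟨a2, hBa2, ha2⟩ := hcon η rfl a1 ha1 hBa1
    obtain ⟨b1, hb1, hBb1⟩ := hex (-η) (by ring)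
    obtain ⟨b2, hBb2, hb2⟩ := hcon (-η) (by ring) b1 hb1 hBb1
    have hli : LinearIndependent F ![a1, a2, b1, b2] := by
      refine Fintype.linearIndependent_iff.2 fun g hg => ?_
      simp [Fin.sum_univ_four] at hg
      have h' := congrArg (B *ᵥ ·) hg
      simp only [mulVec_add, mulVec_smul, hBa1, hBa2, hBb1, hBb2, mulVec_zero, smul_smul] at h'
      have hA : g 0 • a1 + g 1 • a2 = 0 := by
        refine (smul_eq_zero.1 (?_ : ((2 : F) * η) • (g 0 • a1 + g 1 • a2) = 0)).resolve_left (mul_ne_zero h2 hη0)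
        linear_combination (norm := module) η • hg + h'
      have hB : g 2 • b1 + g 3 • b2 = 0 := by linear_combination (norm := module) hg - hA
      have g1 : g 1 = 0 := by
        by_contra h1
        refine ha2 (-(g 0) / g 1) (smul_right_injective _ h1 ?_)
        simp only [smul_smul, mul_div_cancel₀ _ h1]
        linear_combination (norm := module) hA
      have g3 : g 3 = 0 := by
        by_contra h1
        refine hb2 (-(g 2) / g 3) (smul_right_injective _ h1 ?_)
        simp only [smul_smul, mul_div_cancel₀ _ h1]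
        linear_combination (norm := module) hB
      have g0 : g 0 = 0 := by simpa [g1, ha1] using hA
      have g2 : g 2 = 0 := by simpa [g3, hb1] using hB
      intro i; fin_cases i
      exacts [g0, g1, g2, g3]
    obtain ⟨A, hA⟩ := exists_values hli ![b1, b2, a1, 0]
    have e0 : A *ᵥ a1 = b1 := by simpa using hA 0
    have e1 : A *ᵥ a2 = b2 := by simpa using hA 1
    have e2 : A *ᵥ b1 = a1 := by simpa using hA 2
    refine hrk A ![a1, a2, b1] (Fintype.linearIndependent_iff.2 fun g hg => ?_)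
    simp [Fin.sum_univ_three, sub_mulVec, ← mulVec_mulVec, e0, e1, e2, hBa1, hBa2, hBb1, hBb2, mulVec_smul, mulVec_neg] at hg
    have h4 := Fintype.linearIndependent_iff.1 hli
      ![2 * η * g 2, 0, -(2 * η * g 0), -(2 * η * g 1)] (by
      simp [Fin.sum_univ_four]
      linear_combination (norm := module) hg)
    intro i; fin_cases i
    · simpa [h2, hη0] using h4 2
    · simpa [h2, hη0] using h4 3
    · simpa [h2, hη0] using h4 0
  have hs0 : s ≠ 0 := fun e => hη0 (mul_self_eq_zero.1 (by rw [← hs, e, mul_zero]))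
  -- the other eigenspace
  have hsplit : ∀ v, ∃ (c : F) (h : Fin k → F), v = c • a + h ∧ B *ᵥ h = (-s) • h := fun v => by
    obtain ⟨c, hc⟩ := hline ((2 : F)⁻¹ • (v + s⁻¹ • (B *ᵥ v))) (by
      simp only [mulVec_smul, mulVec_add, hBB, smul_add, smul_smul, ← hs]
      match_scalars <;> field_simp)
    refine ⟨c, (2 : F)⁻¹ • (v + (-s⁻¹) • (B *ᵥ v)), ?_, ?_⟩
    · rw [← hc]; match_scalars <;> field_simp <;> ring
    · simp only [mulVec_smul, mulVec_add, hBB, smul_add, smul_smul, ← hs]
      match_scalars <;> field_simp <;> ring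
  have hpair : ∀ x y, ε * bf J (B *ᵥ x) y = bf J x (B *ᵥ y) := fun x y => by
    rw [← hJ.bf_adjJ, hadj, smul_mulVec, bf_smul_left]
  have hnd : ∀ v, (bf J v a = 0) → (∀ h, B *ᵥ h = (-s) • h → bf J v h = 0) → v = 0 := fun v h1 h3 => by
    by_contra hv
    obtain ⟨w, hw⟩ := exists_bf_ne J hJ.det hv
    obtain ⟨c, h, rfl, hh⟩ := hsplit w
    exact hw (by rw [bf_add_right, bf_smul_right, h1, h3 h hh, mul_zero, add_zero])
  rcases mul_self_eq_one_iff.1 hε with rfl | rfl
  · have horth : ∀ h, B *ᵥ h = (-s) • h → bf J a h = 0 := fun h hh => by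
      have := hpair a h
      rw [hBa, hh, bf_smul_left, bf_smul_right] at this
      exact (mul_eq_zero.1 (show (2 * s) * bf J a h = 0 by linear_combination this)).resolve_left (mul_ne_zero h2 hs0)
    have haa : bf J a a ≠ 0 := fun e => ha0 (hnd a e horth)
    refine ⟨a, -s, haa, neg_ne_zero.2 hs0, Matrix.toLin'.injective (LinearMap.ext fun v => ?_)⟩
    obtain ⟨c, h, rfl, hh⟩ := hsplit v
    simp only [Matrix.toLin'_apply, smul_mulVec, mulVec_add, mulVec_smul, rf_self haa, rf_perp (horth h hh), hBa, hh]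
    module
  · have hiso : ∀ h h', B *ᵥ h = (-s) • h → B *ᵥ h' = (-s) • h' → bf J h h' = 0 := fun h h' e e' => by
      have := hpair h h'
      rw [e, e', bf_smul_left, bf_smul_right] at this
      exact (mul_eq_zero.1 (show (2 * s) * bf J h h' = 0 by linear_combination this)).resolve_left (mul_ne_zero h2 hs0)
    obtain ⟨v1, hv1⟩ := hsmall ![a] (by omega)
    obtain ⟨c1, h1, e1, hh1⟩ := hsplit v1
    obtain ⟨v2, hv2⟩ := hsmall ![a, h1] (by omega)
    obtain ⟨c2, h3, e2, hh3⟩ := hsplit v2
    obtain ⟨h, hh, hh0, hha⟩ : ∃ h, B *ᵥ h = (-s) • h ∧ h ≠ 0 ∧ bf J h a = 0 := by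
      by_cases h0 : bf J h1 a = 0
      · exact ⟨h1, hh1, fun e => hv1 ![c1] (by simp [e1, e]), h0⟩
      refine ⟨bf J h1 a • h3 + (-bf J h3 a) • h1, ?_, fun e => ?_, by
        rw [bf_add_left, bf_smul_left, bf_smul_left]; ring⟩
      · rw [mulVec_add, mulVec_smul, mulVec_smul, hh1, hh3]; module
      · refine hv2 ![c2, bf J h3 a / bf J h1 a] (smul_right_injective _ h0 ?_)
        simp [Fin.sum_univ_two, e2, smul_add, smul_smul, mul_div_cancel₀ _ h0]
        linear_combination (norm := module) e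
    exact absurd (hnd h hha fun h' hh' => hiso h h' hh hh') hh0

/-- the conjugates of a signed reflection permuting the slot algebras -/
theorem classify [Finite F] {Sg : Finset (Fin t)} {G : Subgroup (GL (Fin t → Fin k) F)} (hS : Setting J Sg G)
    {i : Fin t} {u0 : Fin k → F} (hu0 : bf J u0 u0 ≠ 0) {g M : Matrix (Fin t → Fin k) (Fin t → Fin k) F}
    (hg : MG G g) (hgM : M = g * sl i (dl J u0) * adjJ (GV J) g) (hstd : Std M) :
    (∃ (l : Fin t) (u : Fin k → F), bf J u u ≠ 0 ∧ M = sl l (dl J u)) ∨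
      (k = 3 ∧ ∃ l l' : Fin t, l ≠ l' ∧ (∀ A, ∃ B, M * sl l A = sl l' B * M) ∧
        (∀ A, ∃ B, M * sl l' A = sl l B * M) ∧ ∀ m, m ≠ l → m ≠ l' → ∀ A, Commute M (sl m A)) := by
  classical
  have hJ := hS.sj
  have hk := hJ.kk
  haveI : Nonempty (Fin k) := ⟨⟨0, by omega⟩⟩
  obtain ⟨-, hg1, hg2⟩ := hS.adj_inv hg
  have hMM : M * M = 1 := by
    rw [hgM, show g * sl i (dl J u0) * adjJ (GV J) g * (g * sl i (dl J u0) * adjJ (GV J) g) =
      g * sl i (dl J u0) * (adjJ (GV J) g * g) * sl i (dl J u0) * adjJ (GV J) g by simp only [mul_assoc], hg1, mul_one,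
      mul_assoc g, sl_mul, dl_sq hu0, sl_one, mul_one, hg2]
  have hMs : adjJ (GV J) M = M := by
    rw [hgM, hS.adj_mul', hS.adj_mul', hS.adj_adj', adj_sl hJ.det, hJ.dl_adj, mul_assoc]
  obtain ⟨E, hE⟩ : ∃ E, E = M - sg F k • (1 : Matrix (Fin t → Fin k) (Fin t → Fin k) F) := ⟨_, rfl⟩
  have hEr : k * E.rank ≤ k ^ t := by
    have e1 : E = (sg F k * (-(2 / bf J u0 u0))) • (g * sl i (rk J u0 u0) * adjJ (GV J) g) := by
      rw [hE, hgM, show dl J u0 = sg F k • (1 : Matrix (Fin k) (Fin k) F) + (sg F k * -(2 / bf J u0 u0)) • rk J u0 u0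
        by rw [dl, rf]; module, sl_add, sl_smul, sl_smul, sl_one]
      simp only [mul_add, add_mul, mul_smul_comm, smul_mul_assoc, mul_one, hg2]
      module
    refine (Nat.mul_le_mul_left k ?_).trans (rank_sl_rk_le J i u0 u0)
    rw [e1]
    exact (rank_smul_le _ _).trans ((rank_mul_le_left _ _).trans (rank_mul_le_right _ _))
  have hM0 : M ≠ 0 := fun e => by
    rw [e, mul_zero] at hMM
    exact zero_ne_one hMM
  obtain ⟨σ, θ, hθ⟩ := hstd.data (by omega) hMM
  by_cases hmov : ∃ l, σ l ≠ l
  · obtain ⟨l, hl⟩ := hmov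
    obtain ⟨l', hl'⟩ : ∃ l', l' = σ l := ⟨_, rfl⟩
    rw [← hl'] at hl
    have h1 : ∀ A, M * sl l A = sl l' (θ l A) * M := fun A => hl' ▸ hθ l A
    have h1' : ∀ A, M * sl l' (θ l A) = sl l A * M := fun A => by
      have := congrArg (fun X => M * X * M) (h1 A)
      simp only [← mul_assoc, hMM, one_mul] at this
      rw [mul_assoc _ M M, hMM, mul_one] at this
      exact this.symm
    obtain ⟨P, hP⟩ : ∃ P : Fin k → Fin k → Matrix (Fin t → Fin k) (Fin t → Fin k) F,
        P = fun a b => sl l (Matrix.single a a 1) * sl l' (θ l (Matrix.single b b 1)) := ⟨_, rfl⟩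
    have hcl := fun A B : Matrix (Fin k) (Fin k) F => (sl_commute (Ne.symm hl) A B).eq
    have hMP : ∀ a b, M * P a b = P b a * M := fun a b => by
      rw [hP]
      simp only
      rw [← mul_assoc, h1, mul_assoc, h1', ← mul_assoc, hcl]
    have hmulP : ∀ a b c d, P a b * P c d = sl l (Matrix.single a a 1 * Matrix.single c c 1) *
        sl l' (θ l (Matrix.single b b 1 * Matrix.single d d 1)) := fun a b c d => by
      rw [hP]
      simp only
      rw [mul_assoc, ← mul_assoc (sl l' _) (sl l _), ← hcl, mul_assoc (sl l _) (sl l' _), sl_mul, ← mul_assoc, sl_mul,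
        map_mul]
    have hPid : ∀ a b, P a b * P a b = P a b := fun a b => by
      rw [hmulP, Matrix.single_mul_single_same, Matrix.single_mul_single_same, one_mul, hP]
    have hPo : ∀ a b c d, (a ≠ c ∨ b ≠ d) → P a b * P c d = 0 := fun a b c d h => by
      rw [hmulP]
      rcases h with h | h
      · rw [Matrix.single_mul_single_of_ne (1 : F) a a c h (1 : F), sl_zero, zero_mul]
      · rw [Matrix.single_mul_single_of_ne (1 : F) b b d h (1 : F), map_zero, sl_zero, mul_zero]
    have hsne : ∀ a : Fin k, (Matrix.single a a (1 : F)) ≠ 0 := fun a h => by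
      simpa using congrFun (congrFun h a) a
    have hrP : ∀ a b, k ^ t ≤ k * k * (P a b).rank := fun a b => by
      rw [hP]
      exact rank_sl_sl_ge (Ne.symm hl) (hsne a) fun h => hsne b ((θ l).injective (h.trans (map_zero _).symm))
    -- increasing pairs
    let ab : Fin (k - 1) ⊕ Fin (k - 2) → Fin k × Fin k :=
      Sum.elim (fun j => (⟨0, by omega⟩, ⟨j.1 + 1, by omega⟩)) (fun j => (⟨1, by omega⟩, ⟨j.1 + 2, by omega⟩))
    have hlt : ∀ c, (ab c).1 < (ab c).2 := fun c => by
      rcases c with j | j <;> simp only [ab, Sum.elim_inl, Sum.elim_inr, Fin.lt_def] <;> omega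
    have hinj : Function.Injective ab := by
      rintro (a | a) (b | b) h <;> simp only [ab, Sum.elim_inl, Sum.elim_inr, Prod.mk.injEq, Fin.ext_iff] at h <;>
        first
          | (exfalso; omega)
          | (congr 1; exact Fin.ext (by omega))
    obtain ⟨Q, hQ⟩ : ∃ Q : Fin (k - 1) ⊕ Fin (k - 2) → Matrix (Fin t → Fin k) (Fin t → Fin k) F,
        Q = fun c => P (ab c).1 (ab c).2 := ⟨_, rfl⟩
    have hQid : ∀ c, Q c * Q c = Q c := fun c => by rw [hQ]; exact hPid _ _
    have hQo : ∀ c c', c ≠ c' → Q c * Q c' = 0 := fun c c' h => by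
      rw [hQ]
      refine hPo _ _ _ _ ?_
      by_contra! hh
      exact h (hinj (Prod.ext hh.1 hh.2))
    obtain ⟨S, hSd⟩ : ∃ S, S = ∑ c, Q c := ⟨_, rfl⟩
    obtain ⟨hSS, hSr⟩ := rank_sum_orth hQid hQo Finset.univ
    rw [← hSd] at hSS hSr
    obtain ⟨S', hS'd⟩ : ∃ S', S' = ∑ c, P (ab c).2 (ab c).1 := ⟨_, rfl⟩
    have hMS : M * S = S' * M := by
      rw [hSd, hS'd, Finset.mul_sum, Finset.sum_mul]
      exact Finset.sum_congr rfl fun c _ => by rw [hQ]; exact hMP _ _
    have hSS' : S * S' = 0 := by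
      rw [hSd, hS'd, Finset.sum_mul]
      refine Finset.sum_eq_zero fun c _ => ?_
      rw [Finset.mul_sum]
      refine Finset.sum_eq_zero fun c' _ => ?_
      rw [hQ]
      refine hPo _ _ _ _ ?_
      by_contra! hh
      have h1 := hlt c; have h2 := hlt c'
      rw [hh.1, hh.2] at h1
      exact lt_asymm h1 h2
    have hSES : S * E * S = (-sg F k) • S := by
      rw [hE, mul_sub, sub_mul, mul_smul_comm, mul_one, smul_mul_assoc, hSS, mul_assoc, hMS, ← mul_assoc, hSS',
        zero_mul, zero_sub, neg_smul]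
    have hcard : (2 * k - 3) * k ^ t ≤ k * k * S.rank := by
      refine le_trans ?_ (Nat.mul_le_mul_left (k * k) hSr)
      rw [Finset.mul_sum]
      refine le_trans (le_of_eq ?_) (Finset.sum_le_sum fun c _ => (hQ ▸ hrP _ _ : k ^ t ≤ k * k * (Q c).rank))
      rw [Finset.sum_const, Finset.card_univ, Fintype.card_sum, Fintype.card_fin, Fintype.card_fin, smul_eq_mul]
      congr 1; omega
    -- the diagonal part
    obtain ⟨D, hD⟩ : ∃ D, D = ∑ a, P a a := ⟨_, rfl⟩
    obtain ⟨hDD, -⟩ := rank_sum_orth (P := fun a => P a a) (fun a => hPid a a)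
      (fun a b h => hPo a a b b (Or.inl h)) Finset.univ
    rw [← hD] at hDD
    have hMD : M * D = D * M := by
      rw [hD, Finset.mul_sum, Finset.sum_mul]
      exact Finset.sum_congr rfl fun a _ => hMP a a
    have hSD : S * D = 0 ∧ D * S = 0 := by
      constructor <;> rw [hSd, hD, Finset.sum_mul] <;> refine Finset.sum_eq_zero fun c _ => ?_ <;>
        rw [Finset.mul_sum] <;> refine Finset.sum_eq_zero fun c' _ => ?_ <;> rw [hQ] <;> refine hPo _ _ _ _ ?_ <;>
        by_contra! hh
      · exact absurd (hlt c) (by rw [hh.1, hh.2]; exact lt_irrefl _)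
      · exact absurd (hlt c') (by rw [← hh.1, ← hh.2]; exact lt_irrefl _)
    have hDE : Commute D E := by
      rw [hE]; exact (show Commute D M from hMD.symm).sub_right ((Commute.one_right D).smul_right _)
    have hsum : (D * E).rank + S.rank ≤ E.rank := by
      have h1 := rank_sum_proj (P := (![D, 1 - D] : Fin 2 → _)) (fun c => by
          fin_cases c
          · exact hDD
          · show (1 - D) * (1 - D) = 1 - D
            rw [mul_sub, sub_mul, sub_mul, one_mul, one_mul, mul_one, hDD]; abel)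
        (fun c c' h => by
          fin_cases c <;> fin_cases c' <;> first | exact absurd rfl h | skip
          · show D * (1 - D) = 0; rw [mul_sub, mul_one, hDD, sub_self]
          · show (1 - D) * D = 0; rw [sub_mul, one_mul, hDD, sub_self])
        E (fun c => by
          fin_cases c
          · exact hDE
          · exact (Commute.one_left E).sub_left hDE) Finset.univ
      simp only [Fin.sum_univ_two, Matrix.cons_val_zero, Matrix.cons_val_one, Matrix.cons_val_fin_one] at h1
      refine le_trans (Nat.add_le_add_left ?_ _) h1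
      have e : S = (-sg F k)⁻¹ • (S * ((1 - D) * E) * S) := by
        rw [← mul_assoc S, mul_sub, hSD.1, sub_zero, mul_one, hSES, smul_smul,
          inv_mul_cancel₀ (neg_ne_zero.2 sg_ne), one_smul]
      conv_lhs => rw [e]
      exact (rank_smul_le _ _).trans ((rank_mul_le_left _ _).trans (rank_mul_le_right _ _))
    have hkt : 0 < k ^ t := pow_pos (by omega) t
    have hk3 : k = 3 := by
      by_contra hne
      have h3 : k * k * S.rank ≤ k * k ^ t := by
        rw [mul_assoc]; exact Nat.mul_le_mul_left k ((Nat.mul_le_mul_left k (by omega)).trans hEr)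
      have := Nat.le_of_mul_le_mul_right (hcard.trans h3) hkt
      omega
    have hDE0 : D * E = 0 := by
      by_contra hne
      have h4 := rank_pos' hne
      subst hk3
      omega
    refine Or.inr ⟨hk3, l, l', Ne.symm hl, fun A => ⟨_, h1 A⟩, fun A => ⟨(θ l).symm A, ?_⟩, fun m hm hm' A => ?_⟩
    · conv_lhs => rw [show A = θ l ((θ l).symm A) by simp]
      exact h1' _
    have hMD' : M * D = sg F k • D := by
      rw [hE, mul_sub, mul_smul_comm, mul_one, ← hMD, sub_eq_zero] at hDE0
      exact hDE0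
    have hDc : ∀ j, j ≠ l → j ≠ l' → ∀ B, Commute D (sl j B) := fun j h h' B => by
      rw [hD]
      exact Commute.sum_left _ _ _ fun a _ => by
        rw [hP]; exact (sl_commute (Ne.symm h) _ B).mul_left (sl_commute (Ne.symm h') _ B)
    have hD0 : D ≠ 0 := fun h => by
      have h1 : P ⟨0, by omega⟩ ⟨0, by omega⟩ * D = P ⟨0, by omega⟩ ⟨0, by omega⟩ := by
        rw [hD, Finset.mul_sum, Finset.sum_eq_single (⟨0, by omega⟩ : Fin k)
          (fun b _ hb => hPo _ _ _ _ (Or.inl (Ne.symm hb))) (fun h => absurd (Finset.mem_univ _) h)]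
        exact hPid _ _
      have h3 := hrP ⟨0, by omega⟩ ⟨0, by omega⟩
      rw [← h1, h, mul_zero, rank_zero, mul_zero] at h3
      omega
    -- the image of a slot is the slot itself
    have hrel : ∀ B, sl (σ m) (θ m B) * D = sl m B * D := fun B => by
      have h5 : M * (sl m B * D) = sl (σ m) (θ m B) * (M * D) := by rw [← mul_assoc, hθ, mul_assoc]
      rw [← (hDc m hm hm' B).eq, ← mul_assoc, hMD', smul_mul_assoc, mul_smul_comm] at h5
      have := smul_right_injective _ (sg_ne (F := F) (k := k)) h5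
      rw [← this, (hDc m hm hm' B).eq]
    have hσ' : σ l' = l := by
      have h6 : ∀ B, sl (σ l') (θ l' (θ l B)) = sl l B := fun B => by
        have := congrArg (· * M) ((hθ l' (θ l B)).symm.trans (h1' B))
        simpa only [mul_assoc, hMM, mul_one] using this
      by_contra hne
      have h7 := h6 (Matrix.single ⟨0, by omega⟩ ⟨1, by omega⟩ 1)
      have h8 := slot_disjoint (Ne.symm hne) h7.symm (a := ⟨0, by omega⟩) (b := ⟨1, by omega⟩) (by simp)
      simp at h8
    have hσm : σ m = m := by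
      by_contra hne
      have hml : σ m ≠ l := fun e => hm' (σ.injective (e.trans hσ'.symm))
      have hml' : σ m ≠ l' := fun e => hm (σ.injective (e.trans hl'))
      have h9 := congrArg (sl m (Matrix.single (⟨1, by omega⟩ : Fin k) (⟨1, by omega⟩ : Fin k) (1 : F)) * ·)
        (hrel (Matrix.single ⟨0, by omega⟩ ⟨0, by omega⟩ 1))
      simp only [← mul_assoc, sl_mul] at h9
      rw [Matrix.single_mul_single_of_ne (1 : F) _ _ _ (by simp) (1 : F), sl_zero, zero_mul, mul_assoc] at h9
      have h10 := eq_zero_of_sl_mul (i := m) (hsne _)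
        (fun C => (sl_commute hne _ C).mul_left (hDc m hm hm' C)) h9
      exact hD0 (eq_zero_of_sl_mul (i := σ m)
        (fun h => hsne _ ((θ m).injective (h.trans (map_zero _).symm))) (hDc _ hml hml') h10)
    have hθm : θ m A = A := by
      refine sub_eq_zero.1 (by_contra fun hne => hD0 (eq_zero_of_sl_mul (i := m) hne (hDc m hm hm') ?_))
      rw [sub_eq_add_neg, sl_add, ← neg_one_smul F A, sl_smul, add_mul, smul_mul_assoc, neg_one_smul,
        ← sub_eq_add_neg, sub_eq_zero]
      have := hrel A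
      rwa [hσm] at this
    have := hθ m A
    rwa [hσm, hθm] at this
  -- every slot is fixed
  push Not at hmov
  have hfix : ∀ l A, M * sl l A = sl l (θ l A) * M := fun l A => by simpa only [hmov l] using hθ l A
  have hslot : ∀ l, (∀ A, Commute M (sl l A)) ∨ ∃ a V V', bf J a a ≠ 0 ∧ (∀ A, Commute V (sl l A)) ∧ V' * V = 1 ∧
      M = sl l (rf J a) * V := by
    intro l
    obtain ⟨B, R, hBu, hBA, hR, hMB, -⟩ := exists_factor hM0 (hfix l)
    by_cases hsc : ∃ c : F, B = c • 1
    · obtain ⟨c, rfl⟩ := hsc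
      refine Or.inl fun A => ?_
      rw [hMB, sl_smul, sl_one, smul_mul_assoc, one_mul]
      exact (hR A).smul_left c
    push Not at hsc
    obtain ⟨R', hR'⟩ : ∃ R', R * R' = 1 := by
      refine ⟨M * sl l B, ?_⟩
      have hRe : R = sl l B⁻¹ * M := by
        rw [hMB, ← mul_assoc, sl_mul, nonsing_inv_mul B hBu, sl_one, one_mul]
      rw [hRe, mul_assoc, ← mul_assoc M, hMM, one_mul, sl_mul, nonsing_inv_mul B hBu, sl_one]
    have hrk : ∀ A : Matrix (Fin k) (Fin k) F, ∀ w : Fin 3 → Fin k → F,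
        ¬ LinearIndependent F fun a => (B * A - A * B) *ᵥ w a := fun A w hw => by
      have h3 := rank_sl_three l hw
      have e1 : sl l (B * A - A * B) * R = E * sl l A - sl l A * E := by
        rw [hE, sub_mul, mul_sub, smul_mul_assoc, one_mul, mul_smul_comm, mul_one, hMB, mul_assoc, (hR A).eq,
          sub_eq_add_neg (B * A), ← neg_one_smul F (A * B), sl_add, sl_smul, add_mul, smul_mul_assoc,
          ← mul_assoc, ← mul_assoc, sl_mul, sl_mul, neg_one_smul]
        abel
      have e2 : sl l (B * A - A * B) = (E * sl l A - sl l A * E) * R' := by rw [← e1, mul_assoc, hR', mul_one]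
      have h4 : (sl l (B * A - A * B)).rank ≤ E.rank + E.rank := by
        rw [e2]
        exact (rank_mul_le_left _ _).trans ((rank_sub_le' _ _).trans
          (Nat.add_le_add (rank_mul_le_left _ _) (rank_mul_le_right _ _)))
      have h5 := h3.trans (Nat.mul_le_mul_left k h4)
      have hkt : 0 < k ^ t := pow_pos (by omega) t
      rw [mul_add] at h5
      omega
    have hBB : ∃ μ : F, B * B = μ • 1 := by
      have hc : ∀ A, B * B * A = A * (B * B) := fun A => by
        have hθθ : θ l (θ l A) = A := by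
          have := congrArg (M * ·) (hfix l A)
          simp only [← mul_assoc, hMM, one_mul] at this
          rw [hfix, mul_assoc, hMM, mul_one] at this
          exact sl_injective l this.symm
        calc B * B * A = B * (θ l A * B) := by rw [mul_assoc, hBA A]
          _ = θ l (θ l A) * B * B := by rw [← mul_assoc B, hBA (θ l A)]
          _ = A * (B * B) := by rw [hθθ, mul_assoc]
      refine ⟨(B * B) ⟨0, by omega⟩ ⟨0, by omega⟩, ?_⟩
      generalize B * B = C at hc
      ext a b
      have h6 := congrFun (congrFun (hc (Matrix.single b ⟨0, by omega⟩ 1)) a) ⟨0, by omega⟩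
      simp only [Matrix.mul_apply, Matrix.single_apply, ite_and, mul_ite, ite_mul, one_mul, mul_one, zero_mul,
        mul_zero, Finset.sum_ite_eq, Finset.mem_univ, if_true] at h6
      rw [h6, Matrix.smul_apply, Matrix.one_apply, smul_eq_mul, mul_ite, mul_one, mul_zero]
      rcases eq_or_ne a b with rfl | hab <;> simp [*, Ne.symm]
    obtain ⟨μ, hμ⟩ := hBB
    obtain ⟨ε, hε, hadj⟩ : ∃ ε : F, ε * ε = 1 ∧ adjJ J B = ε • B := by
      have h6 := hMs
      rw [hMB, hS.adj_mul', adj_sl hJ.det, (adj_commute hJ.symm hJ.det hR _).eq] at h6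
      have hB0 : B ≠ 0 := fun e => hsc 0 (by rw [e, zero_smul])
      obtain ⟨a, b, hab⟩ : ∃ a b, B a b ≠ 0 := by
        by_contra! h0; exact hB0 (Matrix.ext h0)
      obtain ⟨x, y, hxy⟩ : ∃ x y, slice' M l x y ≠ 0 := by
        by_contra! h0
        exact hM0 (eq_zero_of_slices l h0)
      have hS1 : ∀ {X : Matrix (Fin t → Fin k) (Fin t → Fin k) F}, (∀ A, Commute X (sl l A)) → ∀ x y,
          ∃ c : F, slice' X l x y = c • (1 : Matrix (Fin k) (Fin k) F) := fun {X} hX x y => by
        refine ⟨slice' X l x y ⟨0, by omega⟩ ⟨0, by omega⟩, ?_⟩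
        have hc : ∀ A, slice' X l x y * A = A * slice' X l x y := fun A => by
          have := congrArg (fun Z => slice' Z l x y) (hX A).eq
          simpa only [slice'_mul_sl, slice'_sl_mul] using this
        generalize slice' X l x y = C at hc
        ext a b
        have h7 := congrFun (congrFun (hc (Matrix.single b ⟨0, by omega⟩ 1)) a) ⟨0, by omega⟩
        simp only [Matrix.mul_apply, Matrix.single_apply, ite_and, mul_ite, ite_mul, one_mul, mul_one, zero_mul,
          mul_zero, Finset.sum_ite_eq, Finset.mem_univ, if_true] at h7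
        rw [h7, Matrix.smul_apply, Matrix.one_apply, smul_eq_mul, mul_ite, mul_one, mul_zero]
        rcases eq_or_ne a b with rfl | hab <;> simp [*, Ne.symm]
      obtain ⟨c1, hc1⟩ := hS1 (adj_commute hJ.symm hJ.det hR) x y
      obtain ⟨c2, hc2⟩ := hS1 hR x y
      rw [hMB, slice'_sl_mul, hc2, mul_smul_comm, mul_one] at hxy
      have h7 := congrArg (fun Z => slice' Z l x y) h6
      simp only [slice'_sl_mul, hc1, hc2, mul_smul_comm, mul_one] at h7
      have hc20 : c2 ≠ 0 := fun e => hxy (by rw [e, zero_smul])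
      have hc10 : c1 ≠ 0 := fun e => hxy (by rw [← h7, e, zero_smul])
      have h8 : adjJ J B = (c1⁻¹ * c2) • B := by
        rw [mul_smul, ← h7, smul_smul, inv_mul_cancel₀ hc10, one_smul]
      refine ⟨c1⁻¹ * c2, ?_, h8⟩
      have h9 := congrArg (adjJ J) h8
      rw [adj_adj hJ.symm hJ.det, adj_smul, h8, smul_smul] at h9
      have h10 := congrFun (congrFun h9 a) b
      rw [Matrix.smul_apply, smul_eq_mul] at h10
      exact mul_right_cancel₀ hab (by rw [← h10, one_mul])
    obtain ⟨a, c, ha, hc, rfl⟩ := refl_of_comm hJ hBu hμ hadj hε hrk hsc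
    refine Or.inr ⟨a, c • R, c⁻¹ • R', ha, fun A => (hR A).smul_left c, ?_, ?_⟩
    · rw [smul_mul_assoc, mul_smul_comm, smul_smul, inv_mul_cancel₀ hc, one_smul, mul_eq_one_comm.1 hR']
    · rw [hMB, sl_smul, smul_mul_assoc, mul_smul_comm]
  obtain ⟨l, hl⟩ : ∃ l, ¬ ∀ A, Commute M (sl l A) := by
    by_contra! h
    obtain ⟨κ, hκ⟩ := eq_smul_one_of_commute M fun j A => (h j A).eq
    have h1 : sl i (dl J u0) = κ • (1 : Matrix (Fin t → Fin k) (Fin t → Fin k) F) := by
      have := congrArg (fun X => adjJ (GV J) g * X * g) (hgM.symm.trans hκ)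
      simpa only [← mul_assoc, hg1, one_mul, mul_assoc _ _ g, mul_smul_comm, smul_mul_assoc, mul_one] using this
    rw [← sl_one (F := F) (κ := Fin k) i, ← sl_smul] at h1
    have h3 := sl_injective i h1
    have h4 := congrArg (· *ᵥ u0) h3
    obtain ⟨w, hw, hw0⟩ := hJ.exists_orth (n := 1) (by omega) ![u0] (fun a b h => absurd (Subsingleton.elim a b) h)
      (fun _ => by simpa using hu0)
    have h5 := congrArg (· *ᵥ w) h3
    simp only [smul_mulVec, one_mulVec, dl_self hu0] at h4
    simp only [smul_mulVec, one_mulVec, dl_perp (show bf J u0 w = 0 from hw0 0)] at h5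
    have h6 : κ = sg F k := by
      have := congrArg (bf J w) h5
      rw [bf_smul_right, bf_smul_right] at this
      exact (mul_right_cancel₀ hw this).symm
    have h7 : κ = -sg F k := by
      have := congrArg (bf J u0) h4
      rw [bf_smul_right, bf_smul_right] at this
      exact (mul_right_cancel₀ hu0 this).symm
    exact sg_ne (F := F) (k := k) ((mul_eq_zero.1
      (show (2 : F) * sg F k = 0 by linear_combination h7 - h6)).resolve_left hJ.two)
  obtain ⟨a, V, V', ha, hV, hVV, hMV⟩ := (hslot l).resolve_left hl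
  by_cases hone : ∀ m, m ≠ l → ∀ A, Commute M (sl m A)
  · -- a single slot
    have hVc : ∀ m A, Commute V (sl m A) := fun m A => by
      rcases eq_or_ne m l with rfl | hm
      · exact hV A
      · have e : V = sl l (rf J a) * M := by rw [hMV, ← mul_assoc, sl_mul, rf_sq ha, sl_one, one_mul]
        rw [e]
        exact (sl_commute (Ne.symm hm) _ A).mul_left (hone m hm A)
    obtain ⟨κ, hκ⟩ := eq_smul_one_of_commute V fun j A => (hVc j A).eq
    refine Or.inl ⟨l, a, ha, ?_⟩
    have hMe : M = κ • sl l (rf J a) := by rw [hMV, hκ, mul_smul_comm, mul_one]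
    rw [dl, sl_smul, hMe]
    congr 1
    have hκ2 : κ * κ = 1 := by
      have h1 := hMM
      rw [hMe, smul_mul_assoc, mul_smul_comm, smul_smul, sl_mul, rf_sq ha, sl_one] at h1
      have h3 := congrFun (congrFun h1 (fun _ => ⟨0, by omega⟩)) fun _ => ⟨0, by omega⟩
      simpa using h3
    rcases mul_self_eq_mul_self_iff.1 (hκ2.trans (sg_sq (F := F) (k := k)).symm) with h | h
    · exact h
    exfalso
    obtain ⟨b, hb, hab⟩ := hJ.exists_orth (n := 1) (by omega) ![a] (fun _ _ h => absurd (Subsingleton.elim _ _) h)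
      (fun _ => by simpa using ha)
    obtain ⟨c, hc, hbc⟩ := hJ.exists_orth (n := 2) (by omega) ![a, b] (by
      intro x y h; fin_cases x <;> fin_cases y <;>
        first | exact absurd rfl h | simpa [hJ.comm b a] using hab 0)
      (by intro x; fin_cases x <;> assumption)
    have hba : bf J a b = 0 := hab 0
    have hca : bf J a c = 0 := hbc 0
    have hcb : bf J b c = 0 := hbc 1
    have hkey : ∀ {v}, bf J a v = 0 → sl l (pj J v) * E = (-(2 * sg F k)) • sl l (pj J v) := fun {v} hv => by
      rw [hE, hMe, mul_sub, mul_smul_comm, sl_mul, (rf_pj_orth hv (by rw [hJ.comm, hv])).2, mul_smul_comm, mul_one,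
        ← sub_smul, h]
      congr 1; ring
    have h2 := rank_add_orth (F := F) (P := sl (β := Fin t) l (pj J b)) (Q := sl l (pj J c))
      (by rw [sl_mul, pj_mul hb]) (by rw [sl_mul, pj_mul hc]) (by rw [sl_mul, pj_orth hcb, sl_zero])
      (by rw [sl_mul, pj_orth (by rw [hJ.comm, hcb]), sl_zero])
    have h3 : (sl l (pj J b) + sl l (pj J c)).rank ≤ E.rank := by
      have e : sl l (pj J b) + sl l (pj J c) = (-(2 * sg F k))⁻¹ • ((sl l (pj J b) + sl l (pj J c)) * E) := by
        rw [add_mul, hkey hba, hkey hca, ← smul_add, smul_smul,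
          inv_mul_cancel₀ (neg_ne_zero.2 (mul_ne_zero hJ.two sg_ne)), one_smul]
      conv_lhs => rw [e]
      exact (rank_smul_le _ _).trans (rank_mul_le_right _ _)
    have h4 := (Nat.add_le_add (rank_sl_ge l (pj_ne hJ hb)) (rank_sl_ge l (pj_ne hJ hc))).trans
      (le_of_le_of_eq (Nat.mul_le_mul_left k (h2.trans h3) |>.trans' (le_of_eq (mul_add k _ _).symm)) rfl)
    have hkt : 0 < k ^ t := pow_pos (by omega) t
    omega
  exfalso
  push Not at hone
  obtain ⟨m, hml, A0, hA0⟩ := hone
  obtain ⟨a', W, W', ha', hW, hWW, hMW⟩ := (hslot m).resolve_left fun h => hA0 (h A0)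
  obtain ⟨b, hb, hab⟩ := hJ.exists_orth (n := 1) (by omega) ![a] (fun _ _ h => absurd (Subsingleton.elim _ _) h)
    (fun _ => by simpa using ha)
  obtain ⟨c, hc, hbc⟩ := hJ.exists_orth (n := 2) (by omega) ![a, b] (by
    intro x y h; fin_cases x <;> fin_cases y <;>
      first | exact absurd rfl h | simpa [hJ.comm b a] using hab 0)
    (by intro x; fin_cases x <;> assumption)
  obtain ⟨b', hb', hab'⟩ := hJ.exists_orth (n := 1) (by omega) ![a'] (fun _ _ h => absurd (Subsingleton.elim _ _) h)
    (fun _ => by simpa using ha')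
  have hba : bf J a b = 0 := hab 0
  have hca : bf J a c = 0 := hbc 0
  have hcb : bf J b c = 0 := hbc 1
  have hba' : bf J a' b' = 0 := hab' 0
  have hlm : l ≠ m := Ne.symm hml
  have hMm : ∀ {v}, (∃ s : F, rf J a' * pj J v = s • pj J v ∧ pj J v * rf J a' = s • pj J v) →
      Commute M (sl m (pj J v)) := fun {v} ⟨s, h1, h2⟩ => by
    show _ = _
    rw [hMW, mul_assoc, (hW _).eq, ← mul_assoc, ← mul_assoc, sl_mul, sl_mul, h1, h2]
  have hMl : ∀ {v}, (∃ s : F, rf J a * pj J v = s • pj J v ∧ pj J v * rf J a = s • pj J v) →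
      Commute M (sl l (pj J v)) := fun {v} ⟨s, h1, h2⟩ => by
    show _ = _
    rw [hMV, mul_assoc, (hV _).eq, ← mul_assoc, ← mul_assoc, sl_mul, sl_mul, h1, h2]
  have sself : ∀ {u}, bf J u u ≠ 0 → ∃ s : F, rf J u * pj J u = s • pj J u ∧ pj J u * rf J u = s • pj J u :=
    fun {u} hu => ⟨-1, by rw [(rf_pj hu).1, neg_one_smul], by rw [(rf_pj hu).2, neg_one_smul]⟩
  have sorth : ∀ {u v}, bf J u v = 0 → ∃ s : F, rf J u * pj J v = s • pj J v ∧ pj J v * rf J u = s • pj J v :=
    fun {u v} h => by
      obtain ⟨h1, h2⟩ := rf_pj_orth h (by rw [hJ.comm, h])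
      exact ⟨1, by rw [h1, one_smul], by rw [h2, one_smul]⟩
  have hVe : V = sl l (rf J a) * M := by rw [hMV, ← mul_assoc, sl_mul, rf_sq ha, sl_one, one_mul]
  have hWe : W = sl m (rf J a') * M := by rw [hMW, ← mul_assoc, sl_mul, rf_sq ha', sl_one, one_mul]
  have hMQ1 : Commute M (sl m (1 - pj J a')) := by
    rw [sub_eq_add_neg, ← neg_one_smul F (pj J a'), sl_add, sl_smul, sl_one]
    exact (Commute.one_right M).add_right ((hMm (sself ha')).smul_right _)
  have cl := fun (A B : Matrix (Fin k) (Fin k) F) => sl_commute hlm A B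
  -- the six parts
  let L : Fin 6 → Matrix (Fin k) (Fin k) F := ![pj J a, pj J b, pj J a, pj J b, pj J c, pj J c]
  let R : Fin 6 → Matrix (Fin k) (Fin k) F := ![1 - pj J a', 1 - pj J a', pj J a', pj J a', pj J a', pj J b']
  have h1a : (1 - pj J a') * (1 - pj J a') = 1 - pj J a' := by
    rw [mul_sub, sub_mul, sub_mul, one_mul, one_mul, mul_one, pj_mul ha']; abel
  have h1b : (1 - pj J a') * pj J a' = 0 := by rw [sub_mul, one_mul, pj_mul ha', sub_self]
  have h1c : pj J a' * (1 - pj J a') = 0 := by rw [mul_sub, mul_one, pj_mul ha', sub_self]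
  have hLR : ∀ x, (L x * L x = L x ∧ R x * R x = R x) ∧ Commute M (sl l (L x)) ∧ Commute M (sl m (R x)) := fun x => by
    fin_cases x
    · exact ⟨⟨pj_mul ha, h1a⟩, hMl (sself ha), hMQ1⟩
    · exact ⟨⟨pj_mul hb, h1a⟩, hMl (sorth hba), hMQ1⟩
    · exact ⟨⟨pj_mul ha, pj_mul ha'⟩, hMl (sself ha), hMm (sself ha')⟩
    · exact ⟨⟨pj_mul hb, pj_mul ha'⟩, hMl (sorth hba), hMm (sself ha')⟩
    · exact ⟨⟨pj_mul hc, pj_mul ha'⟩, hMl (sorth hca), hMm (sself ha')⟩
    · exact ⟨⟨pj_mul hc, pj_mul hb'⟩, hMl (sorth hca), hMm (sorth hba')⟩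
  have hzero : ∀ x y, x ≠ y → L x * L y = 0 ∨ R x * R y = 0 := fun x y hxy => by
    fin_cases x <;> fin_cases y <;> first
      | exact absurd rfl hxy
      | exact Or.inl (pj_orth hba)
      | exact Or.inl (pj_orth (by rw [hJ.comm, hba]))
      | exact Or.inl (pj_orth hca)
      | exact Or.inl (pj_orth (by rw [hJ.comm, hca]))
      | exact Or.inl (pj_orth hcb)
      | exact Or.inl (pj_orth (by rw [hJ.comm, hcb]))
      | exact Or.inr h1b
      | exact Or.inr h1c
      | exact Or.inr (pj_orth hba')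
      | exact Or.inr (pj_orth (by rw [hJ.comm, hba']))
  obtain ⟨P, hP⟩ : ∃ P : Fin 6 → Matrix (Fin t → Fin k) (Fin t → Fin k) F, P = fun x => sl l (L x) * sl m (R x) :=
    ⟨_, rfl⟩
  have hPm : ∀ x y, P x * P y = sl l (L x * L y) * sl m (R x * R y) := fun x y => by
    rw [hP]
    simp only
    rw [mul_assoc, ← mul_assoc (sl m _) (sl l _), ← (cl _ _).eq, mul_assoc (sl l _) (sl m _), sl_mul, ← mul_assoc,
      sl_mul]
  have hsum := rank_sum_proj (P := P) (fun x => by rw [hPm, (hLR x).1.1, (hLR x).1.2, hP])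
    (fun x y h => by
      rw [hPm]
      rcases hzero x y h with h | h <;> rw [h, sl_zero] <;> simp)
    E (fun x => by
      rw [hP, hE]
      refine Commute.sub_right ?_ ((Commute.one_right _).smul_right _)
      exact ((hLR x).2.1.symm.mul_left (hLR x).2.2.symm)) Finset.univ
  simp only [Fin.sum_univ_six] at hsum
  rw [hP] at hsum
  simp only [L, R, Matrix.cons_val_zero, Matrix.cons_val_one, Matrix.cons_val] at hsum
  rw [hE] at hsum
  have t1 := transfer hJ ha hb hba (sg F k) hV (fun A => (cl A _).symm) (hVe ▸ (cl _ _).mul_left hMQ1) hVV hMV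
    (Q := sl m (1 - pj J a')) 
  have t2 := transfer hJ ha hb hba (sg F k) hV (fun A => (cl A _).symm) (hVe ▸ (cl _ _).mul_left (hMm (sself ha')))
    hVV hMV (Q := sl m (pj J a'))
  have t3 := transfer hJ ha' hb' hba' (sg F k) hW (fun A => cl (pj J c) A)
    (hWe ▸ (cl (pj J c) _).symm.mul_left (hMl (sorth hca))) hWW hMW
  have h5 : (sl l (pj J b)).rank ≤
      (sl l (pj J b) * sl m (1 - pj J a')).rank + (sl l (pj J b) * sl m (pj J a')).rank := by
    conv_lhs => rw [show sl l (pj J b) = sl l (pj J b) * sl m (1 - pj J a') + sl l (pj J b) * sl m (pj J a') by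
      rw [← mul_add, ← sl_add, sub_add_cancel, sl_one, mul_one]]
    exact rank_add_le' _ _
  rw [← (cl (pj J c) (pj J b')).eq, ← (cl (pj J c) (pj J a')).eq] at t3
  have h6 : k ^ t ≤ k * k * (sl l (pj J c) * sl m (pj J b')).rank := rank_sl_sl_ge hlm (pj_ne hJ hc) (pj_ne hJ hb')
  have h7 := rank_sl_ge (t := t) l (pj_ne hJ hb)
  have hkt : 0 < k ^ t := pow_pos (by omega) t
  rw [← hE] at t1 t2 t3 hsum
  have h9 : k * ((sl l (pj J b)).rank + (sl l (pj J c) * sl m (pj J b')).rank) ≤ k * E.rank :=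
    Nat.mul_le_mul_left k (by omega)
  rw [mul_add] at h9
  rcases Nat.eq_zero_or_pos (sl l (pj J c) * sl m (pj J b')).rank with h0 | h0
  · rw [h0, mul_zero] at h6; omega
  have := Nat.le_mul_of_pos_left (sl l (pj J c) * sl m (pj J b')).rank (show 0 < k by omega)
  omega

end Cfsg.Agent.ClassicalMax.OOWreath
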