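import Cfsg.Agent.ClassicalMax.OOWreath.Bridge

/-!
Full centres give all Siegel transformations.
-/

set_option autoImplicit false
set_option linter.unusedSectionVars false
set_option linter.unusedSimpArgs false

namespace Cfsg.Agent.ClassicalMax.OOWreath

open Matrix Module QuadraticMap Cfsg.Agent.Classical Cfsg.Agent.Classical.Quad Cfsg.Agent.ClassicalMax.TPow
open Cfsg.Agent.ClassicalMax.RootPlanes (Pl tS mem_tS full_of_tS eo_le)
open Cfsg.Agent.ClassicalMax.SpWreath (GV GV_det pv bf_pv rk_pv)
open Cfsg.Agent.ClassicalMax.OWreath (mt mt_mulVec mt_injective pv_update_add pv_update_smul)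

variable {F : Type*} [Field F] {k t : ℕ} {J : Matrix (Fin k) (Fin k) F}

/-- a vector orthogonal to the second and pairing to one with the first -/
theorem SJ.exists_dual (hJ : SJ J) {p w : Fin k → F} (h : ∀ s : F, p ≠ s • w) :
    ∃ x, bf J x p = 1 ∧ bf J x w = 0 := by
  by_cases hw : w = 0
  · obtain ⟨y, hy⟩ := exists_bf_ne J hJ.det (show p ≠ 0 from fun e => h 0 (by rw [e, zero_smul]))
    exact ⟨(bf J p y)⁻¹ • y, by rw [bf_smul_left, hJ.comm y p, inv_mul_cancel₀ hy],
      by simp [bf, hw]⟩
  obtain ⟨z₀, hz₀⟩ := exists_bf_ne J hJ.det hw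
  obtain ⟨z, hz⟩ := exists_bf_ne J hJ.det (show p + (-(bf J p z₀ / bf J w z₀)) • w ≠ 0 from fun e =>
    h (bf J p z₀ / bf J w z₀) (by linear_combination (norm := module) e))
  set y := z + (-(bf J w z / bf J w z₀)) • z₀ with hy
  have h1 : bf J y w = 0 := by
    rw [hJ.comm, hy, bf_add_right, bf_smul_right, neg_mul, div_mul_cancel₀ _ hz₀, add_neg_cancel]
  have h2 : bf J y p ≠ 0 := by
    rw [hJ.comm, hy, bf_add_right, bf_smul_right]
    rw [bf_add_left, bf_smul_left] at hz
    intro e
    apply hz
    rw [← e]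
    field_simp
  exact ⟨(bf J y p)⁻¹ • y, by rw [bf_smul_left, inv_mul_cancel₀ h2], by rw [bf_smul_left, h1, mul_zero]⟩

variable [Finite F] {Q : QuadraticForm F ((Fin t → Fin k) → F)} {c : F}

namespace SSpace

variable (hV : SSpace Q J c)
include hV

theorem pol_pv (a b : Fin t → Fin k → F) : polar Q (pv a) (pv b) = c * ∏ j, bf J (a j) (b j) := by
  rw [hV.pol, bf_pv]

theorem pol_zero {a b : Fin t → Fin k → F} (j : Fin t) (h : bf J (a j) (b j) = 0) : polar Q (pv a) (pv b) = 0 := by
  rw [hV.pol_pv, Finset.prod_eq_zero (Finset.mem_univ j) h, mul_zero]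

theorem pv_sing (a : Fin t → Fin k → F) (j : Fin t) (h : bf J (a j) (a j) = 0) : Q (pv a) = 0 := by
  rw [hV.Q_eq, bf_pv, Finset.prod_eq_zero (Finset.mem_univ j) h, mul_zero]

theorem sO_mat {a b : (Fin t → Fin k) → F} (hb : Q b = 0) (s : F) {ha : Q a = 0} {h : polar Q a (s • b) = 0} :
    (mt (sO ha h) : Matrix (Fin t → Fin k) (Fin t → Fin k) F) = 1 + (s * c) • (rk (GV J) a b - rk (GV J) b a) := by
  refine Matrix.toLin'.injective (LinearMap.ext fun x => ?_)
  rw [Matrix.toLin'_apply, Matrix.toLin'_apply, mt_mulVec, sO_apply, Quad.map_smul', hb, hV.pol, hV.pol, bf_smul_right,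
    hV.bf_comm x a, hV.bf_comm x b, add_mulVec, one_mulVec, smul_mulVec, sub_mulVec, rk_mulVec, rk_mulVec]
  module

/-- pure tensors with a common singular component -/
theorem pl_shared {H : Subgroup (oG Q)} (hF : Full J Finset.univ (H.map mt)) {a b : Fin t → Fin k → F} (i : Fin t)
    (hab : a i = b i) (ha : bf J (a i) (a i) = 0) : Pl H (pv a) (pv b) := by
  classical
  have hJ := hV.sj
  refine ⟨hV.pv_sing a i ha, hV.pv_sing b i (hab ▸ ha), hV.pol_zero i (by rw [← hab, ha]), fun l hu h => ?_⟩
  set T : (Fin t → Fin k → F) → (Fin t → Fin k → F) → Fin t → Matrix (Fin k) (Fin k) F :=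
    fun a b => Function.update (fun j => rk J (a j) (b j)) i 1 with hT
  set Z := (l * c) • (tens (T a b) - tens (T b a)) with hZ
  have hop : Op Finset.univ i Z := by
    rintro m (rfl | hm) A
    · exact Commute.smul_left ((sl_commute_of_one (Function.update_self _ _ _) A).sub_left
        (sl_commute_of_one (Function.update_self _ _ _) A)) _
    · exact absurd (Finset.mem_univ m) hm
  have hadj : ∀ a b, adjJ (GV J) (tens (T a b)) = tens (T b a) := fun a b => by
    rw [adj_tens hJ.det]
    congr 1
    funext j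
    rcases eq_or_ne j i with rfl | hj
    · simp [hT, adj_one hJ.det]
    · simp [hT, hj, hJ.adjJ_rk]
  have hskew : adjJ (GV J) Z = -Z := by
    rw [hZ, adj_smul, adj_sub, hadj, hadj, ← smul_neg, neg_sub]
  obtain ⟨m, ⟨g, hg, rfl⟩, hm⟩ := hF i (Finset.mem_univ i) (a i) ha Z hop hskew
  have hk : ∀ a b : Fin t → Fin k → F, sl i (rk J (a i) (b i)) * tens (T a b) = rk (GV J) (pv a) (pv b) := fun a b => by
    rw [rk_pv, sl, tens_mul]
    congr 1
    funext j
    rcases eq_or_ne j i with rfl | hj
    · simp [hT]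
    · simp [hT, hj]
  have e : 1 + sl i (rk J (a i) (a i)) * Z = (mt (sO hu h) : Matrix (Fin t → Fin k) (Fin t → Fin k) F) := by
    rw [hV.sO_mat (hV.pv_sing b i (hab ▸ ha)), hZ, mul_smul_comm, mul_sub]
    congr 3
    · rw [← hk a b, hab]
    · rw [← hk b a, hab]
  rwa [show sO hu h = g from mt_injective (Units.ext (e.symm.trans hm.symm))]

/-- the pure tensors orthogonal to a constant one span its orthogonal -/
theorem perp_span (S : Submodule F ((Fin t → Fin k) → F)) {p q : Fin k → F} (hpq : bf J p q = 1)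
    (h : ∀ r : Fin t → Fin k → F, (∃ j, bf J p (r j) = 0) → pv r ∈ S) {w : (Fin t → Fin k) → F}
    (hw : polar Q (pv fun _ => p) w = 0) : w ∈ S := by
  classical
  have key : ∀ (s : Finset (Fin t)) (r : Fin t → Fin k → F),
      pv r + (-(∏ j ∈ s, bf J p (r j))) • pv (s.piecewise (fun _ => q) r) ∈ S := fun s => by
    induction s using Finset.induction_on with
    | empty => intro r; simp
    | insert l s hl ih =>
      intro r
      have h1 := ih r
      set r' := s.piecewise (fun _ => q) r with hq
      have hql : r' l = r l := Finset.piecewise_eq_of_notMem _ _ _ hl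
      have h2 : pv (Function.update r' l (r' l + (-(bf J p (r l))) • q)) ∈ S :=
        h _ ⟨l, by
          rw [Function.update_self, bf_add_right, bf_smul_right, hql, hpq, mul_one, add_neg_cancel]⟩
      rw [pv_update_add, pv_update_smul, Function.update_eq_self] at h2
      have h3 := S.add_mem h1 (S.smul_mem (∏ j ∈ s, bf J p (r j)) h2)
      rw [Finset.piecewise_insert, Finset.prod_insert hl, ← hq]
      refine cast (congrArg (· ∈ S) ?_) h3
      module
  have hT : ∀ w : (Fin t → Fin k) → F,
      w + (-(bf (GV J) (pv fun _ => p) w)) • pv (fun _ => q) ∈ S := fun w => by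
    let b : (Fin t → Fin k) → Fin t → Fin k → F := fun y j => Pi.single (y j) 1
    have hw' : w = ∑ y, w y • pv (b y) := by
      funext x
      rw [Finset.sum_apply, Finset.sum_eq_single x]
      · simp [pv, b]
      · intro y _ hy
        obtain ⟨j, hj⟩ := Function.ne_iff.1 hy
        simp only [Pi.smul_apply, pv, smul_eq_mul]
        rw [Finset.prod_eq_zero (Finset.mem_univ j) (by simp [b, Ne.symm hj]), mul_zero]
      · exact fun h => absurd (Finset.mem_univ x) h
    have e : w + (-(bf (GV J) (pv fun _ => p) w)) • pv (fun _ => q) =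
        ∑ y, w y • (pv (b y) + (-(∏ j, bf J p (b y j))) • pv (fun _ => q)) := by
      simp only [smul_add, Finset.sum_add_distrib, smul_smul, ← Finset.sum_smul]
      rw [← hw']
      congr 2
      conv_lhs => rw [hw']
      rw [bf, mulVec_sum, dotProduct_sum, ← Finset.sum_neg_distrib]
      refine Finset.sum_congr rfl fun y _ => ?_
      rw [mulVec_smul, dotProduct_smul, smul_eq_mul, ← bf_pv (fun _ => p) (b y), mul_neg]
      rfl
    rw [e]
    refine S.sum_mem fun y _ => S.smul_mem _ ?_
    have := key Finset.univ (b y)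
    rwa [Finset.piecewise_univ] at this
  have h0 : bf (GV J) (pv fun _ => p) w = 0 := by
    rw [hV.pol] at hw; exact (mul_eq_zero.1 hw).resolve_left hV.c0
  have := hT w
  rwa [h0, neg_zero, zero_smul, add_zero] at this

/-- the Siegel transformations of a constant singular pure tensor -/
theorem full_const {H : Subgroup (oG Q)} (hF : Full J Finset.univ (H.map mt)) (ht : 2 ≤ t) {p q : Fin k → F}
    (hp0 : p ≠ 0) (hp : bf J p p = 0) (hq : bf J q q = 0) (hpq : bf J p q = 1) :
    RootPlanes.Full H (pv fun _ : Fin t => p) := by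
  classical
  have hJ := hV.sj
  haveI : Nontrivial (Fin t) := Fin.nontrivial_iff_two_le.2 ht
  have he := hV.pv_sing (fun _ : Fin t => p) ⟨0, by omega⟩ hp
  refine full_of_tS he fun w hw => hV.perp_span _ hpq ?_ hw
  rintro r ⟨j, hj⟩
  by_cases hsp : ∃ s : F, r j = s • p
  · obtain ⟨s, hs⟩ := hsp
    rw [show r = Function.update r j (s • p) by rw [← hs, Function.update_eq_self], pv_update_smul]
    exact Submodule.smul_mem _ s (mem_tS (hV.pl_shared hF j (by simp) hp))
  push Not at hsp
  obtain ⟨l, hlj⟩ := exists_ne j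
  obtain ⟨x, hxp, hxr⟩ := hJ.exists_dual (p := p) (w := r j) fun s e => by
    rcases eq_or_ne s 0 with rfl | hs
    · exact hp0 (by rw [e, zero_smul])
    · exact hsp s⁻¹ (by rw [e, inv_smul_smul₀ hs])
  -- linear in a second slot
  let L : (Fin k → F) →ₗ[F] ((Fin t → Fin k) → F) :=
    { toFun := fun v => pv (Function.update r l v)
      map_add' := fun v v' => pv_update_add r l v v'
      map_smul' := fun s v => pv_update_smul r l s v }
  have htop := hJ.partner_span hp0 hp ((tS H he).comap L) fun g hg hpg => by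
    show pv (Function.update r l g) ∈ tS H he
    refine mem_tS (Pl.rule (b := pv (Function.update (fun _ => p) j x))
      (c := pv (Function.update (Function.update (fun _ => q) l g) j p))
      (hV.pl_shared hF l (by simp [hlj]) hp) (hV.pl_shared hF l (by simp [hlj]) (by simp [hlj, hg]))
      (hV.pol_zero j (by simp [hp])) (hV.pol_zero j (by simp [Ne.symm hlj, hj]))
      (hV.pol_zero j (by simp [Ne.symm hlj, hxr])) ?_)
    rw [hV.pol_pv]
    refine mul_ne_zero hV.c0 (Finset.prod_ne_zero_iff.2 fun m _ => ?_)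
    rcases eq_or_ne m j with rfl | hmj
    · simp [hxp]
    rcases eq_or_ne m l with rfl | hml
    · simpa [hmj] using hpg
    · simp [hmj, hml, hpq]
  have hmem : r l ∈ (tS H he).comap L := htop ▸ Submodule.mem_top
  have hmem' : pv (Function.update r l (r l)) ∈ tS H he := hmem
  rwa [Function.update_eq_self] at hmem'

/-- full centres give all Siegel transformations -/
theorem eo_le_of_full {H : Subgroup (oG Q)} (hF : Full J Finset.univ (H.map mt)) (ht : 2 ≤ t) : eo Q ≤ H := by
  have hJ := hV.sj
  obtain ⟨p, hp0, hp⟩ := hJ.exists_iso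
  obtain ⟨q, -, hq, hpq, -⟩ := hJ.exists_frame hp0 hp
  have hq0 : q ≠ 0 := fun e => by rw [e, bf, mulVec_zero, dotProduct_zero] at hpq; exact zero_ne_one hpq
  refine eo_le hV.nd ?_ (hV.full_const hF ht hp0 hp hq hpq)
    (hV.full_const hF ht hq0 hq hp (by rw [hJ.comm, hpq])) ?_
  · rw [Module.finrank_fintype_fun_eq_card, Fintype.card_fun, Fintype.card_fin, Fintype.card_fin]
    exact le_trans hJ.kk (Nat.le_self_pow (by omega : t ≠ 0) k)
  · rw [hV.pol_pv]
    exact mul_ne_zero hV.c0 (Finset.prod_ne_zero_iff.2 fun _ _ => by rw [hpq]; exact one_ne_zero)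

end SSpace

end Cfsg.Agent.ClassicalMax.OOWreath
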