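import Cfsg.Agent.ClassicalMax.OOWreath.Main
import Mathlib.Algebra.CharP.Lemmas

/-!
When the centralisers of the good signed reflections permute the slot algebras, the whole group does.
-/

set_option autoImplicit false
set_option linter.unusedSectionVars false
set_option linter.unusedSimpArgs false

namespace Cfsg.Agent.ClassicalMax.OOWreath

open Matrix Cfsg.Agent.ClassicalMax.TPow
open Cfsg.Agent.ClassicalMax.SpWreath (GV GV_det)

variable {F : Type*} [Field F] {k t : ℕ} {J : Matrix (Fin k) (Fin k) F}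

theorem eS_add (hJ : SJ J) {p e e' : Fin k → F} (hp : bf J p p = 0) (he : bf J p e = 0) (he' : bf J p e' = 0) :
    eS J p e * eS J p e' = eS J p (e + e') := by
  have h12 : bf J p (e + e') = 0 := by rw [bf_add_right, he, he', add_zero]
  obtain ⟨h1, -⟩ := hJ.xp_mul_rk hp he
  obtain ⟨-, h2⟩ := hJ.xp_mul_rk hp he'
  rw [hJ.eS_eq hp he, hJ.eS_eq hp he', hJ.eS_eq hp h12, xp_add]
  simp only [add_mul, mul_add, one_mul, mul_one, smul_mul_assoc, mul_smul_comm, h1, h2, rk_mul_rk, hp, zero_smul,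
    smul_zero, hJ.xp_mul hp he he', bf_add_left, bf_add_right, hJ.comm e' e]
  have h2 := hJ.two
  match_scalars <;> field_simp <;> ring

theorem eS_self (hJ : SJ J) {p : Fin k → F} (hp : bf J p p = 0) (c : F) : eS J p (c • p) = 1 := by
  rw [eS, xp_smul, show xp J p p = 0 from sub_self _, smul_zero, mul_zero, smul_zero, add_zero, add_zero]

theorem eS_zero (hJ : SJ J) {p : Fin k → F} (hp : bf J p p = 0) : eS J p 0 = 1 := by
  have := eS_self hJ hp (0 : F)
  rwa [zero_smul] at this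

theorem eS_pow (hJ : SJ J) {p e : Fin k → F} (hp : bf J p p = 0) (he : bf J p e = 0) (n : ℕ) :
    eS J p e ^ n = eS J p ((n : F) • e) := by
  induction n with
  | zero => rw [pow_zero, Nat.cast_zero, zero_smul, eS_zero hJ hp]
  | succ n ih =>
    rw [pow_succ, ih, eS_add hJ hp (by rw [bf_smul_right, he, mul_zero]) he, Nat.cast_succ, add_smul, one_smul]

theorem dl_eS_dl (hJ : SJ J) {p e : Fin k → F} (hp : bf J p p = 0) (he : bf J p e = 0) (hee : bf J e e ≠ 0) (s : F) :
    dl J e * eS J p (s • e) * dl J e = eS J p (-(s • e)) := by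
  have hse : bf J p (s • e) = 0 := by rw [bf_smul_right, he, mul_zero]
  have hse' : bf J p (-(s • e)) = 0 := by rw [← neg_one_smul F (s • e), bf_smul_right, hse, mul_zero]
  have hep : bf J e p = 0 := by rw [hJ.comm, he]
  have hq : bf J (-(s • e)) (-(s • e)) = bf J (s • e) (s • e) := by
    rw [← neg_one_smul F (s • e), bf_smul_left, bf_smul_right]; ring
  have e1 : ∀ u v, rf J e * rk J u v * rf J e = rk J (rf J e *ᵥ u) (rf J e *ᵥ v) := fun u v => by
    rw [mul_rk, hJ.rk_mul, hJ.rf_adj]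
  rw [hJ.eS_eq hp hse, hJ.eS_eq hp hse', hq, xp_neg, xp_smul, xp]
  rw [dl, smul_mul_assoc, smul_mul_assoc, mul_smul_comm, smul_smul, sg_sq, one_smul]
  simp only [smul_mul_assoc, mul_smul_comm, mul_add, add_mul, mul_sub, sub_mul, mul_one,
    rf_sq hee, e1, rf_perp hep, rf_self hee]
  rw [← neg_one_smul F e, rk_smul_left, rk_smul_right]
  match_scalars <;> ring

/-- moving a monomial past an element permuting the slots -/
theorem Std.tens_conj {M : Matrix (Fin t → Fin k) (Fin t → Fin k) F} {σ : Equiv.Perm (Fin t)}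
    {θ : Fin t → Matrix (Fin k) (Fin k) F ≃ₐ[F] Matrix (Fin k) (Fin k) F}
    (hθ : ∀ l A, M * TPow.sl l A = TPow.sl (σ l) (θ l A) * M) (T : Fin t → Matrix (Fin k) (Fin k) F) :
    M * tens T = tens (fun m => θ (σ.symm m) (T (σ.symm m))) * M := by
  classical
  suffices h : ∀ s : Finset (Fin t), M * mono s T =
      mono (s.map σ.toEmbedding) (fun m => θ (σ.symm m) (T (σ.symm m))) * M by
    have := h Finset.univ
    rwa [Finset.map_univ_equiv, mono, mono, Finset.piecewise_univ, Finset.piecewise_univ] at this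
  intro s
  induction s using Finset.induction_on with
  | empty => rw [Finset.map_empty, mono, mono, Finset.piecewise_empty, Finset.piecewise_empty, tens_one, mul_one, one_mul]
  | insert l s hl ih =>
    rw [mono_insert hl, ← mul_assoc, hθ, mul_assoc, ih, Finset.map_insert, mono_insert (by simpa using hl),
      ← mul_assoc]
    simp

variable [Finite F]

theorem rank_sl3_ge {l m n : Fin t} (hlm : l ≠ m) (hln : l ≠ n) (hmn : m ≠ n) {A B C : Matrix (Fin k) (Fin k) F}
    (hA : A ≠ 0) (hB : B ≠ 0) (hC : C ≠ 0) : k ^ t ≤ k * k * k * (sl l A * sl m B * sl n C).rank := by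
  have h1 : (1 : Matrix (Fin t → Fin k) (Fin t → Fin k) F).rank ≤
      ∑ _p : Fin k × (Fin k × Fin k), (sl l A * sl m B * sl n C).rank := by
    rw [show (1 : Matrix (Fin t → Fin k) (Fin t → Fin k) F) = ∑ p : Fin k × (Fin k × Fin k),
        sl l (Matrix.single p.1 p.1 (1 : F)) * sl m (Matrix.single p.2.1 p.2.1 1) *
          sl n (Matrix.single p.2.2 p.2.2 1) by
      rw [Fintype.sum_prod_type]
      simp only [Fintype.sum_prod_type, ← Finset.mul_sum, sl_single_sum, mul_one]]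
    refine (rank_one_le_sum _ _).trans (Finset.sum_le_sum fun p _ => ?_)
    obtain ⟨X, X', h⟩ := exists_diag hA p.1
    obtain ⟨Y, Y', h'⟩ := exists_diag hB p.2.1
    obtain ⟨Z, Z', h''⟩ := exists_diag hC p.2.2
    rw [← h, ← h', ← h'', ← sl_mul, ← sl_mul, ← sl_mul, ← sl_mul, ← sl_mul, ← sl_mul,
      show sl l X * sl l A * sl l X' * (sl m Y * sl m B * sl m Y') * (sl n Z * sl n C * sl n Z') =
        sl l X * sl m Y * sl n Z * (sl l A * sl m B * sl n C) * (sl l X' * sl m Y' * sl n Z') by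
      have c1 := fun P Q : Matrix (Fin k) (Fin k) F => (sl_commute hlm P Q).eq
      have c2 := fun P Q : Matrix (Fin k) (Fin k) F => (sl_commute hln P Q).eq
      have c3 := fun P Q : Matrix (Fin k) (Fin k) F => (sl_commute hmn P Q).eq
      calc sl l X * sl l A * sl l X' * (sl m Y * sl m B * sl m Y') * (sl n Z * sl n C * sl n Z')
          = sl l X * sl l A * (sl l X' * sl m Y) * sl m B * (sl m Y' * sl n Z) * sl n C * sl n Z' := by
            simp only [mul_assoc]
        _ = sl l X * (sl l A * sl m Y) * (sl l X' * sl m B) * sl n Z * (sl m Y' * sl n C) * sl n Z' := by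
            rw [c1, c3]; simp only [mul_assoc]
        _ = sl l X * sl m Y * sl l A * sl m B * (sl l X' * sl n Z) * sl n C * sl m Y' * sl n Z' := by
            rw [c1, c1, c3]; simp only [mul_assoc]
        _ = sl l X * sl m Y * sl l A * (sl m B * sl n Z) * (sl l X' * sl n C) * sl m Y' * sl n Z' := by
            rw [c2]; simp only [mul_assoc]
        _ = sl l X * sl m Y * (sl l A * sl n Z) * sl m B * sl n C * (sl l X' * sl m Y' * sl n Z') := by
            rw [c3, c2]; simp only [mul_assoc]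
        _ = _ := by rw [c2]; simp only [mul_assoc]]
    exact (rank_mul_le_left _ _).trans (rank_mul_le_right _ _)
  rw [rank_one, card_idx, Finset.sum_const, Finset.card_univ, Fintype.card_prod, Fintype.card_prod, Fintype.card_fin,
    smul_eq_mul, ← mul_assoc] at h1
  exact h1

variable {Sg : Finset (Fin t)} {G : Subgroup (GL (Fin t → Fin k) F)}

namespace Setting

variable (hS : Setting J Sg G) (hC : CentStd J Sg G)
include hS hC

/-- conjugates of root elements permute the slots -/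
theorem std_conj_root (hk4 : 4 ≤ k) {i l : Fin t} (hi : i ∈ Sg) (hl : l ∈ Sg) (hil : i ≠ l) {p e : Fin k → F}
    (hp : bf J p p = 0) (hpe : bf J p e = 0) {g : Matrix (Fin t → Fin k) (Fin t → Fin k) F} (hg : MG G g) :
    Std (g * sl i (eS J p e) * adjJ (GV J) g) := by
  have hJ := hS.sj
  haveI : Nonempty (Fin k) := ⟨⟨0, by omega⟩⟩
  rcases eq_or_ne p 0 with rfl | hp0
  · have h0 : ∀ v : Fin k → F, xp J 0 v = 0 := fun v => by
      simp [xp, rk, zero_vecMul, Matrix.vecMulVec_zero, Matrix.zero_vecMulVec]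
    rw [eS, h0, mul_zero, smul_zero, add_zero, add_zero, sl_one, mul_one, (hS.adj_inv hg).2.2]
    exact Std.one
  obtain ⟨q, -, hq, hpq, -, -, -⟩ := hJ.exists_frame hp0 hp
  obtain ⟨d, hd, -⟩ := exists_good_perp hJ (n := 0) (by omega) ![] (fun a => a.elim0) (fun a => a.elim0)
  have h2 := hJ.two
  let π : (Fin k → F) → Fin k → F := fun z => z + (-bf J q z) • p + (-bf J p z) • q
  have hπp : ∀ z, bf J p (π z) = 0 := fun z => by
    simp only [π, bf_add_right, bf_smul_right, hp, hpq]; ring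
  have hgood : ∀ u, Good J u → bf J p u = 0 → Std (g * sl i (eS J p u) * adjJ (GV J) g) := by
    intro u hu hpu
    have hpu' : bf J p (-u) = 0 := by rw [← neg_one_smul F u, bf_smul_right, hpu, mul_zero]
    have hh : bf J p ((2 : F)⁻¹ • -u) = 0 := by rw [bf_smul_right, hpu', mul_zero]
    obtain ⟨hr, hr'⟩ := hS.mg_root hi hp hh
    have hgr := hg.mul hr
    have h1 := hS.std_conj_pair hC hi hl hil hu hd hg
    have h3 := hS.std_conj_pair hC hi hl hil hu hd hgr
    have h4 := h1.mul h3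
    refine cast (congrArg Std ?_) h4
    obtain ⟨-, hg1, -⟩ := hS.adj_inv hg
    rw [hS.adj_mul', adj_sl hJ.det, eS_adj hJ hp hh,
      show g * (sl i (dl J u) * sl l (dl J d)) * adjJ (GV J) g *
        (g * sl i (eS J p ((2 : F)⁻¹ • -u)) * (sl i (dl J u) * sl l (dl J d)) *
          (sl i (eS J p (-((2 : F)⁻¹ • -u))) * adjJ (GV J) g)) =
        g * (sl i (dl J u) * sl l (dl J d)) * (adjJ (GV J) g * g) * (sl i (eS J p ((2 : F)⁻¹ • -u)) *
          (sl i (dl J u) * sl l (dl J d))) * sl i (eS J p (-((2 : F)⁻¹ • -u))) * adjJ (GV J) g by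
        simp only [mul_assoc], hg1, mul_one]
    have hc := fun A B : Matrix (Fin k) (Fin k) F => (sl_commute hil A B).eq
    rw [show g * (sl i (dl J u) * sl l (dl J d)) * (sl i (eS J p ((2 : F)⁻¹ • -u)) * (sl i (dl J u) * sl l (dl J d))) *
        sl i (eS J p (-((2 : F)⁻¹ • -u))) =
        g * (sl i (dl J u) * (sl l (dl J d) * sl i (eS J p ((2 : F)⁻¹ • -u) * dl J u)) * sl l (dl J d) *
          sl i (eS J p (-((2 : F)⁻¹ • -u)))) by rw [← sl_mul]; simp only [mul_assoc],
      ← hc, ← mul_assoc (sl i (dl J u)) (sl i _), sl_mul, mul_assoc (sl i _) (sl l _) (sl l _), sl_mul, dl_sq hd.1,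
      sl_one, mul_one, sl_mul, ← mul_assoc (dl J u)]
    congr 3
    rw [show ((2 : F)⁻¹ • -u) = (-(2 : F)⁻¹) • u by rw [smul_neg, neg_smul], dl_eS_dl hJ hp hpu hu.1,
      eS_add hJ hp (by rw [← neg_smul, bf_smul_right, hpu, mul_zero]) (by rw [← neg_smul, bf_smul_right, hpu, mul_zero])]
    congr 1
    match_scalars; field_simp; ring
  let W : Submodule F (Fin k → F) := Submodule.span F ({u | Good J u ∧ bf J p u = 0 ∧ bf J q u = 0} ∪ {p, q})
  have hW : W = ⊤ := by
    by_contra hne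
    obtain ⟨φ, hφ0, hφ⟩ := Submodule.exists_dual_map_eq_bot_of_lt_top (lt_top_iff_ne_top.2 hne) inferInstance
    obtain ⟨y, hy⟩ : ∃ y, y = J⁻¹ *ᵥ fun c => φ (Pi.single c 1) := ⟨_, rfl⟩
    have hφy : ∀ z, φ z = bf J y z := fun z => by
      rw [hy, hJ.comm, bf, mulVec_mulVec, mul_nonsing_inv J hJ.det, one_mulVec]
      conv_lhs => rw [pi_eq_sum_univ' z]
      simp only [map_sum, map_smul, dotProduct, smul_eq_mul]
    have hker : ∀ w ∈ W, φ w = 0 := fun w hw =>
      (Submodule.mem_bot F).1 (hφ ▸ Submodule.mem_map_of_mem hw)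
    have hy0 : y ≠ 0 := fun e => hφ0 (LinearMap.ext fun z => by rw [hφy, e]; simp [bf])
    have hpy : bf J p y = 0 := by rw [hJ.comm, ← hφy]; exact hker p (Submodule.subset_span (Or.inr (Or.inl rfl)))
    have hqy : bf J q y = 0 := by rw [hJ.comm, ← hφy]; exact hker q (Submodule.subset_span (Or.inr (Or.inr rfl)))
    obtain ⟨u, hu, hpu, hqu, huy⟩ := hJ.exists_good_sep hk4 hp hq hpq hy0 hpy hqy
    exact huy (by rw [hJ.comm, ← hφy]; exact hker u (Submodule.subset_span (Or.inl ⟨hu, hpu, hqu⟩)))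
  have hadd : ∀ {a b}, bf J p a = 0 → bf J p b = 0 → Std (g * sl i (eS J p a) * adjJ (GV J) g) →
      Std (g * sl i (eS J p b) * adjJ (GV J) g) → Std (g * sl i (eS J p (a + b)) * adjJ (GV J) g) := by
    intro a b ha hb h1 h3
    rw [← eS_add hJ hp ha hb, ← sl_mul, ← hS.conj_mul hg]
    exact h1.mul h3
  have key : ∀ z ∈ W, ∀ c : F, Std (g * sl i (eS J p (c • π z)) * adjJ (GV J) g) := by
    intro z hz
    induction hz using Submodule.span_induction with
    | mem z hz =>
      intro c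
      rcases hz with ⟨hu, hpu, hqu⟩ | hz
      · rw [show π z = z by simp [π, hpu, hqu]]
        rcases eq_or_ne c 0 with rfl | hc
        · rw [zero_smul, eS_zero hJ hp, sl_one, mul_one, (hS.adj_inv hg).2.2]; exact Std.one
        · refine hgood _ ⟨?_, fun h => ?_⟩ (by rw [bf_smul_right, hpu, mul_zero])
          · rw [bf_smul_left, bf_smul_right]; exact mul_ne_zero hc (mul_ne_zero hc hu.1)
          · obtain ⟨r, hr⟩ := hu.2 h
            exact ⟨c * r, by rw [bf_smul_left, bf_smul_right]; linear_combination (c * c) * hr⟩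
      · have e0 : π z = 0 := by
          rcases hz with hz | hz
          · rw [hz]; simp only [π, hp, hq, hpq, hJ.comm q p]; module
          · rw [Set.mem_singleton_iff.1 hz]; simp only [π, hp, hq, hpq, hJ.comm q p]; module
        rw [e0, smul_zero, eS_zero hJ hp, sl_one, mul_one, (hS.adj_inv hg).2.2]; exact Std.one
    | zero =>
      intro c
      rw [show π 0 = 0 by simp [π, bf], smul_zero, eS_zero hJ hp, sl_one, mul_one, (hS.adj_inv hg).2.2]
      exact Std.one
    | add a b _ _ ha hb =>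
      intro c
      rw [show c • π (a + b) = c • π a + c • π b by simp only [π, bf_add_right]; module]
      exact hadd (by rw [bf_smul_right, hπp, mul_zero]) (by rw [bf_smul_right, hπp, mul_zero]) (ha c) (hb c)
    | smul s a _ ha =>
      intro c
      rw [show c • π (s • a) = (c * s) • π a by simp only [π, bf_smul_right]; module]
      exact ha _
  have h1 := key e (hW ▸ Submodule.mem_top) 1
  rw [one_smul, show π e = e + (-bf J q e) • p by simp [π, hpe]] at h1
  have h3 := hadd (a := e + (-bf J q e) • p) (b := (bf J q e) • p) (by rw [bf_add_right, bf_smul_right, hp, hpe]; ring)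
    (by rw [bf_smul_right, hp, mul_zero]) h1
    (by rw [eS_self hJ hp, sl_one, mul_one, (hS.adj_inv hg).2.2]; exact Std.one)
  rwa [show e + (-bf J q e) • p + bf J q e • p = e by module] at h3

/-- conjugates of root elements fix every slot -/
theorem root_fix (hk4 : 4 ≤ k) {i l : Fin t} (hi : i ∈ Sg) (hl : l ∈ Sg) (hil : i ≠ l) {p e : Fin k → F}
    (hp : bf J p p = 0) (hpe : bf J p e = 0) {g : Matrix (Fin t → Fin k) (Fin t → Fin k) F} (hg : MG G g)
    (j : Fin t) (A : Matrix (Fin k) (Fin k) F) :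
    ∃ B, g * sl i (eS J p e) * adjJ (GV J) g * sl j A = sl j B * (g * sl i (eS J p e) * adjJ (GV J) g) := by
  classical
  have hJ := hS.sj
  haveI : Nonempty (Fin k) := ⟨⟨0, by omega⟩⟩
  obtain ⟨-, hg1, hg2⟩ := hS.adj_inv hg
  obtain ⟨M, hM⟩ : ∃ M, M = g * sl i (eS J p e) * adjJ (GV J) g := ⟨_, rfl⟩
  have hMs : Std M := hM ▸ hS.std_conj_root hC hk4 hi hl hil hp hpe hg
  have hMG : MG G M := hM ▸ hS.conj_mem hg (hS.root i hi p e hp hpe)
  obtain ⟨-, hM1, hM2⟩ := hS.adj_inv hMG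
  rw [← hM]
  obtain ⟨σ, θ, hθ⟩ := hMs.data (by omega) hM2
  suffices hσ : ∀ m, σ m = m from ⟨θ j A, by rw [hθ, hσ]⟩
  -- the order and the fixed space
  obtain ⟨P, hPc⟩ := CharP.exists F
  have hprime : P.Prime := (CharP.char_is_prime_or_zero F P).resolve_right (CharP.char_ne_zero_of_finite F P)
  have hconj : ∀ X Y, g * X * adjJ (GV J) g * (g * Y * adjJ (GV J) g) = g * (X * Y) * adjJ (GV J) g := hS.conj_mul hg
  have hpowc : ∀ (X : Matrix (Fin t → Fin k) (Fin t → Fin k) F) (n : ℕ),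
      (g * X * adjJ (GV J) g) ^ n = g * X ^ n * adjJ (GV J) g := fun X n => by
    induction n with
    | zero => rw [pow_zero, pow_zero, mul_one, hg2]
    | succ n ih => rw [pow_succ, ih, hconj, pow_succ]
  have hslpow : ∀ (X : Matrix (Fin k) (Fin k) F) (n : ℕ), sl (β := Fin t) i X ^ n = sl i (X ^ n) := fun X n => by
    induction n with
    | zero => rw [pow_zero, pow_zero, sl_one]
    | succ n ih => rw [pow_succ, ih, sl_mul, pow_succ]
  have hMP : M ^ P = 1 := by
    rw [hM, hpowc, hslpow, eS_pow hJ hp hpe, CharP.cast_eq_zero, zero_smul, eS_zero hJ hp, sl_one, mul_one, hg2]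
  have hσP : ∀ m, (σ ^ P) m = m := by
    have hn : ∀ n m, ∀ B, ∃ C, M ^ n * sl m B = sl ((σ ^ n) m) C * M ^ n := fun n => by
      induction n with
      | zero => exact fun m B => ⟨B, by simp⟩
      | succ n ih =>
        intro m B
        obtain ⟨C, hC'⟩ := ih m B
        refine ⟨θ ((σ ^ n) m) C, ?_⟩
        rw [pow_succ' M, mul_assoc, hC', ← mul_assoc, hθ, mul_assoc, pow_succ' σ, Equiv.Perm.mul_apply]
    intro m
    obtain ⟨B, hB⟩ := exists_nonscalar (F := F) (k := k) (by omega)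
    obtain ⟨C, hC'⟩ := hn P m B
    rw [hMP, one_mul, mul_one] at hC'
    exact (slot_eq hC' hB).symm
  obtain ⟨E, hE⟩ : ∃ E, E = M - 1 := ⟨_, rfl⟩
  have hEr : k * E.rank ≤ 2 * k ^ t := by
    have e1 : E = g * (sl i (rk J p ((-(bf J e e / 2)) • p + e)) + (-1 : F) • sl i (rk J e p)) * adjJ (GV J) g := by
      conv_rhs => rw [← sl_smul, ← sl_add, show rk J p ((-(bf J e e / 2)) • p + e) + (-1 : F) • rk J e p =
        eS J p e - 1 by rw [hJ.eS_eq hp hpe, xp, rk_add_right, rk_smul_right]; module]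
      rw [hE, hM, sub_eq_add_neg (eS J p e), ← neg_one_smul F (1 : Matrix (Fin k) (Fin k) F), sl_add, sl_smul, sl_one,
        mul_add, add_mul, mul_smul_comm, mul_one, smul_mul_assoc, hg2, neg_one_smul, sub_eq_add_neg]
    rw [e1]
    refine (Nat.mul_le_mul_left k (((rank_mul_le_left _ _).trans (rank_mul_le_right _ _)).trans (rank_add_le' _ _))).trans ?_
    rw [mul_add, two_mul]
    exact Nat.add_le_add (rank_sl_rk_le J i _ _)
      ((Nat.mul_le_mul_left k (rank_smul_le _ _)).trans (rank_sl_rk_le J i _ _))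
  have hE3 : E * E * E = 0 := by
    have e1 : E = g * sl i (eS J p e - 1) * adjJ (GV J) g := by
      rw [hE, hM, sub_eq_add_neg (eS J p e), ← neg_one_smul F (1 : Matrix (Fin k) (Fin k) F), sl_add, sl_smul, sl_one,
        mul_add, add_mul, mul_smul_comm, mul_one, smul_mul_assoc, hg2, neg_one_smul, sub_eq_add_neg]
    obtain ⟨h1, h3⟩ := hJ.xp_mul_rk hp hpe
    rw [e1, hconj, hconj, sl_mul, sl_mul,
      show (eS J p e - 1) * (eS J p e - 1) * (eS J p e - 1) = 0 by
        rw [hJ.eS_eq hp hpe, add_assoc, add_sub_cancel_left]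
        simp only [add_mul, mul_add, smul_mul_assoc, mul_smul_comm, h1, h3, rk_mul_rk, hp, zero_smul, smul_zero,
          hJ.xp_mul hp hpe hpe, add_zero],
      sl_zero, mul_zero, zero_mul]
  intro m
  by_contra hm
  have hPodd : Odd P := hprime.odd_of_ne_two fun e2 => hJ.two (by
    have := CharP.cast_eq_zero F P
    rwa [e2, Nat.cast_ofNat] at this)
  obtain ⟨f, hf⟩ := hPodd
  have hm2 : σ (σ m) ≠ m := fun e2 => by
    refine hm ?_
    have h1 : ∀ n, (σ ^ (2 * n)) m = m := fun n => by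
      induction n with
      | zero => simp
      | succ n ih =>
        rw [mul_add, pow_add, Equiv.Perm.mul_apply, show (σ ^ (2 * 1)) m = m by simp [pow_two, e2], ih]
    have h3 := hσP m
    rwa [hf, pow_succ', Equiv.Perm.mul_apply, h1] at h3
  obtain ⟨m1, hm1⟩ : ∃ m1, m1 = σ m := ⟨_, rfl⟩
  obtain ⟨m2, hm2'⟩ : ∃ m2, m2 = σ m1 := ⟨_, rfl⟩
  have h01 : m ≠ m1 := hm1 ▸ Ne.symm hm
  have h02 : m ≠ m2 := hm2' ▸ hm1 ▸ Ne.symm hm2
  have h12 : m1 ≠ m2 := fun e2 => h01 (σ.injective (by rw [← hm1, ← hm2', e2]))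
  have hs1 : σ.symm m1 = m := by rw [hm1, Equiv.symm_apply_apply]
  have hs2 : σ.symm m2 = m1 := by rw [hm2', Equiv.symm_apply_apply]
  let e0 : Matrix (Fin k) (Fin k) F := Matrix.single ⟨0, by omega⟩ ⟨0, by omega⟩ 1
  let e1 : Matrix (Fin k) (Fin k) F := Matrix.single ⟨1, by omega⟩ ⟨1, by omega⟩ 1
  have he01 : e0 * e1 = 0 := Matrix.single_mul_single_of_ne (1 : F) _ _ _ (by simp) (1 : F)
  have hne0 : e0 ≠ 0 := fun h => by simpa [e0] using congrFun (congrFun h ⟨0, by omega⟩) ⟨0, by omega⟩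
  have hne1 : e1 ≠ 0 := fun h => by simpa [e1] using congrFun (congrFun h ⟨1, by omega⟩) ⟨1, by omega⟩
  have hinj : ∀ (m : Fin t) {B : Matrix (Fin k) (Fin k) F}, B ≠ 0 → θ m B ≠ 0 := fun m B hB h =>
    hB ((θ m).injective (h.trans (map_zero _).symm))
  by_cases h3 : σ m2 = m
  swap
  · -- a long cycle
    obtain ⟨m3, hm3⟩ : ∃ m3, m3 = σ m2 := ⟨_, rfl⟩
    have h03 : m ≠ m3 := hm3 ▸ Ne.symm h3
    have h13 : m1 ≠ m3 := fun e2 => h02 (σ.injective (by rw [← hm1, ← hm3, e2]))
    have h23 : m2 ≠ m3 := fun e2 => h12 (σ.injective (by rw [← hm2', ← hm3, e2]))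
    have hs3 : σ.symm m3 = m2 := by rw [hm3, Equiv.symm_apply_apply]
    obtain ⟨step, hstep⟩ : ∃ step : (Fin t → Matrix (Fin k) (Fin k) F) → Fin t → Matrix (Fin k) (Fin k) F,
        step = fun T n => θ (σ.symm n) (T (σ.symm n)) := ⟨_, rfl⟩
    let T0 : Fin t → Matrix (Fin k) (Fin k) F := fun n =>
      if n = m then e0 else if n = m1 then θ m e1 else if n = m2 then θ m1 (θ m e1)
      else if n = m3 then θ m2 (θ m1 (θ m e1)) else 1
    have a0 : T0 m = e0 := by simp [T0]
    have a1 : T0 m1 = θ m e1 := by simp [T0, Ne.symm h01]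
    have a2 : T0 m2 = θ m1 (θ m e1) := by simp [T0, Ne.symm h02, Ne.symm h12]
    have a3 : T0 m3 = θ m2 (θ m1 (θ m e1)) := by simp [T0, Ne.symm h03, Ne.symm h13, Ne.symm h23]
    obtain ⟨T1, hT1⟩ : ∃ T1, T1 = step T0 := ⟨_, rfl⟩
    obtain ⟨T2, hT2⟩ : ∃ T2, T2 = step T1 := ⟨_, rfl⟩
    obtain ⟨T3, hT3⟩ : ∃ T3, T3 = step T2 := ⟨_, rfl⟩
    have b1 : T1 m1 = θ m e0 := by rw [hT1, hstep]; simp only [hs1, a0]
    have b2 : T1 m2 = θ m1 (θ m e1) := by rw [hT1, hstep]; simp only [hs2, a1]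
    have b3 : T1 m3 = θ m2 (θ m1 (θ m e1)) := by rw [hT1, hstep]; simp only [hs3, a2]
    have c2 : T2 m2 = θ m1 (θ m e0) := by rw [hT2, hstep]; simp only [hs2, b1]
    have c3 : T2 m3 = θ m2 (θ m1 (θ m e1)) := by rw [hT2, hstep]; simp only [hs3, b2]
    have d3 : T3 m3 = θ m2 (θ m1 (θ m e0)) := by rw [hT3, hstep]; simp only [hs3, c2]
    have hz : ∀ {T T' : Fin t → Matrix (Fin k) (Fin k) F}, T m3 = θ m2 (θ m1 (θ m e0)) →
        T' m3 = θ m2 (θ m1 (θ m e1)) → tens T * tens T' = 0 := fun {T T'} h h' => by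
      rw [tens_mul]
      refine tens_eq_zero_iff.2 ⟨m3, ?_⟩
      rw [Pi.mul_apply, h, h', ← map_mul, ← map_mul, ← map_mul, he01, map_zero, map_zero, map_zero]
    have hM0' : ∀ T, M * tens T = tens (step T) * M := fun T => hstep ▸ Std.tens_conj hθ T
    have key : tens T3 * (E * E * E) * tens T0 = M * M * M * tens T0 := by
      have hx : ∀ X : Matrix (Fin t → Fin k) (Fin t → Fin k) F,
          X * tens T0 = 0 → tens T3 * X * tens T0 = 0 := fun X h => by rw [mul_assoc, h, mul_zero]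
      have p1 : tens T3 * tens T0 = 0 := hz d3 a3
      have p2 : tens T3 * M * tens T0 = 0 := by
        rw [mul_assoc, hM0', ← hT1, ← mul_assoc, hz d3 b3, zero_mul]
      have p3 : tens T3 * (M * M) * tens T0 = 0 := by
        rw [mul_assoc (tens T3), mul_assoc M M, hM0', ← hT1, ← mul_assoc M, hM0', ← hT2, mul_assoc (tens T2),
          ← mul_assoc, hz d3 c3, zero_mul]
      have p4 : M * M * M * tens T0 = tens T3 * (M * M * M) := by
        rw [mul_assoc (M * M), hM0', ← hT1, mul_assoc M M, ← mul_assoc M (tens T1), hM0', ← hT2, mul_assoc (tens T2),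
          ← mul_assoc M (tens T2), hM0', ← hT3]
        simp only [mul_assoc]
      have hTT : tens T0 * tens T0 = tens T0 := by
        rw [tens_mul]
        congr 1
        funext n
        have e00 : e0 * e0 = e0 := by simp [e0, Matrix.single_mul_single_same]
        have e11 : e1 * e1 = e1 := by simp [e1, Matrix.single_mul_single_same]
        simp only [Pi.mul_apply, T0]
        split_ifs
        · exact e00
        · rw [← map_mul, e11]
        · rw [← map_mul, ← map_mul, e11]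
        · rw [← map_mul, ← map_mul, ← map_mul, e11]
        · exact one_mul 1
      have e3 : E * E * E = M * M * M - (3 : F) • (M * M) + (3 : F) • M - 1 := by
        rw [hE]
        simp only [mul_sub, sub_mul, mul_one, one_mul]
        module
      rw [e3]
      simp only [mul_sub, mul_add, mul_smul_comm, mul_one, sub_mul, add_mul, smul_mul_assoc, p1, p2, p3, smul_zero,
        sub_zero, add_zero]
      rw [← p4, mul_assoc _ (tens T0) (tens T0), hTT]
    rw [hE3, mul_zero, zero_mul] at key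
    have h4 : tens T0 = 0 := by
      have := congrArg (adjJ (GV J) M * (adjJ (GV J) M * adjJ (GV J) M) * ·) key.symm
      simp only [mul_zero] at this
      rwa [show adjJ (GV J) M * (adjJ (GV J) M * adjJ (GV J) M) * (M * M * M * tens T0) =
        adjJ (GV J) M * (adjJ (GV J) M * (adjJ (GV J) M * M) * M) * M * tens T0 by simp only [mul_assoc], hM1,
        mul_one, hM1, mul_one, hM1, one_mul] at this
    obtain ⟨n, hn⟩ := tens_eq_zero_iff.1 h4
    simp only [T0] at hn
    split_ifs at hn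
    exacts [hne0 hn, hinj _ hne1 hn, hinj _ (hinj _ hne1) hn, hinj _ (hinj _ (hinj _ hne1)) hn, one_ne_zero hn]
  -- a three cycle
  have hP3 : P = 3 := by
    have hdiv : (σ ^ (P % 3)) m = m := by
      have h1 : ∀ n, (σ ^ (3 * n)) m = m := fun n => by
        induction n with
        | zero => simp
        | succ n ih =>
          rw [mul_add, pow_add, Equiv.Perm.mul_apply, show (σ ^ (3 * 1)) m = m by
            simp [pow_succ, Equiv.Perm.mul_apply, ← hm1, ← hm2', h3], ih]
      have h4 := hσP m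
      rwa [← Nat.mod_add_div P 3, pow_add, Equiv.Perm.mul_apply, h1] at h4
    by_contra hne
    have h5 : P % 3 ≠ 0 := fun h => hne ((Nat.prime_dvd_prime_iff_eq Nat.prime_three hprime).1
      (Nat.dvd_of_mod_eq_zero h)).symm
    rcases (show P % 3 = 1 ∨ P % 3 = 2 by omega) with h | h <;> rw [h] at hdiv
    · exact hm (by simpa using hdiv)
    · exact hm2 (by simpa [pow_two] using hdiv)
  have hM3 : M * M * M = 1 := by rw [← hMP, hP3, pow_three, mul_assoc]
  have hφ : ∀ B, θ m2 (θ m1 (θ m B)) = B := fun B => by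
    refine sl_injective m ?_
    have h4 : M * M * M * sl m B = sl m (θ m2 (θ m1 (θ m B))) * (M * M * M) := by
      rw [mul_assoc (M * M), hθ, ← hm1, mul_assoc M M, ← mul_assoc M (sl m1 _), hθ, ← hm2', mul_assoc (sl m2 _),
        ← mul_assoc M (sl m2 _), hθ, h3]
      simp only [mul_assoc]
    rw [hM3, one_mul, mul_one] at h4
    exact h4.symm
  let ev : Fin k → Matrix (Fin k) (Fin k) F := fun a => Matrix.single a a 1
  have hev : ∀ a, ev a ≠ 0 := fun a h => by simpa [ev] using congrFun (congrFun h a) a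
  obtain ⟨Q, hQ⟩ : ∃ Q : Fin k → Fin k → Fin k → Matrix (Fin t → Fin k) (Fin t → Fin k) F,
      Q = fun a b c => sl m (ev a) * sl m1 (θ m (ev b)) * sl m2 (θ m1 (θ m (ev c))) := ⟨_, rfl⟩
  have cA := fun A B : Matrix (Fin k) (Fin k) F => (sl_commute h01 A B).eq
  have cB := fun A B : Matrix (Fin k) (Fin k) F => (sl_commute h02 A B).eq
  have cC := fun A B : Matrix (Fin k) (Fin k) F => (sl_commute h12 A B).eq
  have hMQ : ∀ a b c, M * Q a b c = Q c a b * M := fun a b c => by
    rw [hQ]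
    simp only
    rw [← mul_assoc, ← mul_assoc, hθ, ← hm1, mul_assoc (sl m1 _) M, hθ, ← hm2', ← mul_assoc, mul_assoc (_ * _) M,
      hθ, h3, hφ, ← mul_assoc,
      mul_assoc (sl m1 _) (sl m2 _) (sl m _), ← cB, ← mul_assoc (sl m1 _) (sl m _), ← cA]
  have hQm : ∀ a b c a' b' c', Q a b c * Q a' b' c' =
      sl m (ev a * ev a') * sl m1 (θ m (ev b * ev b')) * sl m2 (θ m1 (θ m (ev c * ev c'))) := fun a b c a' b' c' => by
    rw [hQ]
    simp only
    rw [map_mul, map_mul, map_mul, ← sl_mul, ← sl_mul, ← sl_mul,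
      show sl m (ev a) * sl m1 (θ m (ev b)) * sl m2 (θ m1 (θ m (ev c))) *
        (sl m (ev a') * sl m1 (θ m (ev b')) * sl m2 (θ m1 (θ m (ev c')))) =
        sl m (ev a) * sl m1 (θ m (ev b)) * (sl m2 (θ m1 (θ m (ev c))) * sl m (ev a')) * sl m1 (θ m (ev b')) *
          sl m2 (θ m1 (θ m (ev c'))) by simp only [mul_assoc], ← cB]
    calc _ = sl m (ev a) * (sl m1 (θ m (ev b)) * sl m (ev a')) * (sl m2 (θ m1 (θ m (ev c))) * sl m1 (θ m (ev b'))) *
          sl m2 (θ m1 (θ m (ev c'))) := by simp only [mul_assoc]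
      _ = _ := by rw [← cA, ← cC]; simp only [mul_assoc]
  have hQid : ∀ a b c, Q a b c * Q a b c = Q a b c := fun a b c => by
    rw [hQm]
    simp only [ev, Matrix.single_mul_single_same, one_mul]
    rw [hQ]
  have hQo : ∀ a b c a' b' c', (a ≠ a' ∨ b ≠ b' ∨ c ≠ c') → Q a b c * Q a' b' c' = 0 := fun a b c a' b' c' h => by
    rw [hQm]
    rcases h with h | h | h
    · rw [show ev a * ev a' = 0 from Matrix.single_mul_single_of_ne (1 : F) a a a' h (1 : F), sl_zero, zero_mul, zero_mul]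
    · rw [show ev b * ev b' = 0 from Matrix.single_mul_single_of_ne (1 : F) b b b' h (1 : F), map_zero, sl_zero,
        mul_zero, zero_mul]
    · rw [show ev c * ev c' = 0 from Matrix.single_mul_single_of_ne (1 : F) c c c' h (1 : F), map_zero, map_zero,
        sl_zero, mul_zero]
  -- representatives of the free orbits
  let idx : (Fin k × Fin (k - 1)) ⊕ (Fin (k - 1) × Fin (k - 2)) → Fin k × Fin k × Fin k :=
    Sum.elim (fun x => (⟨0, by omega⟩, x.1, ⟨x.2.1 + 1, by omega⟩))
      (fun x => (⟨1, by omega⟩, ⟨x.1.1 + 1, by omega⟩, ⟨x.2.1 + 2, by omega⟩))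
  have hidx : ∀ x, (idx x).1 ≤ (idx x).2.1 ∧ (idx x).1 < (idx x).2.2 := fun x => by
    rcases x with x | x <;> simp only [idx, Sum.elim_inl, Sum.elim_inr, Fin.le_def, Fin.lt_def] <;> omega
  have hidxi : Function.Injective idx := by
    rintro (a | a) (b | b) h <;> simp only [idx, Sum.elim_inl, Sum.elim_inr, Prod.mk.injEq, Fin.ext_iff] at h <;>
      first
        | (exfalso; omega)
        | (congr 1; exact Prod.ext (Fin.ext (by omega)) (Fin.ext (by omega)))
  obtain ⟨R, hR⟩ : ∃ R : ((Fin k × Fin (k - 1)) ⊕ (Fin (k - 1) × Fin (k - 2))) × Fin 2 →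
      Matrix (Fin t → Fin k) (Fin t → Fin k) F, R = fun x => if x.2 = 0 then Q (idx x.1).1 (idx x.1).2.1 (idx x.1).2.2
        else Q (idx x.1).2.2 (idx x.1).1 (idx x.1).2.1 := ⟨_, rfl⟩
  have hRid : ∀ x, R x * R x = R x := fun x => by
    rw [hR]; simp only; split_ifs <;> exact hQid _ _ _
  have hord : ∀ x y, ¬ ((idx x).1 = (idx y).2.2 ∧ (idx x).2.1 = (idx y).1 ∧ (idx x).2.2 = (idx y).2.1) ∧
      ¬ ((idx x).1 = (idx y).2.1 ∧ (idx x).2.1 = (idx y).2.2 ∧ (idx x).2.2 = (idx y).1) := fun x y => by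
    have h1 := hidx x; have h2 := hidx y
    simp only [Fin.le_def, Fin.lt_def, Fin.ext_iff] at h1 h2 ⊢
    constructor <;> intro h <;> omega
  have hRo : ∀ x y, x ≠ y → R x * R y = 0 := fun x y hxy => by
    obtain ⟨x, i1⟩ := x
    obtain ⟨y, i2⟩ := y
    rw [hR]
    fin_cases i1 <;> fin_cases i2 <;> simp only [Fin.isValue, ↓reduceIte, Fin.reduceEq, Fin.mk_one, Fin.zero_eta] <;>
      refine hQo _ _ _ _ _ _ ?_ <;> by_contra! hh
    · exact hxy (Prod.ext (hidxi (Prod.ext hh.1 (Prod.ext hh.2.1 hh.2.2))) rfl)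
    · exact (hord x y).1 hh
    · exact (hord y x).1 ⟨hh.1.symm, hh.2.1.symm, hh.2.2.symm⟩
    · exact hxy (Prod.ext (hidxi (Prod.ext hh.2.1 (Prod.ext hh.2.2 hh.1))) rfl)
  obtain ⟨S0, hS0⟩ : ∃ S0, S0 = ∑ x, Q (idx x).1 (idx x).2.1 (idx x).2.2 := ⟨_, rfl⟩
  obtain ⟨S1, hS1⟩ : ∃ S1, S1 = ∑ x, Q (idx x).2.2 (idx x).1 (idx x).2.1 := ⟨_, rfl⟩
  obtain ⟨S2, hS2⟩ : ∃ S2, S2 = ∑ x, Q (idx x).2.1 (idx x).2.2 (idx x).1 := ⟨_, rfl⟩
  have h01M : M * S0 = S1 * M ∧ M * S1 = S2 * M := by
    constructor <;> simp only [hS0, hS1, hS2, Finset.mul_sum, Finset.sum_mul, hMQ]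
  have hz2 : ∀ (f f' : ((Fin k × Fin (k - 1)) ⊕ (Fin (k - 1) × Fin (k - 2))) → Fin k × Fin k × Fin k),
      (∀ x y, ¬ ((f x).1 = (f' y).1 ∧ (f x).2.1 = (f' y).2.1 ∧ (f x).2.2 = (f' y).2.2)) →
      (∑ x, Q (f x).1 (f x).2.1 (f x).2.2) * (∑ x, Q (f' x).1 (f' x).2.1 (f' x).2.2) = 0 := fun f f' h => by
    simp only [Finset.sum_mul, Finset.mul_sum]
    refine Finset.sum_eq_zero fun x _ => Finset.sum_eq_zero fun y _ => hQo _ _ _ _ _ _ ?_
    by_contra! hh
    first
      | exact h x y hh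
      | exact h y x hh
  have z01 : S0 * S1 = 0 := hS0 ▸ hS1 ▸ hz2 idx (fun x => ((idx x).2.2, (idx x).1, (idx x).2.1)) fun x y => (hord x y).1
  have z10 : S1 * S0 = 0 := hS0 ▸ hS1 ▸ hz2 (fun x => ((idx x).2.2, (idx x).1, (idx x).2.1)) idx
    fun x y h => (hord y x).1 ⟨h.1.symm, h.2.1.symm, h.2.2.symm⟩
  have z02 : S0 * S2 = 0 := hS0 ▸ hS2 ▸ hz2 idx (fun x => ((idx x).2.1, (idx x).2.2, (idx x).1)) fun x y => (hord x y).2
  have z12 : S1 * S2 = 0 := hS1 ▸ hS2 ▸ hz2 (fun x => ((idx x).2.2, (idx x).1, (idx x).2.1))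
    (fun x => ((idx x).2.1, (idx x).2.2, (idx x).1)) fun x y h => (hord x y).1 ⟨h.2.1, h.2.2, h.1⟩
  obtain ⟨hRR, hRr⟩ := rank_sum_orth hRid hRo Finset.univ
  obtain ⟨S, hSd⟩ : ∃ S, S = ∑ x, R x := ⟨_, rfl⟩
  rw [← hSd] at hRR hRr
  have hSS : S = S0 + S1 := by
    rw [hSd, Fintype.sum_prod_type, hS0, hS1, ← Finset.sum_add_distrib]
    refine Finset.sum_congr rfl fun x _ => ?_
    rw [Fin.sum_univ_two, hR]
    simp
  have hid0 := (rank_sum_orth (P := fun x => R (x, 0)) (fun x => hRid _)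
    (fun x y h => hRo _ _ fun e => h (congrArg Prod.fst e)) Finset.univ).1
  have hid1 := (rank_sum_orth (P := fun x => R (x, 1)) (fun x => hRid _)
    (fun x y h => hRo _ _ fun e => h (congrArg Prod.fst e)) Finset.univ).1
  have q0 : S0 * S0 = S0 := by simpa [hR, hS0] using hid0
  have q1 : S1 * S1 = S1 := by simpa [hR, hS1] using hid1
  obtain ⟨N, hN⟩ : ∃ N, N = S1 * M := ⟨_, rfl⟩
  have p00 : S0 * (M * S0) = 0 := by rw [h01M.1, ← mul_assoc, z01, zero_mul]
  have p01 : S0 * (M * S1) = 0 := by rw [h01M.2, ← mul_assoc, z02, zero_mul]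
  have p11 : S1 * (M * S1) = 0 := by rw [h01M.2, ← mul_assoc, z12, zero_mul]
  have p10 : S1 * (M * S0) = N := by rw [h01M.1, ← mul_assoc, q1, hN]
  have hSES : S * E * S = -S + N := by
    rw [hE, mul_sub, sub_mul, mul_one, hRR, hSS]
    simp only [add_mul, mul_add, mul_assoc, p00, p01, p10, p11, zero_add, add_zero]
    abel
  have hSN : S * N = N := by rw [hSS, hN, add_mul, ← mul_assoc, ← mul_assoc, z01, q1, zero_mul, zero_add]
  have hNS : N * S = N := by
    rw [hSS, mul_add, hN, mul_assoc, mul_assoc, p10, p11, add_zero, hN]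
  have hNN : N * N = 0 := by
    rw [hN, mul_assoc, ← mul_assoc M S1, h01M.2, ← mul_assoc, ← mul_assoc, z12, zero_mul, zero_mul]
  have hrS : S.rank ≤ E.rank := by
    have e2 : S = S * E * S * (-S - N) := by
      rw [hSES, mul_sub, add_mul, add_mul, neg_mul_neg, hRR, mul_neg, hNS, neg_mul, hSN, hNN]
      abel
    conv_lhs => rw [e2]
    exact (rank_mul_le_left _ _).trans ((rank_mul_le_left _ _).trans (rank_mul_le_right _ _))
  have hcount : 2 * (k * (k - 1) + (k - 1) * (k - 2)) * k ^ t ≤ k * k * k * S.rank := by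
    refine le_trans ?_ (Nat.mul_le_mul_left _ hRr)
    rw [Finset.mul_sum]
    refine le_trans (le_of_eq ?_) (Finset.sum_le_sum fun x _ => (?_ : k ^ t ≤ k * k * k * (R x).rank))
    · rw [Finset.sum_const, Finset.card_univ, Fintype.card_prod, Fintype.card_sum, Fintype.card_prod,
        Fintype.card_prod, Fintype.card_fin, Fintype.card_fin, Fintype.card_fin, Fintype.card_fin, smul_eq_mul]
      ring
    · rw [hR]
      simp only
      split_ifs <;> rw [hQ] <;>
        exact rank_sl3_ge h01 h02 h12 (hev _) (hinj _ (hev _)) (hinj _ (hinj _ (hev _)))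
  have hup : k * k * k * S.rank ≤ 2 * (k * k) * k ^ t := by
    have := Nat.mul_le_mul_left (k * k) ((Nat.mul_le_mul_left k hrS).trans hEr)
    calc k * k * k * S.rank = k * k * (k * S.rank) := by ring
      _ ≤ k * k * (2 * k ^ t) := this
      _ = _ := by ring
  have hkt : 0 < k ^ t := pow_pos (by omega) t
  have h9 := Nat.le_of_mul_le_mul_right (hcount.trans hup) hkt
  obtain ⟨d, rfl⟩ : ∃ d, k = d + 4 := ⟨k - 4, by omega⟩
  simp only [show d + 4 - 1 = d + 3 by omega, show d + 4 - 2 = d + 2 by omega] at h9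
  nlinarith

/-- the group permutes the slot algebras -/
theorem std_of_cent {g : Matrix (Fin t → Fin k) (Fin t → Fin k) F} (hg : MG G g) : Std g := by
  classical
  have hJ := hS.sj
  have hk := hJ.kk
  haveI : Nonempty (Fin k) := ⟨⟨0, by omega⟩⟩
  obtain ⟨hga, hg1, hg2⟩ := hS.adj_inv hg
  by_cases h2 : ∃ i ∈ Sg, ∃ l ∈ Sg, i ≠ l
  swap
  · push Not at h2
    intro j
    by_cases hj : j ∈ Sg
    · exact std_of_but hJ hg2 j (fun m hm => ⟨m, fun A => ⟨A, (hS.out' hg (fun h => hm (h2 m h j hj)) A).eq⟩⟩) j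
    · exact ⟨j, fun A => ⟨A, (hS.out' hg hj A).eq⟩⟩
  obtain ⟨i, hi, l, hl, hil⟩ := h2
  by_cases hk4 : 4 ≤ k
  swap
  · -- three dimensional slots
    obtain ⟨a, b, c, ha, hb, hc, habc⟩ := exists_triangle hJ (show k = 3 by omega)
    have h1 := hS.std_conj_pair hC hi hl hil ha ha hga
    have h3 := hS.std_conj_pair hC hi hl hil hb ha hga
    have h4 := h1.mul h3
    rw [hS.conj_mul hga, mul_assoc (sl i _) (sl l _), ← mul_assoc (sl l _) (sl i _), ← (sl_commute hil _ _).eq,
      mul_assoc (sl i _) (sl l _) (sl l _), sl_mul, dl_sq ha.1, sl_one, mul_one, sl_mul, habc, hS.adj_adj'] at h4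
    exact hS.uf hC hi hc hg h4
  intro j
  by_cases hj : j ∈ Sg
  swap
  · exact ⟨j, fun A => ⟨A, (hS.out' hg hj A).eq⟩⟩
  let P : Matrix (Fin t → Fin k) (Fin t → Fin k) F → Prop := fun X => ∃ A, X = g * sl j A * adjJ (GV J) g
  have hInv : Inv J P := by
    refine ⟨⟨⟨1, by rw [sl_one, mul_one, hg2]⟩, ?_, ?_, ?_⟩, ?_⟩
    · rintro _ _ ⟨A, rfl⟩ ⟨B, rfl⟩; exact ⟨A + B, by rw [sl_add, mul_add, add_mul]⟩
    · rintro _ ⟨A, rfl⟩ s; exact ⟨s • A, by rw [sl_smul, mul_smul_comm, smul_mul_assoc]⟩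
    · rintro _ _ ⟨A, rfl⟩ ⟨B, rfl⟩; exact ⟨A * B, by rw [hS.conj_mul hg, sl_mul]⟩
    rintro _ ⟨A, rfl⟩ n p e hp he
    have he' : bf J p (-e) = 0 := by rw [← neg_one_smul F e, bf_smul_right, he, mul_zero]
    by_cases hn : n ∈ Sg
    · obtain ⟨n', hn', hnn⟩ : ∃ n' ∈ Sg, n ≠ n' := by
        rcases eq_or_ne n i with rfl | h
        · exact ⟨l, hl, hil⟩
        · exact ⟨i, hi, h⟩
      obtain ⟨B, hB⟩ := hS.root_fix hC hk4 hn hn' hnn hp he hga j A
      rw [hS.adj_adj'] at hB
      refine ⟨B, ?_⟩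
      calc sl n (eS J p e) * (g * sl j A * adjJ (GV J) g) * sl n (eS J p (-e))
          = g * (adjJ (GV J) g * sl n (eS J p e) * g * sl j A) * (adjJ (GV J) g * sl n (eS J p (-e))) := by
            simp only [← mul_assoc, hg2, one_mul]
        _ = g * sl j B * (adjJ (GV J) g * sl n (eS J p e) * (g * adjJ (GV J) g) * sl n (eS J p (-e))) := by
            rw [hB]; simp only [mul_assoc]
        _ = _ := by rw [hg2, mul_one, mul_assoc (adjJ (GV J) g), sl_mul, hJ.eS_inv hp he, sl_one, mul_one]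
    · refine ⟨A, ?_⟩
      have c1 := (hS.out' hg hn (eS J p e)).eq
      have c2 := (hS.out' hga hn (eS J p (-e))).eq
      have c3 := (sl_commute (fun h : n = j => hn (h ▸ hj)) (eS J p e) A).eq
      rw [← mul_assoc, ← mul_assoc, ← c1, mul_assoc g _ (sl j A), c3, mul_assoc _ (adjJ _ g) (sl n _), c2,
        show g * (sl j A * sl n (eS J p e)) * (sl n (eS J p (-e)) * adjJ (GV J) g) =
          g * sl j A * (sl n (eS J p e) * sl n (eS J p (-e))) * adjJ (GV J) g by simp only [mul_assoc],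
        sl_mul, hJ.eS_inv hp he, sl_one, mul_one]
  obtain ⟨A0, hA0⟩ := exists_nonscalar (F := F) (k := k) (by omega)
  obtain ⟨l0, hl0⟩ := hInv.exists_slot hJ (c := g * sl j A0 * adjJ (GV J) g) ⟨A0, rfl⟩ fun κ e => by
    have h1 := congrArg (fun X => adjJ (GV J) g * X * g) e
    simp only [← mul_assoc, hg1, one_mul, mul_smul_comm, smul_mul_assoc, mul_one] at h1
    rw [mul_assoc _ _ g, hg1, mul_one, ← sl_one (F := F) (κ := Fin k) j, ← sl_smul] at h1
    exact hA0 κ (sl_injective j h1)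
  refine ⟨l0, fun A => ?_⟩
  choose φ hφ using hl0
  have hun : ∀ {B B' : Matrix (Fin k) (Fin k) F}, g * sl j B * adjJ (GV J) g = g * sl j B' * adjJ (GV J) g → B = B' := by
    intro B B' h
    have := congrArg (fun X => adjJ (GV J) g * X * g) h
    simp only [← mul_assoc, hg1, one_mul] at this
    rw [mul_assoc _ _ g, mul_assoc _ _ g, hg1, mul_one, mul_one] at this
    exact sl_injective j this
  let φl : Matrix (Fin k) (Fin k) F →ₗ[F] Matrix (Fin k) (Fin k) F :=
    { toFun := φ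
      map_add' := fun B B' => hun (by rw [← hφ, sl_add, sl_add, mul_add, add_mul, ← hφ, ← hφ])
      map_smul' := fun c B => hun (by
        rw [← hφ, sl_smul, RingHom.id_apply, sl_smul, mul_smul_comm, smul_mul_assoc, ← hφ]) }
  have hinj : Function.Injective φl := fun B B' h => sl_injective l0 (by
    rw [hφ B, hφ B', show φ B = φ B' from h])
  obtain ⟨B, hB⟩ := LinearMap.injective_iff_surjective.1 hinj A
  refine ⟨B, ?_⟩
  rw [hφ B, show φ B = A from hB, mul_assoc, hg1, mul_one]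

end Setting

end Cfsg.Agent.ClassicalMax.OOWreath
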