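import Cfsg.Agent.ClassicalMax.OOWreath.Finish

/-!
Elements fixing a line of one slot or acting by one operator on several lines of it.
-/

set_option autoImplicit false
set_option linter.unusedSectionVars false
set_option linter.unusedSimpArgs false

namespace Cfsg.Agent.ClassicalMax.OOWreath

open Matrix Cfsg.Agent.ClassicalMax.TPow
open Cfsg.Agent.ClassicalMax.SpWreath (GV GV_det)

variable {F : Type*} [Field F] {k t : ℕ} {J : Matrix (Fin k) (Fin k) F}

theorem maps_comb {i : Fin t} {M a : Matrix (Fin t → Fin k) (Fin t → Fin k) F} {v v' w w' : Fin k → F}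
    (h : Maps J i M v v' a) (h' : Maps J i M w w' a) (c d : F) :
    Maps J i M (c • v + d • w) (c • v' + d • w') a := fun z => by
  simp only [rk_add_left, rk_smul_left, sl_add, sl_smul, mul_add, mul_smul_comm, h z, h' z, add_mul, smul_mul_assoc]

theorem maps_scale {i : Fin t} {M a : Matrix (Fin t → Fin k) (Fin t → Fin k) F} {v v' : Fin k → F}
    (h : Maps J i M v v' a) (c : F) : Maps J i M (c • v) (c • v') a := fun z => by
  simp only [rk_smul_left, sl_smul, mul_smul_comm, h z, smul_mul_assoc]

theorem maps_op_smul {i : Fin t} {M a : Matrix (Fin t → Fin k) (Fin t → Fin k) F} {v v' : Fin k → F} {c : F}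
    (h : Maps J i M v v' (c • a)) : Maps J i M v (c • v') a := fun z => by
  rw [rk_smul_left, sl_smul, h z, mul_smul_comm, smul_mul_assoc]

theorem maps_zero {i : Fin t} (M a : Matrix (Fin t → Fin k) (Fin t → Fin k) F) :
    Maps J i M (0 : Fin k → F) (0 : Fin k → F) a := fun z => by
  simp [rk, zero_vecMulVec, sl_zero]

/-- the operator of a line is unique -/
theorem maps_unique (hJ : SJ J) {i : Fin t} {M a b : Matrix (Fin t → Fin k) (Fin t → Fin k) F} {v v' : Fin k → F}
    (hv : v' ≠ 0) (ha : ∀ A, Commute a (sl i A)) (hb : ∀ A, Commute b (sl i A)) (h : Maps J i M v v' a)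
    (h' : Maps J i M v v' b) : a = b :=
  eq_of_sl i (hJ.rk_ne hv hv) ha hb (by rw [← h, ← h'])

/-- an element mapping every line to a line with the same operator -/
theorem slot_of_maps (hJ : SJ J) {i : Fin t} {M b : Matrix (Fin t → Fin k) (Fin t → Fin k) F}
    (h : ∀ v, ∃ v', Maps J i M v v' b) : ∃ A, M = sl i A * b := by
  choose f hf using h
  refine ⟨∑ x, rk J (f (Pi.single x 1)) ((1 : Matrix (Fin k) (Fin k) F).row x ᵥ* J⁻¹), ?_⟩
  have e : (1 : Matrix (Fin k) (Fin k) F) =
      ∑ x, rk J (Pi.single x 1) ((1 : Matrix (Fin k) (Fin k) F).row x ᵥ* J⁻¹) := by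
    ext x y
    simp only [rk, Matrix.sum_apply, vecMulVec_apply, vecMul_vecMul, nonsing_inv_mul J hJ.det, vecMul_one,
      Pi.single_apply, ite_mul, one_mul, zero_mul, Finset.sum_ite_eq, Finset.mem_univ, if_true]
    rfl
  conv_lhs => rw [← mul_one M, ← sl_one (F := F) (κ := Fin k) i, e, sl_sum, Finset.mul_sum]
  rw [sl_sum, Finset.sum_mul]
  exact Finset.sum_congr rfl fun x _ => hf _ _

theorem ct_slice (hJ : SJ J) (i : Fin t) (a b : Fin k → F) (M : Matrix (Fin t → Fin k) (Fin t → Fin k) F)
    (x y : Fin t → Fin k) :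
    slice' (ct J i a b M) i x y = bf J a (slice' M i x y *ᵥ b) • (1 : Matrix (Fin k) (Fin k) F) := by
  ext p q
  rw [slice', Matrix.of_apply, ct_apply, Function.update_self, Function.update_self, Matrix.smul_apply,
    Matrix.one_apply, smul_eq_mul]
  by_cases h : p = q
  · rw [if_pos h, if_pos h, mul_one]
    have e : slice' M i (Function.update x i p) (Function.update y i q) = slice' M i x y := by
      ext r s; simp [slice', Function.update_idem]
    rw [e]
  · rw [if_neg h, if_neg h, mul_zero]

theorem rf_commute_mulVec {u : Fin k → F} (hu : bf J u u ≠ 0) (h2 : (2 : F) ≠ 0) {S : Matrix (Fin k) (Fin k) F}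
    (h : Commute S (dl J u)) : ∃ c : F, S *ᵥ u = c • u := by
  have h1 := congrArg (· *ᵥ u) h.eq
  simp only [← mulVec_mulVec, dl_self hu, mulVec_smul, dl, smul_mulVec] at h1
  simp only [rf_mulVec, mulVec_add, mulVec_smul, smul_add, smul_smul, div_mul_cancel₀ _ hu] at h1
  rw [div_mul_eq_mul_div, mul_div_assoc] at h1
  refine ⟨bf J u (S *ᵥ u) / bf J u u, smul_right_injective _ (mul_ne_zero h2 (sg_ne (F := F) (k := k))) ?_⟩
  simp only [smul_smul]
  linear_combination (norm := module) -h1

variable [Finite F] {Sg : Finset (Fin t)} {G : Subgroup (GL (Fin t → Fin k) F)}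

namespace Setting

variable (hS : Setting J Sg G)
include hS

theorem op_of_MG {i : Fin t} {M : Matrix (Fin t → Fin k) (Fin t → Fin k) F} (hM : MG G M)
    (h : ∀ A, Commute M (sl i A)) : Op Sg i M := fun l hl A => by
  rcases hl with rfl | hl
  · exact h A
  · exact hS.out' hM hl A

/-- an element commuting with the reflection of a line -/
theorem commute_line {i : Fin t} {v : Fin k → F} (hv : bf J v v ≠ 0)
    {h : Matrix (Fin t → Fin k) (Fin t → Fin k) F} (hh : MG G h) (hc : Commute h (sl i (dl J v))) :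
    ∃ a, Op Sg i a ∧ Maps J i h v v a ∧ adjJ (GV J) a * a = 1 := by
  have hJ := hS.sj
  have hhalf : ∀ {g : Matrix (Fin t → Fin k) (Fin t → Fin k) F}, MG G g → Commute g (sl i (dl J v)) →
      ∃ a, Op Sg i a ∧ Maps J i g v v a := by
    intro g hg hgc
    obtain ⟨c, hcd⟩ : ∃ c, c = (bf J v v)⁻¹ := ⟨_, rfl⟩
    refine ⟨c • ct J i v v g, Op.smul (fun l hl A => ?_) c, fun w => ?_⟩
    · rcases eq_or_ne l i with rfl | hli
      · exact ct_commute l v v g A
      · exact ct_commute_other hli v v (hS.out' hg (hl.resolve_left hli) A)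
    have hP : Commute g (sl i (rk J v v)) := by
      have e : sl (β := Fin t) i (rk J v v) = (bf J v v / 2) • (1 - sg F k • sl i (dl J v)) := by
        rw [← sl_one (F := F) (κ := Fin k) i, ← sl_smul, sub_eq_add_neg, ← neg_one_smul F (sl i (_ • dl J v)),
          ← sl_smul, ← sl_add, ← sl_smul]
        congr 1
        rw [dl, smul_smul, smul_smul, mul_assoc, sg_sq, mul_one, rf]
        have := hJ.two
        match_scalars <;> field_simp <;> ring
      rw [e]
      exact ((Commute.one_right g).sub_right (hgc.smul_right _)).smul_right _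
    have e1 : sl (β := Fin t) i (rk J v w) = c • (sl i (rk J v v) * sl i (rk J v w)) := by
      rw [sl_mul, rk_mul_rk, sl_smul, smul_smul, hcd, inv_mul_cancel₀ hv, one_smul]
    have e2 : g * sl i (rk J v w) = c • (sl i (rk J v v) * g * sl i (rk J v w)) := by
      conv_lhs => rw [e1, mul_smul_comm, ← mul_assoc, hP.eq]
    rw [e2, sl_ct, mul_smul_comm]
  obtain ⟨a, hao, ha⟩ := hhalf hh hc
  obtain ⟨hha, h1, h2⟩ := hS.adj_inv hh
  have hca : Commute (adjJ (GV J) h) (sl i (dl J v)) := by
    calc adjJ (GV J) h * sl i (dl J v) = adjJ (GV J) h * (sl i (dl J v) * h) * adjJ (GV J) h := by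
          simp only [mul_assoc, h2, mul_one]
      _ = sl i (dl J v) * adjJ (GV J) h := by rw [← hc.eq, ← mul_assoc, h1, one_mul]
  obtain ⟨b, hbo, hb⟩ := hhalf hha hca
  refine ⟨a, hao, ha, ?_⟩
  have hv0 : v ≠ 0 := fun e => hv (by rw [e, bf, zero_dotProduct])
  have hba : a * b = 1 := by
    have := hb.mul ha
    rw [h2] at this
    exact (maps_unique hJ hv0 (fun A => (hao.self A).mul_left (hbo.self A)) (fun A => Commute.one_left _) this
      (Maps.one i v))
  have e : adjJ (GV J) a = b := by
    have h3 := ha.adj hJ.symm hJ.det hao.self v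
    have h4 : sl i (rk J v v) * adjJ (GV J) h = sl i (rk J v v) * b := by
      have := hb v
      rwa [show adjJ (GV J) h * sl i (rk J v v) = sl i (rk J v v) * adjJ (GV J) h from by
        have e : sl (β := Fin t) i (rk J v v) = (bf J v v / 2) • (1 - sg F k • sl i (dl J v)) := by
          rw [← sl_one (F := F) (κ := Fin k) i, ← sl_smul, sub_eq_add_neg, ← neg_one_smul F (sl i (_ • dl J v)),
            ← sl_smul, ← sl_add, ← sl_smul]
          congr 1
          rw [dl, smul_smul, smul_smul, mul_assoc, sg_sq, mul_one, rf]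
          have := hJ.two
          match_scalars <;> field_simp <;> ring
        rw [e]
        exact (((Commute.one_right _).sub_right (hca.smul_right _)).smul_right _).eq] at this
    exact eq_of_sl i (hJ.rk_ne hv0 hv0) (hao.adj hJ.symm hJ.det).self hbo.self (h3.symm.trans h4)
  rw [e]
  exact mul_eq_one_comm.1 hba

/-- the operator on both sides of a fixed line -/
theorem fix_left {i : Fin t} {v : Fin k → F} {h : Matrix (Fin t → Fin k) (Fin t → Fin k) F} (hh : MG G h)
    (hf : Maps J i h v v 1) (w : Fin k → F) :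
    sl i (rk J w v) * h = sl i (rk J w v) ∧ Maps J i (adjJ (GV J) h) v v 1 := by
  obtain ⟨-, h1, h2⟩ := hS.adj_inv hh
  have e := hf.adj hS.sj.symm hS.sj.det (fun A => Commute.one_left _) w
  rw [adj_one hS.GV_det', mul_one] at e
  refine ⟨?_, fun z => ?_⟩
  · conv_lhs => rw [← e, mul_assoc, h1, mul_one]
  · have := congrArg (adjJ (GV J) h * ·) (hf z)
    simp only [← mul_assoc, h1, one_mul, mul_one] at this
    rw [mul_one]
    exact this.symm

theorem fix_commute {i : Fin t} {v : Fin k → F} {h : Matrix (Fin t → Fin k) (Fin t → Fin k) F} (hh : MG G h)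
    (hf : Maps J i h v v 1) : Commute h (sl i (dl J v)) := by
  have hc : Commute h (sl i (rk J v v)) := by
    show _ = _
    rw [(hS.fix_left hh hf v).1, hf v, mul_one]
  have e : dl J v = sg F k • (1 : Matrix (Fin k) (Fin k) F) + (-(sg F k) * (2 / bf J v v)) • rk J v v := by
    rw [dl, rf]; module
  rw [e, sl_add, sl_smul, sl_smul, sl_one]
  exact ((Commute.one_right h).smul_right _).add_right (hc.smul_right _)

theorem fix_mul {i : Fin t} {v : Fin k → F} {g h : Matrix (Fin t → Fin k) (Fin t → Fin k) F}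
    {a b : Matrix (Fin t → Fin k) (Fin t → Fin k) F} (hg : Maps J i g v v a) (hh : Maps J i h v v b) :
    Maps J i (g * h) v v (a * b) := hh.mul hg

/-- an element trivial on a hyperbolic plane lies in the slot -/
theorem fix_pair (hF : ¬ Full J Sg G) {i : Fin t} (hi : i ∈ Sg) {u d : Fin k → F} (hu : bf J u u ≠ 0)
    (hud : bf J u d = 0) (hd : bf J d d = -bf J u u) {h : Matrix (Fin t → Fin k) (Fin t → Fin k) F} (hh : MG G h)
    (hfu : Maps J i h u u 1) (hfd : Maps J i h d d 1) : ∃ A, h = sl i A := by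
  have hJ := hS.sj
  have h2 := hJ.two
  have hdu : bf J d u = 0 := by rw [hJ.comm, hud]
  obtain ⟨p, hp⟩ : ∃ p, p = (1 : F) • u + (1 : F) • d := ⟨_, rfl⟩
  obtain ⟨q, hq⟩ : ∃ q, q = (2 * bf J u u)⁻¹ • u + (-(2 * bf J u u)⁻¹) • d := ⟨_, rfl⟩
  have hfp : Maps J i h p p 1 := hp ▸ maps_comb hfu hfd 1 1
  have hfq : Maps J i h q q 1 := hq ▸ maps_comb hfu hfd _ _
  have hpp : bf J p p = 0 := by
    simp only [hp, bf_add_left, bf_add_right, bf_smul_left, bf_smul_right, hud, hdu, hd]; ring
  have hqq : bf J q q = 0 := by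
    simp only [hq, bf_add_left, bf_add_right, bf_smul_left, bf_smul_right, hud, hdu, hd]; ring
  have hpq : bf J p q = 1 := by
    simp only [hp, hq, bf_add_left, bf_add_right, bf_smul_left, bf_smul_right, hud, hdu, hd]
    field_simp; ring
  have hp0 : p ≠ 0 := fun e => by rw [e, bf, zero_dotProduct] at hpq; exact zero_ne_one hpq
  obtain ⟨hha, h1, h2'⟩ := hS.adj_inv hh
  obtain ⟨P, hP⟩ : ∃ P, P = (1 : Matrix (Fin k) (Fin k) F) - rk J p q - rk J q p := ⟨_, rfl⟩
  have hPc : Commute (sl i P) (adjJ (GV J) h) := by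
    obtain ⟨-, hap⟩ := hS.fix_left hh hfp 0
    obtain ⟨-, haq⟩ := hS.fix_left hh hfq 0
    have cpq : Commute (adjJ (GV J) h) (sl i (rk J p q)) := by
      show _ = _
      rw [hap q, mul_one, (hS.fix_left hha haq p).1]
    have cqp : Commute (adjJ (GV J) h) (sl i (rk J q p)) := by
      show _ = _
      rw [haq p, mul_one, (hS.fix_left hha hap q).1]
    rw [hP, sub_eq_add_neg, sub_eq_add_neg, ← neg_one_smul F (rk J p q), ← neg_one_smul F (rk J q p), sl_add, sl_add,
      sl_smul, sl_smul, sl_one]
    exact (((Commute.one_right _).add_right (cpq.smul_right _)).add_right (cqp.smul_right _)).symm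
  have hmid : ∀ f, bf J p f = 0 → bf J q f = 0 → ∃ f', Maps J i h f f' 1 := by
    intro f hpf hqf
    have hfp' : bf J f p = 0 := by rw [hJ.comm, hpf]
    obtain ⟨hr, -⟩ := hS.mg_root hi hpp hpf
    obtain ⟨N, hN⟩ : ∃ N, N = h * sl i (eS J p f) * adjJ (GV J) h := ⟨_, rfl⟩
    have hrp : eS J p f *ᵥ p = p := by
      rw [hJ.eS_eq hpp hpf, xp, add_mulVec, add_mulVec, one_mulVec, sub_mulVec, smul_mulVec, rk_mulVec, rk_mulVec,
        rk_mulVec, hfp', hpp]
      simp
    have hrad : IsRad J Sg G i p N := by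
      refine ⟨hN ▸ hS.conj_mem hh hr, ?_, ?_⟩
      · have e1 : Maps J i (sl i (eS J p f)) p p 1 := by
          have := maps_sl (J := J) i (eS J p f) p
          rwa [hrp] at this
        have e2 := ((hS.fix_left hh hfp 0).2.mul e1).mul hfp
        rw [hN]
        simpa only [mul_assoc, mul_one] using e2
      · intro v hv
        obtain ⟨m, hm⟩ : ∃ m, m = v + (-bf J q v) • p := ⟨_, rfl⟩
        have hpm : bf J p m = 0 := by rw [hm, bf_add_right, bf_smul_right, hv, hpp]; ring
        have hqm : bf J q m = 0 := by rw [hm, bf_add_right, bf_smul_right, hJ.comm q p, hpq]; ring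
        obtain ⟨T, hT⟩ : ∃ T, T = ct J i f m (adjJ (GV J) h) := ⟨_, rfl⟩
        have hTo : Op Sg i T := hT ▸ fun l hl A => by
          rcases eq_or_ne l i with rfl | hli
          · exact ct_commute l f m _ A
          · exact ct_commute_other hli f m (hS.out' hha (hl.resolve_left hli) A)
        refine ⟨T, hTo, fun w => ?_⟩
        have hPm : P *ᵥ m = m := by
          rw [hP, sub_mulVec, sub_mulVec, one_mulVec, rk_mulVec, rk_mulVec, hpm, hqm]; simp
        have hrP : (eS J p f - 1) * P = rk J p f := by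
          rw [hJ.eS_eq hpp hpf, hP, xp]
          simp only [add_sub_cancel_left, sub_mul, mul_sub, add_mul, mul_one, one_mul, rk_mul_rk, smul_mul_assoc,
            mul_smul_comm, hfp', hpq, hpp, show bf J f q = 0 by rw [hJ.comm, hqf], zero_smul, one_smul, smul_zero]
          module
        have e3 : adjJ (GV J) h * sl i (rk J m w) = sl i P * (adjJ (GV J) h * sl i (rk J m w)) := by
          rw [← mul_assoc, hPc.eq, mul_assoc, sl_mul, mul_rk, hPm]
        have e4 : N * sl i (rk J m w) = sl i (rk J m w) + sl i (rk J p w) * T := by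
          rw [hN, mul_assoc, e3, ← mul_assoc, mul_assoc h, sl_mul,
            show eS J p f * P = P + (eS J p f - 1) * P by rw [sub_mul, one_mul, add_sub_cancel],
            hrP, sl_add, mul_add, add_mul, mul_assoc h (sl i P), ← e3, ← mul_assoc h (adjJ (GV J) h), h2', one_mul,
            mul_assoc h]
          congr 1
          obtain ⟨w', hw'⟩ : ∃ w', w' = w := ⟨_, rfl⟩
          rw [← mul_assoc (sl i (rk J p f)), sl_ct, ← hT, ← mul_assoc, hfp w, mul_one]
        have hNp : Maps J i N p p 1 := by
          have e1 : Maps J i (sl i (eS J p f)) p p 1 := by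
            have := maps_sl (J := J) i (eS J p f) p
            rwa [hrp] at this
          have e2 := ((hS.fix_left hh hfp 0).2.mul e1).mul hfp
          rw [hN]
          simpa only [mul_assoc, mul_one] using e2
        rw [show v = m + bf J q v • p by rw [hm]; module, rk_add_left, rk_smul_left, sl_add, sl_smul, mul_add,
          mul_smul_comm, e4, hNp w, mul_one]
        abel
    obtain ⟨f', hpf', hN'⟩ := hS.rad_slot hF hi hp0 hpp hrad
    have hrh : h * sl i (eS J p f) = sl i (eS J p f') * h := by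
      rw [← hN', hN, mul_assoc, h1, mul_one]
    have hrq : Maps J i h (eS J p f *ᵥ q) (eS J p f' *ᵥ q) 1 := fun w => by
      have e5 := congrArg (· * sl i (rk J q w)) hrh
      simp only [mul_assoc] at e5
      rw [sl_mul, hfq w, mul_one, sl_mul, mul_rk, mul_rk] at e5
      rw [e5, mul_one]
    have e6 : (1 : F) • ((1 : F) • q + (-bf J f f / 2) • p) + (-1 : F) • (eS J p f *ᵥ q) = f := by
      rw [hJ.eS_eq hpp hpf, xp, add_mulVec, add_mulVec, one_mulVec, sub_mulVec, smul_mulVec, rk_mulVec, rk_mulVec,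
        rk_mulVec, hpq, show bf J f q = 0 by rw [hJ.comm, hqf]]
      module
    have h5 := maps_comb (maps_comb hfq hfp 1 (-bf J f f / 2)) hrq 1 (-1)
    rw [e6] at h5
    exact ⟨_, h5⟩
  obtain ⟨A, hA⟩ := slot_of_maps hJ (i := i) (M := h) (b := 1) fun v => by
    obtain ⟨m, hm⟩ : ∃ m, m = v + (-bf J q v) • p + (-bf J p v) • q := ⟨_, rfl⟩
    obtain ⟨m', hm'⟩ := hmid m
      (by rw [hm, bf_add_right, bf_add_right, bf_smul_right, bf_smul_right, hpp, hpq]; ring)
      (by rw [hm, bf_add_right, bf_add_right, bf_smul_right, bf_smul_right, hqq, hJ.comm q p, hpq]; ring)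
    refine ⟨(1 : F) • ((1 : F) • m' + bf J q v • p) + bf J p v • q, ?_⟩
    have h3 := maps_comb (maps_comb hm' hfp 1 (bf J q v)) hfq 1 (bf J p v)
    rwa [show (1 : F) • ((1 : F) • m + bf J q v • p) + bf J p v • q = v by rw [hm]; module] at h3
  exact ⟨A, by rw [hA, mul_one]⟩

/-- one operator on the lines of a connected family -/
theorem scalar_on {i : Fin t} {n : ℕ} (fv : Fin n → Fin k → F) {z : Matrix (Fin t → Fin k) (Fin t → Fin k) F}
    (hz : MG G z)
    (hc : ∀ w, Good J w → (∀ a, bf J (fv a) w = 0) → Commute z (sl i (dl J w)))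
    (hconn : ∀ v w, Good J v → (∀ a, bf J (fv a) v = 0) → Good J w → (∀ a, bf J (fv a) w = 0) → bf J v w = 0 →
      ∃ y, Good J y ∧ (∀ a, bf J (fv a) y = 0) ∧ bf J y v ≠ 0 ∧ bf J y w ≠ 0)
    (hspan : ∀ v, (∀ a, bf J (fv a) v = 0) → v ∈ Submodule.span F {w | Good J w ∧ ∀ a, bf J (fv a) w = 0})
    {w0 : Fin k → F} (hw0 : Good J w0) (hw0' : ∀ a, bf J (fv a) w0 = 0) :
    ∃ b, Op Sg i b ∧ adjJ (GV J) b * b = 1 ∧ ∀ v, (∀ a, bf J (fv a) v = 0) → Maps J i z v v b := by
  have hJ := hS.sj
  have hne0 : w0 ≠ 0 := fun e => hw0.1 (by rw [e, bf, zero_dotProduct])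
  obtain ⟨b, hbo, hb, hbb⟩ := hS.commute_line hw0.1 hz (hc w0 hw0 hw0')
  refine ⟨b, hbo, hbb, fun v hv => ?_⟩
  -- on the slices
  have heig : ∀ x y v, (∀ a, bf J (fv a) v = 0) →
      slice' z i x y *ᵥ v = (bf J w0 (slice' z i x y *ᵥ w0) / bf J w0 w0) • v := by
    intro x y v hv
    obtain ⟨S, hS'⟩ : ∃ S, S = slice' z i x y := ⟨_, rfl⟩
    rw [← hS']
    obtain ⟨lam, hlam⟩ : ∃ lam, lam = bf J w0 (S *ᵥ w0) / bf J w0 w0 := ⟨_, rfl⟩
    rw [← hlam]
    have hcS : ∀ w, Good J w → (∀ a, bf J (fv a) w = 0) → Commute S (dl J w) := fun w hw hw' => by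
      have := congrArg (fun Z => slice' Z i x y) (hc w hw hw').eq
      simp only [slice'_mul_sl, slice'_sl_mul] at this
      rw [hS']
      exact this
    have hstep : ∀ v w, Good J v → (∀ a, bf J (fv a) v = 0) → Good J w → (∀ a, bf J (fv a) w = 0) →
        bf J w v ≠ 0 → S *ᵥ w = lam • w → S *ᵥ v = lam • v := by
      intro v w hv hv' hw hw' hwv hSw
      obtain ⟨μ, hμ⟩ := rf_commute_mulVec hv.1 hJ.two (hcS v hv hv')
      have h1 := congrArg (· *ᵥ v) (hcS w hw hw').eq
      simp only [← mulVec_mulVec, dl, smul_mulVec, mulVec_smul, rf_mulVec, mulVec_add, hμ, hSw, bf_smul_right] at h1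
      rw [smul_comm μ (sg F k)] at h1
      have h2 := smul_right_injective _ (sg_ne (F := F) (k := k)) h1
      have h3 : (-(2 / bf J w w * bf J w v)) • ((lam - μ) • w) = 0 := by linear_combination (norm := module) h2
      rcases smul_eq_zero.1 h3 with h | h
      · exact absurd (neg_eq_zero.1 h) (mul_ne_zero (div_ne_zero hJ.two hw.1) hwv)
      · have hw00 : w ≠ 0 := fun e => hw.1 (by rw [e, bf, zero_dotProduct])
        rw [hμ, ← sub_eq_zero.1 ((smul_eq_zero.1 h).resolve_right hw00)]
    have h0 : S *ᵥ w0 = lam • w0 := by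
      obtain ⟨μ, hμ⟩ := rf_commute_mulVec hw0.1 hJ.two (hcS w0 hw0 hw0')
      rw [hμ, hlam, hμ, bf_smul_right, mul_div_cancel_right₀ _ hw0.1]
    have hall : ∀ w, Good J w → (∀ a, bf J (fv a) w = 0) → S *ᵥ w = lam • w := fun w hw hw' => by
      by_cases h : bf J w0 w = 0
      · obtain ⟨y, hy, hy', hy0, hyw⟩ := hconn w0 w hw0 hw0' hw hw' h
        exact hstep w y hw hw' hy hy' hyw (hstep y w0 hy hy' hw0 hw0' (by rw [hJ.comm]; exact hy0) h0)
      · exact hstep w w0 hw hw' hw0 hw0' h h0
    refine Submodule.span_induction (p := fun v _ => S *ᵥ v = lam • v) (fun w hw => hall w hw.1 hw.2) (by simp)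
      (fun a b _ _ ha hb => by rw [mulVec_add, ha, hb, smul_add])
      (fun c a _ ha => by rw [mulVec_smul, ha, smul_comm]) (hspan v hv)
  have hbe : b = (bf J w0 w0)⁻¹ • ct J i w0 w0 z := by
    refine maps_unique hJ hne0 hbo.self (fun A => (ct_commute i w0 w0 z A).smul_left _) hb fun w => ?_
    refine sub_eq_zero.1 (eq_zero_of_slices i fun x y => ?_)
    rw [slice'_sub, slice'_mul_sl, slice'_sl_mul, slice'_smul, ct_slice hJ, mul_rk, heig x y w0 hw0', rk_smul_left,
      smul_smul, mul_smul_comm, mul_one]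
    rw [div_eq_inv_mul, bf_smul_right, mul_left_comm, inv_mul_cancel₀ hw0.1, mul_one, sub_self]
  intro w
  refine sub_eq_zero.1 (eq_zero_of_slices i fun x y => ?_)
  rw [hbe, slice'_sub, slice'_mul_sl, slice'_sl_mul, slice'_smul, ct_slice hJ, mul_rk, heig x y v hv, rk_smul_left,
    smul_smul, mul_smul_comm, mul_one]
  rw [div_eq_inv_mul, sub_self]

/-- the operators of a singular line and an orthogonal axis agree up to a scalar -/
theorem split (hF : ¬ Full J Sg G) {i : Fin t} (hi : i ∈ Sg) {p e : Fin k → F} (hp0 : p ≠ 0) (hp : bf J p p = 0)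
    (hpe : bf J p e = 0) (he : bf J e e ≠ 0) {g a b : Matrix (Fin t → Fin k) (Fin t → Fin k) F} (hg : MG G g)
    (hb : Maps J i g p p b) (ha : Maps J i g e e a) (hbo : Op Sg i b) (hao : Op Sg i a)
    (haa : adjJ (GV J) a * a = 1) : ∃ s : F, b = s • a := by
  have hJ := hS.sj
  obtain ⟨hr, -⟩ := hS.mg_root hi hp hpe
  have hm := hS.conj_mem hg hr
  have h0 := hS.rn_scalar hp hpe (1 : F) (i := i)
  rw [one_smul] at h0
  rw [h0, hS.rn_conj hg hb ha hbo.self hao.self haa rfl (Op.one.smul _) Op.zero, one_smul, mul_one, mul_zero,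
    zero_mul] at hm
  obtain ⟨s, hs, -⟩ := hS.rn_slot hF hi hp0 hp hpe he (hbo.mul (hao.adj hJ.symm hJ.det)) Op.zero
    (by rw [adj_zero, neg_zero]) hm
  refine ⟨s, ?_⟩
  have := congrArg (· * a) hs
  simpa only [mul_assoc, haa, mul_one, smul_mul_assoc, one_mul] using this

end Setting

theorem SJ.conn_even (hJ : SJ J) (hev : Even k) {n : ℕ} (fv : Fin n → Fin k → F) (hn : n + 2 ≤ k)
    (hf : ∀ a b, a ≠ b → bf J (fv a) (fv b) = 0) (hf0 : ∀ a, bf J (fv a) (fv a) ≠ 0)
    (hex : n + 2 = k → ∀ v w, (∀ a, bf J (fv a) v = 0) → (∀ a, bf J (fv a) w = 0) → bf J v v ≠ 0 → bf J v w = 0 →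
      bf J w w ≠ -bf J v v) :
    (∀ v w, Good J v → (∀ a, bf J (fv a) v = 0) → Good J w → (∀ a, bf J (fv a) w = 0) → bf J v w = 0 →
      ∃ y, Good J y ∧ (∀ a, bf J (fv a) y = 0) ∧ bf J y v ≠ 0 ∧ bf J y w ≠ 0) ∧
    (∀ v, (∀ a, bf J (fv a) v = 0) → v ∈ Submodule.span F {w | Good J w ∧ ∀ a, bf J (fv a) w = 0}) := by
  refine ⟨fun v w hv hv' hw hw' hvw => ?_, fun v hv => ?_⟩
  · have hwv : bf J w v = 0 := by rw [hJ.comm, hvw]
    by_cases hsum : bf J v v + bf J w w = 0
    · have hne : n + 2 ≠ k := fun e => hex e v w hv' hw' hv.1 hvw (eq_neg_of_add_eq_zero_right hsum)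
      obtain ⟨e, he, he'⟩ := hJ.exists_orth (n := n + 2) (by omega) (Fin.cons v (Fin.cons w fv)) (by
        intro a b hab
        induction a using Fin.cases with
        | zero =>
          induction b using Fin.cases with
          | zero => exact absurd rfl hab
          | succ b => induction b using Fin.cases with
            | zero => simpa using hvw
            | succ b => simpa using (hJ.comm _ _).trans (hv' b)
        | succ a =>
          induction b using Fin.cases with
          | zero => induction a using Fin.cases with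
            | zero => simpa using hwv
            | succ a => simpa using hv' a
          | succ b =>
            induction a using Fin.cases with
            | zero => induction b using Fin.cases with
              | zero => exact absurd rfl hab
              | succ b => simpa using (hJ.comm _ _).trans (hw' b)
            | succ a => induction b using Fin.cases with
              | zero => simpa using hw' a
              | succ b => simpa using hf a b fun e => hab (by rw [e]))
        (by
          intro a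
          induction a using Fin.cases with
          | zero => simpa using hv.1
          | succ a => induction a using Fin.cases with
            | zero => simpa using hw.1
            | succ a => simpa using hf0 a)
      have ev : bf J v e = 0 := by simpa using he' 0
      have ew : bf J w e = 0 := by simpa using he' 1
      refine ⟨v + w + e, hJ.good_aniso hev ?_, fun a => ?_, ?_, ?_⟩
      · have : bf J (v + w + e) (v + w + e) = bf J e e := by
          simp only [bf_add_left, bf_add_right, hvw, hwv, ev, ew, hJ.comm e v, hJ.comm e w]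
          linear_combination hsum
        rw [this]; exact he
      · rw [bf_add_right, bf_add_right, hv' a, hw' a,
          show bf J (fv a) e = 0 by simpa using he' a.succ.succ, add_zero, add_zero]
      · rw [bf_add_left, bf_add_left, hwv, hJ.comm e v, ev, add_zero, add_zero]; exact hv.1
      · rw [bf_add_left, bf_add_left, hvw, hJ.comm e w, ew, zero_add, add_zero]; exact hw.1
    · refine ⟨v + w, hJ.good_aniso hev ?_, fun a => by rw [bf_add_right, hv' a, hw' a, add_zero], ?_, ?_⟩
      · rw [bf_add_left, bf_add_right, bf_add_right, hvw, hwv, add_zero, zero_add]; exact hsum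
      · rw [bf_add_left, hwv, add_zero]; exact hv.1
      · rw [bf_add_left, hvw, zero_add]; exact hw.1
  · by_cases hvv : bf J v v = 0
    swap
    · exact Submodule.subset_span ⟨hJ.good_aniso hev hvv, hv⟩
    obtain ⟨w, hw, hw'⟩ := hJ.exists_orth (n := n) (by omega) fv hf hf0
    have hsub : ∀ x, bf J x x ≠ 0 → (∀ a, bf J (fv a) x = 0) →
        x ∈ Submodule.span F {w | Good J w ∧ ∀ a, bf J (fv a) w = 0} :=
      fun x hx hx' => Submodule.subset_span ⟨hJ.good_aniso hev hx, hx'⟩
    by_cases hvw : bf J (v + w) (v + w) = 0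
    · have hm : bf J (v + (-1 : F) • w) (v + (-1 : F) • w) ≠ 0 := fun hm => by
        simp only [bf_add_left, bf_add_right, bf_smul_left, bf_smul_right, hvv, hJ.comm w v] at hvw hm
        exact hw ((mul_eq_zero.1 (show (2 : F) * bf J w w = 0 by linear_combination hvw + hm)).resolve_left hJ.two)
      have := Submodule.add_mem _ (hsub _ hm (fun a => by rw [bf_add_right, bf_smul_right, hv a, hw' a]; ring))
        (hsub w hw hw')
      refine cast (congrArg (· ∈ _) ?_) this
      module
    · have := Submodule.sub_mem _ (hsub _ hvw (fun a => by rw [bf_add_right, hv a, hw' a, add_zero])) (hsub w hw hw')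
      simpa using this

end Cfsg.Agent.ClassicalMax.OOWreath
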