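import Cfsg.Agent.ClassicalMax.OOWreath.Ops
import Cfsg.Agent.Classical.OrthIndex

/-!
The signed reflections of a slot and the vectors of the good class.
-/

set_option autoImplicit false
set_option linter.unusedSectionVars false
set_option linter.unusedSimpArgs false

namespace Cfsg.Agent.ClassicalMax.OOWreath

open Matrix Module Cfsg.Agent.ClassicalMax.TPow

variable {F : Type*} [Field F] {k : ℕ} {J : Matrix (Fin k) (Fin k) F}

variable (J) in
/-- the reflection -/
def rf (u : Fin k → F) : Matrix (Fin k) (Fin k) F := 1 - (2 / bf J u u) • rk J u u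

variable (F k) in
/-- the sign of a slot -/
def sg : F := (-1) ^ k

variable (J) in
/-- the reflection with the sign -/
def dl (u : Fin k → F) : Matrix (Fin k) (Fin k) F := sg F k • rf J u

variable (J) in
/-- a vector whose signed reflection is used -/
def Good (u : Fin k → F) : Prop := bf J u u ≠ 0 ∧ (Odd k → IsSquare (bf J u u * J.det))

theorem sg_sq : sg F k * sg F k = 1 := by
  rw [sg, ← pow_add, ← two_mul, pow_mul, neg_one_sq, one_pow]

theorem sg_ne : sg F k ≠ 0 := pow_ne_zero _ (neg_ne_zero.2 one_ne_zero)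

theorem rf_mulVec (u x : Fin k → F) : rf J u *ᵥ x = x + (-(2 / bf J u u * bf J u x)) • u := by
  rw [rf, sub_mulVec, one_mulVec, smul_mulVec, rk_mulVec, smul_smul, neg_smul, sub_eq_add_neg]

theorem rf_perp {u x : Fin k → F} (h : bf J u x = 0) : rf J u *ᵥ x = x := by
  rw [rf_mulVec, h, mul_zero, neg_zero, zero_smul, add_zero]

theorem rf_self {u : Fin k → F} (hu : bf J u u ≠ 0) : rf J u *ᵥ u = -u := by
  rw [rf_mulVec, div_mul_cancel₀ _ hu]
  module

theorem dl_perp {u x : Fin k → F} (h : bf J u x = 0) : dl J u *ᵥ x = sg F k • x := by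
  rw [dl, smul_mulVec, rf_perp h]

theorem dl_self {u : Fin k → F} (hu : bf J u u ≠ 0) : dl J u *ᵥ u = (-sg F k) • u := by
  rw [dl, smul_mulVec, rf_self hu, smul_neg, neg_smul]

theorem rf_sq {u : Fin k → F} (hu : bf J u u ≠ 0) : rf J u * rf J u = 1 := by
  rw [rf]
  simp only [sub_mul, mul_sub, one_mul, mul_one, smul_mul_assoc, mul_smul_comm, rk_mul_rk, smul_smul]
  match_scalars <;> field_simp <;> ring

theorem dl_sq {u : Fin k → F} (hu : bf J u u ≠ 0) : dl J u * dl J u = 1 := by
  rw [dl, smul_mul_assoc, mul_smul_comm, smul_smul, sg_sq, one_smul, rf_sq hu]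

theorem rf_smul (u : Fin k → F) {c : F} (hc : c ≠ 0) : rf J (c • u) = rf J u := by
  rw [rf, rf, rk_smul_left, rk_smul_right, smul_smul, smul_smul, bf_smul_left, bf_smul_right]
  by_cases hu : bf J u u = 0
  · simp [hu]
  · congr 2
    field_simp

namespace SJ

variable (hJ : SJ J)
include hJ

theorem rf_adj (u : Fin k → F) : adjJ J (rf J u) = rf J u := by
  rw [rf, adj_sub, adj_one hJ.det, adj_smul, hJ.adjJ_rk]

theorem dl_adj (u : Fin k → F) : adjJ J (dl J u) = dl J u := by
  rw [dl, adj_smul, hJ.rf_adj]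

theorem rf_iso {u : Fin k → F} (hu : bf J u u ≠ 0) (x y : Fin k → F) :
    bf J (rf J u *ᵥ x) (rf J u *ᵥ y) = bf J x y := by
  conv_lhs => rw [← hJ.rf_adj u, hJ.bf_adjJ, hJ.rf_adj, mulVec_mulVec, rf_sq hu, one_mulVec]

theorem good_aniso {u : Fin k → F} (hk : Even k) (hu : bf J u u ≠ 0) : Good J u :=
  ⟨hu, fun h => absurd hk (Nat.not_even_iff_odd.2 h)⟩

theorem good_of_value {u : Fin k → F} (hu : bf J u u = J.det) : Good J u :=
  ⟨by rw [hu]; exact hJ.det.ne_zero, fun _ => by rw [hu]; exact ⟨J.det, rfl⟩⟩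

/-- a non-singular vector orthogonal to a short orthogonal family -/
theorem exists_orth {n : ℕ} (hn : n < k) (f : Fin n → Fin k → F) (hf : ∀ a b, a ≠ b → bf J (f a) (f b) = 0)
    (hf0 : ∀ a, bf J (f a) (f a) ≠ 0) : ∃ w, bf J w w ≠ 0 ∧ ∀ a, bf J (f a) w = 0 := by
  classical
  by_contra! hall
  let π : (Fin k → F) → (Fin k → F) := fun z => z - ∑ a, (bf J (f a) z / bf J (f a) (f a)) • f a
  have hsum : ∀ (u : Fin k → F) (g : Fin n → Fin k → F) (s : Finset (Fin n)),
      bf J u (∑ a ∈ s, g a) = ∑ a ∈ s, bf J u (g a) := fun u g s => by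
    induction s using Finset.induction_on with
    | empty => simp [bf]
    | insert a s ha ih => rw [Finset.sum_insert ha, Finset.sum_insert ha, bf_add_right, ih]
  have hsub : ∀ u v w : Fin k → F, bf J u (v - w) = bf J u v - bf J u w := fun u v w => by
    rw [sub_eq_add_neg, ← neg_one_smul F w, bf_add_right, bf_smul_right]; ring
  have hπ : ∀ z a, bf J (f a) (π z) = 0 := fun z a => by
    rw [hsub, hsum, Finset.sum_eq_single a (fun b _ hb => by rw [bf_smul_right, hf a b (Ne.symm hb), mul_zero])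
      (fun h => absurd (Finset.mem_univ a) h), bf_smul_right, div_mul_cancel₀ _ (hf0 a), sub_self]
  have hz : ∀ u, (∀ a, bf J (f a) u = 0) → bf J u u = 0 := fun u hu => by
    by_contra hne
    obtain ⟨a, ha⟩ := hall u hne
    exact ha (hu a)
  have hzero : ∀ z, π z = 0 := fun z => by
    by_contra hne
    obtain ⟨w, hw⟩ := exists_bf_ne J hJ.det hne
    have h3 := hz (π z + π w) fun a => by rw [bf_add_right, hπ, hπ, add_zero]
    rw [bf_add_left, bf_add_right, bf_add_right, hz _ (hπ z), hz _ (hπ w), hJ.comm (π w) (π z), zero_add, add_zero,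
      ← two_mul] at h3
    have h4 := (mul_eq_zero.1 h3).resolve_left hJ.two
    have h5 : bf J (π z) (π w) = bf J (π z) w := by
      show bf J (π z) (w - _) = _
      rw [hsub, hsum, Finset.sum_eq_zero (fun a _ => by rw [bf_smul_right, hJ.comm (π z) (f a), hπ, mul_zero]), sub_zero]
    exact hw (h5 ▸ h4)
  have hle : (⊤ : Submodule F (Fin k → F)) ≤ Submodule.span F (Set.range f) := fun z _ => by
    rw [sub_eq_zero.1 (hzero z)]
    exact Submodule.sum_mem _ fun a _ => Submodule.smul_mem _ _ (Submodule.subset_span ⟨a, rfl⟩)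
  have h1 := Submodule.finrank_mono hle
  rw [finrank_top, Module.finrank_fintype_fun_eq_card, Fintype.card_fin] at h1
  have h2 := finrank_range_le_card (R := F) f
  rw [Fintype.card_fin] at h2
  simp only [Set.finrank] at h2
  omega

variable [Finite F]

/-- a combination of two orthogonal vectors with a given value -/
theorem exists_binary {e e' : Fin k → F} (he : bf J e e ≠ 0) (he' : bf J e' e' ≠ 0) (hee : bf J e e' = 0) {c : F}
    (hc : c ≠ 0) : ∃ a b : F, bf J (a • e + b • e') (a • e + b • e') = c := by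
  have := Fintype.ofFinite F
  obtain ⟨x, y, hxy⟩ := Cfsg.Agent.Classical.Quad.exists_binary_one hJ.two (div_ne_zero he hc) (div_ne_zero he' hc)
  refine ⟨x, y, ?_⟩
  simp only [bf_add_left, bf_add_right, bf_smul_left, bf_smul_right, hee, hJ.comm e' e, mul_zero, add_zero, zero_add]
  field_simp at hxy
  linear_combination hxy

/-- good vectors orthogonal to a hyperbolic pair separate their orthogonal -/
theorem exists_good_sep (hk : 4 ≤ k) {p q : Fin k → F} (hp : bf J p p = 0) (hq : bf J q q = 0) (hpq : bf J p q = 1)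
    {y : Fin k → F} (hy0 : y ≠ 0) (hpy : bf J p y = 0) (hqy : bf J q y = 0) :
    ∃ u, Good J u ∧ bf J p u = 0 ∧ bf J q u = 0 ∧ bf J u y ≠ 0 := by
  have h2 := hJ.two
  -- projections to the orthogonal of the pair
  obtain ⟨w, hw⟩ := exists_bf_ne J hJ.det hy0
  obtain ⟨z, hz⟩ : ∃ z, z = w + (-bf J q w) • p + (-bf J p w) • q := ⟨_, rfl⟩
  have hpz : bf J p z = 0 := by
    simp only [hz, bf_add_right, bf_smul_right, hp, hpq]; ring
  have hqz : bf J q z = 0 := by
    simp only [hz, bf_add_right, bf_smul_right, hq, hJ.comm q p, hpq]; ring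
  have hyz : bf J y z ≠ 0 := by
    simp only [hz, bf_add_right, bf_smul_right, hJ.comm y p, hpy, hJ.comm y q, hqy]
    simpa using hw
  rcases Nat.even_or_odd k with hev | hodd
  · by_cases hyy : bf J y y = 0
    · by_cases hzz : bf J z z = 0
      · refine ⟨y + z, hJ.good_aniso hev ?_, by rw [bf_add_right, hpy, hpz, add_zero],
          by rw [bf_add_right, hqy, hqz, add_zero], ?_⟩
        · rw [bf_add_left, bf_add_right, bf_add_right, hyy, hzz, hJ.comm z y, zero_add, add_zero, ← two_mul]
          exact mul_ne_zero h2 hyz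
        · rw [bf_add_left, hyy, zero_add, hJ.comm]; exact hyz
      · exact ⟨z, hJ.good_aniso hev hzz, hpz, hqz, by rw [hJ.comm]; exact hyz⟩
    · exact ⟨y, hJ.good_aniso hev hyy, hpy, hqy, hyy⟩
  -- an orthogonal basis of the pair
  set f1 := p + q with hf1
  set f2 := p + (-1 : F) • q with hf2
  have e11 : bf J f1 f1 = 2 := by
    simp only [hf1, bf_add_left, bf_add_right, hp, hq, hpq, hJ.comm q p]; ring
  have e22 : bf J f2 f2 = -2 := by
    simp only [hf2, bf_add_left, bf_add_right, bf_smul_left, bf_smul_right, hp, hq, hpq, hJ.comm q p]; ring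
  have e12 : bf J f1 f2 = 0 := by
    simp only [hf1, hf2, bf_add_left, bf_add_right, bf_smul_left, bf_smul_right, hp, hq, hpq, hJ.comm q p]; ring
  have hperp : ∀ v, bf J f1 v = 0 → bf J f2 v = 0 → bf J p v = 0 ∧ bf J q v = 0 := fun v h1 h3 => by
    rw [hf1, bf_add_left] at h1
    rw [hf2, bf_add_left, bf_smul_left] at h3
    exact ⟨(mul_eq_zero.1 (show (2 : F) * bf J p v = 0 by linear_combination h1 + h3)).resolve_left h2,
      (mul_eq_zero.1 (show (2 : F) * bf J q v = 0 by linear_combination h1 - h3)).resolve_left h2⟩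
  have hne11 : bf J f1 f1 ≠ 0 := by rw [e11]; exact h2
  have hne22 : bf J f2 f2 ≠ 0 := by rw [e22]; exact neg_ne_zero.2 h2
  obtain ⟨e, he, hef⟩ := hJ.exists_orth (n := 2) (by omega) ![f1, f2] (by
      intro a b hab; fin_cases a <;> fin_cases b <;> first | exact absurd rfl hab | simpa [hJ.comm f2 f1] using e12)
    (by intro a; fin_cases a <;> assumption)
  obtain ⟨e', he', hef'⟩ := hJ.exists_orth (n := 3) (by omega) ![f1, f2, e] (by
      have a1 : bf J f1 e = 0 := hef 0
      have a2 : bf J f2 e = 0 := hef 1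
      intro a b hab; fin_cases a <;> fin_cases b <;>
        first | exact absurd rfl hab | simp [hJ.comm f2 f1, e12, hJ.comm e f1, hJ.comm e f2, a1, a2])
    (by intro a; fin_cases a <;> assumption)
  obtain ⟨ce, de⟩ := hperp e (hef 0) (hef 1)
  obtain ⟨ce', de'⟩ := hperp e' (hef' 0) (hef' 1)
  obtain ⟨a, b, hab⟩ := hJ.exists_binary he he' (hef' 2) hJ.det.ne_zero
  set u0 := a • e + b • e' with hu0
  have hu0g : Good J u0 := hJ.good_of_value hab
  have hpu : bf J p u0 = 0 := by rw [hu0, bf_add_right, bf_smul_right, bf_smul_right, ce, ce']; ring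
  have hqu : bf J q u0 = 0 := by rw [hu0, bf_add_right, bf_smul_right, bf_smul_right, de, de']; ring
  by_cases huy : bf J u0 y = 0
  swap
  · exact ⟨u0, hu0g, hpu, hqu, huy⟩
  suffices ∃ v, bf J p v = 0 ∧ bf J q v = 0 ∧ bf J v v ≠ 0 ∧ bf J v u0 ≠ 0 ∧ bf J v y ≠ 0 by
    obtain ⟨v, hpv, hqv, hvv, hvu, hvy⟩ := this
    refine ⟨rf J v *ᵥ u0, ⟨by rw [hJ.rf_iso hvv]; exact hu0g.1, by rw [hJ.rf_iso hvv]; exact hu0g.2⟩, ?_, ?_, ?_⟩
    · rw [rf_mulVec, bf_add_right, bf_smul_right, hpu, hpv]; ring
    · rw [rf_mulVec, bf_add_right, bf_smul_right, hqu, hqv]; ring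
    · rw [rf_mulVec, bf_add_left, bf_smul_left, huy, zero_add]
      exact mul_ne_zero (neg_ne_zero.2 (mul_ne_zero (div_ne_zero h2 hvv) hvu)) hvy
  have hc := hu0g.1
  by_cases hyy : bf J y y = 0
  · obtain ⟨z1, hz1⟩ : ∃ z1, z1 = (bf J y z)⁻¹ • (z + (-(bf J u0 z / bf J u0 u0)) • u0) := ⟨_, rfl⟩
    have hyz1 : bf J y z1 = 1 := by
      rw [hz1, bf_smul_right, bf_add_right, bf_smul_right, hJ.comm y u0, huy, mul_zero, add_zero, inv_mul_cancel₀ hyz]
    have huz1 : bf J u0 z1 = 0 := by
      rw [hz1, bf_smul_right, bf_add_right, bf_smul_right, neg_mul, div_mul_cancel₀ _ hc, add_neg_cancel, mul_zero]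
    have hpz1 : bf J p z1 = 0 := by
      rw [hz1, bf_smul_right, bf_add_right, bf_smul_right, hpz, hpu]; ring
    have hqz1 : bf J q z1 = 0 := by
      rw [hz1, bf_smul_right, bf_add_right, bf_smul_right, hqz, hqu]; ring
    obtain ⟨β, hβ⟩ : ∃ β : F, bf J u0 u0 + bf J z1 z1 + 2 * β ≠ 0 := by
      by_cases h : bf J u0 u0 + bf J z1 z1 = 0
      · exact ⟨1, by rw [h, zero_add, mul_one]; exact h2⟩
      · exact ⟨0, by rwa [mul_zero, add_zero]⟩
    refine ⟨u0 + z1 + β • y, ?_, ?_, ?_, ?_, ?_⟩
    · simp only [bf_add_right, bf_smul_right, hpu, hpz1, hpy]; ring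
    · simp only [bf_add_right, bf_smul_right, hqu, hqz1, hqy]; ring
    · simp only [bf_add_left, bf_add_right, bf_smul_left, bf_smul_right, hJ.comm z1 u0, huz1, hJ.comm y u0, huy,
        hyy, hJ.comm z1 y, hyz1]
      intro h; exact hβ (by linear_combination h)
    · simp only [bf_add_left, bf_smul_left, hJ.comm z1 u0, huz1, hJ.comm y u0, huy]
      simpa using hc
    · simp only [bf_add_left, bf_smul_left, hJ.comm z1 y, hyz1, huy, hyy]
      simp
  · set z1 := (bf J y y)⁻¹ • y with hz1
    have hyz1 : bf J y z1 = 1 := by rw [hz1, bf_smul_right, inv_mul_cancel₀ hyy]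
    have huz1 : bf J u0 z1 = 0 := by rw [hz1, bf_smul_right, huy, mul_zero]
    by_cases hn : bf J u0 u0 + bf J z1 z1 = 0
    · have k5 : 5 ≤ k := by
        rcases hodd with ⟨l, rfl⟩; omega
      obtain ⟨v, hv, hvf⟩ := hJ.exists_orth (n := 4) (by omega) ![f1, f2, u0, y] (by
          have a1 : bf J f1 u0 = 0 := by rw [hf1, bf_add_left, hpu, hqu, add_zero]
          have a2 : bf J f2 u0 = 0 := by rw [hf2, bf_add_left, bf_smul_left, hpu, hqu]; ring
          have a3 : bf J f1 y = 0 := by rw [hf1, bf_add_left, hpy, hqy, add_zero]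
          have a4 : bf J f2 y = 0 := by rw [hf2, bf_add_left, bf_smul_left, hpy, hqy]; ring
          intro a b hab; fin_cases a <;> fin_cases b <;>
            first | exact absurd rfl hab | simp [hJ.comm f2 f1, e12, hJ.comm u0 f1, hJ.comm u0 f2, hJ.comm y f1,
              hJ.comm y f2, hJ.comm y u0, a1, a2, a3, a4, huy])
        (by intro a; fin_cases a <;> assumption)
      obtain ⟨cv, dv⟩ := hperp v (hvf 0) (hvf 1)
      have huv : bf J u0 v = 0 := hvf 2
      have hyv : bf J y v = 0 := hvf 3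
      refine ⟨u0 + z1 + v, ?_, ?_, ?_, ?_, ?_⟩
      · simp only [hz1, bf_add_right, bf_smul_right, hpu, hpy, cv]; ring
      · simp only [hz1, bf_add_right, bf_smul_right, hqu, hqy, dv]; ring
      · have hzv : bf J z1 v = 0 := by rw [hz1, bf_smul_left, hyv, mul_zero]
        simp only [bf_add_left, bf_add_right, hJ.comm z1 u0, huz1, hJ.comm v u0, huv, hJ.comm v z1, hzv]
        intro h; exact hv (by linear_combination h - hn)
      · simp only [bf_add_left, hJ.comm z1 u0, huz1, hJ.comm v u0, huv]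
        simpa using hc
      · simp only [bf_add_left, hJ.comm z1 y, hyz1, huy, hJ.comm v y, hyv]
        simp
    · refine ⟨u0 + z1, ?_, ?_, ?_, ?_, ?_⟩
      · simp only [hz1, bf_add_right, bf_smul_right, hpu, hpy]; ring
      · simp only [hz1, bf_add_right, bf_smul_right, hqu, hqy]; ring
      · simp only [bf_add_left, bf_add_right, hJ.comm z1 u0, huz1]
        intro h; exact hn (by linear_combination h)
      · simp only [bf_add_left, hJ.comm z1 u0, huz1]
        simpa using hc
      · simp only [bf_add_left, hJ.comm z1 y, hyz1, huy]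
        simp

/-- a singular vector not orthogonal to two given ones -/
theorem exists_common {p p' : Fin k → F} (hp0 : p ≠ 0) (hp : bf J p p = 0) (hp0' : p' ≠ 0) :
    ∃ a, bf J a a = 0 ∧ bf J p a ≠ 0 ∧ bf J p' a ≠ 0 := by
  by_contra! hall
  let S : Submodule F (Fin k → F) :=
    { carrier := {w | bf J p' w = 0}
      zero_mem' := by simp [bf]
      add_mem' := fun {x y} hx hy => by
        show bf J p' (x + y) = 0
        rw [bf_add_right, show bf J p' x = 0 from hx, show bf J p' y = 0 from hy, add_zero]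
      smul_mem' := fun c x hx => by
        show bf J p' (c • x) = 0
        rw [bf_smul_right, show bf J p' x = 0 from hx, mul_zero] }
  have hS : S = ⊤ := hJ.partner_span hp0 hp S fun g hg hpg => hall g hg hpg
  obtain ⟨w, hw⟩ := exists_bf_ne J hJ.det hp0'
  exact hw (show w ∈ S from hS ▸ Submodule.mem_top)

/-- a root element fixing `a` and moving one partner to another -/
theorem exists_move {a b g : Fin k → F} (ha : bf J a a = 0) (hb : bf J b b = 0) (hab : bf J a b = 1)
    (hg : bf J g g = 0) (hag : bf J a g = 1) : ∃ e, bf J a e = 0 ∧ eS J a e *ᵥ b = g := by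
  have h2 := hJ.two
  set e := b + (-1 : F) • g + bf J g b • a with he'
  have hae : bf J a e = 0 := by
    rw [he', bf_add_right, bf_add_right, bf_smul_right, bf_smul_right, hab, hag, ha]; ring
  refine ⟨e, hae, ?_⟩
  have hee : bf J e e = -2 * bf J g b := by
    simp only [he', bf_add_left, bf_add_right, bf_smul_left, bf_smul_right, ha, hb, hg, hab, hag,
      hJ.comm b a, hJ.comm g a, hJ.comm b g]
    ring
  have heb : bf J e b = 0 := by
    simp only [he', bf_add_left, bf_smul_left, hb, hab]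
    ring
  rw [hJ.eS_eq ha hae, xp, add_mulVec, add_mulVec, one_mulVec, sub_mulVec, smul_mulVec]
  simp only [rk_mulVec, hee, heb, hab]
  rw [he']
  match_scalars <;> field_simp <;> ring

/-- the root elements move every singular vector to every other one up to scalars -/
theorem transport (P : (Fin k → F) → Prop) (hs : ∀ (p : Fin k → F) (c : F), c ≠ 0 → P p → P (c • p))
    (he : ∀ a e p, bf J a a = 0 → bf J a e = 0 → P p → P (eS J a e *ᵥ p)) {p p' : Fin k → F} (hp0 : p ≠ 0)
    (hp : bf J p p = 0) (hp0' : p' ≠ 0) (hp' : bf J p' p' = 0) (h : P p) : P p' := by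
  obtain ⟨a, ha, hpa, hpa'⟩ := hJ.exists_common hp0 hp hp0'
  obtain ⟨e, hae, hmv⟩ := hJ.exists_move (a := a) (b := (bf J p a)⁻¹ • p) (g := (bf J p' a)⁻¹ • p') ha
    (by rw [bf_smul_left, bf_smul_right, hp, mul_zero, mul_zero])
    (by rw [bf_smul_right, hJ.comm a p, inv_mul_cancel₀ hpa])
    (by rw [bf_smul_left, bf_smul_right, hp', mul_zero, mul_zero])
    (by rw [bf_smul_right, hJ.comm a p', inv_mul_cancel₀ hpa'])
  have h1 := he a e _ ha hae (hs p (bf J p a)⁻¹ (inv_ne_zero hpa) h)
  rw [hmv] at h1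
  have h3 := hs _ (bf J p' a) hpa' h1
  rwa [smul_smul, mul_inv_cancel₀ hpa', one_smul] at h3

end SJ

end Cfsg.Agent.ClassicalMax.OOWreath
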