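import Cfsg.Agent.ClassicalMax.OOWreath.Centre

/-!
Without full centres every element permutes the slot algebras: induction on the number of active slots.
-/

set_option autoImplicit false
set_option linter.unusedSectionVars false
set_option linter.unusedSimpArgs false

namespace Cfsg.Agent.ClassicalMax.OOWreath

open Matrix Cfsg.Agent.ClassicalMax.TPow
open Cfsg.Agent.ClassicalMax.SpWreath (GV GV_det)

variable {F : Type*} [Field F] [Finite F] {k t : ℕ} {J : Matrix (Fin k) (Fin k) F}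

theorem Setting.std_of_single {Sg : Finset (Fin t)} {G : Subgroup (GL (Fin t → Fin k) F)} (hS : Setting J Sg G)
    (l : Fin t) (hl : ∀ m ∈ Sg, m = l) {g : Matrix (Fin t → Fin k) (Fin t → Fin k) F} (hg : MG G g) : Std g := by
  obtain ⟨A, rfl⟩ := eq_sl_of_commute hS.sj l (X := g) fun m hm A => hS.out' hg (fun h => hm (hl m h)) A
  exact Std.sl l (hS.slot_iso hg)

theorem Setting.not_full_drop {Sg : Finset (Fin t)} {G G' : Subgroup (GL (Fin t → Fin k) F)} (hS : Setting J Sg G)
    (hle : G' ≤ G) {j l m : Fin t} (hl : l ∈ Sg.erase j) (hm : m ∈ Sg.erase j) (hlm : m ≠ l)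
    (hF : ¬ Full J Sg G) : ¬ Full J (Sg.erase j) G' := fun hF' => by
  have hJ := hS.sj
  have hne : Nonempty (Fin k) := ⟨⟨0, by have := hJ.kk; omega⟩⟩
  obtain ⟨p, hp0, hp⟩ := hJ.exists_iso
  obtain ⟨q, e, -, hpq, hpe, hqe, he⟩ := hJ.exists_frame hp0 hp
  have hZs : adjJ (GV J) (sl m (xp J p e)) = -sl (β := Fin t) m (xp J p e) := by
    rw [adj_sl hJ.det, xp, adj_sub, hJ.adjJ_rk, hJ.adjJ_rk, ← neg_sub, ← neg_one_smul F (rk J p e - rk J e p),
      sl_smul, neg_one_smul]
  have hx : xp J p e ≠ 0 := fun h => by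
    have h1 := congrArg (· *ᵥ q) h
    simp only [xp, sub_mulVec, rk_mulVec, hpq, hJ.comm e q, hqe, zero_smul, one_smul, zero_mulVec, zero_sub,
      neg_eq_zero] at h1
    exact he (by rw [h1]; simp [bf])
  obtain ⟨g, hg, hge⟩ := hF' l hl p hp _ (Op.slot hm hlm _) hZs
  refine hF (hS.full_of_centre (Finset.mem_of_mem_erase hl) hp0 hp
    (Z := sl m (xp J p e)) ⟨Op.slot (Finset.mem_of_mem_erase hm) hlm _, hZs, g, hle hg, hge⟩ fun h => hx ?_)
  exact sl_injective m (h.trans (sl_zero m).symm)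

/-- without full centres the slot algebras are permuted -/
theorem std_of_not_full (hk : 4 ≤ k) (hev : Even k) (Sg : Finset (Fin t)) (G : Subgroup (GL (Fin t → Fin k) F))
    (hS : Setting J Sg G) (hF : ¬ Full J Sg G) {g : Matrix (Fin t → Fin k) (Fin t → Fin k) F} (hg : MG G g) :
    Std g := by
  induction hn : Sg.card using Nat.strong_induction_on generalizing Sg G g with
  | _ n ih =>
  refine hS.std_of_cent (hS.centStd hev hk hF fun j hj g hg hc => ?_) hg
  obtain ⟨G', hS', hle, hmem⟩ := hS.drop j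
  have hg' := (hmem g).2 ⟨hg, hc⟩
  by_cases h2 : ∃ l ∈ Sg.erase j, ∃ m ∈ Sg.erase j, m ≠ l
  · obtain ⟨l, hl, m, hm, hlm⟩ := h2
    exact ih _ (hn ▸ Finset.card_erase_lt_of_mem hj) _ _ hS' (hS.not_full_drop hle hl hm hlm hF) hg' rfl
  push Not at h2
  rcases (Sg.erase j).eq_empty_or_nonempty with h0 | ⟨l, hl⟩
  · exact hS'.std_of_single j (fun m hm => by simp [h0] at hm) hg'
  · exact hS'.std_of_single l (fun m hm => h2 l hl m hm) hg'

end Cfsg.Agent.ClassicalMax.OOWreath
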