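import Cfsg.Agent.ClassicalMax.OOWreath.Pairs

/-!
Every conjugate of a product of two good signed reflections of different slots permutes the slot algebras.
-/

set_option autoImplicit false
set_option linter.unusedSectionVars false
set_option linter.unusedSimpArgs false

namespace Cfsg.Agent.ClassicalMax.OOWreath

open Matrix Cfsg.Agent.ClassicalMax.TPow
open Cfsg.Agent.ClassicalMax.SpWreath (GV GV_det)

variable {F : Type*} [Field F] [Finite F] {k t : ℕ} {J : Matrix (Fin k) (Fin k) F} {Sg : Finset (Fin t)}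
  {G : Subgroup (GL (Fin t → Fin k) F)}

namespace Setting

variable (hS : Setting J Sg G)
include hS

theorem MG_inv_pow {M M' : Matrix (Fin t → Fin k) (Fin t → Fin k) F} (h : M' * M = 1) (n : ℕ) : M' ^ n * M ^ n = 1 := by
  have c : Commute M' M := by
    show _ = _
    rw [h, mul_eq_one_comm.1 h]
  rw [← c.mul_pow, h, one_pow]

variable (hC : CentStd J Sg G)
include hC

/-- the transported involutions -/
theorem ufx_refl_image {h : Matrix (Fin t → Fin k) (Fin t → Fin k) F} (hh : MG G h) (hhs : Std h) {i : Fin t}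
    (hi : i ∈ Sg) {u : Fin k → F} (hu : Good J u) :
    ∃ l ∈ Sg, ∃ w, bf J w w ≠ 0 ∧ h * sl i (dl J u) * adjJ (GV J) h = sl l (dl J w) ∧ MG G (sl l (dl J w)) ∧
      UFx J G (sl l (dl J w)) := by
  obtain ⟨l, w, hw, e⟩ := hS.refl_image hh hhs (i := i) hu.1
  have hM : MG G (sl l (dl J w)) := e ▸ hS.conj_mem hh (hS.refl i hi u hu)
  exact ⟨l, hS.mem_Sg hM (dl_ne_scalar hS.sj hw), w, hw, e, hM, e ▸ hS.ufx_conj hh hhs (hS.ufx_good hC hi hu)⟩

/-- a pair in one slot times a reflection of another slot -/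
theorem two_slots {i n : Fin t} (hi : i ∈ Sg) (hin : n ≠ i) {u c d : Fin k → F} (hu : Good J u) (hc : bf J c c ≠ 0)
    (hd : bf J d d ≠ 0) (huc : bf J u c = 0) (hcu : UFx J G (sl i (dl J c)))
    (hdM : MG G (sl n (dl J d))) (hdu : UFx J G (sl n (dl J d))) :
    CS G (sl i (dl J u * dl J c) * sl n (dl J d)) := by
  have hJ := hS.sj
  have hk := hJ.kk
  haveI : Nonempty (Fin k) := ⟨⟨0, by omega⟩⟩
  have hcl := fun A B : Matrix (Fin k) (Fin k) F => sl_commute hin A B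
  have hucc := (dl_commute_of_orth hJ huc).eq
  have hxz : Commute (sl i (dl J u)) (sl (β := Fin t) i (dl J u * dl J c) * sl n (dl J d)) := by
    refine Commute.mul_right ?_ (hcl _ _).symm
    show _ = _
    rw [sl_mul, sl_mul, mul_assoc (dl J u) (dl J c) (dl J u), ← hucc]
  refine hS.engine (a := sl n (dl J d)) (d := sl i (dl J u)) hdM (Std.sl n (dl_sq hd))
    (by rw [sl_mul, dl_sq hd, sl_one]) hdu (hS.refl i hi u hu) (Std.sl i (dl_sq hu.1))
    (by rw [sl_mul, dl_sq hu.1, sl_one]) (hS.ufx_good hC hi hu) ((hcl _ _).mul_right (Commute.refl _)) hxz ?_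
  intro h hh hhs hhz
  obtain ⟨p, d1, hd1, hp⟩ := hS.refl_image hh hhs (i := n) hd
  obtain ⟨i', B, hB⟩ := hS.std_conj_slot hh hhs i (dl J u * dl J c)
  have hPns : ∀ s : F, dl J u * dl J c ≠ s • 1 := fun s e => by
    have h1 := congrArg (dl J u * ·) e
    simp only [← mul_assoc, dl_sq hu.1, one_mul, mul_smul_comm, mul_one] at h1
    rw [dl_eq_of_smul hJ hc hu.1 h1] at hucc
    have h2 := dl_eq_of_smul hJ hc hu.1 h1
    have h3 := congrArg (· *ᵥ u) h2
    simp only [dl_self hu.1, dl_perp (show bf J c u = 0 by rw [hJ.comm, huc])] at h3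
    have hu0 : u ≠ 0 := fun e => hu.1 (by rw [e, bf, zero_dotProduct])
    have h4 : (sg F k + sg F k) • u = 0 := by rw [add_smul]; nth_rewrite 1 [h3]; rw [neg_smul, neg_add_cancel]
    have h5 := (smul_eq_zero.1 h4).resolve_right hu0
    exact mul_ne_zero hJ.two (sg_ne (F := F) (k := k)) (by linear_combination h5)
  have hne := hS.image_ne hh hhs hin (dl_ne_scalar hJ hd) hPns hp hB
  have hpq : sl p (dl J d1) * sl i' B = sl i (dl J u * dl J c) * sl n (dl J d) := by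
    rw [← hp, ← hB, hS.conj_mul hh, (hcl _ _).eq, hS.conj_fix hh hhz]
  have hq : ∀ A, Commute (sl (β := Fin t) i' B) (sl p A) := fun A => sl_commute (Ne.symm hne) _ A
  have hq0 : sl (β := Fin t) i' B ≠ 0 := fun e => by
    rw [e] at hB
    have h1 := congrArg (fun X => adjJ (GV J) h * X * h) hB
    simp only [← mul_assoc, (hS.adj_inv hh).2.1, one_mul, mul_zero, zero_mul] at h1
    rw [mul_assoc _ _ h, (hS.adj_inv hh).2.1, mul_one] at h1
    exact hPns 0 (by rw [zero_smul]; exact sl_injective i (h1.trans (sl_zero i).symm))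
  rw [hp]
  rcases eq_or_ne p n with rfl | hpn
  · obtain ⟨s, hs⟩ := factor_unique (by omega) (dl_det hd) hq (fun A => sl_commute hin.symm _ A) hq0
      (hpq.trans (hcl _ _).eq.symm)
    rw [dl_eq_of_smul hJ hd1 hd hs]
    refine ⟨(hcl _ _).symm, fun g hg _ hgd => hS.diff_pair hC hi hin hd hdM hdu hu.1 (Or.inr hu) g hg ?_⟩
    rwa [(hcl _ _).eq]
  rcases eq_or_ne p i with rfl | hpi
  swap
  · exfalso
    obtain ⟨s, hs⟩ := scalar_of_prod (by omega) hq hq0 fun A => by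
      rw [hpq]; exact (sl_commute (Ne.symm hpi) _ A).mul_left (sl_commute (Ne.symm hpn) _ A)
    exact dl_ne_scalar hJ hd1 s hs
  obtain ⟨s, hs⟩ := factor_unique (by omega) (by rw [det_mul]; exact (dl_det hu.1).mul (dl_det hc)) hq
    (fun A => sl_commute hin _ A) hq0 hpq
  by_cases hk4 : 4 ≤ k
  · exact absurd hs (dl_pair_ne hJ hk4 hu.1 hc hd1 huc s)
  obtain ⟨e, he, he'⟩ := hJ.exists_orth (n := 2) (by omega) ![u, c] (by
    intro x y h; fin_cases x <;> fin_cases y <;> first | exact absurd rfl h | simp [hJ.comm c u, huc])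
    (by intro x; fin_cases x; exacts [hu.1, hc])
  have htr := triangle hJ (by omega) hu.1 hc he huc (he' 0) (he' 1)
  rw [htr] at hs
  rw [dl_eq_of_smul hJ hd1 he hs, ← htr]
  refine ⟨?_, fun g hg _ hgd => hS.cs_of_ufx (Std.sl _ (dl_sq hc)) hcu g hg ?_⟩
  · show _ = _
    rw [sl_mul, sl_mul, mul_assoc (dl J u) (dl J c) (dl J u), ← hucc]
  · rwa [sl_mul, ← mul_assoc, dl_sq hu.1, one_mul] at hgd

/-- a good reflection times two reflections of two other slots -/
theorem three_slots {i n1 n2 : Fin t} (hi : i ∈ Sg) (h1i : n1 ≠ i) (h2i : n2 ≠ i) (h12 : n1 ≠ n2)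
    {u a b : Fin k → F} (hu : Good J u) (ha : bf J a a ≠ 0) (hb : bf J b b ≠ 0)
    (haM : MG G (sl n1 (dl J a))) (hau : UFx J G (sl n1 (dl J a)))
    (hbM : MG G (sl n2 (dl J b))) (hbu : UFx J G (sl n2 (dl J b))) :
    CS G (sl i (dl J u) * (sl n1 (dl J a) * sl n2 (dl J b))) := by
  have hJ := hS.sj
  have hk := hJ.kk
  haveI : Nonempty (Fin k) := ⟨⟨0, by omega⟩⟩
  obtain ⟨w, hw, hw'⟩ := exists_good_perp hJ (n := 1) (by omega) ![u] (fun _ _ h => absurd (Subsingleton.elim _ _) h)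
    (fun _ => by simpa using hu.1)
  have huw : bf J u w = 0 := hw' 0
  have hwu : bf J w u = 0 := by rw [hJ.comm, huw]
  have c1 := fun A B : Matrix (Fin k) (Fin k) F => sl_commute h1i A B
  have c2 := fun A B : Matrix (Fin k) (Fin k) F => sl_commute h2i A B
  have c12 := fun A B : Matrix (Fin k) (Fin k) F => sl_commute h12 A B
  have hwx : Commute (sl (β := Fin t) i (dl J w)) (sl i (dl J u)) := by
    show _ = _
    rw [sl_mul, sl_mul, (dl_commute_of_orth hJ hwu).eq]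
  refine hS.engine (a := sl n1 (dl J a)) (d := sl i (dl J w)) haM (Std.sl n1 (dl_sq ha))
    (by rw [sl_mul, dl_sq ha, sl_one]) hau (hS.refl i hi w hw) (Std.sl i (dl_sq hw.1))
    (by rw [sl_mul, dl_sq hw.1, sl_one]) (hS.ufx_good hC hi hw)
    ((c1 _ _).mul_right ((Commute.refl _).mul_right (c12 _ _)))
    (hwx.mul_right ((c1 _ _).symm.mul_right (c2 _ _).symm)) ?_
  intro h hh hhs hhz
  obtain ⟨p, a1, ha1, hp⟩ := hS.refl_image hh hhs (i := n1) ha
  obtain ⟨p0, X0, hX0⟩ := hS.std_conj_slot hh hhs i (dl J u)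
  obtain ⟨p2, X2, hX2⟩ := hS.std_conj_slot hh hhs n2 (dl J b)
  have hne0 := hS.image_ne hh hhs h1i (dl_ne_scalar hJ ha) (dl_ne_scalar hJ hu.1) hp hX0
  have hne2 := hS.image_ne hh hhs h12 (dl_ne_scalar hJ ha) (dl_ne_scalar hJ hb) hp hX2
  obtain ⟨R, hR⟩ : ∃ R, R = sl p0 X0 * sl p2 X2 := ⟨_, rfl⟩
  have hRp : ∀ A, Commute R (sl p A) := fun A =>
    hR ▸ (sl_commute (Ne.symm hne0) _ A).mul_left (sl_commute (Ne.symm hne2) _ A)
  have hpq : sl p (dl J a1) * R = sl i (dl J u) * (sl n1 (dl J a) * sl n2 (dl J b)) := by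
    rw [hR, ← hp, ← hX0, ← hX2, hS.conj_mul hh, hS.conj_mul hh, ← mul_assoc (sl n1 _) (sl i _), (c1 _ _).eq,
      mul_assoc (sl i _) (sl n1 _), hS.conj_fix hh hhz]
  have hR0 : R ≠ 0 := fun e => by
    rw [hR, ← hX0, ← hX2, hS.conj_mul hh] at e
    have h1 := congrArg (fun X => adjJ (GV J) h * X * h) e
    simp only [← mul_assoc, (hS.adj_inv hh).2.1, one_mul, mul_zero, zero_mul] at h1
    rw [mul_assoc _ _ h, (hS.adj_inv hh).2.1, mul_one] at h1
    have h3 := congrArg (sl i (dl J u) * ·) h1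
    simp only [mul_zero, ← mul_assoc, sl_mul, dl_sq hu.1, sl_one, one_mul] at h3
    exact dl_ne_scalar hJ hb 0 (by rw [zero_smul]; exact sl_injective n2 (h3.trans (sl_zero n2).symm))
  rw [hp]
  rcases eq_or_ne p i with rfl | hpi
  · obtain ⟨s, hs⟩ := factor_unique (by omega) (dl_det hu.1) hRp
      (fun A => (sl_commute h1i _ A).mul_left (sl_commute h2i _ A)) hR0 hpq
    rw [dl_eq_of_smul hJ ha1 hu.1 hs]
    exact ⟨hwx, fun g hg _ hgd => hS.same_pair hC hi hw hu.1 hwu (Or.inr hu) g hg (by rwa [sl_mul] at hgd)⟩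
  rcases eq_or_ne p n1 with rfl | hp1
  · obtain ⟨s, hs⟩ := factor_unique (by omega) (dl_det ha) hRp
      (fun A => (sl_commute h1i.symm _ A).mul_left (sl_commute h12.symm _ A)) hR0
      (hpq.trans (by rw [← mul_assoc, ← (c1 _ _).eq, mul_assoc]))
    rw [dl_eq_of_smul hJ ha1 ha hs]
    exact ⟨(c1 _ _).symm, fun g hg _ hgd => hS.diff_pair hC hi h1i ha haM hau hw.1 (Or.inr hw) g hg
      (by rwa [(c1 _ _).eq])⟩
  rcases eq_or_ne p n2 with rfl | hp2
  · obtain ⟨s, hs⟩ := factor_unique (by omega) (dl_det hb) hRp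
      (fun A => (sl_commute h2i.symm _ A).mul_left (sl_commute h12 _ A)) hR0
      (hpq.trans (by rw [(c12 _ _).eq, ← mul_assoc, ← (c2 _ _).eq, mul_assoc]))
    rw [dl_eq_of_smul hJ ha1 hb hs]
    exact ⟨(c2 _ _).symm, fun g hg _ hgd => hS.diff_pair hC hi h2i hb hbM hbu hw.1 (Or.inr hw) g hg
      (by rwa [(c2 _ _).eq])⟩
  exfalso
  obtain ⟨s, hs⟩ := scalar_of_prod (by omega) hRp hR0 fun A => by
    rw [hpq]
    exact (sl_commute (Ne.symm hpi) _ A).mul_left ((sl_commute (Ne.symm hp1) _ A).mul_left (sl_commute (Ne.symm hp2) _ A))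
  exact dl_ne_scalar hJ ha1 s hs

/-- every conjugate of a product of reflections of two slots permutes the slots -/
theorem std_conj_pair {i l : Fin t} (hi : i ∈ Sg) (hl : l ∈ Sg) (hil : i ≠ l) {a b : Fin k → F} (ha : Good J a)
    (hb : Good J b) {g : Matrix (Fin t → Fin k) (Fin t → Fin k) F} (hg : MG G g) :
    Std (g * (sl i (dl J a) * sl l (dl J b)) * adjJ (GV J) g) := by
  classical
  have hJ := hS.sj
  have hk := hJ.kk
  haveI : Nonempty (Fin k) := ⟨⟨0, by omega⟩⟩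
  obtain ⟨hga, hg1, hg2⟩ := hS.adj_inv hg
  obtain ⟨v, hv⟩ : ∃ v, v = sl i (dl J a) * sl l (dl J b) := ⟨_, rfl⟩
  rw [← hv]
  have hcl := fun A B : Matrix (Fin k) (Fin k) F => sl_commute hil A B
  have hvM : MG G v := hv ▸ (hS.refl i hi a ha).mul (hS.refl l hl b hb)
  have hvs : Std v := hv ▸ (Std.sl i (dl_sq ha.1)).mul (Std.sl l (dl_sq hb.1))
  have hvv : v * v = 1 := by
    rw [hv, mul_assoc, ← mul_assoc (sl l _) (sl i _), ← (hcl _ _).eq, mul_assoc (sl i _) (sl l _), sl_mul,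
      dl_sq hb.1, sl_one, mul_one, sl_mul, dl_sq ha.1, sl_one]
  have hvCS : CS G v := hv ▸ hS.diff_pair hC hl hil ha.1 (hS.refl i hi a ha) (hS.ufx_good hC hi ha) hb.1 (Or.inr hb)
  obtain ⟨x, hx⟩ : ∃ x, x = sl (β := Fin t) i (dl J a) := ⟨_, rfl⟩
  have hxM : MG G x := hx ▸ hS.refl i hi a ha
  have hxs : Std x := hx ▸ Std.sl i (dl_sq ha.1)
  have hxx : x * x = 1 := by rw [hx, sl_mul, dl_sq ha.1, sl_one]
  have hxu : UFx J G x := hx ▸ hS.ufx_good hC hi ha
  obtain ⟨w, hw⟩ : ∃ w, w = g * v * adjJ (GV J) g := ⟨_, rfl⟩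
  rw [← hw]
  have hwM : MG G w := hw ▸ hS.conj_mem hg hvM
  have hww : w * w = 1 := by rw [hw, hS.conj_mul hg, hvv, mul_one, hg2]
  obtain ⟨f, hst, hconj⟩ := hS.engine_core hxM hxs hxx hxu hwM hww
  obtain ⟨u0, hu0⟩ : ∃ u0, u0 = x * w := ⟨_, rfl⟩
  rw [← hu0] at hst hconj
  have huM : MG G u0 := hu0 ▸ hxM.mul hwM
  obtain ⟨D, hD⟩ : ∃ D, D = u0 ^ (2 * f + 1) := ⟨_, rfl⟩
  rw [← hD] at hst hconj
  obtain ⟨w2, hw2⟩ : ∃ w2, w2 = x * D := ⟨_, rfl⟩
  have hDM : MG G D := hD ▸ huM.pow _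
  have hw2M : MG G w2 := hw2 ▸ hxM.mul hDM
  have hw2s : Std w2 := hw2 ▸ hxs.mul hst
  obtain ⟨q, hq⟩ : ∃ q, q = adjJ (GV J) (u0 ^ f) * g := ⟨_, rfl⟩
  have hqM : MG G q := hq ▸ (hS.adj_inv (huM.pow f)).1.mul hg
  have hqv : q * v * adjJ (GV J) q = w2 := by
    rw [hw2, hq, hS.adj_mul', hS.adj_adj', ← hconj, hw]
    simp only [mul_assoc]
  have hw2w2 : w2 * w2 = 1 := by rw [← hqv, hS.conj_mul hqM, hvv, mul_one, (hS.adj_inv hqM).2.2]
  have hxD : x * D = w2 := hw2.symm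
  have hDe : D = x * w2 := by rw [hw2, ← mul_assoc, hxx, one_mul]
  have hDi : D * (w2 * x) = 1 := by rw [hDe, mul_assoc, ← mul_assoc w2 w2, hw2w2, one_mul, hxx]
  have hDi' : (w2 * x) * D = 1 := mul_eq_one_comm.1 hDi
  have hxDn : ∀ n, x * D ^ n = (w2 * x) ^ n * x := fun n => by
    have e : SemiconjBy x D (w2 * x) := by
      show x * D = w2 * x * x
      rw [hxD, mul_assoc, hxx, mul_one]
    exact (e.pow_right n).eq
  -- the order of the product
  have hex : ∃ n, 0 < n ∧ D ^ n = 1 := by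
    obtain ⟨y, -, hy⟩ := hDM
    obtain ⟨n, hn, hn1⟩ := isOfFinOrder_iff_pow_eq_one.1 (isOfFinOrder_of_finite y)
    exact ⟨n, hn, by rw [← hy, ← Units.val_pow_eq_pow_val, hn1, Units.val_one]⟩
  obtain ⟨n, ⟨hn, hn1⟩, hmin⟩ : ∃ n, (0 < n ∧ D ^ n = 1) ∧ ∀ j < n, ¬ (0 < j ∧ D ^ j = 1) :=
    ⟨Nat.find hex, Nat.find_spec hex, fun j hj => Nat.find_min hex hj⟩
  obtain ⟨e, he⟩ : Even n := by
    by_contra hodd
    obtain ⟨j, hj⟩ := Nat.not_even_iff_odd.1 hodd
    obtain ⟨h, hh⟩ : ∃ h, h = adjJ (GV J) q * D ^ j := ⟨_, rfl⟩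
    have hhM : MG G h := hh ▸ (hS.adj_inv hqM).1.mul (hDM.pow j)
    have hvx : v = h * sl i (dl J a) * adjJ (GV J) h := by
      have e1 : adjJ (GV J) (D ^ j) = (w2 * x) ^ j := by
        obtain ⟨-, h1, -⟩ := hS.adj_inv (hDM.pow j)
        calc adjJ (GV J) (D ^ j) = adjJ (GV J) (D ^ j) * (D ^ j * (w2 * x) ^ j) := by
              rw [hS.MG_inv_pow hDi j, mul_one]
          _ = _ := by rw [← mul_assoc, h1, one_mul]
      have e2 : D ^ j * x * (w2 * x) ^ j = w2 := by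
        have h1 : D ^ (2 * j) = w2 * x := by
          calc D ^ (2 * j) = D ^ (2 * j) * (D * (w2 * x)) := by rw [hDi, mul_one]
            _ = w2 * x := by rw [← mul_assoc, ← pow_succ, ← hj, hn1, one_mul]
        have h2 : x * (w2 * x) ^ j = D ^ j * x := by
          have e : SemiconjBy x (w2 * x) D := by
            show x * (w2 * x) = D * x
            rw [hDe, mul_assoc]
          exact (e.pow_right j).eq
        rw [mul_assoc, h2, ← mul_assoc, ← pow_add, ← two_mul, h1, mul_assoc, hxx, mul_one]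
      rw [← hx, hh, hS.adj_mul', hS.adj_adj', e1,
        show adjJ (GV J) q * D ^ j * x * ((w2 * x) ^ j * q) = adjJ (GV J) q * (D ^ j * x * (w2 * x) ^ j) * q by
          simp only [mul_assoc], e2, ← hqv, ← mul_assoc, ← mul_assoc, (hS.adj_inv hqM).2.1, one_mul, mul_assoc,
        (hS.adj_inv hqM).2.1, mul_one]
    rcases classify hS ha.1 hhM hvx hvs with ⟨l', z, hz, e'⟩ | ⟨-, l1, l2, hne, h1, -, -⟩
    · rw [hv] at e'
      rcases slot_prod hJ (Ne.symm hil) (dl_det ha.1)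
        (fun e => dl_ne_scalar hJ hb.1 0 (by rw [e, zero_smul])) e' with ⟨s, hs⟩ | ⟨s, hs⟩
      · exact dl_ne_scalar hJ hb.1 s hs
      · exact dl_ne_scalar hJ ha.1 s hs
    · obtain ⟨A, hA⟩ := exists_nonscalar (F := F) (k := k) (by omega)
      obtain ⟨B, hB⟩ := h1 A
      have hfix : ∃ C, v * sl l1 A = sl l1 C * v := by
        rcases eq_or_ne l1 i with rfl | h'i
        · refine ⟨dl J a * A * dl J a, ?_⟩
          rw [hv, mul_assoc, ((sl_commute hil A _).symm).eq, ← mul_assoc, ← mul_assoc, sl_mul, sl_mul,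
            mul_assoc _ (dl J a) (dl J a), dl_sq ha.1, mul_one]
        rcases eq_or_ne l1 l with rfl | h'l
        · refine ⟨dl J b * A * dl J b, ?_⟩
          rw [hv, mul_assoc, sl_mul, ← mul_assoc (sl l1 _) (sl i _), ← (hcl _ _).eq, mul_assoc, sl_mul,
            mul_assoc _ (dl J b) (dl J b), dl_sq hb.1, mul_one]
        · exact ⟨A, by rw [hv]; exact ((sl_commute (Ne.symm h'i) _ A).mul_left (sl_commute (Ne.symm h'l) _ A)).eq⟩
      obtain ⟨C, hC'⟩ := hfix
      exact hne (slot_map_eq (by omega) hvv (image_nonscalar (by omega) hvv hB hA) hB hC').symm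
  obtain ⟨z, hz⟩ : ∃ z, z = D ^ e := ⟨_, rfl⟩
  have hz1 : z ≠ 1 := fun h => hmin e (by omega) ⟨by omega, hz ▸ h⟩
  have hzz : z * z = 1 := by rw [hz, ← pow_add, ← he, hn1]
  have hzinv : (w2 * x) ^ e = z := by
    calc (w2 * x) ^ e = (w2 * x) ^ e * (z * z) := by rw [hzz, mul_one]
      _ = z := by rw [← mul_assoc, hz, hS.MG_inv_pow hDi' e, one_mul]
  have hzx : Commute z x := by
    show _ = _
    rw [hz, hxDn, hzinv, ← hz]
  have hzw : Commute z w := by
    have hwu : w = x * u0 := by rw [hu0, ← mul_assoc, hxx, one_mul]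
    rw [hwu]
    refine hzx.mul_right ?_
    rw [hz, hD]
    exact ((Commute.refl u0).pow_left _).pow_left _
  have hzs : Std z := hz ▸ hst.pow e
  have hzM : MG G z := hz ▸ hDM.pow e
  suffices CS G z from this w hwM hzw.symm
  -- the conjugate of the reflection
  obtain ⟨p, hp, u2, hu2, hx2, hx2M, hx2u⟩ := hS.ufx_refl_image hC hw2M hw2s hi ha
  have hw2a : adjJ (GV J) w2 = w2 := by
    obtain ⟨-, h1, -⟩ := hS.adj_inv hw2M
    calc adjJ (GV J) w2 = adjJ (GV J) w2 * (w2 * w2) := by rw [hw2w2, mul_one]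
      _ = w2 := by rw [← mul_assoc, h1, one_mul]
  rw [hw2a, ← hx] at hx2
  have hDD : D * D = x * sl p (dl J u2) := by
    rw [hDe, ← hx2]; simp only [mul_assoc]
  rcases eq_or_ne p i with rfl | hpi
  swap
  · -- two slots
    have hcx : Commute x (sl p (dl J u2)) := hx ▸ sl_commute (Ne.symm hpi) _ _
    have h4 : D ^ 4 = 1 := by
      rw [show 4 = 2 + 2 by rfl, pow_add, pow_two, hDD, mul_assoc, ← mul_assoc (sl p _) x, ← hcx.eq,
        mul_assoc x (sl p _), sl_mul, dl_sq hu2, sl_one, mul_one, hxx]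
    have hD2 : D ^ 2 ≠ 1 := fun h => by
      rw [pow_two, hDD] at h
      have h1 := congrArg (x * ·) h
      simp only [← mul_assoc, hxx, one_mul, mul_one] at h1
      rw [hx] at h1
      exact hpi (slot_eq h1 (dl_ne_scalar hJ hu2))
    have he2 : e = 2 := by
      have hle : n ≤ 4 := by
        by_contra h
        exact hmin 4 (by omega) ⟨by omega, h4⟩
      have h3 : e ≠ 1 := fun h => hD2 (by rw [show 2 = n by omega]; exact hn1)
      omega
    rw [hz, he2, pow_two, hDD, hcx.eq, hx]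
    exact hS.diff_pair hC hi hpi hu2 hx2M hx2u ha.1 (Or.inr ha)
  have hDDp : D * D = sl p (dl J a * dl J u2) := by rw [hDD, hx, sl_mul]
  rcases Nat.even_or_odd e with ⟨j, hj⟩ | ⟨j, hj⟩
  · -- a rotation of one slot
    have hpow : ∀ j, ∃ P, D ^ (j + j) = sl p P := fun j => by
      induction j with
      | zero => exact ⟨1, by rw [sl_one]; rfl⟩
      | succ j ih =>
        obtain ⟨P, hP⟩ := ih
        exact ⟨P * (dl J a * dl J u2), by
          rw [show j + 1 + (j + 1) = j + j + 2 by omega, pow_add, hP, pow_two, hDDp, sl_mul]⟩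
    obtain ⟨P, hP⟩ := hpow j
    rw [← hj, ← hz] at hP
    have hconjx : (w2 * x) ^ j * x * D ^ j = x * z := by
      rw [← hxDn, mul_assoc, ← pow_add, ← hj, hz]
    have hadj : adjJ (GV J) ((w2 * x) ^ j) = D ^ j := by
      have h1 := (hS.adj_inv (hDM.pow j)).2.1
      have e1 : adjJ (GV J) (D ^ j) = (w2 * x) ^ j := by
        calc adjJ (GV J) (D ^ j) = adjJ (GV J) (D ^ j) * (D ^ j * (w2 * x) ^ j) := by
              rw [hS.MG_inv_pow hDi j, mul_one]
          _ = _ := by rw [← mul_assoc, h1, one_mul]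
      rw [← e1, hS.adj_adj']
    obtain ⟨p', -, u3, hu3, hx3, hx3M, hx3u⟩ :=
      hS.ufx_refl_image hC ((hw2M.mul hxM).pow j) ((hw2s.mul hxs).pow j) hi ha
    rw [hadj, ← hx, hconjx] at hx3
    rw [hP, hx, sl_mul] at hx3
    obtain rfl := (slot_eq hx3.symm (dl_ne_scalar hJ hu3)).symm
    have hPe : P = dl J a * dl J u3 := by
      rw [← sl_injective p hx3, ← mul_assoc, dl_sq ha.1, one_mul]
    have hac : Commute (dl J a) (dl J u3) := by
      have h1 := hzx.eq
      rw [hP, hx, sl_mul, sl_mul] at h1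
      have h2 := sl_injective p h1
      rw [hPe, ← mul_assoc (dl J a) (dl J a), dl_sq ha.1, one_mul] at h2
      have h3 := congrArg (dl J a * ·) h2
      simp only [← mul_assoc, dl_sq ha.1, one_mul] at h3
      exact h3.symm
    have horth : bf J a u3 = 0 := (rf_comm hJ ha.1 hu3 hac).resolve_right fun e => hz1 (by
      rw [hP, hPe, e, dl_sq hu3, sl_one])
    rw [hP, hPe]
    -- use a reflection of another slot
    obtain ⟨w0, hw0, -⟩ := exists_good_perp hJ (n := 0) (by omega) ![] (fun a => a.elim0) (fun a => a.elim0)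
    obtain ⟨m, hm, hmp⟩ : ∃ m ∈ Sg, m ≠ p := ⟨l, hl, Ne.symm hil⟩
    refine hS.engine (a := sl p (dl J a)) (d := sl m (dl J w0)) (hx ▸ hxM) (hx ▸ hxs) (hx ▸ hxx) (hx ▸ hxu)
      (hS.refl m hm w0 hw0) (Std.sl m (dl_sq hw0.1)) (by rw [sl_mul, dl_sq hw0.1, sl_one])
      (hS.ufx_good hC hm hw0) ?_ (sl_commute hmp _ _) ?_
    · show _ = _
      rw [sl_mul, sl_mul, mul_assoc (dl J a) (dl J u3), ← hac.eq]
    intro h hh hhs hhz
    obtain ⟨r, hr, a1, ha1, hp1, hp1M, hp1u⟩ := hS.ufx_refl_image hC hh hhs hi ha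
    obtain ⟨r', B, hB⟩ := hS.std_conj_slot hh hhs p (dl J u3)
    have hpq : sl r (dl J a1) * sl r' B = sl p (dl J a * dl J u3) := by
      rw [← hp1, ← hB, hS.conj_mul hh, sl_mul, hS.conj_fix hh hhz]
    have hrr : r' = r := by
      by_contra hne
      have hB0 : B ≠ 0 := fun e => by
        rw [e, sl_zero, mul_zero] at hpq
        exact hz1 (absurd (hP.trans (by rw [hPe, ← hpq])) fun e => by
          rw [e, mul_zero] at hzz
          exact zero_ne_one hzz)
      rcases slot_prod hJ hne (dl_det ha1) hB0 hpq with ⟨s, hs⟩ | ⟨s, hs⟩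
      · obtain ⟨A, hA⟩ : ∃ A, A = dl J u3 := ⟨_, rfl⟩
        have h1 : sl r' B * h = h * sl p A := by
          rw [← hB, hA, mul_assoc _ _ h, (hS.adj_inv hh).2.1, mul_one]
        exact image_nonscalar (by omega) (hS.adj_inv hh).2.1 h1.symm (hA ▸ dl_ne_scalar hJ hu3) s hs
      · exact dl_ne_scalar hJ ha1 s hs
    rw [hrr, sl_mul] at hpq
    have hrp : p = r := slot_eq hpq.symm fun s e => by
      have hzs' : z = s • (1 : Matrix (Fin t → Fin k) (Fin t → Fin k) F) := by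
        rw [hP, hPe, e, sl_smul, sl_one]
      have h2 := congrArg (dl J a * ·) e
      simp only [← mul_assoc, dl_sq ha.1, one_mul, mul_smul_comm, mul_one] at h2
      have h3 := dl_eq_of_smul hJ hu3 ha.1 h2
      exact hz1 (by rw [hP, hPe, h3, dl_sq ha.1, sl_one])
    rw [hp1]
    subst hrp
    exact ⟨sl_commute hmp _ _, fun g' hg' _ hgd =>
      hS.diff_pair hC hm (Ne.symm hmp) ha1 hp1M hp1u hw0.1 (Or.inr hw0) g' hg'
        (by rwa [← (sl_commute hmp _ _).eq])⟩
  -- a conjugate of the pair commuting with the reflection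
  obtain ⟨h, hh⟩ : ∃ h, h = (w2 * x) ^ j * q := ⟨_, rfl⟩
  have hhM : MG G h := hh ▸ ((hw2M.mul hxM).pow j).mul hqM
  have hxz' : x * z = h * v * adjJ (GV J) h := by
    have hadj : adjJ (GV J) ((w2 * x) ^ j) = D ^ j := by
      have h1 := (hS.adj_inv (hDM.pow j)).2.1
      have e1 : adjJ (GV J) (D ^ j) = (w2 * x) ^ j := by
        calc adjJ (GV J) (D ^ j) = adjJ (GV J) (D ^ j) * (D ^ j * (w2 * x) ^ j) := by
              rw [hS.MG_inv_pow hDi j, mul_one]
          _ = _ := by rw [← mul_assoc, h1, one_mul]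
      rw [← e1, hS.adj_adj']
    rw [hh, hS.adj_mul', hadj, hz, hj, show 2 * j + 1 = j + (1 + j) by omega, pow_add, pow_add, pow_one,
      ← mul_assoc x, hxDn, ← hqv, hDe]
    simp only [mul_assoc]
    rw [← mul_assoc x x, hxx, one_mul, ← hqv]
    simp only [mul_assoc]
  have hhs : Std h := by
    have h1 : Commute (adjJ (GV J) h * x * h) v := by
      obtain ⟨-, e1, e2⟩ := hS.adj_inv hhM
      have hcx : Commute x (h * v * adjJ (GV J) h) := hxz' ▸ (Commute.refl x).mul_right hzx.symm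
      show _ = _
      calc adjJ (GV J) h * x * h * v = adjJ (GV J) h * (x * (h * v * adjJ (GV J) h)) * h := by
            simp only [mul_assoc, e1, mul_one]
        _ = v * (adjJ (GV J) h * x * h) := by
            rw [hcx.eq, show adjJ (GV J) h * (h * v * adjJ (GV J) h * x) * h =
              (adjJ (GV J) h * h) * (v * (adjJ (GV J) h * x * h)) by simp only [mul_assoc], e1, one_mul]
    exact hxu h hhM (hvCS _ (((hS.adj_inv hhM).1.mul hxM).mul hhM) h1)
  obtain ⟨n1, hn1', a1, ha1, e1, ha1M, ha1u⟩ := hS.ufx_refl_image hC hhM hhs hi ha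
  obtain ⟨n2, hn2', b1, hb1, e2, hb1M, hb1u⟩ := hS.ufx_refl_image hC hhM hhs hl hb
  have hne := hS.image_ne hhM hhs hil (dl_ne_scalar hJ ha.1) (dl_ne_scalar hJ hb.1) e1 e2
  have hv2 : x * z = sl n1 (dl J a1) * sl n2 (dl J b1) := by rw [hxz', hv, ← e1, ← e2, hS.conj_mul hhM]
  have hze : z = x * (sl n1 (dl J a1) * sl n2 (dl J b1)) := by rw [← hv2, ← mul_assoc, hxx, one_mul]
  have hc12 := sl_commute hne (dl J a1) (dl J b1)
  have hcomm : Commute x (sl n1 (dl J a1) * sl n2 (dl J b1)) := hv2 ▸ (Commute.refl x).mul_right hzx.symm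
  have hstep : ∀ {c d : Fin k → F} {n : Fin t}, n ≠ p → bf J c c ≠ 0 → bf J d d ≠ 0 →
      UFx J G (sl p (dl J c)) → MG G (sl n (dl J d)) → UFx J G (sl n (dl J d)) →
      Commute x (sl p (dl J c) * sl n (dl J d)) → CS G (x * (sl p (dl J c) * sl n (dl J d))) := by
    intro c d n hnp hc hd hcu hdM hdu hcom
    rw [hx] at hcom ⊢
    have hcc : Commute (dl J a) (dl J c) := by
      have h2 := (hcom.mul_right (sl_commute (Ne.symm hnp) (dl J a) (dl J d))).eq
      rw [mul_assoc (sl p (dl J c)), sl_mul n, dl_sq hd, sl_one, mul_one, sl_mul, sl_mul] at h2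
      exact sl_injective p h2
    rw [← mul_assoc, sl_mul]
    rcases rf_comm hJ ha.1 hc hcc with h | h
    · exact hS.two_slots hC hi hnp ha hc hd h hcu hdM hdu
    · rw [h, dl_sq hc, sl_one, one_mul]
      exact hS.cs_of_ufx (Std.sl n (dl_sq hd)) hdu
  rw [hze]
  rcases eq_or_ne n1 p with rfl | h1
  · exact hstep (Ne.symm hne) ha1 hb1 ha1u hb1M hb1u hcomm
  rcases eq_or_ne n2 p with rfl | h2
  · rw [hc12.eq] at hcomm ⊢
    exact hstep h1 hb1 ha1 hb1u ha1M ha1u hcomm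
  rw [hx]
  exact hS.three_slots hC hi h1 h2 hne ha ha1 hb1 ha1M ha1u hb1M hb1u

end Setting

end Cfsg.Agent.ClassicalMax.OOWreath
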