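import Cfsg.Agent.ClassicalMax.OOWreath.Eich

/-!
The stabiliser of a tensor power decomposition with slots of an orthogonal form is maximal: the reduction to the
criterion in the coordinates of the decomposition.
-/

set_option autoImplicit false
set_option linter.unusedSectionVars false
set_option linter.unusedSimpArgs false

namespace Cfsg.Agent.ClassicalMax.OOWreath

open Matrix Module QuadraticMap Cfsg.Geo Cfsg.Agent.Classical Cfsg.Agent.Classical.Quad Cfsg.Agent.ClassicalMax.TPow
open Cfsg.Agent.ClassicalMax.RootPlanes (isMaximalIn_omega)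
open Cfsg.Agent.ClassicalMax.SpWreath (GV GV_det pv bf_pv rk_pv)
open Cfsg.Agent.ClassicalMax.OWreath (mt mt_mulVec mt_injective trO trO_apply)

variable {F : Type*} [Field F] {k t : ℕ}

/-- standard elements keep pure tensors pure -/
theorem standard_pure [Finite F] {g : GL (Fin t → Fin k) F} (hg : g ∈ tensorWreathStandard k t F) (a : Fin t → Fin k → F) :
    ∃ b : Fin t → Fin k → F, (g : Matrix (Fin t → Fin k) (Fin t → Fin k) F) *ᵥ pv a = pv b := by
  let S : Set ((Fin t → Fin k) → F) := {w | ∃ a : Fin t → Fin k → F, w = pv a}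
  have hgen : tensorWreathStandard k t F ≤ Cfsg.stabilizing (Cfsg.glToMat (Fin t → Fin k) F) S := by
    refine (Subgroup.closure_le _).2 fun x hx => NotMax.mem_stabilizing S x ?_
    rintro _ ⟨a, rfl⟩
    rcases hx with ⟨gs, hgs⟩ | ⟨σ, hσ⟩
    · refine ⟨fun j => (gs j : Matrix (Fin k) (Fin k) F) *ᵥ a j, funext fun z => ?_⟩
      simp only [mulVec, dotProduct, pv, hgs, ← Finset.prod_mul_distrib]
      exact (Fintype.prod_sum fun j l => (gs j : Matrix (Fin k) (Fin k) F) (z j) l * a j l).symm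
    · refine ⟨fun j => a (σ.symm j), funext fun z => ?_⟩
      simp only [mulVec, dotProduct, pv, hσ, ite_mul, one_mul, zero_mul, Finset.sum_ite_eq', Finset.mem_univ, if_true,
        Function.comp_apply]
      exact Fintype.prod_equiv σ _ _ fun j => by rw [Equiv.symm_apply_apply]
  exact ((hgen hg) (pv a)).1 ⟨a, rfl⟩

variable [Finite F] {J : Matrix (Fin k) (Fin k) F} {Q : QuadraticForm F ((Fin t → Fin k) → F)} {c : F}

/-- the commutator subgroup does not preserve the decomposition -/
theorem SSpace.exists_not_standard (hV : SSpace Q J c) (ht : 2 ≤ t) :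
    ∃ g ∈ commutator (oG Q), mt g ∉ tensorWreathStandard k t F := by
  classical
  have hJ := hV.sj
  haveI : Nontrivial (Fin t) := Fin.nontrivial_iff_two_le.2 ht
  set i : Fin t := ⟨0, by omega⟩
  obtain ⟨j, hji⟩ := exists_ne i
  obtain ⟨p, hp0, hp⟩ := hJ.exists_iso
  obtain ⟨q, w, hq, hpq, hpw, hqw, hw⟩ := hJ.exists_frame hp0 hp
  set e : Fin t → Fin k → F := fun _ => p
  set b : Fin t → Fin k → F := Function.update e i w
  set x : Fin t → Fin k → F := Function.update (fun _ => q) i w
  have he : Q (pv e) = 0 := hV.pv_sing e i hp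
  have hb : Q (pv b) = 0 := hV.pv_sing b j (by simp [b, e, hji, hp])
  have h : polar Q (pv e) ((1 : F) • pv b) = 0 := by
    rw [one_smul]; exact hV.pol_zero i (by simp [b, e, hpw])
  refine ⟨sO he h, sO_mem_commutator hV.nd hV.hex _ _, fun hS => ?_⟩
  obtain ⟨y, hy⟩ := standard_pure hS x
  rw [hV.sO_mat hb, one_mul, add_mulVec, one_mulVec, smul_mulVec, sub_mulVec, rk_mulVec, rk_mulVec] at hy
  have hex : bf (GV J) (pv e) (pv x) = 0 := by
    rw [bf_pv]; exact Finset.prod_eq_zero (Finset.mem_univ i) (by simp [e, x, hpw])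
  rw [hex, zero_smul, sub_zero, smul_smul] at hy
  set α := c * bf (GV J) (pv b) (pv x) with hα
  have hα0 : α ≠ 0 := mul_ne_zero hV.c0 (by
    rw [bf_pv]
    refine Finset.prod_ne_zero_iff.2 fun l _ => ?_
    rcases eq_or_ne l i with rfl | hl
    · simp [b, x, hw]
    · simp [b, x, e, hl, hpq])
  let Y : (Fin k → F) → (Fin k → F) → Fin t → Fin k → F := fun u v =>
    Function.update (Function.update (fun _ => p + q) i u) j v
  have hsplit : ∀ (z : Fin t → Fin k → F) u v, ∏ l, bf J (Y u v l) (z l) =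
      bf J v (z j) * (bf J u (z i) * ∏ l ∈ (Finset.univ.erase j).erase i, bf J (p + q) (z l)) := fun z u v => by
    rw [← Finset.mul_prod_erase _ _ (Finset.mem_univ j), ← Finset.mul_prod_erase _ _
      (Finset.mem_erase.2 ⟨hji.symm, Finset.mem_univ i⟩)]
    congr 1
    · simp [Y]
    congr 1
    · simp [Y, hji.symm]
    refine Finset.prod_congr rfl fun l hl => ?_
    simp [Y, Finset.ne_of_mem_erase hl, Finset.ne_of_mem_erase (Finset.mem_of_mem_erase hl)]
  have key : ∀ u v, ∏ l, bf J (Y u v l) (y l) = (∏ l, bf J (Y u v l) (x l)) + α * ∏ l, bf J (Y u v l) (e l) :=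
    fun u v => by rw [← bf_pv, ← hy, bf_add_right, bf_smul_right, bf_pv, bf_pv]
  set ua := (bf J w w)⁻¹ • w
  have hua : bf J ua w = 1 := by rw [bf_smul_left, inv_mul_cancel₀ hw]
  have hua' : bf J ua p = 0 := by rw [bf_smul_left, hJ.comm w p, hpw, mul_zero]
  have hone : ∀ z : Fin t → Fin k → F, (∀ l, l ≠ i → l ≠ j → bf J (p + q) (z l) = 1) →
      ∏ l ∈ (Finset.univ.erase j).erase i, bf J (p + q) (z l) = 1 := fun z hz =>
    Finset.prod_eq_one fun l hl => hz l (Finset.ne_of_mem_erase hl) (Finset.ne_of_mem_erase (Finset.mem_of_mem_erase hl))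
  have hx1 := hone x fun l hl _ => by simp [x, hl, bf_add_left, hpq, hq]
  have he1 := hone e fun l _ _ => by simp [e, bf_add_left, hp, hJ.comm q p, hpq]
  have k1 := key ua p
  have k2 := key q q
  have k3 := key ua q
  have k4 := key q p
  simp only [hsplit, hx1, he1, x, e, Function.update_self, Function.update_of_ne hji, hua, hua', hp, hq, hpq,
    hJ.comm q p, hqw, mul_one, mul_zero, one_mul, zero_mul, add_zero, zero_add] at k1 k2 k3 k4
  set R := ∏ l ∈ (Finset.univ.erase j).erase i, bf J (p + q) (y l)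
  refine hα0 ?_
  calc α = (bf J p (y j) * (bf J ua (y i) * R)) * (bf J q (y j) * (bf J q (y i) * R)) := by rw [k1, k2, one_mul]
    _ = (bf J q (y j) * (bf J ua (y i) * R)) * (bf J p (y j) * (bf J q (y i) * R)) := by ring
    _ = 0 := by rw [k3, zero_mul]

/-- maximality from a criterion in the coordinates of the decomposition -/
theorem isMaximal_of_sspace [Fintype F] {ι : Type} [Fintype ι] [DecidableEq ι] (R : QuadraticForm F (ι → F))
    (hR : (polarBilin R).Nondegenerate) (hn : 5 ≤ Fintype.card ι) (e : ι ≃ (Fin t → Fin k)) (P : GL ι F) (ht : 2 ≤ t)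
    (hV : SSpace (R.comp (Asch.frL e P : ((Fin t → Fin k) → F) →ₗ[F] (ι → F))) J c)
    (hover : ∀ H : Subgroup (oG (R.comp (Asch.frL e P : ((Fin t → Fin k) → F) →ₗ[F] (ι → F)))),
      (∀ g ∈ commutator (oG (R.comp (Asch.frL e P : ((Fin t → Fin k) → F) →ₗ[F] (ι → F)))),
        mt g ∈ tensorWreathStandard k t F → g ∈ H) →
      ∀ g ∈ H, mt g ∉ tensorWreathStandard k t F →
        eo (R.comp (Asch.frL e P : ((Fin t → Fin k) → F) →ₗ[F] (ι → F))) ≤ H) :
    IsMaximalIn (omegaGL ⇑R) (tensorWreathSubgroup k t e P ⊓ omegaGL ⇑R) := by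
  classical
  set L := Asch.frL e P
  set T := trO R L
  have hKiff : ∀ g, (glEquiv ι F).symm (T g).1 ∈ tensorWreathSubgroup k t e P ↔ mt g ∈ tensorWreathStandard k t F :=
    fun g => by
      have e1 : (glEquiv ι F).symm (T g).1 = Asch.fr e P (mt g) := by
        apply (glEquiv ι F).injective
        rw [MulEquiv.apply_symm_apply]
        refine LinearEquiv.ext fun y => ?_
        obtain ⟨x, rfl⟩ := L.surjective y
        rw [glEquiv_apply]
        show _ = PrimeDim.mat _ *ᵥ _
        rw [Asch.fr_mulVec, show PrimeDim.mat (mt g) *ᵥ x = g.1 x from mt_mulVec g x]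
        exact trO_apply R L g x
      rw [e1, ← Asch.map_fr_eq_wreath]
      exact Subgroup.mem_map_iff_mem (f := (Asch.fr e P).toMonoidHom) (Asch.fr e P).injective
  refine isMaximalIn_omega R hR hn (tensorWreathSubgroup k t e P) ?_ fun H hH g hg hgK => ?_
  · obtain ⟨g, hg, hgS⟩ := hV.exists_not_standard ht
    exact ⟨T g, OWreath.mem_commutator_map T.toMonoidHom hg, fun h => hgS ((hKiff g).1 h)⟩
  obtain ⟨g', rfl⟩ := T.surjective g
  have h1 := hover (H.comap T.toMonoidHom) (fun x hx hxS => hH (T x) (OWreath.mem_commutator_map T.toMonoidHom hx)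
    ((hKiff x).2 hxS)) g' hg fun h => hgK ((hKiff g').2 h)
  refine (Subgroup.closure_le _).2 ?_
  rintro _ ⟨p, w, hp, hpw, rfl⟩
  obtain ⟨x, rfl⟩ := L.surjective p
  obtain ⟨y, rfl⟩ := L.surjective w
  have hx : (R.comp (L : ((Fin t → Fin k) → F) →ₗ[F] (ι → F))) x = 0 := hp
  have hxy : polar (R.comp (L : ((Fin t → Fin k) → F) →ₗ[F] (ι → F))) x y = 0 := by
    rw [← hpw]; simp [polar]
  have h2 := h1 (Subgroup.subset_closure ⟨x, y, hx, hxy, rfl⟩)
  rw [Subgroup.mem_comap] at h2
  suffices T (sO hx hxy) = sO hp hpw from this ▸ h2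
  refine ext_oG fun z => ?_
  obtain ⟨z, rfl⟩ := L.surjective z
  rw [trO_apply, sO_apply, sO_apply]
  simp [polar]

end Cfsg.Agent.ClassicalMax.OOWreath
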