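import Cfsg.Agent.ClassicalMax.OOWreath.RadFull

/-!
Without full centres the whole unipotent radical of a slot line inside the group is the slot root group.
-/

set_option autoImplicit false
set_option linter.unusedSectionVars false
set_option linter.unusedSimpArgs false

namespace Cfsg.Agent.ClassicalMax.OOWreath

open Matrix Cfsg.Agent.ClassicalMax.TPow
open Cfsg.Agent.ClassicalMax.SpWreath (GV GV_det)

variable {F : Type*} [Field F] {k t : ℕ} {J : Matrix (Fin k) (Fin k) F} {Sg : Finset (Fin t)}
  {G : Subgroup (GL (Fin t → Fin k) F)}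

theorem ct_commute_other {i l : Fin t} (hli : l ≠ i) (a b : Fin k → F) {M : Matrix (Fin t → Fin k) (Fin t → Fin k) F}
    {A : Matrix (Fin k) (Fin k) F} (h : Commute M (sl l A)) : Commute (ct J i a b M) (sl l A) := by
  classical
  have hu : ∀ (x : Fin t → Fin k) (c : Fin k), Function.update x l c i = x i := fun x c =>
    Function.update_of_ne hli.symm _ _
  have hc : ∀ x y (S : Fin k → Matrix (Fin k) (Fin k) F) (w : Fin k → F), slice' (M * sl l A) i x y =
      ∑ c, A c (y l) • slice' M i x (Function.update y l c) := fun x y S w => by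
    ext p q
    simp only [slice', Matrix.of_apply, mul_sl, Matrix.sum_apply, Matrix.smul_apply, smul_eq_mul,
      Function.update_of_ne hli]
    exact Finset.sum_congr rfl fun c _ => by rw [Function.update_comm hli, mul_comm]
  have hc' : ∀ x y, slice' (sl l A * M) i x y = ∑ c, A (x l) c • slice' M i (Function.update x l c) y := fun x y => by
    ext p q
    simp only [slice', Matrix.of_apply, sl_mulVec, Matrix.sum_apply, Matrix.smul_apply, smul_eq_mul,
      Function.update_of_ne hli]
    exact Finset.sum_congr rfl fun c _ => by rw [Function.update_comm hli]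
  have hv : ∀ (f : Fin k → F) (S : Fin k → Matrix (Fin k) (Fin k) F),
      bf J a ((∑ c, f c • S c) *ᵥ b) = ∑ c, f c * bf J a (S c *ᵥ b) := fun f S => by
    show val J a b (∑ c, f c • S c) = _
    rw [map_sum]
    exact Finset.sum_congr rfl fun c _ => by rw [map_smul, smul_eq_mul]; rfl
  have e1 : ct J i a b (M * sl l A) = ct J i a b M * sl l A := by
    ext x y
    rw [mul_sl, ct_apply, hc x y (fun _ => 0) 0, hv]
    simp only [ct_apply, hu]
    split_ifs with h
    · exact Finset.sum_congr rfl fun c _ => mul_comm _ _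
    · simp
  have e2 : ct J i a b (sl l A * M) = sl l A * ct J i a b M := by
    ext x y
    rw [sl_mulVec, ct_apply, hc', hv]
    simp only [ct_apply, hu]
    split_ifs with h
    · rfl
    · simp
  show _ = _
  rw [← e1, h.eq, e2]

/-- the element fixes the line and is trivial on the middle -/
structure IsRad (J : Matrix (Fin k) (Fin k) F) (Sg : Finset (Fin t)) (G : Subgroup (GL (Fin t → Fin k) F))
    (i : Fin t) (p : Fin k → F) (g : Matrix (Fin t → Fin k) (Fin t → Fin k) F) : Prop where
  mem : MG G g
  fix : Maps J i g p p 1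
  mid : ∀ v, bf J p v = 0 → ∃ T, Op Sg i T ∧ ∀ w, g * sl i (rk J v w) = sl i (rk J v w) + sl i (rk J p w) * T

theorem sl_sum {γ : Type} (i : Fin t) (s : Finset γ) (f : γ → Matrix (Fin k) (Fin k) F) :
    sl i (∑ c ∈ s, f c) = ∑ c ∈ s, sl i (f c) := by
  classical
  induction s using Finset.induction_on with
  | empty => simp [sl_zero]
  | insert c s hc ih => rw [Finset.sum_insert hc, Finset.sum_insert hc, sl_add, ih]

namespace Setting

variable (hS : Setting J Sg G)
include hS

theorem adj_rn {i : Fin t} {p e : Fin k → F} {T Z : Matrix (Fin t → Fin k) (Fin t → Fin k) F} (hT : Op Sg i T)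
    (hZ : Op Sg i Z) (hZs : adjJ (GV J) Z = -Z) :
    adjJ (GV J) (rn J i p e T Z) = rn J i p e (-T) (-Z) := by
  have hTa := hT.adj hS.sj.symm hS.sj.det
  rw [rn, rn, adj_add, adj_sub, adj_add, adj_one hS.GV_det', hS.adj_mul', hS.adj_mul', hS.adj_mul', adj_sub, adj_smul,
    hS.adj_mul', hS.adj_adj', hZs, adj_sl hS.sj.det, adj_sl hS.sj.det, adj_sl hS.sj.det, hS.sj.adjJ_rk,
    hS.sj.adjJ_rk, hS.sj.adjJ_rk, (hTa.self _).eq, (hT.self _).eq,
    ((hZ.neg.sub ((hT.mul hTa).smul _)).self _).eq, adj_neg, neg_mul_neg, mul_neg, mul_neg]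
  abel

/-- a radical element whose middle part has one axis -/
theorem rn_of_rad {i : Fin t} {p q e : Fin k → F} (hp : bf J p p = 0) (hq : bf J q q = 0) (hpq : bf J p q = 1)
    (hpe : bf J p e = 0) {g : Matrix (Fin t → Fin k) (Fin t → Fin k) F} (hg : MG G g) (hfix : Maps J i g p p 1)
    {T : Matrix (Fin t → Fin k) (Fin t → Fin k) F} (hT : Op Sg i T)
    (hmid : ∀ v, bf J p v = 0 → ∀ w, g * sl i (rk J v w) = sl i (rk J v w) + sl i (rk J p w) * (bf J e v • T)) :
    ∃ Z, Op Sg i Z ∧ adjJ (GV J) Z = -Z ∧ g = rn J i p e T Z := by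
  have hJ := hS.sj
  have hne : Nonempty (Fin k) := ⟨⟨0, by have := hJ.kk; omega⟩⟩
  have hp0 : p ≠ 0 := fun h => by rw [h, bf, zero_dotProduct] at hpq; exact zero_ne_one hpq
  have hTa := hT.adj hJ.symm hJ.det
  have h0 : Op (F := F) (k := k) Sg i 0 := Op.zero
  obtain ⟨h, hh⟩ : ∃ h, h = g * rn J i p e (-T) 0 := ⟨_, rfl⟩
  have hfixv : ∀ v, bf J p v = 0 → ∀ w, h * sl i (rk J v w) = sl i (rk J v w) := fun v hv w => by
    have e1 : rn J i p e (-T) 0 * sl i (rk J v w) = sl i (rk J v w) - sl i (rk J p w) * (bf J e v • T) := by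
      obtain ⟨C, hC⟩ : ∃ C, C = (0 : Matrix (Fin t → Fin k) (Fin t → Fin k) F) -
          (bf J e e / 2) • (-T * adjJ (GV J) (-T)) := ⟨_, rfl⟩
      have hCo : Op Sg i C := hC ▸ h0.sub ((hT.neg.mul (hT.neg.adj hJ.symm hJ.det)).smul (bf J e e / 2))
      rw [rn, ← hC]
      simp only [add_mul, sub_mul, one_mul, mul_assoc]
      rw [((hT.neg).self _).eq, ((hT.neg.adj hJ.symm hJ.det).self _).eq, (hCo.self _).eq, ← mul_assoc, ← mul_assoc,
        ← mul_assoc, sl_mul, sl_mul, sl_mul, rk_mul_rk, rk_mul_rk, rk_mul_rk, hv]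
      simp only [zero_smul, sl_zero, zero_mul, sub_zero, add_zero, sl_smul, smul_mul_assoc, mul_neg, smul_neg,
        mul_smul_comm, ← sub_eq_add_neg]
    rw [hh, mul_assoc, e1, mul_sub, hmid v hv w, ← mul_assoc, hfix w, mul_one, add_sub_cancel_right]
  have hgi := (hS.adj_inv hg).2.1
  have hiso : adjJ (GV J) h * h = 1 ∧ h * adjJ (GV J) h = 1 := by
    have e1 : adjJ (GV J) h * h = 1 := by
      rw [hh, hS.adj_mul', mul_assoc, ← mul_assoc (adjJ (GV J) g), hgi, one_mul,
        hS.adj_rn hT.neg h0 (by rw [adj_zero, neg_zero]), hS.rn_mul hp hpe hT.neg.neg hT.neg h0.neg h0, neg_neg,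
        add_neg_cancel, adj_neg, mul_neg, neg_mul, sub_self, smul_zero, neg_zero, add_zero, add_zero, rn_zero, mul_zero,
        add_zero]
    exact ⟨e1, mul_eq_one_comm.1 e1⟩
  have hleft : ∀ v, bf J p v = 0 → ∀ w, sl i (rk J w v) * h = sl i (rk J w v) := fun v hv w => by
    have h1 := congrArg (adjJ (GV J)) (hfixv v hv w)
    rw [hS.adj_mul', adj_sl hJ.det, hJ.adjJ_rk] at h1
    conv_lhs => rw [← h1, mul_assoc, hiso.1, mul_one]
  obtain ⟨D, hD⟩ : ∃ D, D = h - 1 := ⟨_, rfl⟩
  have hDl : ∀ S : Matrix (Fin k) (Fin k) F, S *ᵥ p = 0 → sl i S * D = 0 := fun S hS' => by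
    rw [show S = ∑ b, rk J (Pi.single b 1) (S.row b ᵥ* J⁻¹) by
      ext x y
      simp only [rk, Matrix.sum_apply, vecMulVec_apply, vecMul_vecMul, nonsing_inv_mul J hJ.det, vecMul_one,
        Pi.single_apply, ite_mul, one_mul, zero_mul, Finset.sum_ite_eq, Finset.mem_univ, if_true]
      rfl, sl_sum, Finset.sum_mul]
    refine Finset.sum_eq_zero fun b _ => ?_
    rw [hD, mul_sub, mul_one, hleft _ ?_ _, sub_self]
    rw [hJ.comm, bf, dotProduct_mulVec, vecMul_vecMul, nonsing_inv_mul J hJ.det, vecMul_one]
    exact congrFun hS' b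
  have hDr : ∀ S : Matrix (Fin k) (Fin k) F, adjJ J S *ᵥ p = 0 → D * sl i S = 0 := fun S hS' => by
    rw [show S = adjJ J (adjJ J S) from (adj_adj hJ.symm hJ.det S).symm]
    rw [show adjJ J S = ∑ b, rk J (Pi.single b 1) ((adjJ J S).row b ᵥ* J⁻¹) by
      ext x y
      simp only [rk, Matrix.sum_apply, vecMulVec_apply, vecMul_vecMul, nonsing_inv_mul J hJ.det, vecMul_one,
        Pi.single_apply, ite_mul, one_mul, zero_mul, Finset.sum_ite_eq, Finset.mem_univ, if_true]
      rfl]
    have hs : ∀ (f : Fin k → Matrix (Fin k) (Fin k) F) (s : Finset (Fin k)),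
        adjJ J (∑ b ∈ s, f b) = ∑ b ∈ s, adjJ J (f b) := fun f s => by
      induction s using Finset.induction_on with
      | empty => simp [adj_zero]
      | insert b s hb ih => rw [Finset.sum_insert hb, Finset.sum_insert hb, adj_add, ih]
    rw [hs, sl_sum, Finset.mul_sum]
    refine Finset.sum_eq_zero fun b _ => ?_
    rw [hJ.adjJ_rk, hD, sub_mul, one_mul, hfixv _ ?_ _, sub_self]
    rw [hJ.comm, bf, dotProduct_mulVec, vecMul_vecMul, nonsing_inv_mul J hJ.det, vecMul_one]
    exact congrFun hS' b
  have hD' : D = sl i (rk J p p) * ct J i q q D := by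
    rw [← sl_ct (J := J) i (u := p) (v := p) q q D]
    have e1 : sl i (rk J p q) * D = D := by
      have := hDl (1 - rk J p q) (by rw [sub_mulVec, one_mulVec, rk_mulVec, hS.comm' q p, hpq, one_smul, sub_self])
      rw [sub_eq_add_neg (1 : Matrix (Fin k) (Fin k) F), ← neg_one_smul F (rk J p q), sl_add, sl_one, sl_smul,
        neg_one_smul, ← sub_eq_add_neg, sub_mul, one_mul, sub_eq_zero] at this
      exact this.symm
    have e2 : D * sl i (rk J q p) = D := by
      have := hDr (1 - rk J q p) (by
        rw [adj_sub, adj_one hJ.det, hJ.adjJ_rk, sub_mulVec, one_mulVec, rk_mulVec, hS.comm' q p, hpq, one_smul,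
          sub_self])
      rw [sub_eq_add_neg (1 : Matrix (Fin k) (Fin k) F), ← neg_one_smul F (rk J q p), sl_add, sl_one, sl_smul,
        neg_one_smul, ← sub_eq_add_neg, mul_sub, mul_one, sub_eq_zero] at this
      exact this.symm
    rw [e1, e2]
  obtain ⟨Z, hZd⟩ : ∃ Z, Z = ct J i q q D := ⟨_, rfl⟩
  have hZo : Op Sg i Z := fun l hl A => by
    rcases eq_or_ne l i with rfl | hli
    · rw [hZd]; exact ct_commute _ _ _ _ A
    have hl' : l ∉ Sg := hl.resolve_left hli
    rw [hZd]
    refine ct_commute_other hli q q ?_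
    rw [hD, hh, rn]
    have hcs : ∀ B : Matrix (Fin k) (Fin k) F, Commute (sl i B) (sl l A) := fun B => sl_commute hli.symm B A
    exact ((hS.out' hg hl' A).mul_left ((((Commute.one_left _).add_left ((hcs _).mul_left (hT.neg l hl A))).sub_left
      ((hcs _).mul_left (hT.neg.adj hJ.symm hJ.det l hl A))).add_left ((hcs _).mul_left
      ((h0.sub ((hT.neg.mul (hT.neg.adj hJ.symm hJ.det)).smul _)) l hl A)))).sub_left (Commute.one_left _)
  rw [← hZd] at hD'
  have hh' : h = 1 + sl i (rk J p p) * Z := by rw [← hD', hD]; abel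
  have hZs : adjJ (GV J) Z = -Z := by
    have h1 := hiso.2
    rw [hh', adj_add, adj_one hS.GV_det', hS.adj_mul', adj_sl hJ.det, hJ.adjJ_rk,
      ((hZo.adj hJ.symm hJ.det).self _).eq, add_mul, mul_add, mul_add, one_mul, one_mul, mul_one, mul_assoc,
      ← mul_assoc Z, (hZo.self _).eq, mul_assoc (sl i _) Z, ← mul_assoc (sl i _), sl_mul, rk_mul_rk, hp, zero_smul,
      sl_zero, zero_mul, add_zero, add_assoc, add_eq_left, ← mul_add] at h1
    exact eq_neg_of_add_eq_zero_left (eq_zero_of_sl_mul (i := i) (hJ.rk_ne hp0 hp0)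
      (fun A => ((hZo.adj hJ.symm hJ.det).self A).add_left (hZo.self A)) h1)
  refine ⟨Z, hZo, hZs, ?_⟩
  calc g = g * (rn J i p e (-T) 0 * rn J i p e T 0) := by
        rw [hS.rn_mul hp hpe hT.neg hT h0 h0, adj_neg, mul_neg, neg_mul, sub_self, smul_zero, neg_add_cancel, add_zero,
          add_zero, rn_zero, mul_zero, add_zero, mul_one]
    _ = h * rn J i p e T 0 := by rw [hh, mul_assoc]
    _ = rn J i p e 0 Z * rn J i p e T 0 := by rw [hh', rn_zero]
    _ = _ := by
      rw [hS.rn_mul hp hpe Op.zero hT hZo h0, adj_zero, mul_zero, zero_mul, sub_self, smul_zero, zero_add, add_zero,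
        add_zero]

variable [Finite F]

/-- the radical of a slot line -/
theorem rad_slot (hF : ¬ Full J Sg G) {i : Fin t} (hi : i ∈ Sg) {p : Fin k → F} (hp0 : p ≠ 0) (hp : bf J p p = 0)
    {g : Matrix (Fin t → Fin k) (Fin t → Fin k) F} (hg : IsRad J Sg G i p g) :
    ∃ f, bf J p f = 0 ∧ g = sl i (eS J p f) := by
  classical
  have hJ := hS.sj
  have hne : Nonempty (Fin k) := ⟨⟨0, by have := hJ.kk; omega⟩⟩
  obtain ⟨q, e, hq, hpq, hpe, hqe, he⟩ := hJ.exists_frame hp0 hp
  have hq0 : q ≠ 0 := fun h => by rw [h, bf, mulVec_zero, dotProduct_zero] at hpq; exact zero_ne_one hpq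
  have hrk : rk J p q ≠ 0 := hJ.rk_ne hp0 hq0
  choose T0 hT0o hT0e using hg.mid
  obtain ⟨T, hTd⟩ : ∃ T : (Fin k → F) → Matrix (Fin t → Fin k) (Fin t → Fin k) F,
      T = fun v => if h : bf J p v = 0 then T0 v h else 0 := ⟨_, rfl⟩
  have hTo : ∀ v, bf J p v = 0 → Op Sg i (T v) := fun v hv => by
    rw [hTd]; simp only [dif_pos hv]; exact hT0o v hv
  have hTe : ∀ v, bf J p v = 0 → ∀ w, g * sl i (rk J v w) = sl i (rk J v w) + sl i (rk J p w) * T v := fun v hv w => by
    rw [hTd]; simp only [dif_pos hv]; exact hT0e v hv w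
  have hTlin : ∀ (v v' : Fin k → F) (c : F) (hv : bf J p v = 0) (hv' : bf J p v' = 0) (h : bf J p (v + c • v') = 0),
      T (v + c • v') = T v + c • T v' := fun v v' c hv hv' h => by
    refine eq_of_sl i hrk (hTo _ h).self (((hTo v hv).add ((hTo v' hv').smul c)).self) ?_
    have e1 := hTe _ h q
    rw [rk_add_left, rk_smul_left, sl_add, sl_smul, mul_add, mul_smul_comm, hTe v hv q, hTe v' hv' q] at e1
    rw [mul_add, mul_smul_comm]
    linear_combination (norm := module) -(e1)
  have hscal : ∀ v (hv : bf J p v = 0), bf J q v = 0 → ∃ c : F, T v = c • 1 := by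
    by_cases hk : 4 ≤ k
    · -- components at good axes
      have hgood : ∀ u (hu : Good J u) (hpu : bf J p u = 0), bf J q u = 0 → ∃ c : F, T u = c • 1 := by
        intro u hu hpu hqu
        have hd := hS.refl i hi u hu
        have hd' : adjJ (GV J) (sl i (dl J u)) = sl i (dl J u) := by rw [adj_sl hJ.det, hJ.dl_adj]
        have hup : bf J u p = 0 := by rw [hJ.comm]; exact hpu
        have hga := hS.adj_inv hg.mem
        obtain ⟨c, hc⟩ : ∃ c, c = g * sl i (dl J u) * adjJ (GV J) g * sl i (dl J u) := ⟨_, rfl⟩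
        have hga' : Maps J i (adjJ (GV J) g) p p 1 := fun w => by
          conv_lhs => rw [show sl i (rk J p w) = g * sl i (rk J p w) from (by rw [hg.fix w, mul_one]),
            ← mul_assoc, hga.2.1, one_mul]
          rw [mul_one]
        have hgv : ∀ v (hv : bf J p v = 0) w, adjJ (GV J) g * sl i (rk J v w) =
            sl i (rk J v w) - sl i (rk J p w) * T v := fun v hv w => by
          have h1 := congrArg (adjJ (GV J) g * ·) (hTe v hv w)
          simp only [← mul_assoc, hga.2.1, one_mul, mul_add, hga' w, mul_one] at h1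
          exact eq_sub_of_add_eq h1.symm
        have hdp : ∀ w, sl i (dl J u) * sl i (rk J p w) = sg F k • sl i (rk J p w) := fun w => by
          rw [sl_mul, mul_rk, dl_perp hup, rk_smul_left, sl_smul]
        have hcv : ∀ v (hv : bf J p v = 0) w, c * sl i (rk J v w) =
            sl i (rk J v w) + sl i (rk J p w) * (bf J u v • ((2 / bf J u u) • T u)) := by
          intro v hv w
          have hrv : bf J p (rf J u *ᵥ v) = 0 := by
            rw [rf_mulVec, bf_add_right, bf_smul_right, hv, hpu]; ring
          have h1 : sl i (dl J u) * sl i (rk J v w) = sg F k • sl i (rk J (rf J u *ᵥ v) w) := by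
            rw [sl_mul, mul_rk, dl, smul_mulVec, rk_smul_left, sl_smul]
          have h2 : sl i (dl J u) * sl i (rk J (rf J u *ᵥ v) w) = sg F k • sl i (rk J v w) := by
            rw [sl_mul, mul_rk, dl, smul_mulVec, mulVec_mulVec, rf_sq hu.1, one_mulVec, rk_smul_left, sl_smul]
          have hTr : T (rf J u *ᵥ v) = T v + (-(2 / bf J u u * bf J u v)) • T u := by
            have := hTlin v u (-(2 / bf J u u * bf J u v)) hv hpu (by rwa [← rf_mulVec])
            rwa [← rf_mulVec] at this
          rw [hc, mul_assoc, h1, mul_smul_comm, mul_assoc, hgv _ hrv, mul_sub, mul_assoc g (sl i (dl J u)), h2,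
            ← mul_assoc (g * sl i (dl J u)), mul_assoc g (sl i (dl J u)), hdp, mul_smul_comm, mul_smul_comm,
            hTe v hv w, hg.fix w, mul_one, smul_mul_assoc, ← smul_sub, smul_smul, sg_sq, one_smul, hTr, mul_add,
            mul_smul_comm, mul_smul_comm, mul_smul_comm]
          module
        have hcfix : Maps J i c p p 1 := fun w => by
          rw [hc, mul_assoc, hdp, mul_smul_comm, mul_assoc, hga' w, mul_one, mul_assoc, hdp, mul_smul_comm,
            hg.fix w, mul_one, smul_smul, sg_sq, one_smul]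
        have hcM : MG G c := hc ▸ ((hg.mem.mul hd).mul hga.1).mul hd
        obtain ⟨Z, hZo, hZs, hcZ⟩ := hS.rn_of_rad hp hq hpq hpu hcM hcfix ((hTo u hpu).smul (2 / bf J u u)) hcv
        obtain ⟨s, hs, -⟩ := hS.rn_slot hF hi hp0 hp hpu hu.1 ((hTo u hpu).smul _) hZo hZs (hcZ ▸ hcM)
        refine ⟨bf J u u / 2 * s, ?_⟩
        have h1 := congrArg ((bf J u u / 2) • ·) hs
        simp only [smul_smul] at h1
        rwa [div_mul_div_cancel₀' hu.1, div_self hJ.two, one_smul] at h1
      intro v hv hqv
      -- a functional killing the scalars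
      have hπ : ∀ z, bf J p (z + (-bf J q z) • p + (-bf J p z) • q) = 0 := fun z => by
        simp only [bf_add_right, bf_smul_right, hp, hpq]; ring
      have hπq : ∀ z, bf J q (z + (-bf J q z) • p + (-bf J p z) • q) = 0 := fun z => by
        simp only [bf_add_right, bf_smul_right, hq, hJ.comm q p, hpq]; ring
      have hkill : ∀ φ : Matrix (Fin t → Fin k) (Fin t → Fin k) F →ₗ[F] F, φ 1 = 0 → φ (T v) = 0 := by
        intro φ hφ
        let f : (Fin k → F) →ₗ[F] F :=
          { toFun := fun z => φ (T (z + (-bf J q z) • p + (-bf J p z) • q))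
            map_add' := fun z z' => by
              have he' : z + z' + (-bf J q (z + z')) • p + (-bf J p (z + z')) • q =
                  (z + (-bf J q z) • p + (-bf J p z) • q) + (1 : F) • (z' + (-bf J q z') • p + (-bf J p z') • q) := by
                rw [bf_add_right, bf_add_right]; module
              have h1 := hTlin _ _ 1 (hπ z) (hπ z') (he' ▸ hπ (z + z'))
              rw [← he', one_smul] at h1
              rw [h1, map_add]
            map_smul' := fun c z => by
              have he' : c • z + (-bf J q (c • z)) • p + (-bf J p (c • z)) • q =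
                  0 + c • (z + (-bf J q z) • p + (-bf J p z) • q) := by
                rw [bf_smul_right, bf_smul_right]; module
              have h0' : bf J p (0 : Fin k → F) = 0 := by simp [bf]
              have h1 := hTlin 0 _ c h0' (hπ z) (he' ▸ hπ (c • z))
              rw [← he'] at h1
              have h2 : T 0 = 0 := by
                have := hTlin 0 0 1 h0' h0' (by simp [bf])
                simp only [smul_zero, add_zero, one_smul] at this
                exact left_eq_add.1 this
              rw [h1, h2, zero_add, map_smul, RingHom.id_apply] }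
        obtain ⟨y, hy⟩ : ∃ y, y = J⁻¹ *ᵥ fun c => f (Pi.single c 1) := ⟨_, rfl⟩
        have hfy : ∀ z, f z = bf J y z := fun z => by
          rw [hy, hJ.comm, bf, mulVec_mulVec, mul_nonsing_inv J hJ.det, one_mulVec]
          conv_lhs => rw [pi_eq_sum_univ' z]
          simp only [map_sum, map_smul, dotProduct, smul_eq_mul]
        have hfval : ∀ z (hz : bf J p z = 0), bf J q z = 0 → f z = φ (T z) := fun z hz hqz => by
          show φ (T (z + (-bf J q z) • p + (-bf J p z) • q)) = _
          rw [show z + (-bf J q z) • p + (-bf J p z) • q = z by simp [hz, hqz]]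
        have hfp : ∀ z, z + (-bf J q z) • p + (-bf J p z) • q = 0 → f z = 0 := fun z hz => by
          show φ (T (z + (-bf J q z) • p + (-bf J p z) • q)) = _
          rw [hz]
          have h0' : bf J p (0 : Fin k → F) = 0 := by simp [bf]
          have := hTlin 0 0 1 h0' h0' (by simp [bf])
          simp only [smul_zero, add_zero, one_smul] at this
          rw [left_eq_add.1 this, map_zero]
        have hy0 : y = 0 := by
          by_contra hy0
          have hpy : bf J p y = 0 := by
            rw [hJ.comm, ← hfy]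
            exact hfp p (by rw [hp, hJ.comm q p, hpq]; module)
          have hqy : bf J q y = 0 := by
            rw [hJ.comm, ← hfy]
            exact hfp q (by rw [hq, hpq]; module)
          obtain ⟨u, hu, hpu, hqu, huy⟩ := hJ.exists_good_sep hk hp hq hpq hy0 hpy hqy
          obtain ⟨c, hc⟩ := hgood u hu hpu hqu
          refine huy ?_
          rw [hJ.comm, ← hfy, hfval u hpu hqu, hc, map_smul, hφ, smul_zero]
        rw [← hfval v hv hqv, hfy, hy0]
        simp [bf]
      by_contra hns
      push Not at hns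
      have hN : Nonempty (Fin t → Fin k) := inferInstance
      obtain ⟨x⟩ := hN
      refine hns (T v x x) (Matrix.ext fun a b => ?_)
      rw [Matrix.smul_apply, Matrix.one_apply, smul_eq_mul]
      rcases eq_or_ne a b with rfl | hab
      · rw [if_pos rfl, mul_one]
        have := hkill ((Matrix.entryLinearMap F F a a) - (Matrix.entryLinearMap F F x x)) (by simp)
        simpa [sub_eq_zero] using this
      · rw [if_neg hab, mul_zero]
        have := hkill (Matrix.entryLinearMap F F a b) (by simp [hab])
        simpa using this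
    · have hk3 : k = 3 := by have := hJ.kk; omega
      intro v hv hqv
      have hline : v = (bf J e v / bf J e e) • e := by
        refine sub_eq_zero.1 (hJ.eq_zero_of_orth (n := 3) hk3.symm ![p + q, p + (-1 : F) • q, e] ?_ ?_ ?_)
        · intro b b' hb
          fin_cases b <;> fin_cases b' <;> first | exact absurd rfl hb | (
            simp [-neg_smul, -neg_mul, bf_add_left, bf_add_right, bf_smul_left, bf_smul_right, hp, hq, hpq,
              hJ.comm q p, hpe, hqe, hJ.comm e p, hJ.comm e q])
        · intro b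
          fin_cases b
          · simpa [bf_add_left, bf_add_right, hp, hq, hpq, hJ.comm q p, one_add_one_eq_two] using hJ.two
          · simp [-neg_smul, -neg_mul, bf_add_left, bf_add_right, bf_smul_left, bf_smul_right, hp, hq, hpq,
              hJ.comm q p]
            intro h; exact hJ.two (by linear_combination -h)
          · exact he
        · intro b
          rw [sub_eq_add_neg, ← neg_smul, bf_add_right, bf_smul_right]
          fin_cases b <;> simp [-neg_smul, bf_add_left, bf_smul_left, hv, hqv, hpe, hqe, he]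
      have hemid : ∀ v, bf J p v = 0 → ∀ w, g * sl i (rk J v w) =
          sl i (rk J v w) + sl i (rk J p w) * (bf J e v • ((bf J e e)⁻¹ • T e)) := fun v hv w => by
        have hv' : v = (bf J q v) • p + (bf J e v / bf J e e) • e := by
          obtain ⟨v₀, hv₀⟩ : ∃ v₀, v₀ = v + (-bf J q v) • p := ⟨_, rfl⟩
          have h1 : bf J e v₀ = bf J e v := by rw [hv₀, bf_add_right, bf_smul_right, hJ.comm e p, hpe]; ring
          have h2 : v₀ = (bf J e v₀ / bf J e e) • e := by
            refine sub_eq_zero.1 (hJ.eq_zero_of_orth (n := 3) hk3.symm ![p + q, p + (-1 : F) • q, e] ?_ ?_ ?_)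
            · intro b b' hb
              fin_cases b <;> fin_cases b' <;> first | exact absurd rfl hb | (
                simp [-neg_smul, -neg_mul, bf_add_left, bf_add_right, bf_smul_left, bf_smul_right, hp, hq, hpq,
                  hJ.comm q p, hpe, hqe, hJ.comm e p, hJ.comm e q])
            · intro b
              fin_cases b
              · simpa [bf_add_left, bf_add_right, hp, hq, hpq, hJ.comm q p, one_add_one_eq_two] using hJ.two
              · simp [-neg_smul, -neg_mul, bf_add_left, bf_add_right, bf_smul_left, bf_smul_right, hp, hq, hpq,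
                  hJ.comm q p]
                intro h; exact hJ.two (by linear_combination -h)
              · exact he
            · intro b
              rw [sub_eq_add_neg, ← neg_smul, bf_add_right, bf_smul_right]
              fin_cases b <;> simp [-neg_smul, bf_add_left, bf_smul_left, hv₀, bf_add_right, bf_smul_right, hv,
                hp, hpe, hqe, he, hJ.comm q p, hpq, hJ.comm e p]
          rw [h1] at h2
          rw [← h2, hv₀]
          module
        conv_lhs => rw [hv', rk_add_left, rk_smul_left, rk_smul_left, sl_add, sl_smul, sl_smul, mul_add, mul_smul_comm,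
          mul_smul_comm, hg.fix w, mul_one, hTe e hpe w]
        conv_rhs => arg 1; rw [hv', rk_add_left, rk_smul_left, rk_smul_left, sl_add, sl_smul, sl_smul]
        rw [mul_smul_comm, mul_smul_comm, div_eq_mul_inv]
        module
      obtain ⟨Z, hZo, hZs, hgZ⟩ := hS.rn_of_rad hp hq hpq hpe hg.mem hg.fix ((hTo e hpe).smul (bf J e e)⁻¹) hemid
      obtain ⟨s, hs, -⟩ := hS.rn_slot hF hi hp0 hp hpe he ((hTo e hpe).smul _) hZo hZs (hgZ ▸ hg.mem)
      refine ⟨bf J e v * s, ?_⟩
      have h0' : bf J p (0 : Fin k → F) = 0 := by simp [bf]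
      have h1 := hTlin 0 e (bf J e v / bf J e e) h0' hpe (by rw [zero_add, bf_smul_right, hpe, mul_zero])
      have h2 : T 0 = 0 := by
        have := hTlin 0 0 1 h0' h0' (by simp [bf])
        simp only [smul_zero, add_zero, one_smul] at this
        exact left_eq_add.1 this
      rw [zero_add, ← hline, h2, zero_add] at h1
      rw [h1, div_eq_mul_inv, mul_smul, hs, smul_smul]
  -- the root element with the same action on the middle
  have hπ : ∀ z, bf J p (z + (-bf J q z) • p + (-bf J p z) • q) = 0 := fun z => by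
    simp only [bf_add_right, bf_smul_right, hp, hpq]; ring
  have hπq : ∀ z, bf J q (z + (-bf J q z) • p + (-bf J p z) • q) = 0 := fun z => by
    simp only [bf_add_right, bf_smul_right, hq, hJ.comm q p, hpq]; ring
  choose τ hτ using fun z => hscal _ (hπ z) (hπq z)
  have hone : ∀ a b : F, a • (1 : Matrix (Fin t → Fin k) (Fin t → Fin k) F) = b • 1 → a = b := fun a b h => by
    have hN : Nonempty (Fin t → Fin k) := inferInstance
    obtain ⟨x⟩ := hN
    have := congrFun (congrFun h x) x
    simpa using this
  let τl : (Fin k → F) →ₗ[F] F :=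
    { toFun := τ
      map_add' := fun z z' => hone _ _ (by
        have he' : z + z' + (-bf J q (z + z')) • p + (-bf J p (z + z')) • q =
            (z + (-bf J q z) • p + (-bf J p z) • q) + (1 : F) • (z' + (-bf J q z') • p + (-bf J p z') • q) := by
          rw [bf_add_right, bf_add_right]; module
        have h1 := hTlin _ _ 1 (hπ z) (hπ z') (he' ▸ hπ (z + z'))
        rw [← he', one_smul] at h1
        rw [← hτ, h1, hτ, hτ, add_smul])
      map_smul' := fun c z => hone _ _ (by
        have he' : c • z + (-bf J q (c • z)) • p + (-bf J p (c • z)) • q =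
            0 + c • (z + (-bf J q z) • p + (-bf J p z) • q) := by
          rw [bf_smul_right, bf_smul_right]; module
        have h0' : bf J p (0 : Fin k → F) = 0 := by simp [bf]
        have h1 := hTlin 0 _ c h0' (hπ z) (he' ▸ hπ (c • z))
        rw [← he'] at h1
        have h2 : T 0 = 0 := by
          have := hTlin 0 0 1 h0' h0' (by simp [bf])
          simp only [smul_zero, add_zero, one_smul] at this
          exact left_eq_add.1 this
        rw [← hτ, h1, h2, zero_add, hτ, RingHom.id_apply, smul_smul, smul_eq_mul]) }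
  obtain ⟨f, hf⟩ : ∃ f, f = J⁻¹ *ᵥ fun c => τl (Pi.single c 1) := ⟨_, rfl⟩
  have hfz : ∀ z, τl z = bf J f z := fun z => by
    rw [hf, hJ.comm, bf, mulVec_mulVec, mul_nonsing_inv J hJ.det, one_mulVec]
    conv_lhs => rw [pi_eq_sum_univ' z]
    simp only [map_sum, map_smul, dotProduct, smul_eq_mul]
  have hpf : bf J p f = 0 := by
    rw [hJ.comm, ← hfz]
    refine hone _ _ ?_
    rw [show τl p = τ p from rfl, ← hτ, zero_smul]
    have h0' : bf J p (0 : Fin k → F) = 0 := by simp [bf]
    have := hTlin 0 0 1 h0' h0' (by simp [bf])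
    simp only [smul_zero, add_zero, one_smul] at this
    have e1 : p + (-bf J q p) • p + (-bf J p p) • q = 0 := by rw [hp, hJ.comm q p, hpq]; module
    rw [e1, left_eq_add.1 this]
  refine ⟨f, hpf, ?_⟩
  have hpf' : bf J p (-f) = 0 := by rw [← neg_one_smul F f, bf_smul_right, hpf, mul_zero]
  obtain ⟨hr, hr'⟩ := hS.mg_root hi hp hpf'
  have heS : ∀ v, bf J p v = 0 → eS J p (-f) *ᵥ v = v + (-bf J f v) • p := fun v hv => by
    rw [hJ.eS_eq hp hpf', xp, add_mulVec, add_mulVec, one_mulVec, sub_mulVec, smul_mulVec, rk_mulVec, rk_mulVec,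
      rk_mulVec, hv, ← neg_one_smul F f, bf_smul_left]
    simp
  have hmid : ∀ v, bf J p v = 0 → ∀ w, g * sl i (eS J p (-f)) * sl i (rk J v w) =
      sl i (rk J v w) + sl i (rk J p w) * (bf J e v • (0 : Matrix (Fin t → Fin k) (Fin t → Fin k) F)) := by
    intro v hv w
    rw [smul_zero, mul_zero, add_zero, mul_assoc, sl_mul, mul_rk, heS v hv, rk_add_left, rk_smul_left, sl_add, sl_smul,
      mul_add, mul_smul_comm, hg.fix w, mul_one, hTe v hv w]
    have e1 : v = (v + (-bf J q v) • p + (-bf J p v) • q) + bf J q v • p := by rw [hv]; module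
    have h1 := hTlin _ p (bf J q v) (hπ v) hp (e1 ▸ hv)
    rw [← e1] at h1
    have hTp : T p = 0 := eq_of_sl i hrk (hTo p hp).self (Op.zero (Sg := Sg)).self (by
      have := hTe p hp q
      rw [hg.fix q, mul_one, left_eq_add] at this
      rw [this, mul_zero])
    rw [h1, hτ, hTp, smul_zero, add_zero, show τ v = bf J f v from (hfz v), mul_smul_comm, mul_one]
    module
  have hfix' : Maps J i (g * sl i (eS J p (-f))) p p 1 := fun w => by
    rw [mul_assoc, sl_mul, mul_rk, heS p hp, hJ.comm f p, hpf, neg_zero, zero_smul, add_zero, hg.fix w]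
  obtain ⟨Z, hZo, hZs, hgZ⟩ := hS.rn_of_rad hp hq hpq hpe (hg.mem.mul hr) hfix' Op.zero hmid
  obtain ⟨-, -, hZ0⟩ := hS.rn_slot hF hi hp0 hp hpe he Op.zero hZo hZs (hgZ ▸ hg.mem.mul hr)
  rw [hZ0, rn_zero, mul_zero, add_zero] at hgZ
  have := congrArg (· * sl i (eS J p f)) hgZ
  have hinv := hJ.eS_inv hp hpf'
  rw [neg_neg] at hinv
  simpa [mul_assoc, sl_mul, hinv, sl_one] using this

end Setting

end Cfsg.Agent.ClassicalMax.OOWreath
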