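import Cfsg.Agent.HallHigman.Linear
import Cfsg.Agent.Fusion.PGroup
import Cfsg.Agent.S0058
import Mathlib.LinearAlgebra.Matrix.ToLin

/-!
A `p`-element normalising a linear group of order divisible by `p` or coprime to `p`.
-/

set_option autoImplicit false
set_option linter.unusedSectionVars false

namespace Cfsg.Agent.ClassicalMax.OOWreath

open Subgroup

theorem mem_normalizer_of_conj {Γ : Type*} [Group Γ] [Finite Γ] {X : Subgroup Γ} {r : Γ}
    (hr : ∀ x ∈ X, r * x * r⁻¹ ∈ X) : r ∈ normalizer (X : Set Γ) := by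
  classical
  haveI := Fintype.ofFinite X
  exact Subgroup.mem_normalizer_fintype fun x hx => hr x hx

/-- a normalised subgroup of order divisible by `p` has a fixed `p`-element -/
theorem exists_fixed_pelt {Γ : Type*} [Group Γ] [Finite Γ] {p : ℕ} [Fact p.Prime] {X : Subgroup Γ} {r : Γ}
    (hr : ∀ x ∈ X, r * x * r⁻¹ ∈ X) (hrp : r ^ p = 1) (hX : p ∣ Nat.card X) :
    ∃ z ∈ X, z ≠ 1 ∧ Commute z r ∧ ∃ n : ℕ, z ^ p ^ n = 1 := by
  classical
  obtain ⟨H, hH⟩ : ∃ H, H = normalizer (X : Set Γ) := ⟨_, rfl⟩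
  have hXH : X ≤ H := hH ▸ le_normalizer
  haveI : (X.subgroupOf H).Normal := by subst hH; infer_instance
  obtain ⟨r', hr'⟩ : ∃ r' : H, r' = ⟨r, hH ▸ mem_normalizer_of_conj hr⟩ := ⟨_, rfl⟩
  obtain ⟨P, hP⟩ := IsPGroup.exists_le_sylow (p := p) (P := zpowers r') (by
    rw [isPGroup_iff_card_dvd_pow]
    exact ⟨1, by rw [pow_one, Nat.card_zpowers]; exact orderOf_dvd_of_pow_eq_one (hr' ▸ Subtype.ext hrp)⟩)
  obtain ⟨z0, hz0⟩ := exists_prime_orderOf_dvd_card' (G := X.subgroupOf H) p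
    (by rwa [Nat.card_congr (Subgroup.subgroupOfEquivOfLe hXH).toEquiv])
  obtain ⟨P', hP'⟩ := IsPGroup.exists_le_sylow (p := p) (P := zpowers (z0 : H)) (by
    rw [isPGroup_iff_card_dvd_pow]
    exact ⟨1, by rw [pow_one, Nat.card_zpowers, Subgroup.orderOf_coe, hz0]⟩)
  obtain ⟨g, hg⟩ := MulAction.exists_smul_eq H P' P
  obtain ⟨N, hN⟩ : ∃ N, N = (X.subgroupOf H).subgroupOf (P : Subgroup H) := ⟨_, rfl⟩
  haveI : N.Normal := hN ▸ inferInstance
  have hN0 : N ≠ ⊥ := fun e => by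
    have hmem : g * z0 * g⁻¹ ∈ (P : Subgroup H) := by
      rw [← hg, Sylow.coe_subgroup_smul]
      exact ⟨z0, hP' (mem_zpowers _), rfl⟩
    have h1 : (⟨_, hmem⟩ : (P : Subgroup H)) ∈ N := by
      rw [hN, mem_subgroupOf]; exact Subgroup.Normal.conj_mem inferInstance _ z0.2 g
    rw [e, mem_bot] at h1
    have h2 : g * z0 * g⁻¹ = 1 := congrArg Subtype.val h1
    rw [mul_inv_eq_one, mul_eq_left] at h2
    rw [← Subgroup.orderOf_coe, h2, orderOf_one] at hz0
    exact (Fact.out : p.Prime).one_lt.ne hz0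
  obtain ⟨z, hz, hz1⟩ := (Subgroup.bot_or_exists_ne_one _).resolve_left
    (Fusion.pGroup_inf_center_ne_bot P.2 N hN0)
  obtain ⟨hzN, hzc⟩ := mem_inf.1 hz
  rw [hN, mem_subgroupOf, mem_subgroupOf] at hzN
  obtain ⟨n, hn⟩ := P.2 z
  refine ⟨_, hzN, fun e => hz1 (Subtype.ext (Subtype.ext e)), ?_, n, congrArg (fun x => ((x.1 : H) : Γ)) hn⟩
  have h3 := congrArg (fun x : (P : Subgroup H) => ((x.1 : H) : Γ))
    (mem_center_iff.1 hzc ⟨r', hP (mem_zpowers r')⟩)
  simp only [hr', Subgroup.coe_mul] at h3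
  exact h3.symm

variable {F : Type*} [Field F] [Finite F] {ν : Type} [Fintype ν] [DecidableEq ν]

/-- an element with cube zero centralises the linear groups of coprime order it normalises -/
theorem commute_of_cube {p : ℕ} [Fact p.Prime] [CharP F p] (h5 : 5 ≤ p) {X : Subgroup (GL ν F)} {r : GL ν F}
    (hr : ∀ x ∈ X, r * x * r⁻¹ ∈ X) (hrp : r ^ p = 1) (hr3 : ((r : Matrix ν ν F) - 1) ^ 3 = 0)
    (hX : ¬ p ∣ Nat.card X) {x : GL ν F} (hx : x ∈ X) : Commute x r := by
  classical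
  by_contra hne
  have hpp : p.Prime := Fact.out
  haveI : Finite (GL ν F) := inferInstance
  obtain ⟨H, hH⟩ : ∃ H, H = zpowers r ⊔ X := ⟨_, rfl⟩
  have hle : zpowers r ≤ normalizer (X : Set (GL ν F)) := zpowers_le.2 (mem_normalizer_of_conj hr)
  have hXH : X ≤ H := hH ▸ le_sup_right
  have hrH : r ∈ H := hH ▸ mem_sup_left (mem_zpowers r)
  have hHn : H ≤ normalizer (X : Set (GL ν F)) := hH ▸ sup_le hle le_normalizer
  haveI hXn : (X.subgroupOf H).Normal := normal_subgroupOf_of_le_normalizer hHn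
  have hdec : ∀ h : H, ∃ (a : ℤ) (y : GL ν F), y ∈ X ∧ (h : GL ν F) = r ^ a * y := fun h => by
    have h1 : (h : GL ν F) ∈ ((zpowers r ⊔ X : Subgroup (GL ν F)) : Set (GL ν F)) := hH ▸ h.2
    rw [coe_mul_of_left_le_normalizer_right _ _ hle] at h1
    obtain ⟨_, ⟨a, rfl⟩, y, hy, e⟩ := h1
    exact ⟨a, y, hy, e.symm⟩
  have hcard : Nat.card (X.subgroupOf H) = Nat.card X := Nat.card_congr (subgroupOfEquivOfLe hXH).toEquiv
  have hcop : (Nat.card X).Coprime p := ((Nat.Prime.coprime_iff_not_dvd hpp).2 hX).symm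
  -- the series
  have hidx : ∃ m : ℕ, (X.subgroupOf H).index = p ^ m := by
    refine (IsPGroup.iff_card (G := H ⧸ X.subgroupOf H)).1 fun q => ⟨1, ?_⟩
    induction q using QuotientGroup.induction_on with
    | _ h =>
      obtain ⟨a, y, hy, e⟩ := hdec h
      have e2 : (h : H ⧸ X.subgroupOf H) = ((⟨r, hrH⟩ : H) : H ⧸ X.subgroupOf H) ^ a := by
        rw [← QuotientGroup.mk_zpow, eq_comm, QuotientGroup.eq, mem_subgroupOf, Subgroup.coe_mul, Subgroup.coe_inv,
          SubgroupClass.coe_zpow, e, inv_mul_cancel_left]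
        exact hy
      rw [e2, pow_one, ← zpow_natCast, ← zpow_mul, mul_comm, zpow_mul, zpow_natCast, ← QuotientGroup.mk_pow,
        show (⟨r, hrH⟩ : H) ^ p = 1 from Subtype.ext hrp, QuotientGroup.mk_one, one_zpow]
  have hsol : Cfsg.IsPSolvable p H := by
    refine ⟨2, ![⊥, X.subgroupOf H, ⊤], rfl, rfl, Fin.monotone_iff_le_succ.2 fun i => ?_, fun i => ?_, fun i => ?_⟩
    · fin_cases i
      · exact bot_le
      · exact le_top
    · fin_cases i
      exacts [inferInstanceAs (⊥ : Subgroup H).Normal, hXn, inferInstanceAs (⊤ : Subgroup H).Normal]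
    · fin_cases i
      · refine Or.inr ?_
        show ((⊥ : Subgroup H).relIndex (X.subgroupOf H)).Coprime p
        rw [relIndex_bot_left, hcard]; exact hcop
      · refine Or.inl ?_
        show ∃ m, (X.subgroupOf H).relIndex ⊤ = p ^ m
        rw [relIndex_top_right]; exact hidx
  have hcore : Cfsg.pCore p H = ⊥ := by
    refine eq_bot_iff.2 (sSup_le ?_)
    rintro N ⟨hNn, hNp⟩ n hn
    rw [mem_bot]
    have hone : ∀ y : H, y ∈ N → (y : GL ν F) ∈ X → y = 1 := fun y hy hyX => by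
      obtain ⟨j, hj⟩ := hNp ⟨y, hy⟩
      have hj' : (y : GL ν F) ^ p ^ j = 1 := congrArg (fun z => ((z.1 : H) : GL ν F)) hj
      have h1 : orderOf (y : GL ν F) ∣ p ^ j := orderOf_dvd_of_pow_eq_one hj'
      have h3 := Subgroup.orderOf_dvd_natCard X hyX
      exact Subtype.ext (orderOf_eq_one_iff.1 (Nat.eq_one_of_dvd_coprimes (hcop.symm.pow_left j) h1 h3))
    have hcomm : ∀ y : GL ν F, y ∈ X → Commute (n : GL ν F) y := fun y hy => by
      obtain ⟨y', hy'⟩ : ∃ y' : H, y' = ⟨y, hXH hy⟩ := ⟨_, rfl⟩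
      have hyX : y' ∈ X.subgroupOf H := by rw [hy', mem_subgroupOf]; exact hy
      have h1 : n * y' * n⁻¹ * y'⁻¹ ∈ N := by
        simp only [mul_assoc] at *
        exact N.mul_mem hn (by simpa only [mul_assoc] using hNn.conj_mem _ (N.inv_mem hn) y')
      have h2 : n * y' * n⁻¹ * y'⁻¹ ∈ X.subgroupOf H :=
        (X.subgroupOf H).mul_mem (hXn.conj_mem _ hyX n) ((X.subgroupOf H).inv_mem hyX)
      have h4 := hone _ h1 (mem_subgroupOf.1 h2)
      rw [mul_inv_eq_one, mul_inv_eq_iff_eq_mul] at h4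
      have h5 := congrArg Subtype.val h4
      simp only [Subgroup.coe_mul, hy'] at h5
      exact h5
    obtain ⟨a, y, hy, e⟩ := hdec n
    by_cases hpa : (p : ℤ) ∣ a
    · obtain ⟨b, rfl⟩ := hpa
      rw [zpow_mul, zpow_natCast, hrp, one_zpow, one_mul] at e
      exact hone n hn (e ▸ hy)
    exfalso
    have hra : r ^ a * y = y * r ^ a := by
      have h1 : r ^ a * y * y = y * (r ^ a * y) := by rw [← e]; exact (hcomm y hy).eq
      rw [← mul_assoc] at h1
      exact mul_right_cancel h1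
    have hnp : n ^ p = 1 := hone _ (N.pow_mem hn p) (by
      rw [SubgroupClass.coe_pow, e, Commute.mul_pow hra, ← zpow_natCast (r ^ a), ← zpow_mul, mul_comm a, zpow_mul,
        zpow_natCast, hrp, one_zpow, one_mul]
      exact X.pow_mem hy p)
    have hy1 : y = 1 := by
      have h1 : y ^ p = 1 := by
        have := congrArg Subtype.val hnp
        rwa [SubgroupClass.coe_pow, e, Commute.mul_pow hra, ← zpow_natCast (r ^ a), ← zpow_mul, mul_comm a, zpow_mul,
          zpow_natCast, hrp, one_zpow, one_mul, Subgroup.coe_one] at this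
      exact orderOf_eq_one_iff.1 (Nat.eq_one_of_dvd_coprimes hcop.symm (orderOf_dvd_of_pow_eq_one h1)
        (Subgroup.orderOf_dvd_natCard X hy))
    rw [hy1, mul_one] at e
    obtain ⟨u, v, huv⟩ : ∃ u v : ℤ, a * u + (p : ℤ) * v = 1 := by
      have hp' : Prime (p : ℤ) := Nat.prime_iff_prime_int.1 hpp
      obtain ⟨u, v, huv⟩ := (hp'.coprime_iff_not_dvd.2 hpa).symm
      exact ⟨u, v, by linear_combination huv⟩
    refine hne ?_
    have h1 : Commute x (r ^ a) := e ▸ (hcomm x hx).symm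
    have hr1 : (r ^ a) ^ u = r := by
      conv_rhs => rw [← zpow_one r, ← huv, zpow_add, zpow_mul r (p : ℤ), zpow_natCast, hrp, one_zpow, mul_one, zpow_mul]
    exact hr1 ▸ h1.zpow_right u
  let ρ : H →* Module.End F (ν → F) :=
    (Matrix.toLinAlgEquiv' (R := F) (n := ν)).toAlgHom.toRingHom.toMonoidHom.comp ((Units.coeHom _).comp H.subtype)
  have hinj : Function.Injective ρ :=
    (Matrix.toLinAlgEquiv' (R := F) (n := ν)).injective.comp (Units.val_injective.comp Subtype.val_injective)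
  have hr1 : r ≠ 1 := fun e => hne (e ▸ Commute.one_right x)
  have hord : orderOf (⟨r, hrH⟩ : H) = p ^ 1 := by
    rw [pow_one, ← Subgroup.orderOf_coe]; exact orderOf_eq_prime hrp hr1
  have hs : (ρ ⟨r, hrH⟩ - 1) ^ 3 = 0 := by
    show (Matrix.toLinAlgEquiv' (r : Matrix ν ν F) - 1) ^ 3 = 0
    rw [← map_one (Matrix.toLinAlgEquiv' (R := F) (n := ν)), ← map_sub, ← map_pow, hr3, map_zero]
  rcases HallHigman.theoremB hsol hcore ρ hinj le_rfl hord (s := 3) hs with h | ⟨n₀, q, m, h1, h2, -, -, -, -, h6⟩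
  · rw [pow_one] at h; omega
  · obtain rfl : n₀ = 1 := by omega
    rw [Nat.sub_self, pow_zero, one_mul, pow_one] at h6
    omega

end Cfsg.Agent.ClassicalMax.OOWreath
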