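import Cfsg.Agent.ClassicalMax.OOWreath.OddStab
import Cfsg.Agent.ClassicalMax.OOWreath.OddGroup

/-!
The subgroup fixing an axis of a slot: it lies in the slot when its order is prime to the characteristic.
-/

set_option autoImplicit false
set_option linter.unusedSectionVars false
set_option linter.unusedSimpArgs false

namespace Cfsg.Agent.ClassicalMax.OOWreath

open Matrix Cfsg.Agent.ClassicalMax.TPow
open Cfsg.Agent.ClassicalMax.SpWreath (GV GV_det)

variable {F : Type*} [Field F] {k t : ℕ}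

variable (J : Matrix (Fin k) (Fin k) F) in
/-- the rotations fixing an axis -/
def axX (G : Subgroup (GL (Fin t → Fin k) F)) (i : Fin t) (u : Fin k → F) : Subgroup (GL (Fin t → Fin k) F) where
  carrier := {g | g ∈ G ∧ (g : Matrix (Fin t → Fin k) (Fin t → Fin k) F).det = 1 ∧
    Maps J i (g : Matrix (Fin t → Fin k) (Fin t → Fin k) F) u u 1}
  one_mem' := ⟨G.one_mem, by rw [Units.val_one, det_one], by rw [Units.val_one]; exact Maps.one i u⟩
  mul_mem' := fun {x y} hx hy => ⟨G.mul_mem hx.1 hy.1, by rw [Units.val_mul, det_mul, hx.2.1, hy.2.1, one_mul],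
    by rw [Units.val_mul]; simpa only [mul_one] using hy.2.2.mul hx.2.2⟩
  inv_mem' := fun {x} hx => by
    refine ⟨G.inv_mem hx.1, ?_, fun w => ?_⟩
    · have h := congrArg Matrix.det (Units.inv_mul x)
      rwa [det_mul, hx.2.1, mul_one, det_one] at h
    · have h := hx.2.2 w
      rw [mul_one] at h ⊢
      conv_lhs => rw [← h, ← mul_assoc, Units.inv_mul, one_mul]

theorem sl_pow_eq (i : Fin t) (A : Matrix (Fin k) (Fin k) F) (n : ℕ) : sl i A ^ n = sl i (A ^ n) := by
  induction n with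
  | zero => rw [pow_zero, pow_zero, sl_one]
  | succ n ih => rw [pow_succ, pow_succ, ih, sl_mul]

theorem sl_sub_one (i : Fin t) (A : Matrix (Fin k) (Fin k) F) : sl i (A - 1) = sl i A - 1 := by
  rw [sub_eq_add_neg, ← neg_one_smul F (1 : Matrix (Fin k) (Fin k) F), sl_add, sl_smul, sl_one, neg_one_smul,
    ← sub_eq_add_neg]

variable {J : Matrix (Fin k) (Fin k) F} [Finite F] {Sg : Finset (Fin t)} {G : Subgroup (GL (Fin t → Fin k) F)}

theorem eS_cube (hJ : SJ J) {p e : Fin k → F} (hp : bf J p p = 0) (he : bf J p e = 0) : (eS J p e - 1) ^ 3 = 0 := by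
  obtain ⟨h1, h2⟩ := hJ.xp_mul_rk hp he
  have hr : rk J p p * rk J p p = 0 := by rw [rk_mul_rk, hp, zero_smul]
  rw [hJ.eS_eq hp he, add_assoc, add_sub_cancel_left, pow_succ, pow_two]
  simp only [mul_add, add_mul, mul_smul_comm, smul_mul_assoc, h1, h2, hr, hJ.xp_mul hp he he, smul_zero, add_zero,
    zero_add]

namespace Setting

variable (hS : Setting J Sg G)
include hS

theorem val_inv {g : GL (Fin t → Fin k) F} (hg : g ∈ G) :
    ((g⁻¹ : GL (Fin t → Fin k) F) : Matrix (Fin t → Fin k) (Fin t → Fin k) F) =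
      adjJ (GV J) (g : Matrix (Fin t → Fin k) (Fin t → Fin k) F) :=
  Units.inv_eq_of_mul_eq_one_left (hS.adj_inv ⟨g, hg, rfl⟩).2.1

theorem axX_conj {i : Fin t} {u : Fin k → F} {r x : GL (Fin t → Fin k) F} (hr : r ∈ G)
    (hc : ∀ A, Commute (r : Matrix (Fin t → Fin k) (Fin t → Fin k) F) (sl i A)) (hx : x ∈ axX J G i u) :
    r * x * r⁻¹ ∈ axX J G i u := by
  obtain ⟨hxG, hxd, hxm⟩ := hx
  refine ⟨G.mul_mem (G.mul_mem hr hxG) (G.inv_mem hr), ?_, fun w => ?_⟩
  · rw [Units.val_mul, Units.val_mul, hS.val_inv hr, hS.det_conj ⟨r, hr, rfl⟩, hxd]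
  · have h := hxm w
    rw [mul_one] at h ⊢
    rw [Units.val_mul, Units.val_mul, mul_assoc, ((hc _).units_inv_left).eq, ← mul_assoc,
      mul_assoc (r : Matrix (Fin t → Fin k) (Fin t → Fin k) F), h, (hc _).eq, mul_assoc, Units.mul_inv, mul_one]

/-- an element commuting with the roots of the other slots lies in the slot -/
theorem slot_of_commute_roots {i : Fin t} {h : Matrix (Fin t → Fin k) (Fin t → Fin k) F} (hh : MG G h)
    (hc : ∀ l ∈ Sg, l ≠ i → ∀ p e, bf J p p = 0 → bf J p e = 0 → Commute h (sl l (eS J p e))) :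
    ∃ A, h = sl i A := by
  refine eq_sl_of_commute hS.sj i fun l hli A => ?_
  by_cases hl : l ∈ Sg
  · exact IsAlg.slot_of_roots (P := fun X => Commute h X)
      ⟨Commute.one_right h, fun a b ha hb => ha.add_right hb, fun a ha s => ha.smul_right s,
        fun a b ha hb => ha.mul_right hb⟩ hS.sj (fun p e hp he => hc l hl hli p e hp he) A
  · exact hS.out' hh hl A

/-- a root element as an element of the group -/
theorem root_unit {j : Fin t} (hj : j ∈ Sg) {p e : Fin k → F} (hp : bf J p p = 0) (he : bf J p e = 0) :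
    ∃ r : GL (Fin t → Fin k) F, r ∈ G ∧ (r : Matrix (Fin t → Fin k) (Fin t → Fin k) F) = sl j (eS J p e) ∧
      r ^ ringChar F = 1 ∧ ((r : Matrix (Fin t → Fin k) (Fin t → Fin k) F) - 1) ^ 3 = 0 := by
  obtain ⟨r, hr, hre⟩ := hS.root j hj p e hp he
  refine ⟨r, hr, hre, Units.ext ?_, ?_⟩
  · rw [Units.val_pow_eq_pow_val, hre, sl_pow_eq, eS_pow hS.sj hp he, ringChar.Nat.cast_ringChar, zero_smul,
      eS_zero hS.sj hp, sl_one, Units.val_one]
  · rw [hre, ← sl_sub_one, sl_pow_eq, eS_cube hS.sj hp he, sl_zero]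

/-- prime to a characteristic at least five the axis is fixed only by the slot -/
theorem axis_of_coprime (h5 : 5 ≤ ringChar F) {i : Fin t} {u : Fin k → F}
    (hX : ¬ ringChar F ∣ Nat.card (axX J G i u)) : AxisFix J G i u := by
  intro h hh hd hfix
  haveI : Fact (ringChar F).Prime := ⟨CharP.char_is_prime F _⟩
  obtain ⟨γ, hγ, rfl⟩ := hh
  refine hS.slot_of_commute_roots ⟨γ, hγ, rfl⟩ fun l hl hli p e hp he => ?_
  obtain ⟨r, hr, hre, hrp, hr3⟩ := hS.root_unit hl hp he
  have hc := commute_of_cube (p := ringChar F) h5 (X := axX J G i u) (fun x hx =>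
    hS.axX_conj hr (fun A => hre ▸ sl_commute hli _ A) hx) hrp hr3 hX (x := γ) ⟨hγ, hd, hfix⟩
  rw [← hre]
  exact congrArg Units.val hc.eq

end Setting

end Cfsg.Agent.ClassicalMax.OOWreath
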