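import Cfsg.Agent.ClassicalMax.OOWreath.Centre

/-!
Slots of odd dimension: determinants, root elements orthogonal to given axes, and elements fixing three axes.
-/

set_option autoImplicit false
set_option linter.unusedSectionVars false
set_option linter.unusedSimpArgs false

namespace Cfsg.Agent.ClassicalMax.OOWreath

open Matrix Cfsg.Agent.ClassicalMax.TPow
open Cfsg.Agent.ClassicalMax.SpWreath (GV GV_det)

variable {F : Type*} [Field F] {k t : ℕ} {J : Matrix (Fin k) (Fin k) F}

theorem det_adjJ {ν : Type} [Fintype ν] [DecidableEq ν] {G : Matrix ν ν F} (hG : IsUnit G.det) (A : Matrix ν ν F) :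
    (adjJ G A).det = A.det := by
  rw [adjJ, det_mul, det_mul, det_transpose, mul_right_comm, ← det_mul, nonsing_inv_mul G hG, det_one, one_mul]

/-- the determinant of a slot matrix -/
theorem det_sl (i : Fin t) (A : Matrix (Fin k) (Fin k) F) :
    (sl i A).det = A.det ^ (k ^ (t - 1)) := by
  classical
  let e : (Fin t → Fin k) ≃ Fin k × ({j : Fin t // j ≠ i} → Fin k) := Equiv.funSplitAt i (Fin k)
  have h : sl i A = Matrix.reindex e.symm e.symm
      (Matrix.kronecker A (1 : Matrix ({j : Fin t // j ≠ i} → Fin k) ({j : Fin t // j ≠ i} → Fin k) F)) := by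
    ext x y
    simp only [sl_apply, Matrix.reindex_apply, Matrix.submatrix_apply, Equiv.symm_symm, Matrix.kronecker,
      Matrix.kroneckerMap_apply, Matrix.one_apply, e, Equiv.funSplitAt_apply, mul_ite, mul_one, mul_zero]
    split_ifs with h1 h2 h2
    · rfl
    · exact absurd (funext fun (j : {j : Fin t // j ≠ i}) => h1 j.1 j.2) h2
    · exact absurd (fun j hj => congrFun h2 ⟨j, hj⟩) h1
    · rfl
  rw [h, Matrix.det_reindex_self, Matrix.kronecker, Matrix.det_kronecker, det_one, one_pow, mul_one, Fintype.card_fun,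
    Fintype.card_fin, Fintype.card_subtype_compl, Fintype.card_fin, Fintype.card_subtype_eq]

theorem odd_pow_k (hodd : Odd k) (n : ℕ) : Odd (k ^ n) := hodd.pow

theorem det_of_sl (hodd : Odd k) (hJ : SJ J) {i : Fin t} {A : Matrix (Fin k) (Fin k) F}
    (hA : adjJ J A * A = 1) (h : (sl i A).det = 1) : A.det = 1 := by
  have h1 : A.det * A.det = 1 := by
    have := congrArg Matrix.det hA
    rwa [det_mul, det_adjJ hJ.det, det_one] at this
  obtain ⟨r, hr⟩ := odd_pow_k (k := k) hodd (t - 1)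
  rw [det_sl, hr, pow_succ, pow_mul, pow_two, h1, one_pow, one_mul] at h
  exact h

theorem rf_det (hJ : SJ J) {u : Fin k → F} (hu : bf J u u ≠ 0) : (rf J u).det = -1 := by
  have e : rf J u = 1 + Matrix.replicateCol Unit ((-(2 / bf J u u)) • u) * Matrix.replicateRow Unit (u ᵥ* J) := by
    rw [← Matrix.vecMulVec_eq, smul_vecMulVec, neg_smul, ← sub_eq_add_neg]
    rfl
  rw [e, Matrix.det_one_add_replicateCol_mul_replicateRow, dotProduct_smul, ← dotProduct_mulVec, smul_eq_mul,
    show u ⬝ᵥ J *ᵥ u = bf J u u from rfl, neg_mul, div_mul_cancel₀ _ hu]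
  ring

theorem dl_det_odd (hodd : Odd k) (hJ : SJ J) {u : Fin k → F} (hu : bf J u u ≠ 0) : (dl J u).det = 1 := by
  rw [dl, det_smul, rf_det hJ hu, Fintype.card_fin, sg, hodd.neg_one_pow, hodd.neg_one_pow]
  ring

theorem det_sl_dl (hodd : Odd k) (hJ : SJ J) (i : Fin t) {u : Fin k → F} (hu : bf J u u ≠ 0) :
    (sl i (dl J u)).det = 1 := by rw [det_sl, dl_det_odd hodd hJ hu, one_pow]

theorem det_sl_pair (hJ : SJ J) (i : Fin t) {a b : Fin k → F} (ha : bf J a a ≠ 0) (hb : bf J b b ≠ 0) :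
    (sl i (rf J a * rf J b)).det = 1 := by
  rw [det_sl, det_mul, rf_det hJ ha, rf_det hJ hb, neg_mul_neg, one_mul, one_pow]

variable [Finite F]

theorem det_sl_eS (hJ : SJ J) (i : Fin t) {p e : Fin k → F} (hp : bf J p p = 0) (he : bf J p e = 0) :
    (sl i (eS J p e)).det = 1 := by
  obtain ⟨r, _⟩ := CharP.exists F
  haveI : Fact r.Prime := ⟨CharP.char_is_prime F r⟩
  have h : (eS J p e).det ^ r = 1 := by
    rw [← det_pow, eS_pow hJ hp he, CharP.cast_eq_zero, zero_smul, eS_zero hJ hp, det_one]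
  have h2 : ((eS J p e).det - 1) ^ r = 0 := by
    rw [sub_pow_char, one_pow, h, sub_self]
  rw [det_sl, sub_eq_zero.1 (eq_zero_of_pow_eq_zero h2), one_pow]

/-- two independent lines give twice the rank -/
theorem rank_sl_indep (l : Fin t) {C : Matrix (Fin k) (Fin k) F} {n : ℕ} {w : Fin n → Fin k → F}
    (hw : LinearIndependent F fun a => C *ᵥ w a) : n * k ^ t ≤ k * (sl l C).rank := by
  classical
  have hk : n ≤ k := by simpa using hw.fintype_card_le_finrank
  let f : (Fin n → F) →ₗ[F] (Fin k → F) := (Matrix.of fun i a => (C *ᵥ w a) i).mulVecLin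
  have hf : LinearMap.ker f = ⊥ := by
    refine LinearMap.ker_eq_bot'.2 fun v hv => funext fun a => ?_
    refine Fintype.linearIndependent_iff.1 hw v ?_ a
    refine funext fun i => (Eq.trans ?_ (congrFun hv i))
    simp [f, Matrix.mulVec, dotProduct, Finset.sum_apply, mul_comm]
  obtain ⟨g, hg⟩ := f.exists_leftInverse_of_injective hf
  let ι : Fin n → Fin k := fun a => ⟨a, by omega⟩
  let Y : Matrix (Fin k) (Fin k) F := ∑ a, Matrix.vecMulVec (w a) (Pi.single (ι a) 1)
  let X : Matrix (Fin k) (Fin k) F := LinearMap.toMatrix'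
    ((Matrix.of fun i (a : Fin n) => if ι a = i then (1 : F) else 0).mulVecLin.comp g)
  have hι : Function.Injective ι := fun a b h => Fin.ext (by simpa [ι] using congrArg Fin.val h)
  have hXv : ∀ a, X *ᵥ (C *ᵥ w a) = Pi.single (ι a) 1 := fun a => by
    simp only [X, LinearMap.toMatrix'_mulVec, LinearMap.comp_apply]
    have : f (Pi.single a 1) = C *ᵥ w a := by
      simp only [f, mulVecLin_apply, Matrix.mulVec_single_one]; rfl
    rw [← this, show g (f (Pi.single a 1)) = Pi.single a 1 from LinearMap.congr_fun hg _]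
    simp only [mulVecLin_apply, Matrix.mulVec_single_one]
    funext i
    simp [Pi.single_apply, Matrix.col_apply, eq_comm]
  have hXCY : X * C * Y = ∑ a, Matrix.single (ι a) (ι a) 1 := by
    rw [show Y = ∑ a, Matrix.vecMulVec (w a) (Pi.single (ι a) 1) from rfl, Finset.mul_sum]
    refine Finset.sum_congr rfl fun a _ => ?_
    rw [Matrix.mul_vecMulVec, ← mulVec_mulVec, hXv, ← Matrix.single_eq_single_vecMulVec_single]
  have hsum := (rank_sum_orth (P := fun a => sl (β := Fin t) l (Matrix.single (ι a) (ι a) (1 : F)))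
    (fun a => by rw [sl_mul, Matrix.single_mul_single_same, one_mul])
    (fun a b hab => by rw [sl_mul, Matrix.single_mul_single_of_ne (1 : F) (ι a) (ι a) (ι b) (hι.ne hab) (1 : F), sl_zero]) Finset.univ).2
  have hne : ∀ a, k ^ t ≤ k * (sl (β := Fin t) l (Matrix.single (ι a) (ι a) (1 : F))).rank := fun a =>
    rank_sl_ge l (fun h => by simpa using congrFun (congrFun h (ι a)) (ι a))
  rw [← sl_sum, ← hXCY, ← sl_mul, ← sl_mul] at hsum
  have hle : (sl l X * sl l C * sl l Y).rank ≤ (sl l C).rank := (rank_mul_le_left _ _).trans (rank_mul_le_right _ _)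
  have h3 : n * k ^ t ≤ k * ∑ a, (sl (β := Fin t) l (Matrix.single (ι a) (ι a) (1 : F))).rank := by
    rw [Finset.mul_sum]
    simpa using Finset.sum_le_sum (s := Finset.univ) fun a _ => hne a
  exact h3.trans (Nat.mul_le_mul_left _ (hsum.trans hle))

/-- a self-adjoint square zero slot matrix of the rank of one line -/
theorem rank_one_form (hJ : SJ J) (l : Fin t) {N : Matrix (Fin k) (Fin k) F} (hN0 : N ≠ 0) (hadj : adjJ J N = N)
    (hsq : N * N = 0) (hr : k * (sl l N).rank ≤ k ^ t) :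
    ∃ (x : Fin k → F) (c : F), x ≠ 0 ∧ bf J x x = 0 ∧ c ≠ 0 ∧ N = c • rk J x x := by
  have hk := hJ.kk
  obtain ⟨v, hv⟩ : ∃ v, N *ᵥ v ≠ 0 := by
    by_contra! h
    exact hN0 (Matrix.toLin'.injective (LinearMap.ext fun v => by simp [h v]))
  obtain ⟨x, hx⟩ : ∃ x, x = N *ᵥ v := ⟨_, rfl⟩
  have hline : ∀ z, ∃ c : F, N *ᵥ z = c • x := fun z => by
    by_contra! h
    have hli : LinearIndependent F fun a => N *ᵥ (![z, v] a) := by
      rw [show (fun a => N *ᵥ (![z, v] a)) = ![N *ᵥ z, N *ᵥ v] by funext a; fin_cases a <;> rfl]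
      exact linearIndependent_fin2.2 ⟨hv, fun s e => h s (by rw [hx]; exact e.symm)⟩
    have h2 := rank_sl_indep l hli
    have h0 : 0 < k ^ t := by positivity
    omega
  choose φ hφ using hline
  obtain ⟨y, hy⟩ : ∃ y, y = J⁻¹ *ᵥ fun c => φ (Pi.single c 1) := ⟨_, rfl⟩
  have hyφ : ∀ c, bf J y (Pi.single c 1) = φ (Pi.single c 1) := fun c => by
    rw [hy, hJ.comm, bf, mulVec_mulVec, mul_nonsing_inv J hJ.det, one_mulVec, single_dotProduct, one_mul]
  have hNe : N = rk J x y := by
    ext a b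
    have h1 := congrFun (hφ (Pi.single b 1)) a
    rw [Matrix.mulVec_single_one, Matrix.col_apply] at h1
    have h2 : (rk J x y *ᵥ Pi.single b 1) a = rk J x y a b := by rw [Matrix.mulVec_single_one, Matrix.col_apply]
    rw [h1, ← h2, rk_mulVec, hyφ]
  have hx0 : x ≠ 0 := hx ▸ hv
  have hy0 : y ≠ 0 := fun e => hN0 (by
    rw [hNe, e, show rk J x (0 : Fin k → F) = 0 by rw [rk, zero_vecMul, vecMulVec_zero]])
  have hxx : bf J x x = 0 := by
    rw [hx]
    conv_lhs => rw [← hadj, hJ.bf_adjJ, hadj, mulVec_mulVec, hsq, zero_mulVec]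
    simp [bf]
  obtain ⟨z, hz⟩ := exists_bf_ne J hJ.det hx0
  have e := congrArg (· *ᵥ z) hadj
  rw [hNe, hJ.adjJ_rk, rk_mulVec, rk_mulVec] at e
  refine ⟨x, bf J y z / bf J x z, hx0, hxx, fun h0 => ?_, ?_⟩
  · rcases div_eq_zero_iff.1 h0 with h | h
    · rw [h, zero_smul] at e
      exact hy0 ((smul_eq_zero.1 e).resolve_left hz)
    · exact hz h
  · rw [hNe, ← rk_smul_right]
    congr 1
    rw [div_eq_inv_mul, mul_smul, ← e, smul_smul, inv_mul_cancel₀ hz, one_smul]

/-- the vectors orthogonal to independent vectors of a hyperplane -/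
theorem SJ.perp_hyper (hJ : SJ J) {n : ℕ} (hn : n + 1 = k) {f : Fin n → Fin k → F} (hf : LinearIndependent F f) :
    ∃ z, z ≠ 0 ∧ (∀ a, bf J (f a) z = 0) ∧ ∀ y, (∀ a, bf J (f a) y = 0) → ∃ c : F, y = c • z := by
  obtain ⟨z, hz0, hz⟩ := exists_perp (J := J) (show n < k by omega) f
  refine ⟨z, hz0, hz, fun y hy => ?_⟩
  by_contra! h
  -- two vectors orthogonal to the hyperplane make the matrix of the family too degenerate
  let φ : (Fin k → F) →ₗ[F] (Fin n → F) :=
    { toFun := fun w a => bf J (f a) w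
      map_add' := fun x y => funext fun a => bf_add_right ..
      map_smul' := fun c x => funext fun a => by simp [bf_smul_right] }
  have hsurj : Function.Surjective φ := by
    obtain ⟨A, hA⟩ := exists_values (k := k) hf (fun a => Pi.single (⟨a, by omega⟩ : Fin k) (1 : F))
    intro b
    refine ⟨adjJ J A *ᵥ (J⁻¹ *ᵥ fun c => if hc : c.1 < n then b ⟨c.1, hc⟩ else 0), funext fun a => ?_⟩
    show bf J (f a) _ = _
    rw [hJ.comm, hJ.bf_adjJ, hA, hJ.comm, bf, mulVec_mulVec, mul_nonsing_inv J hJ.det, one_mulVec,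
      single_dotProduct, one_mul]
    simp
  have h1 := φ.finrank_range_add_finrank_ker
  rw [LinearMap.range_eq_top.2 hsurj, finrank_top, Module.finrank_fintype_fun_eq_card,
    Module.finrank_fintype_fun_eq_card, Fintype.card_fin, Fintype.card_fin] at h1
  have hli : LinearIndependent F ![y, z] := linearIndependent_fin2.2 ⟨hz0, fun s e => h s e.symm⟩
  have h2 : Submodule.span F (Set.range ![y, z]) ≤ LinearMap.ker φ := by
    refine Submodule.span_le.2 ?_
    rintro _ ⟨a, rfl⟩
    fin_cases a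
    · exact funext hy
    · exact funext hz
  have h3 := Submodule.finrank_mono h2
  rw [finrank_span_eq_card hli, Fintype.card_fin] at h3
  omega

/-- an isometry of determinant one fixing a hyperplane -/
theorem fix_hyper (hJ : SJ J) {n : ℕ} (hn : n + 1 = k) {f : Fin n → Fin k → F} (hf : LinearIndependent F f)
    {A : Matrix (Fin k) (Fin k) F} (hA : adjJ J A * A = 1) (hdet : A.det = 1) (hfix : ∀ a, A *ᵥ f a = f a) :
    A = 1 := by
  obtain ⟨z, hz0, hz, hzu⟩ := hJ.perp_hyper hn hf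
  have hiso : ∀ u v, bf J (A *ᵥ u) (A *ᵥ v) = bf J u v := bf_iso hJ hA
  have hline : ∀ x, ∃ c : F, A *ᵥ x - x = c • z := fun x => hzu _ fun a => by
    rw [sub_eq_add_neg, ← neg_one_smul F x, bf_add_right, bf_smul_right]
    conv_lhs => arg 1; rw [← hfix a, hiso]
    ring
  choose c hc using hline
  obtain ⟨y, hy⟩ : ∃ y, y = J⁻¹ *ᵥ fun b => c (Pi.single b 1) := ⟨_, rfl⟩
  have hyc : ∀ b, bf J y (Pi.single b 1) = c (Pi.single b 1) := fun b => by
    rw [hy, hJ.comm, bf, mulVec_mulVec, mul_nonsing_inv J hJ.det, one_mulVec, single_dotProduct, one_mul]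
  have hAe : A = 1 + rk J z y := by
    ext a b
    have h1 := congrFun (hc (Pi.single b 1)) a
    rw [Matrix.mulVec_single_one, Pi.sub_apply, Matrix.col_apply] at h1
    have h2 : (rk J z y *ᵥ Pi.single b 1) a = rk J z y a b := by rw [Matrix.mulVec_single_one, Matrix.col_apply]
    rw [Matrix.add_apply, ← h2, rk_mulVec, hyc, ← h1, Matrix.one_apply, Pi.single_apply]
    ring
  have hyz : bf J y z = 0 := by
    have e : rk J z y = Matrix.replicateCol Unit z * Matrix.replicateRow Unit (y ᵥ* J) := by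
      rw [← Matrix.vecMulVec_eq]; rfl
    rw [hAe, e, Matrix.det_one_add_replicateCol_mul_replicateRow, ← dotProduct_mulVec] at hdet
    simpa [bf] using hdet
  have hyf : ∀ a, bf J (f a) y = 0 := fun a => by
    have h1 := hfix a
    rw [hAe, add_mulVec, one_mulVec, rk_mulVec, add_eq_left] at h1
    rw [hJ.comm]
    exact (smul_eq_zero.1 h1).resolve_right hz0
  obtain ⟨d, hd⟩ := hzu y hyf
  suffices d = 0 by
    rw [hAe, hd, this, zero_smul, show rk J z (0 : Fin k → F) = 0 by rw [rk, zero_vecMul, vecMulVec_zero], add_zero]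
  by_contra hd0
  rw [hd, bf_smul_left] at hyz
  have hzz := (mul_eq_zero.1 hyz).resolve_left hd0
  obtain ⟨x, hx⟩ := exists_bf_ne J hJ.det hz0
  have h1 := hiso x x
  simp only [hAe, hd, rk_smul_right, add_mulVec, one_mulVec, smul_mulVec, rk_mulVec, bf_add_left, bf_add_right,
    bf_smul_left, bf_smul_right, hzz, hJ.comm x z] at h1
  exact mul_ne_zero (mul_ne_zero hJ.two hd0) (mul_ne_zero hx hx) (by linear_combination h1)

/-- the third vector of a singular root: three orthogonal axes carry a root element with non-singular axis -/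
theorem exists_root3 (hJ : SJ J) {a b c : Fin k → F} (ha : bf J a a ≠ 0) (hb : bf J b b ≠ 0) (hc : bf J c c ≠ 0)
    (hab : bf J a b = 0) (hac : bf J a c = 0) (hbc : bf J b c = 0) :
    ∃ p f, p ≠ 0 ∧ bf J p p = 0 ∧ bf J p f = 0 ∧ bf J f f ≠ 0 ∧
      ∀ z, bf J z a = 0 → bf J z b = 0 → bf J z c = 0 → bf J z p = 0 ∧ bf J z f = 0 := by
  obtain ⟨x, y, hxy⟩ := hJ.exists_binary ha hb hab (neg_ne_zero.2 hc)
  have hba : bf J b a = 0 := by rw [hJ.comm, hab]
  simp only [bf_add_left, bf_add_right, bf_smul_left, bf_smul_right, hab, hba] at hxy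
  refine ⟨x • a + y • b + c, (y * bf J b b) • a + (-(x * bf J a a)) • b, fun e => ?_, ?_, ?_, ?_,
    fun z za zb zc => ⟨?_, ?_⟩⟩
  · have h := congrArg (bf J c) e
    simp only [bf_add_right, bf_smul_right, hJ.comm c a, hJ.comm c b, hac, hbc] at h
    rw [show bf J c (0 : Fin k → F) = 0 by simp [bf]] at h
    exact hc (by linear_combination h)
  · simp only [bf_add_left, bf_add_right, bf_smul_left, bf_smul_right, hab, hba, hac, hbc, hJ.comm c a, hJ.comm c b]
    linear_combination hxy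
  · simp only [bf_add_left, bf_add_right, bf_smul_left, bf_smul_right, hab, hba, hJ.comm c a, hJ.comm c b, hac, hbc]
    ring
  · simp only [bf_add_left, bf_add_right, bf_smul_left, bf_smul_right, hab, hba]
    intro h
    exact mul_ne_zero (mul_ne_zero ha hb) (neg_ne_zero.2 hc)
      (by linear_combination h - (bf J a a * bf J b b) * hxy)
  · simp only [bf_add_right, bf_smul_right, za, zb, zc, mul_zero, add_zero]
  · simp only [bf_add_right, bf_smul_right, za, zb, mul_zero, add_zero]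

theorem orth_cons (hJ : SJ J) {n : ℕ} {fv : Fin n → Fin k → F} (hf : ∀ a b, a ≠ b → bf J (fv a) (fv b) = 0)
    (hf0 : ∀ a, bf J (fv a) (fv a) ≠ 0) {v : Fin k → F} (hv : bf J v v ≠ 0) (hfv : ∀ a, bf J (fv a) v = 0) :
    (∀ a b, a ≠ b → bf J ((Fin.cons v fv : Fin (n + 1) → Fin k → F) a) ((Fin.cons v fv : Fin (n + 1) → Fin k → F) b) = 0) ∧
      ∀ a, bf J ((Fin.cons v fv : Fin (n + 1) → Fin k → F) a) ((Fin.cons v fv : Fin (n + 1) → Fin k → F) a) ≠ 0 := by
  refine ⟨fun a b hab => ?_, fun a => ?_⟩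
  · induction a using Fin.cases with
    | zero =>
      induction b using Fin.cases with
      | zero => exact absurd rfl hab
      | succ b => simpa using (hJ.comm _ _).trans (hfv b)
    | succ a =>
      induction b using Fin.cases with
      | zero => simpa using hfv a
      | succ b => simpa using hf a b fun e => hab (by rw [e])
  · induction a using Fin.cases with
    | zero => simpa using hv
    | succ a => simpa using hf0 a

/-- a root element orthogonal to given axes -/
theorem exists_root_perp (hJ : SJ J) {n : ℕ} (hn : n + 3 ≤ k) (fv : Fin n → Fin k → F)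
    (hf : ∀ a b, a ≠ b → bf J (fv a) (fv b) = 0) (hf0 : ∀ a, bf J (fv a) (fv a) ≠ 0) :
    ∃ p f, p ≠ 0 ∧ bf J p p = 0 ∧ bf J p f = 0 ∧ bf J f f ≠ 0 ∧ ∀ a, bf J (fv a) p = 0 ∧ bf J (fv a) f = 0 := by
  obtain ⟨a, ha, ha'⟩ := hJ.exists_orth (n := n) (by omega) fv hf hf0
  obtain ⟨h1, h1'⟩ := orth_cons hJ hf hf0 ha ha'
  obtain ⟨b, hb, hb'⟩ := hJ.exists_orth (n := n + 1) (by omega) _ h1 h1'
  obtain ⟨h2, h2'⟩ := orth_cons hJ h1 h1' hb hb'
  obtain ⟨c, hc, hc'⟩ := hJ.exists_orth (n := n + 2) (by omega) _ h2 h2'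
  obtain ⟨p, f, hp0, hp, hpf, hff, hperp⟩ := exists_root3 hJ ha hb hc (by simpa using hb' 0)
    (by simpa using hc' 1) (by simpa using hc' 0)
  exact ⟨p, f, hp0, hp, hpf, hff, fun x => hperp _ (ha' x) (by simpa using hb' x.succ)
    (by simpa using hc' x.succ.succ)⟩

/-- projections onto an orthogonal basis -/
theorem basis_facts (hJ : SJ J) (f : Fin k → Fin k → F) (hf : ∀ a b, a ≠ b → bf J (f a) (f b) = 0)
    (hf0 : ∀ a, bf J (f a) (f a) ≠ 0) :
    (∑ a, pj J (f a) = 1) ∧ ∃ d : F, d ≠ 0 ∧ ∏ a, bf J (f a) (f a) = d * d * J.det := by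
  classical
  set P : Matrix (Fin k) (Fin k) F := Matrix.of f with hP
  set D : Matrix (Fin k) (Fin k) F := Matrix.diagonal fun a => bf J (f a) (f a) with hD
  have hPJ : P * J * Pᵀ = D := by
    ext a b
    have e : (P * J * Pᵀ) a b = bf J (f a) (f b) := by
      rw [bf, dotProduct_mulVec]
      rfl
    rw [e, hD, Matrix.diagonal_apply]
    split_ifs with h
    · rw [h]
    · exact hf a b h
  have hdet : P.det * P.det * J.det = ∏ a, bf J (f a) (f a) := by
    have h := congrArg Matrix.det hPJ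
    rw [det_mul, det_mul, det_transpose, hD, det_diagonal] at h
    rw [← h]; ring
  have hne : ∏ a, bf J (f a) (f a) ≠ 0 := Finset.prod_ne_zero_iff.2 fun a _ => hf0 a
  have hPne : P.det ≠ 0 := fun h => hne (by rw [← hdet, h]; ring)
  refine ⟨?_, P.det, hPne, hdet.symm⟩
  have h1 : P * J * (Pᵀ * Matrix.diagonal fun a => (bf J (f a) (f a))⁻¹) = 1 := by
    rw [← Matrix.mul_assoc, hPJ, hD, Matrix.diagonal_mul_diagonal, ← Matrix.diagonal_one]
    congr 1
    funext a
    exact mul_inv_cancel₀ (hf0 a)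
  rw [← mul_eq_one_comm.1 h1]
  ext x y
  rw [Matrix.sum_apply, Matrix.mul_apply]
  refine Finset.sum_congr rfl fun a _ => ?_
  rw [pj, Matrix.smul_apply, smul_eq_mul, rk, vecMulVec_apply, Matrix.mul_diagonal, Matrix.transpose_apply, hP,
    Matrix.of_apply, mul_comm (f a x) (_⁻¹), mul_assoc]
  rfl

variable {Sg : Finset (Fin t)} {G : Subgroup (GL (Fin t → Fin k) F)}

namespace Setting

variable (hS : Setting J Sg G)
include hS

theorem det_conj {g : Matrix (Fin t → Fin k) (Fin t → Fin k) F} (hg : MG G g)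
    (M : Matrix (Fin t → Fin k) (Fin t → Fin k) F) : (g * M * adjJ (GV J) g).det = M.det := by
  rw [det_mul, det_mul, mul_right_comm, ← det_mul, (hS.adj_inv hg).2.2, det_one, one_mul]

/-- a scalar multiplier of an operator is a square -/
theorem square_class (hodd : Odd k) {a : Matrix (Fin t → Fin k) (Fin t → Fin k) F} {c : F} (hc : c ≠ 0)
    (h : adjJ (GV J) a * a = c • 1) : IsSquare c := by
  have h1 := congrArg Matrix.det h
  rw [det_mul, det_adjJ hS.GV_det', det_smul, det_one, mul_one, card_idx] at h1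
  obtain ⟨r, hr⟩ := odd_pow_k (k := k) hodd t
  refine ⟨a.det / c ^ r, ?_⟩
  rw [div_mul_div_comm, h1, hr, eq_div_iff (mul_ne_zero (pow_ne_zero _ hc) (pow_ne_zero _ hc))]
  ring

/-- images of the lines fixed by a slot element -/
theorem fix_image {i : Fin t} {g : Matrix (Fin t → Fin k) (Fin t → Fin k) F} (hg : MG G g)
    {P P' r : Matrix (Fin k) (Fin k) F} (hgP : g * sl i P = sl i P' * g) (hrP : r * P = P) {v : Fin k → F}
    (hv : P' *ᵥ v = v) : Maps J i (g * sl i r * adjJ (GV J) g) v v 1 := fun w => by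
  obtain ⟨-, hg1, hg2⟩ := hS.adj_inv hg
  have e : g * sl i P * adjJ (GV J) g = sl i P' := by rw [hgP, mul_assoc, hg2, mul_one]
  have h1 : g * sl i r * adjJ (GV J) g * sl i P' = sl i P' := by
    conv_lhs => rw [← e]
    calc g * sl i r * adjJ (GV J) g * (g * sl i P * adjJ (GV J) g)
        = g * (sl i r * (adjJ (GV J) g * g) * sl i P) * adjJ (GV J) g := by simp only [mul_assoc]
      _ = _ := by rw [hg1, mul_one, sl_mul, hrP, e]
  rw [mul_one, show sl (β := Fin t) i (rk J v w) = sl i P' * sl i (rk J v w) by rw [sl_mul, mul_rk, hv],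
    ← mul_assoc, h1]

/-- images of a fixed line -/
theorem fix_self {i : Fin t} {g : Matrix (Fin t → Fin k) (Fin t → Fin k) F} (hg : MG G g)
    {r : Matrix (Fin k) (Fin k) F} {v : Fin k → F} (hgv : Maps J i g v v 1) (hrv : r *ᵥ v = v) :
    Maps J i (g * sl i r * adjJ (GV J) g) v v 1 := by
  have h1 := maps_sl (J := J) i r v
  rw [hrv] at h1
  have := ((hS.fix_left hg hgv 0).2.mul h1).mul hgv
  simpa only [mul_assoc, mul_one] using this

/-- three fixed orthogonal axes -/
theorem fix3 (hF : ¬ Full J Sg G) {i : Fin t} (hi : i ∈ Sg) {f : Fin 3 → Fin k → F}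
    (hf : ∀ a b, a ≠ b → bf J (f a) (f b) = 0) (hf0 : ∀ a, bf J (f a) (f a) ≠ 0)
    {h : Matrix (Fin t → Fin k) (Fin t → Fin k) F} (hh : MG G h) (hfix : ∀ a, Maps J i h (f a) (f a) 1) :
    ∃ A, h = sl i A := by
  obtain ⟨x, y, hxy⟩ := hS.sj.exists_binary (hf0 0) (hf0 1) (hf 0 1 (by decide)) (neg_ne_zero.2 (hf0 2))
  refine hS.fix_pair hF hi (hf0 2) ?_ hxy hh (hfix 2) (maps_comb (hfix 0) (hfix 1) x y)
  rw [bf_add_right, bf_smul_right, bf_smul_right, hf 2 0 (by decide), hf 2 1 (by decide), mul_zero, mul_zero,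
    add_zero]

/-- the norms of the two lines of an operator -/
theorem line_norm {i : Fin t} {g c : Matrix (Fin t → Fin k) (Fin t → Fin k) F} (hg : MG G g) {v v' : Fin k → F}
    (hv : v ≠ 0) (hc : ∀ A, Commute c (sl i A)) (h : Maps J i g v v' c) :
    bf J v' v' • (adjJ (GV J) c * c) = bf J v v • (1 : Matrix (Fin t → Fin k) (Fin t → Fin k) F) := by
  have hJ := hS.sj
  have hca := adj_commute hJ.symm hJ.det hc
  refine eq_of_sl i (hJ.rk_ne hv hv) (fun A => ((hca A).mul_left (hc A)).smul_left _)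
    (fun A => (Commute.one_left _).smul_left _) ?_
  have h1 := h.adj hJ.symm hJ.det hc v
  calc sl i (rk J v v) * (bf J v' v' • (adjJ (GV J) c * c))
      = sl i (rk J v v') * adjJ (GV J) c * (sl i (rk J v' v) * c) := by
        rw [mul_assoc (sl i _) (adjJ (GV J) c), ← mul_assoc (adjJ (GV J) c), (hca _).eq, ← mul_assoc, ← mul_assoc,
          sl_mul, rk_mul_rk, sl_smul, smul_mul_assoc, smul_mul_assoc, mul_smul_comm, mul_assoc]
    _ = sl i (rk J v v) * adjJ (GV J) g * (g * sl i (rk J v v)) := by rw [← h1, h v]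
    _ = _ := by
      rw [mul_assoc, ← mul_assoc (adjJ (GV J) g), (hS.adj_inv hg).2.1, one_mul, sl_mul, rk_mul_rk, sl_smul,
        mul_smul_comm, mul_one]

/-- the image of a root element with non-singular axis gives the image of its line -/
theorem line_of_root {i : Fin t} {p f : Fin k → F} (hp0 : p ≠ 0) (hp : bf J p p = 0) (hpf : bf J p f = 0)
    (hf : bf J f f ≠ 0) {g : Matrix (Fin t → Fin k) (Fin t → Fin k) F} (hg : MG G g) {X : Matrix (Fin k) (Fin k) F}
    (h : g * sl i (eS J p f) * adjJ (GV J) g = sl i X) :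
    ∃ x T, x ≠ 0 ∧ bf J x x = 0 ∧ Op Sg i T ∧ Maps J i g p x T := by
  have hJ := hS.sj
  haveI : Nonempty (Fin k) := ⟨⟨0, by have := hJ.kk; omega⟩⟩
  obtain ⟨hga, hg1, hg2⟩ := hS.adj_inv hg
  obtain ⟨N, hN⟩ : ∃ N, N = (-(bf J f f))⁻¹ • ((X - 1) * (X - 1)) := ⟨_, rfl⟩
  have hsl : ∀ A : Matrix (Fin k) (Fin k) F, sl (β := Fin t) i (A - 1) = sl i A - 1 := fun A => by
    rw [sub_eq_add_neg, ← neg_one_smul F (1 : Matrix (Fin k) (Fin k) F), sl_add, sl_smul, sl_one, neg_one_smul,
      ← sub_eq_add_neg]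
  have hsq : (eS J p f - 1) * (eS J p f - 1) = (-bf J f f) • rk J p p := by
    obtain ⟨h1, h2⟩ := hJ.xp_mul_rk hp hpf
    rw [hJ.eS_eq hp hpf, add_assoc, add_sub_cancel_left]
    simp only [mul_add, add_mul, mul_smul_comm, smul_mul_assoc, h1, h2, rk_mul_rk, hp, zero_smul, smul_zero,
      hJ.xp_mul hp hpf hpf, add_zero]
  have hc : g * sl i (rk J p p) * adjJ (GV J) g = sl i N := by
    have e1 : g * sl i (eS J p f - 1) * adjJ (GV J) g = sl i (X - 1) := by
      rw [hsl, hsl, mul_sub, sub_mul, h, mul_one, hg2]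
    rw [hN, sl_smul, ← sl_mul i (X - 1), ← e1]
    rw [show g * sl i (eS J p f - 1) * adjJ (GV J) g * (g * sl i (eS J p f - 1) * adjJ (GV J) g) =
      g * (sl i (eS J p f - 1) * (adjJ (GV J) g * g) * sl i (eS J p f - 1)) * adjJ (GV J) g by simp only [mul_assoc],
      hg1, mul_one, sl_mul, hsq, sl_smul, mul_smul_comm, smul_mul_assoc, smul_smul,
      inv_mul_cancel₀ (neg_ne_zero.2 hf), one_smul]
  have hadj : adjJ J N = N := by
    refine sl_injective i ?_
    rw [← adj_sl hJ.det, ← hc, hS.adj_mul', hS.adj_mul', hS.adj_adj', adj_sl hJ.det, hJ.adjJ_rk]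
    simp only [mul_assoc]
  have hNN : N * N = 0 := by
    refine sl_injective i ?_
    rw [← sl_mul, ← hc, sl_zero,
      show g * sl i (rk J p p) * adjJ (GV J) g * (g * sl i (rk J p p) * adjJ (GV J) g) =
      g * (sl i (rk J p p) * (adjJ (GV J) g * g) * sl i (rk J p p)) * adjJ (GV J) g by simp only [mul_assoc],
      hg1, mul_one, sl_mul, rk_mul_rk, hp, zero_smul, sl_zero, mul_zero, zero_mul]
  have hN0 : N ≠ 0 := fun e => by
    rw [e, sl_zero] at hc
    have := congrArg (fun Z => adjJ (GV J) g * Z * g) hc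
    simp only [← mul_assoc, hg1, one_mul, mul_zero, zero_mul] at this
    rw [mul_assoc, hg1, mul_one, ← sl_zero (F := F) (κ := Fin k) i] at this
    exact hJ.rk_ne hp0 hp0 (sl_injective i this)
  obtain ⟨x, c, hx0, hx, hc0, hNx⟩ := rank_one_form hJ i hN0 hadj hNN (le_trans (Nat.mul_le_mul_left k (by
    rw [← hc]; exact (rank_mul_le_left _ _).trans (rank_mul_le_right _ _))) (rank_sl_rk_le J i p p))
  obtain ⟨q, e, -, hpq, -⟩ := hJ.exists_frame hp0 hp
  refine ⟨x, c • ct J i x q g, hx0, hx, Op.smul (fun l hl A => ?_) c, fun z => ?_⟩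
  · rcases eq_or_ne l i with rfl | hli
    · exact ct_commute l x q g A
    · exact ct_commute_other hli x q (hS.out' hg (hl.resolve_left hli) A)
  · have e1 : sl (β := Fin t) i (rk J p z) = sl i (rk J p p) * sl i (rk J q z) := by
      rw [sl_mul, rk_mul_rk, hpq, one_smul]
    have e2 : g * sl i (rk J p p) = sl i N * g := by rw [← hc, mul_assoc, hg1, mul_one]
    rw [e1, ← mul_assoc, e2, hNx, sl_smul, smul_mul_assoc, smul_mul_assoc, sl_ct, mul_smul_comm]

end Setting

end Cfsg.Agent.ClassicalMax.OOWreath
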