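import Cfsg.Agent.ClassicalMax.OOWreath.Maximal

/-!
The slot space of a tensor power structure on a quadratic form, and maximality for slots of even dimension with three
slots or a square determinant.
-/

set_option autoImplicit false
set_option linter.unusedSectionVars false

namespace Cfsg.Agent.ClassicalMax.OOWreath

open Matrix Module QuadraticMap Cfsg.Geo Cfsg.Agent.Classical.Quad Cfsg.Agent.ClassicalMax.TPow
open Cfsg.Agent.ClassicalMax.SpWreath (GV)

variable {F : Type*} [Field F] {k t : ℕ}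

theorem gram_bf {f : (Fin k → F) → (Fin k → F) → F} (hf : IsBilinearForm f) (a b : Fin k → F) :
    f a b = bf (gramMatrix f) a b := by
  let B : (Fin k → F) →ₗ[F] (Fin k → F) →ₗ[F] F := LinearMap.mk₂ F f hf.add_left
    (fun c x v => by rw [hf.smul_left, smul_eq_mul]) hf.add_right (fun c v x => by rw [hf.smul_right, smul_eq_mul])
  show B a b = _
  conv_lhs => rw [← Matrix.toLinearMap₂'_toMatrix' (R := F) B]
  rw [Matrix.toLinearMap₂'_apply']
  rfl

/-- a form of dimension four without totally singular planes -/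
theorem nop_of_not_plus {J : Matrix (Fin k) (Fin k) F} (hJs : Jᵀ = J) (hk : k = 4)
    (h : ¬ IsPlusTypeOn (fun v : Fin k → F => bf J v v) ⊤) (p y : Fin k → F) (hp0 : p ≠ 0) (hp : bf J p p = 0)
    (hy : bf J y y = 0) (hpy : bf J p y = 0) : ∃ c : F, y = c • p := by
  by_contra! hc
  refine h ⟨Submodule.span F {p, y}, le_top, ?_, ?_⟩
  · intro x hx
    obtain ⟨a, b, rfl⟩ := Submodule.mem_span_pair.1 hx
    have hyp : bf J y p = 0 := by rw [bf_swap J (ε := (1 : F)) (by rw [hJs, one_smul]), hpy, mul_zero]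
    simp only [bf_add_left, bf_add_right, bf_smul_left, bf_smul_right, hp, hy, hpy, hyp, mul_zero, add_zero]
  · have hli : LinearIndependent F ![y, p] := linearIndependent_fin2.2 ⟨hp0, fun s e => hc s e.symm⟩
    have hr : Set.range ![y, p] = ({p, y} : Set (Fin k → F)) := by
      ext z
      simp [Matrix.range_cons, or_comm]
    have h2 := finrank_span_eq_card hli
    rw [hr, Fintype.card_fin] at h2
    rw [h2, finrank_top, Module.finrank_fintype_fun_eq_card, Fintype.card_fin, hk]

theorem symForm_sj [Fintype F] {f₁ : (Fin k → F) → (Fin k → F) → F} (hf₁ : IsSymmetricForm f₁)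
    (hodd : Odd (Fintype.card F)) (hk : 3 ≤ k) (hq5 : 5 ≤ Fintype.card F ∨ 4 ≤ k)
    (hnop : k = 4 → ¬ IsPlusTypeOn (fun v : Fin k → F => f₁ v v) ⊤) : SJ (gramMatrix f₁) := by
  have h2 : (2 : F) ≠ 0 := Ring.two_ne_zero fun h => by
    have h' := FiniteField.even_card_of_char_two h
    obtain ⟨r, hr⟩ := hodd
    omega
  have hs : (gramMatrix f₁)ᵀ = gramMatrix f₁ := by
    ext a b
    show f₁ _ _ = f₁ _ _
    exact hf₁.symm _ _
  refine ⟨h2, hs, ?_, hk, by rwa [Nat.card_eq_fintype_card], fun h4 p y hp0 hp hy hpy => ?_⟩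
  · rw [isUnit_iff_ne_zero]
    intro h0
    obtain ⟨v, hv, hv0⟩ := Matrix.exists_mulVec_eq_zero_iff.2 h0
    obtain ⟨w, hw⟩ := (hf₁.nondegenerate v hv).1
    exact hw (by rw [gram_bf hf₁.bilinear, bf, hv0, dotProduct_zero])
  · refine nop_of_not_plus hs h4 ?_ p y hp0 hp hy hpy
    have e : (fun v : Fin k → F => bf (gramMatrix f₁) v v) = fun v => f₁ v v :=
      funext fun v => (gram_bf hf₁.bilinear v v).symm
    rw [e]
    exact hnop h4

/-- the slot space in the coordinates of the decomposition -/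
theorem exists_sspace {ι : Type} [Fintype ι] [DecidableEq ι] (q : QuadraticForm F (ι → F))
    (e : ι ≃ (Fin t → Fin k)) (P : GL ι F) (f₁ : (Fin k → F) → (Fin k → F) → F) (hsj : SJ (gramMatrix f₁))
    (hT : IsTensorPowerFormStructure id (polar ⇑q) f₁ e P) :
    ∃ c, SSpace (q.comp (Asch.frL e P : ((Fin t → Fin k) → F) →ₗ[F] (ι → F))) (gramMatrix f₁) c := by
  obtain ⟨c, hc, hT⟩ := hT
  refine ⟨c, hc, hsj, fun x y => ?_⟩
  set L := Asch.frL e P
  have e1 : polar (q.comp (L : ((Fin t → Fin k) → F) →ₗ[F] (ι → F))) x y = polar q (L x) (L y) := by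
    show q (L (x + y)) - q (L x) - q (L y) = q (L x + L y) - q (L x) - q (L y)
    rw [map_add]
  rw [e1]
  refine (hT x y).trans (congrArg (c * ·) ?_)
  simp only [bf, dotProduct, mulVec, GV, tens_apply, Finset.mul_sum, id, mul_assoc]

/-- the criterion for slots of even dimension with three slots or a square determinant -/
theorem SSpace.eo_le_even_slot [Finite F] {J : Matrix (Fin k) (Fin k) F}
    {Q : QuadraticForm F ((Fin t → Fin k) → F)} {c : F} (hV : SSpace Q J c) (hev : Even k) (hk : 4 ≤ k) (ht : 2 ≤ t)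
    (hsq : 3 ≤ t ∨ IsSquare J.det) {H : Subgroup (oG Q)}
    (hH : ∀ g ∈ commutator (oG Q), OWreath.mt g ∈ tensorWreathStandard k t F → g ∈ H) {g : oG Q}
    (hg : g ∈ H) (hgS : OWreath.mt g ∉ tensorWreathStandard k t F) : eo Q ≤ H :=
  hV.eo_le_of_full (hV.full_of_not_standard hev hk ht hsq hH hg hgS) ht

end Cfsg.Agent.ClassicalMax.OOWreath
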