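import Cfsg.Agent.ClassicalMax.OOWreath.OddInduct
import Cfsg.Agent.ClassicalMax.OOWreath.Structure

/-!
Slots of odd dimension: the signed reflection in a good axis is a product of commutators, and the criterion for the
stabiliser of the decomposition.
-/

set_option autoImplicit false
set_option linter.unusedSectionVars false
set_option linter.unusedSimpArgs false

namespace Cfsg.Agent.ClassicalMax.OOWreath

open Matrix Module QuadraticMap Cfsg.Geo Cfsg.Agent.Classical Cfsg.Agent.Classical.Quad Cfsg.Agent.ClassicalMax.TPow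
open Cfsg.Agent.ClassicalMax.SpWreath (GV GV_det pv bf_pv rk_pv)
open Cfsg.Agent.ClassicalMax.OWreath (mt mt_mulVec mt_injective)

variable {F : Type*} [Field F] [Finite F] {k t : ℕ} {J : Matrix (Fin k) (Fin k) F}

/-- an orthogonal basis through a non-singular vector -/
theorem SJ.exists_orth_basis_at (hJ : SJ J) {a : Fin k → F} (ha : bf J a a ≠ 0) :
    ∃ (g : Fin k → Fin k → F) (o : Fin k), g o = a ∧ (∀ x y, x ≠ y → bf J (g x) (g y) = 0) ∧
      ∀ x, bf J (g x) (g x) ≠ 0 := by
  suffices h : ∀ n, 1 ≤ n → n ≤ k → ∃ (g : Fin n → Fin k → F) (o : Fin n), g o = a ∧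
      (∀ x y, x ≠ y → bf J (g x) (g y) = 0) ∧ ∀ x, bf J (g x) (g x) ≠ 0 from h k (by have := hJ.kk; omega) le_rfl
  intro n hn
  induction n, hn using Nat.le_induction with
  | base => exact fun _ => ⟨fun _ => a, 0, rfl, fun x y h => absurd (Subsingleton.elim x y) h, fun _ => ha⟩
  | succ n hn ih =>
    intro hnk
    obtain ⟨g, o, ho, hg, hg0⟩ := ih (by omega)
    obtain ⟨w, hw, hgw⟩ := hJ.exists_orth (show n < k by omega) g hg hg0
    refine ⟨Fin.snoc g w, o.castSucc, by rw [Fin.snoc_castSucc, ho], fun x y hxy => ?_, fun x => ?_⟩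
    · cases x using Fin.lastCases <;> cases y using Fin.lastCases
      · exact absurd rfl hxy
      · rw [Fin.snoc_last, Fin.snoc_castSucc, hJ.comm, hgw]
      · rw [Fin.snoc_last, Fin.snoc_castSucc, hgw]
      · rw [Fin.snoc_castSucc, Fin.snoc_castSucc]
        exact hg _ _ fun e => hxy (congrArg Fin.castSucc e)
    · cases x using Fin.lastCases
      · rwa [Fin.snoc_last]
      · rw [Fin.snoc_castSucc]; exact hg0 _

variable {Q : QuadraticForm F ((Fin t → Fin k) → F)} {c : F}

namespace SSpace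

variable (hV : SSpace Q J c)
include hV

/-- the signed reflection in a good axis of a slot of odd dimension is a commutator -/
theorem refl_inC_odd (hodd : Odd k) (ht : 2 ≤ t) (i : Fin t) {a : Fin k → F} (ha : Good J a) :
    InCm Q (sl i (dl J a)) := by
  classical
  have hJ := hV.sj
  have hc0 : c / 2 ≠ 0 := div_ne_zero hV.c0 hJ.two
  obtain ⟨g, o, hgo, hg, hg0⟩ := hJ.exists_orth_basis_at ha.1
  obtain ⟨hsum, d, hd0, hd⟩ := basis_facts hJ g hg hg0
  let s : Fin t → Finset (Fin k) := fun j => if j = i then Finset.univ.erase o else Finset.univ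
  let v : (Fin t → Fin k) → (Fin t → Fin k) → F := fun y => pv fun j => g (y j)
  set S := Fintype.piFinset s with hS
  have hvv : ∀ y, bf (GV J) (v y) (v y) = ∏ j, bf J (g (y j)) (g (y j)) := fun y => bf_pv _ _
  have hvne : ∀ y, Q (v y) ≠ 0 := fun y => by
    rw [hV.Q_eq, hvv]
    exact mul_ne_zero hc0 (Finset.prod_ne_zero_iff.2 fun j _ => hg0 _)
  have horth : ∀ y y' : Fin t → Fin k, y ≠ y' → bf (GV J) (v y) (v y') = 0 := by
    intro y y' hne
    obtain ⟨j, hj⟩ := Function.ne_iff.1 hne
    rw [bf_pv]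
    exact Finset.prod_eq_zero (Finset.mem_univ j) (hg _ _ hj)
  set P : (Fin t → Fin k) → Matrix (Fin t → Fin k) (Fin t → Fin k) F :=
    fun y => (bf (GV J) (v y) (v y))⁻¹ • rk (GV J) (v y) (v y) with hP
  have hPsum : ∑ y ∈ S, P y = sl i (1 - pj J a) := by
    have e : ∀ y, P y = tens fun j => pj J (g (y j)) := by
      intro y
      simp only [pj, hP]
      rw [tens_smul, ← rk_pv, Finset.prod_inv_distrib, ← hvv]
    rw [Finset.sum_congr rfl fun y _ => e y, ← tens_sum_pi s (fun _ x => pj J (g x)), sl]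
    congr 1
    funext j
    rcases eq_or_ne j i with rfl | hji
    · simp only [s, if_true, Function.update_self]
      rw [Finset.sum_erase_eq_sub (Finset.mem_univ o), hsum, hgo]
    · simp only [s, if_neg hji, Function.update_of_ne hji, Pi.one_apply]
      exact hsum
  let b : S → (Fin t → Fin k) → F := fun y => v y.1
  have hb : ∀ y : S, Q (b y) ≠ 0 := fun y => hvne y.1
  have hprod : ∀ l : List S, l.Nodup → (mt (l.map fun y => rO (hb y)).prod :
      Matrix (Fin t → Fin k) (Fin t → Fin k) F) = 1 - (2 : F) • (l.map fun y => P y.1).sum := by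
    intro l hl
    induction l with
    | nil => simp [map_one, Units.val_one]
    | cons y l ih =>
      obtain ⟨hy, hl⟩ := List.nodup_cons.1 hl
      rw [List.map_cons, List.prod_cons, map_mul, Units.val_mul, ih hl, hV.rO_mat, List.map_cons, List.sum_cons]
      have h0 : ∀ l : List S, y ∉ l → rk (GV J) (v y.1) (v y.1) * (l.map fun z => P z.1).sum = 0 := by
        intro l hl
        induction l with
        | nil => simp
        | cons z l ih' =>
          rw [List.mem_cons, not_or] at hl
          rw [List.map_cons, List.sum_cons, mul_add, ih' hl.2, add_zero, mul_smul_comm, rk_mul_rk,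
            horth _ _ (fun e => hl.1 (Subtype.ext e)), zero_smul, smul_zero]
      have hR := h0 l hy
      simp only [hP] at hR ⊢
      simp only [sub_mul, one_mul, mul_sub, mul_one, smul_mul_assoc, mul_smul_comm, hR, smul_zero, sub_zero,
        smul_add, smul_smul, b]
      abel
  set l := (Finset.univ : Finset S).toList with hl
  have hdl : dl J a = 1 + (-2 : F) • (1 - pj J a) := by
    rw [dl, sg, hodd.neg_one_pow, rf_eq]; module
  have hmat : (mt (l.map fun y => rO (hb y)).prod : Matrix (Fin t → Fin k) (Fin t → Fin k) F) = sl i (dl J a) := by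
    rw [hprod l (Finset.nodup_toList _), hl, Finset.sum_map_toList, Finset.sum_coe_sort S P, hPsum, hdl, sl_add,
      sl_smul, sl_one, sub_eq_add_neg, neg_smul]
  refine ⟨_, ?_, hmat⟩
  obtain ⟨h1, h2⟩ := chars_list hV.nd hV.hex b hb l
  obtain ⟨r, hr⟩ := hodd
  have hk : Even ((Finset.univ.erase o).card) := by
    rw [Finset.card_erase_of_mem (Finset.mem_univ o), Finset.card_univ, Fintype.card_fin]
    exact ⟨r, by omega⟩
  have hlen : Even l.length := by
    rw [hl, Finset.length_toList, Finset.card_univ, Fintype.card_coe, hS, Fintype.card_piFinset]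
    refine even_iff_two_dvd.2 (dvd_trans (even_iff_two_dvd.1 hk) ?_)
    refine dvd_trans ?_ (Finset.dvd_prod_of_mem _ (Finset.mem_univ i))
    simp [s]
  rw [mem_commutator_chars hV.nd hV.hex, h1, hlen.neg_one_pow]
  refine ⟨rfl, fun h => ?_⟩
  rw [h2 h, hlen.neg_one_pow, one_mul, qs_eq_one]
  have e : (l.map fun y => Q (b y)).prod = ∏ y ∈ S, Q (v y) := by
    rw [hl, Finset.prod_map_toList]
    exact Finset.prod_coe_sort S fun y => Q (v y)
  rw [e, Finset.prod_congr rfl fun y _ => by rw [hV.Q_eq, hvv], Finset.prod_mul_distrib, Finset.prod_const]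
  have hcard : Even S.card := by rwa [hl, Finset.length_toList, Finset.card_univ, Fintype.card_coe] at hlen
  refine (hcard.isSquare_pow _).mul ?_
  rw [Finset.prod_comm]
  refine Finset.prod_induction _ IsSquare (fun _ _ => IsSquare.mul) IsSquare.one fun j _ => ?_
  rw [← Finset.prod_fiberwise_of_maps_to' (g := fun y : Fin t → Fin k => y j) (t := s j)
    (fun y hy => Fintype.mem_piFinset.1 hy j) (fun x => bf J (g x) (g x))]
  have hcount : ∀ x ∈ s j, (S.filter fun y => y j = x).card = ∏ l ∈ Finset.univ.erase j, (s l).card := fun x hx =>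
    Fintype.card_filter_piFinset_eq_of_mem s j hx
  simp only [Finset.prod_const]
  rw [Finset.prod_congr rfl fun x hx => by rw [hcount x hx], Finset.prod_pow]
  rcases eq_or_ne j i with rfl | hji
  swap
  · refine Even.isSquare_pow (even_iff_two_dvd.2 (dvd_trans (even_iff_two_dvd.1 hk) ?_)) _
    refine dvd_trans ?_ (Finset.dvd_prod_of_mem _ (Finset.mem_erase.2 ⟨Ne.symm hji, Finset.mem_univ i⟩))
    simp [s]
  obtain ⟨n, hn⟩ : ∃ n, n = ∏ l ∈ Finset.univ.erase j, (s l).card := ⟨_, rfl⟩
  rw [← hn]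
  suffices hsq : IsSquare (∏ x ∈ s j, bf J (g x) (g x)) from hsq.pow n
  simp only [s, if_true]
  have h3 := Finset.mul_prod_erase Finset.univ (fun x => bf J (g x) (g x)) (Finset.mem_univ o)
  simp only [hgo, hd] at h3
  obtain ⟨q, hq⟩ := ha.2 ⟨r, hr⟩
  refine ⟨d * q / bf J a a, ?_⟩
  rw [div_mul_div_comm, eq_div_iff (mul_ne_zero ha.1 ha.1)]
  linear_combination (bf J a a) * h3 + (d * d) * hq

/-- the setting of all slots of odd dimension -/
theorem setting_odd (hodd : Odd k) (ht : 2 ≤ t) {H : Subgroup (oG Q)}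
    (hH : ∀ g ∈ commutator (oG Q), mt g ∈ tensorWreathStandard k t F → g ∈ H) :
    Setting J Finset.univ (H.map mt) := by
  have key : ∀ (l : Fin t) (A : Matrix (Fin k) (Fin k) F), InCm Q (sl l A) → adjJ J A * A = 1 →
      MG (H.map mt) (sl l A) := by
    rintro l A ⟨g, hg, hge⟩ hA
    exact ⟨mt g, Subgroup.mem_map_of_mem _ (hH g hg (sl_mem_standard hA hge)), hge⟩
  refine ⟨hV.sj, ?_, fun g _ l hl => absurd (Finset.mem_univ l) hl, ?_, ?_, ?_, ?_⟩
  · rintro _ ⟨g, -, rfl⟩
    exact hV.mt_iso g
  · exact fun l _ p e hp he => key l _ (hV.root_inC l hp he) (hV.eS_isoJ hp he)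
  · exact fun l _ u hu => key l _ (hV.refl_inC_odd hodd ht l hu) (hV.dl_isoJ hu.1)
  · intro l _ a b ha hab
    refine key l _ (hV.pair_inC l ha hab) ?_
    rw [adj_mul hV.sj.det, hV.sj.rf_adj, hV.sj.rf_adj, mul_assoc, ← mul_assoc (rf J a), rf_sq ha, one_mul,
      rf_sq (hab ▸ ha)]
  · intro σ hσ _
    obtain ⟨g, hg, e⟩ := hV.perm_inC hσ
    refine ⟨g, hH g hg ?_, e⟩
    rw [e]
    exact Subgroup.subset_closure (Or.inr ⟨σ, fun _ _ => rfl⟩)

/-- the criterion for slots of odd dimension -/
theorem eo_le_odd_slot (hodd : Odd k) (ht : 2 ≤ t) {H : Subgroup (oG Q)}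
    (hH : ∀ g ∈ commutator (oG Q), mt g ∈ tensorWreathStandard k t F → g ∈ H) {g : oG Q}
    (hg : g ∈ H) (hgS : mt g ∉ tensorWreathStandard k t F) : eo Q ≤ H := by
  refine hV.eo_le_of_full ?_ ht
  by_contra hF
  exact hgS (mem_standard_of_std (by have := hV.sj.kk; omega) (by omega)
    (std_of_not_full_odd hodd Finset.univ _ (hV.setting_odd hodd ht hH) hF
      ⟨mt g, Subgroup.mem_map_of_mem _ hg, rfl⟩))

end SSpace

end Cfsg.Agent.ClassicalMax.OOWreath
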