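import Cfsg.Agent.ClassicalMax.OOWreath.OddGamma
import Cfsg.Agent.ClassicalMax.OOWreath.Induct
import Mathlib.NumberTheory.LegendreSymbol.QuadraticChar.Basic

/-!
Slots of dimension three: images of good axes are good, and centralisers of signed reflections permute the slots.
-/

set_option autoImplicit false
set_option linter.unusedSectionVars false
set_option linter.unusedSimpArgs false

namespace Cfsg.Agent.ClassicalMax.OOWreath

open Matrix Cfsg.Agent.ClassicalMax.TPow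
open Cfsg.Agent.ClassicalMax.SpWreath (GV GV_det)

variable {F : Type*} [Field F] {k t : ℕ} {J : Matrix (Fin k) (Fin k) F} [Finite F]

/-- in a finite field the product of two non-squares is a square -/
theorem isSquare_mul_nonsquares {a b : F} (ha0 : a ≠ 0) (hb0 : b ≠ 0) (ha : ¬ IsSquare a) (hb : ¬ IsSquare b) :
    IsSquare (a * b) := by
  classical
  letI := Fintype.ofFinite F
  rw [← quadraticChar_one_iff_isSquare (mul_ne_zero ha0 hb0), map_mul, quadraticChar_neg_one_iff_not_isSquare.2 ha,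
    quadraticChar_neg_one_iff_not_isSquare.2 hb]
  norm_num

variable {Sg : Finset (Fin t)} {G : Subgroup (GL (Fin t → Fin k) F)}

namespace Setting

variable (hS : Setting J Sg G)
include hS

/-- a permuting element keeps the existence of a singular line orthogonal to an axis -/
theorem sing_transfer (hodd : Odd k) {a : Matrix (Fin t → Fin k) (Fin t → Fin k) F} (ha : MG G a) (has : Std a)
    {j l : Fin t} {c w : Fin k → F} (hc : bf J c c ≠ 0) (hw : bf J w w ≠ 0)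
    (h : a * sl j (dl J c) * adjJ (GV J) a = sl l (dl J w)) (hx : ∃ x, x ≠ 0 ∧ bf J x x = 0 ∧ bf J c x = 0) :
    ∃ y, y ≠ 0 ∧ bf J y y = 0 ∧ bf J w y = 0 := by
  have hJ := hS.sj
  have hk := hJ.kk
  haveI : Nonempty (Fin k) := ⟨⟨0, by omega⟩⟩
  obtain ⟨x, hx0, hxx, hcx⟩ := hx
  obtain ⟨haM, ha1, ha2⟩ := hS.adj_inv ha
  have hsg : sg F k = -1 := by rw [sg, hodd.neg_one_pow]
  have e : a * sl j (dl J c) = sl l (dl J w) * a := by rw [← h, mul_assoc _ _ a, ha1, mul_one]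
  obtain ⟨l', hl'⟩ := has j
  obtain ⟨B, hB⟩ := hl' (dl J c)
  obtain rfl : l = l' := slot_map_eq (by omega) ha2 (dl_ne_scalar hJ hw) e hB
  obtain ⟨C, hC⟩ := hl' (rk J x x)
  have hC' : sl l C = a * sl j (rk J x x) * adjJ (GV J) a := by rw [hC, mul_assoc, ha2, mul_one]
  have hCC : C * C = 0 := sl_injective l (by
    rw [← sl_mul, hC', hS.conj_mul ha, sl_mul, rk_mul_rk, hxx, zero_smul, sl_zero, sl_zero, mul_zero, zero_mul])
  have hCa : adjJ J C = C := sl_injective l (by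
    rw [← adj_sl hJ.det, hC', hS.adj_mul', hS.adj_mul', hS.adj_adj', adj_sl hJ.det, hJ.adjJ_rk, mul_assoc])
  have hC0 : C ≠ 0 := fun e0 => by
    rw [e0, sl_zero] at hC'
    have h1 := congrArg (fun Z => adjJ (GV J) a * Z * a) hC'
    simp only [← mul_assoc, ha1, one_mul, mul_zero, zero_mul] at h1
    rw [mul_assoc, ha1, mul_one, ← sl_zero (F := F) (κ := Fin k) j] at h1
    exact hJ.rk_ne hx0 hx0 (sl_injective j h1).symm
  have hDC : dl J w * C = -C := by
    refine sl_injective l ?_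
    rw [← sl_mul, ← h, hC', hS.conj_mul ha, sl_mul, mul_rk, dl_perp hcx, hsg, rk_smul_left, sl_smul, mul_smul_comm,
      smul_mul_assoc, neg_one_smul, ← hC', ← neg_one_smul F C, sl_smul, neg_one_smul]
  obtain ⟨v, hv⟩ : ∃ v, C *ᵥ v ≠ 0 := by
    by_contra! h0
    exact hC0 (Matrix.toLin'.injective (LinearMap.ext fun v => by
      rw [Matrix.toLin'_apply, map_zero, LinearMap.zero_apply, h0 v]))
  refine ⟨C *ᵥ v, hv, ?_, ?_⟩
  · conv_lhs => rw [← hCa, hJ.bf_adjJ, hCa, mulVec_mulVec, hCC, zero_mulVec]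
    simp [bf]
  · have h1 := bf_iso hJ (A := dl J w) (by rw [hJ.dl_adj, dl_sq hw]) w (C *ᵥ v)
    rw [dl_self hw, hsg, neg_neg, one_smul, mulVec_mulVec, hDC, neg_mulVec, ← neg_one_smul F (C *ᵥ v),
      bf_smul_right] at h1
    exact (mul_eq_zero.1 (show (2 : F) * bf J w (C *ᵥ v) = 0 by linear_combination -h1)).resolve_left hJ.two

/-- a permuting element maps good axes to good axes -/
theorem good_image (hodd : Odd k) (hk3 : k = 3) {a : Matrix (Fin t → Fin k) (Fin t → Fin k) F} (ha : MG G a)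
    (has : Std a) {j l : Fin t} {c w : Fin k → F} (hc : Good J c) (hw : bf J w w ≠ 0)
    (h : a * sl j (dl J c) * adjJ (GV J) a = sl l (dl J w)) : Good J w := by
  have hJ := hS.sj
  refine ⟨hw, fun _ => ?_⟩
  have h' : adjJ (GV J) a * sl l (dl J w) * adjJ (GV J) (adjJ (GV J) a) = sl j (dl J c) := by
    rw [← h, hS.adj_adj']
    simp only [mul_assoc, (hS.adj_inv ha).2.1, mul_one]
    rw [← mul_assoc, (hS.adj_inv ha).2.1, one_mul]
  have hiff : IsSquare (-(bf J c c) * J.det) ↔ IsSquare (-(bf J w w) * J.det) := by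
    rw [← exists_sing_perp_iff hJ hk3 hc.1, ← exists_sing_perp_iff hJ hk3 hw]
    exact ⟨hS.sing_transfer hodd ha has hc.1 hw h,
      hS.sing_transfer hodd (hS.adj_inv ha).1 (hS.std_adj ha has) hw hc.1 h'⟩
  have hcd := hc.2 hodd
  by_cases hm : IsSquare (-1 : F)
  · have h1 : IsSquare (-(bf J c c) * J.det) := by
      rw [show -(bf J c c) * J.det = -1 * (bf J c c * J.det) by ring]; exact hm.mul hcd
    rw [show bf J w w * J.det = -1 * (-(bf J w w) * J.det) by ring]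
    exact hm.mul (hiff.1 h1)
  · have hd0 := hJ.det.ne_zero
    have h1 : ¬ IsSquare (-(bf J c c) * J.det) := fun h2 => hm (by
      have := h2.mul hcd.inv
      rwa [show -(bf J c c) * J.det * (bf J c c * J.det)⁻¹ = -1 by field_simp [hc.1]] at this)
    rw [show bf J w w * J.det = -1 * (-(bf J w w) * J.det) by ring]
    exact isSquare_mul_nonsquares (neg_ne_zero.2 one_ne_zero) (mul_ne_zero (neg_ne_zero.2 hw) hd0) hm
      fun h2 => h1 (hiff.2 h2)

variable (hodd : Odd k) (hk3 : k = 3) (hF : ¬ Full J Sg G)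
  (hG : ∀ j ∈ Sg, ∀ g, MG G g → (∀ A, Commute g (sl j A)) → Std g)
  (hIH : ∀ i ∈ Sg, ∀ Γ : Subgroup (GL (Fin t → Fin k) F), Setting J (Sg.erase i) Γ → ¬ Full J (Sg.erase i) Γ →
    ∀ g, MG Γ g → Std g)
include hodd hk3 hF hG hIH

/-- centralisers of signed reflections permute the slots -/
theorem centStd3 : CentStd J Sg G := by
  intro i hi u hu g hg hc
  have hJ := hS.sj
  haveI : Nonempty (Fin k) := ⟨⟨0, by omega⟩⟩
  obtain ⟨hga, hg1, hg2⟩ := hS.adj_inv hg
  have hsg : sg F k = -1 := by rw [sg, hodd.neg_one_pow]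
  obtain ⟨a, hao, ha, haa⟩ := hS.commute_line hu.1 hg hc
  obtain ⟨Γ, hSΓ, hmk⟩ := hS.exists_gamma (i := i) hu.1
  have haΓ : MG Γ a := (hmk a).2 ⟨hao, haa, g, hg, ha⟩
  have hΓstd : ∀ {M}, MG Γ M → Std M := fun {M} hM => by
    by_cases h2 : ∃ l ∈ Sg.erase i, ∃ m ∈ Sg.erase i, m ≠ l
    · obtain ⟨l, hl, m, hm, hml⟩ := h2
      exact hIH i hi Γ hSΓ (hS.gamma_not_full hodd hk3 hF hi hG hu.1 hmk hl hm hml) M hM
    push Not at h2
    rcases (Sg.erase i).eq_empty_or_nonempty with h0 | ⟨l, hl⟩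
    · exact hSΓ.std_of_single i (fun m hm => by simp [h0] at hm) hM
    · exact hSΓ.std_of_single l (fun m hm => h2 l hl m hm) hM
  refine std_of_but hJ hg2 i fun j hji => ?_
  by_cases hj : j ∈ Sg
  swap
  · exact ⟨j, fun A => ⟨A, (hS.out' hg hj A).eq⟩⟩
  have hjΓ : j ∈ Sg.erase i := Finset.mem_erase.2 ⟨hji, hj⟩
  refine hS.slot_image hg (fun c => Good J c) (fun c h => h.1) (fun c p e hc' hp he => ?_) ⟨u, hu⟩ fun c hcg => ?_
  · have hA := eS_iso hJ hp he
    exact ⟨by rw [bf_iso hJ hA.1]; exact hc'.1, fun h => by rw [bf_iso hJ hA.1]; exact hc'.2 h⟩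
  obtain ⟨l0, B, hB⟩ := hSΓ.std_conj_slot haΓ (hΓstd haΓ) j (dl J c)
  obtain ⟨l, w, hw, hlw⟩ := hSΓ.classify_slot hcg.1 haΓ hB
  have hlΓ : l ∈ Sg.erase i := hSΓ.mem_Sg (hlw ▸ hSΓ.conj_mem haΓ (hSΓ.refl j hjΓ c hcg)) (dl_ne_scalar hJ hw)
  have hli := Finset.ne_of_mem_erase hlΓ
  have hwg : Good J w := hSΓ.good_image hodd hk3 haΓ (hΓstd haΓ) hcg hw hlw
  obtain ⟨y, hy⟩ : ∃ y, y = g * sl j (dl J c) * adjJ (GV J) g := ⟨_, rfl⟩
  have hyM : MG G y := hy ▸ hS.conj_mem hg (hS.refl j hj c hcg)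
  obtain ⟨c', hc'⟩ : ∃ c', c' = sl (β := Fin t) l (dl J w) := ⟨_, rfl⟩
  have hc'M : MG G c' := hc' ▸ hS.refl l (Finset.mem_of_mem_erase hlΓ) w hwg
  have hym : Maps J i y u u c' := by
    have h1 := ((hS.maps_adj hg ha haa).mul (maps_commute (J := J) (fun A => sl_commute hji (dl J c) A) u)).mul ha
    rw [hy, hc', ← hlw]
    simpa only [mul_assoc] using h1
  have hc'm : Maps J i c' u u c' := maps_commute (fun A => hc' ▸ sl_commute hli _ A) u
  have hcc : c' * c' = 1 := by rw [hc', sl_mul, dl_sq hw, sl_one]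
  obtain ⟨A, hA⟩ := hS.axis3 hodd hk3 hF hG hi hu.1 _ (hyM.mul hc'M)
    (by rw [det_mul, hy, hS.det_conj hg, det_sl_dl hodd hJ j hcg.1, hc', det_sl_dl hodd hJ l hw, one_mul])
    (hcc ▸ hc'm.mul hym)
  have hye : y = sl i A * c' := by rw [← hA, mul_assoc, hcc, mul_one]
  have hAA : adjJ J A * A = 1 := hS.slot_iso (hA ▸ hyM.mul hc'M)
  have hys : Std y := hye ▸ (Std.sl i hAA).mul (hc' ▸ Std.sl l (dl_sq hw))
  rcases classify hS hcg.1 hg hy hys with ⟨l', v, hv, e⟩ | ⟨-, l1, l2, hne, h1, -, -⟩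
  · exact ⟨l', v, hv, hy ▸ e⟩
  exfalso
  -- the element fixes every slot
  obtain ⟨A0, hA0⟩ := exists_nonscalar (F := F) (k := k) (by omega)
  obtain ⟨C, hC⟩ := h1 A0
  obtain ⟨hya, hy1, hy2⟩ := hS.adj_inv hyM
  have hfix : ∀ l', ∀ X, ∃ Y, y * sl l' X = sl l' Y * y := by
    intro l' X
    obtain ⟨Y, hY⟩ : ∃ Y, c' * sl l' X = sl l' Y * c' := by
      rcases eq_or_ne l' l with rfl | h'
      · exact ⟨dl J w * X * dl J w, by
          rw [hc', sl_mul, sl_mul, mul_assoc _ (dl J w) (dl J w), dl_sq hw, mul_one]⟩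
      · exact ⟨X, hc' ▸ (sl_commute (Ne.symm h') _ X).eq⟩
    obtain ⟨Z, hZ⟩ : ∃ Z, sl i A * sl l' Y = sl l' Z * sl i A := by
      rcases eq_or_ne l' i with rfl | h'
      · exact ⟨A * Y * adjJ J A, by rw [sl_mul, sl_mul, mul_assoc _ _ A, hAA, mul_one]⟩
      · exact ⟨Y, (sl_commute (Ne.symm h') A Y).eq⟩
    exact ⟨Z, by rw [hye, mul_assoc, hY, ← mul_assoc, hZ, mul_assoc]⟩
  obtain ⟨C', hC'⟩ := hfix l1 A0
  exact hne (slot_map_eq (by omega) hy2 (image_nonscalar (by omega) hy1 hC hA0) hC hC').symm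

end Setting

end Cfsg.Agent.ClassicalMax.OOWreath
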