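import Cfsg.Agent.ClassicalMax.OOWreath.OddStab

/-!
An involution engine for elements fixing one or two axes of a slot of odd dimension at least five.
-/

set_option autoImplicit false
set_option linter.unusedSectionVars false
set_option linter.unusedSimpArgs false

namespace Cfsg.Agent.ClassicalMax.OOWreath

open Matrix Cfsg.Agent.ClassicalMax.TPow
open Cfsg.Agent.ClassicalMax.SpWreath (GV GV_det)

variable {F : Type*} [Field F] {k t : ℕ} {J : Matrix (Fin k) (Fin k) F}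

/-- orthogonal non-singular vectors are independent -/
theorem orth_li (hJ : SJ J) {n : ℕ} {f : Fin n → Fin k → F} (hf : ∀ a b, a ≠ b → bf J (f a) (f b) = 0)
    (hf0 : ∀ a, bf J (f a) (f a) ≠ 0) : LinearIndependent F f := by
  classical
  have hsum : ∀ (u : Fin k → F) (g : Fin n → Fin k → F) (s : Finset (Fin n)),
      bf J u (∑ a ∈ s, g a) = ∑ a ∈ s, bf J u (g a) := fun u g s => by
    induction s using Finset.induction_on with
    | empty => simp [bf]
    | insert a s ha ih => rw [Finset.sum_insert ha, Finset.sum_insert ha, bf_add_right, ih]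
  refine Fintype.linearIndependent_iff.2 fun g hg a => ?_
  have h := congrArg (bf J (f a)) hg
  rw [hsum, Finset.sum_eq_single a (fun b _ hb => by rw [bf_smul_right, hf a b (Ne.symm hb), mul_zero])
    (fun h => absurd (Finset.mem_univ a) h), bf_smul_right] at h
  have h0 : bf J (f a) (0 : Fin k → F) = 0 := by simp [bf]
  rw [h0] at h
  exact (mul_eq_zero.1 h).resolve_right (hf0 a)

theorem pj_mulVec (a x : Fin k → F) : pj J a *ᵥ x = ((bf J a a)⁻¹ * bf J a x) • a := by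
  rw [pj, smul_mulVec, rk_mulVec, smul_smul]

theorem pj_adj (hJ : SJ J) (a : Fin k → F) : adjJ J (pj J a) = pj J a := by rw [pj, adj_smul, hJ.adjJ_rk]

theorem pj_fix {a : Fin k → F} (ha : bf J a a ≠ 0) : pj J a *ᵥ a = a := by
  rw [pj_mulVec, inv_mul_cancel₀ ha, one_smul]

theorem pj_zero {a x : Fin k → F} (h : bf J a x = 0) : pj J a *ᵥ x = 0 := by
  rw [pj_mulVec, h, mul_zero, zero_smul]

/-- a non-zero self-adjoint idempotent has a non-singular fixed vector -/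
theorem peel (hJ : SJ J) {P : Matrix (Fin k) (Fin k) F} (hP0 : P ≠ 0) (hadj : adjJ J P = P) (hPP : P * P = P) :
    ∃ v, bf J v v ≠ 0 ∧ P *ᵥ v = v ∧ adjJ J (P - pj J v) = P - pj J v ∧
      (P - pj J v) * (P - pj J v) = P - pj J v := by
  obtain ⟨v, hv, hPv⟩ : ∃ v, bf J v v ≠ 0 ∧ P *ᵥ v = v := by
    by_contra! h
    have h0 : ∀ x, bf J (P *ᵥ x) (P *ᵥ x) = 0 := fun x => by
      by_contra hne
      exact h _ hne (by rw [mulVec_mulVec, hPP])
    refine hP0 (Matrix.toLin'.injective (LinearMap.ext fun x => ?_))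
    rw [Matrix.toLin'_apply, map_zero, LinearMap.zero_apply]
    by_contra hne
    obtain ⟨y, hy⟩ := exists_bf_ne J hJ.det hne
    have e := h0 (x + y)
    rw [mulVec_add, bf_add_left, bf_add_right, bf_add_right, h0 x, h0 y, hJ.comm (P *ᵥ y) (P *ᵥ x), zero_add,
      add_zero, ← two_mul] at e
    have e2 := (mul_eq_zero.1 e).resolve_left hJ.two
    rw [← hJ.bf_adjJ, hadj, mulVec_mulVec, hPP] at e2
    exact hy e2
  refine ⟨v, hv, hPv, by rw [adj_sub, hadj, pj_adj hJ], ?_⟩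
  have e1 : P * pj J v = pj J v := by rw [pj, mul_smul_comm, mul_rk, hPv]
  have e2 : pj J v * P = pj J v := by rw [pj, smul_mul_assoc, hJ.rk_mul, hadj, hPv]
  rw [sub_mul, mul_sub, mul_sub, hPP, e1, e2, pj_mul hv]
  abel

/-- a line or two orthogonal axes -/
theorem line_or_two (hJ : SJ J) {P : Matrix (Fin k) (Fin k) F} (hP0 : P ≠ 0) (hadj : adjJ J P = P) (hPP : P * P = P) :
    (∃ v, bf J v v ≠ 0 ∧ P *ᵥ v = v ∧ P = pj J v) ∨
      ∃ v w, bf J v v ≠ 0 ∧ bf J w w ≠ 0 ∧ bf J v w = 0 ∧ P *ᵥ v = v ∧ P *ᵥ w = w := by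
  obtain ⟨v, hv, hPv, h1, h2⟩ := peel hJ hP0 hadj hPP
  by_cases h0 : P - pj J v = 0
  · exact Or.inl ⟨v, hv, hPv, sub_eq_zero.1 h0⟩
  obtain ⟨w, hw, hPw, -, -⟩ := peel hJ h0 h1 h2
  have hvw : bf J v w = 0 := by
    rw [← hPw, ← hJ.bf_adjJ, h1, sub_mulVec, hPv, pj_fix hv, sub_self, bf, zero_dotProduct]
  refine Or.inr ⟨v, w, hv, hw, hvw, hPv, ?_⟩
  conv_rhs => rw [← hPw]
  rw [sub_mulVec, pj_zero hvw, sub_zero]

theorem rank_pair_le [Finite F] (i : Fin t) {u e : Fin k → F} (hue : bf J u e = 0) :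
    k * (sl i (rf J u * rf J e) - 1).rank ≤ 2 * k ^ t := by
  obtain ⟨c, hc⟩ : ∃ c, c = -2 * (bf J u u)⁻¹ := ⟨_, rfl⟩
  obtain ⟨d, hd⟩ : ∃ d, d = -2 * (bf J e e)⁻¹ := ⟨_, rfl⟩
  have e1 : rf J u * rf J e = 1 + c • rk J u u + d • rk J e e := by
    rw [rf_eq, rf_eq, sub_mul, mul_sub, mul_sub, one_mul, one_mul, mul_one, smul_mul_assoc, mul_smul_comm,
      pj_orth hue, smul_zero, smul_zero, sub_zero, pj, pj, hc, hd]
    module
  rw [e1, sl_add, sl_add, sl_one, sl_smul, sl_smul, add_assoc, add_sub_cancel_left]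
  have h1 := rank_sl_rk_le J i u u
  have h2 := rank_sl_rk_le J i e e
  have h3 := rank_add_le' (c • sl i (rk J u u)) (d • sl i (rk J e e))
  have h4 := rank_smul_le c (sl i (rk J u u))
  have h5 := rank_smul_le d (sl i (rk J e e))
  calc k * (c • sl i (rk J u u) + d • sl i (rk J e e)).rank
      ≤ k * ((sl i (rk J u u)).rank + (sl i (rk J e e)).rank) := Nat.mul_le_mul_left _ (by omega)
    _ ≤ 2 * k ^ t := by rw [Nat.mul_add]; omega

variable [Finite F]

theorem rank_neg_three (hJ : SJ J) (i : Fin t) {n : ℕ} (hn : n + 3 ≤ k) (fv : Fin n → Fin k → F)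
    (hf : ∀ a b, a ≠ b → bf J (fv a) (fv b) = 0) (hf0 : ∀ a, bf J (fv a) (fv a) ≠ 0)
    {C : Matrix (Fin k) (Fin k) F} (hC : ∀ v, (∀ a, bf J (fv a) v = 0) → C *ᵥ v = (-2 : F) • v) :
    3 * k ^ t ≤ k * (sl i C).rank := by
  obtain ⟨a, ha, ha'⟩ := hJ.exists_orth (n := n) (by omega) fv hf hf0
  obtain ⟨h1, h1'⟩ := orth_cons hJ hf hf0 ha ha'
  obtain ⟨b, hb, hb'⟩ := hJ.exists_orth (n := n + 1) (by omega) _ h1 h1'
  obtain ⟨h2, h2'⟩ := orth_cons hJ h1 h1' hb hb'
  obtain ⟨c, hc, hc'⟩ := hJ.exists_orth (n := n + 2) (by omega) _ h2 h2'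
  obtain ⟨h3, h3'⟩ := fam3 hJ ha hb hc (by simpa using hb' 0) (by simpa using hc' 1) (by simpa using hc' 0)
  have hab : ∀ x, bf J (fv x) b = 0 := fun x => by simpa using hb' x.succ
  have hac : ∀ x, bf J (fv x) c = 0 := fun x => by simpa using hc' x.succ.succ
  refine rank_sl_indep i (w := ![a, b, c]) ?_
  rw [show (fun x => C *ᵥ ![a, b, c] x) = fun x => (-2 : F) • ![a, b, c] x by
    funext x; fin_cases x <;> first | exact hC a ha' | exact hC b hab | exact hC c hac]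
  exact (orth_li hJ h3 h3').map' ((-2 : F) • LinearMap.id) (LinearMap.ker_eq_bot.2
    (smul_right_injective _ (neg_ne_zero.2 hJ.two)))

variable {Sg : Finset (Fin t)} {G : Subgroup (GL (Fin t → Fin k) F)}

variable (J) in
/-- elements fixing a number of orthogonal axes lie in the slot -/
def FixSlot (G : Subgroup (GL (Fin t → Fin k) F)) (i : Fin t) (n : ℕ) : Prop :=
  ∀ h, MG G h → h.det = 1 → ∀ f : Fin n → Fin k → F, (∀ a b, a ≠ b → bf J (f a) (f b) = 0) →
    (∀ a, bf J (f a) (f a) ≠ 0) → (∀ a, Maps J i h (f a) (f a) 1) → ∃ A, h = sl i A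

namespace Setting

variable (hS : Setting J Sg G)
include hS

theorem eS_fix {p f v : Fin k → F} (hp : bf J p p = 0) (hpf : bf J p f = 0) (hvp : bf J v p = 0)
    (hvf : bf J v f = 0) : eS J p f *ᵥ v = v := by
  have hJ := hS.sj
  rw [hJ.eS_eq hp hpf, xp, add_mulVec, add_mulVec, one_mulVec, sub_mulVec, smul_mulVec, rk_mulVec, rk_mulVec,
    rk_mulVec, hJ.comm p v, hJ.comm f v, hvp, hvf]
  simp

theorem pj_commute {i : Fin t} {v : Fin k → F} {h : Matrix (Fin t → Fin k) (Fin t → Fin k) F} (hh : MG G h)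
    (hf : Maps J i h v v 1) : Commute h (sl i (pj J v)) := by
  have hc : Commute h (sl i (rk J v v)) := by
    show _ = _
    rw [(hS.fix_left hh hf v).1, hf v, mul_one]
  rw [pj, sl_smul]
  exact hc.smul_right _

/-- the dihedral group of two involutions whose product negates an axis -/
theorem dihedral {i : Fin t} {u : Fin k → F} (hu : u ≠ 0)
    {y τ : Matrix (Fin t → Fin k) (Fin t → Fin k) F} (hy : MG G y) (hτ : MG G τ) (hyy : y * y = 1) (hττ : τ * τ = 1)
    (hyd : y.det = 1) (hτd : τ.det = 1) (hwu : Maps J i (y * τ) u ((-1 : F) • u) 1) :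
    ∃ (z : Matrix (Fin t → Fin k) (Fin t → Fin k) F) (r : ℕ), MG G z ∧ z.det = 1 ∧ z = (y * τ) ^ r ∧ z ≠ 1 ∧
      z * z = 1 ∧ Commute z y ∧ Commute z τ ∧ ∀ a, (y * τ) ^ a * τ * (y * τ) ^ a = τ := by
  have hJ := hS.sj
  obtain ⟨w, hw⟩ : ∃ w, w = y * τ := ⟨_, rfl⟩
  rw [← hw] at hwu ⊢
  have hwM : MG G w := hw ▸ hy.mul hτ
  have key : ∀ a, w ^ a * τ * w ^ a = τ := fun a => by
    induction a with
    | zero => rw [pow_zero, one_mul, mul_one]
    | succ a ih =>
      have e : w * τ * w = τ := by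
        rw [hw, mul_assoc y τ τ, hττ, mul_one, ← mul_assoc, hyy, one_mul]
      calc w ^ (a + 1) * τ * w ^ (a + 1) = w ^ a * (w * τ * w) * w ^ a := by
            conv_lhs => arg 2; rw [pow_succ']
            rw [pow_succ]; simp only [mul_assoc]
        _ = τ := by rw [e, ih]
  obtain ⟨γ, hγ, hγw⟩ := hwM
  have hpw : ∀ j : ℕ, Maps J i (w ^ j) u ((-1 : F) ^ j • u) 1 := fun j => by
    induction j with
    | zero => rw [pow_zero, pow_zero, one_smul]; exact Maps.one i u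
    | succ j ih =>
      have := hwu.mul (maps_scale ih (-1))
      rwa [mul_one, smul_smul, ← pow_succ', ← pow_succ] at this
  obtain ⟨m, hm⟩ : ∃ m, m = orderOf γ := ⟨_, rfl⟩
  have hwm : w ^ m = 1 := by rw [← hγw, ← Units.val_pow_eq_pow_val, hm, pow_orderOf_eq_one, Units.val_one]
  have hev : Even m := by
    rcases Nat.even_or_odd m with h | h
    · exact h
    exfalso
    have h1 := hpw m
    rw [hwm, h.neg_one_pow] at h1
    have h2 := Maps.one (J := J) i u
    haveI : Nonempty (Fin k) := ⟨⟨0, by have := hJ.kk; omega⟩⟩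
    have h3 : Maps J i (sl i (1 : Matrix (Fin k) (Fin k) F)) u ((-1 : F) • u) 1 := by rw [sl_one]; exact h1
    have h4 := maps_slot_eq hJ h3
    rw [one_mulVec] at h4
    have h5 : (2 : F) • u = 0 := by linear_combination (norm := module) h4
    exact hu ((smul_eq_zero.1 h5).resolve_left hJ.two)
  obtain ⟨r, hr⟩ := hev
  refine ⟨w ^ r, r, ⟨γ ^ r, G.pow_mem hγ r, by rw [Units.val_pow_eq_pow_val, hγw]⟩, ?_, rfl, fun e => ?_,
    by rw [← pow_add, ← hr, hwm], ?_, ?_, key⟩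
  · rw [det_pow, hw, det_mul, hyd, hτd, one_mul, one_pow]
  · have h1 : γ ^ r = 1 := Units.ext (by rw [Units.val_pow_eq_pow_val, hγw, e, Units.val_one])
    have h2 := orderOf_dvd_of_pow_eq_one h1
    rw [← hm] at h2
    have hm0 : 0 < m := hm ▸ orderOf_pos γ
    exact absurd (Nat.le_of_dvd (by omega) h2) (by omega)
  · have hzτ : w ^ r * τ = τ * w ^ r := by
      calc w ^ r * τ = w ^ r * τ * (w ^ r * w ^ r) := by rw [← pow_add, ← hr, hwm, mul_one]
        _ = _ := by rw [← mul_assoc, key]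
    show w ^ r * y = y * w ^ r
    rw [show y = w * τ by rw [hw, mul_assoc, hττ, mul_one], ← mul_assoc, (Commute.pow_self w r).eq, mul_assoc, hzτ,
      mul_assoc]
  · show w ^ r * τ = τ * w ^ r
    calc w ^ r * τ = w ^ r * τ * (w ^ r * w ^ r) := by rw [← pow_add, ← hr, hwm, mul_one]
      _ = _ := by rw [← mul_assoc, key]

theorem det_neg_one (hodd : Odd k) (i : Fin t) :
    (sl i ((-1 : F) • (1 : Matrix (Fin k) (Fin k) F))).det = -1 := by
  rw [det_sl, det_smul, det_one, mul_one, Fintype.card_fin, hodd.neg_one_pow, (odd_pow_k hodd _).neg_one_pow]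

variable {i : Fin t}
variable (hodd : Odd k) (hk5 : 5 ≤ k) (hF : ¬ Full J Sg G)
  (hG : ∀ j ∈ Sg, ∀ g, MG G g → (∀ A, Commute g (sl j A)) → Std g) (hi : i ∈ Sg)
include hodd hk5 hF hG hi

theorem turns5 : Turns J G i := fun h => absurd h (by omega)

theorem root_std {p f : Fin k → F} (hp0 : p ≠ 0) (hp : bf J p p = 0) (hpf : bf J p f = 0) (hff : bf J f f ≠ 0)
    {g : Matrix (Fin t → Fin k) (Fin t → Fin k) F} (hg : MG G g) {X : Matrix (Fin k) (Fin k) F}
    (h : g * sl i (eS J p f) * adjJ (GV J) g = sl i X) : Std g := by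
  obtain ⟨x, T, hx0, hx, hT, hmap⟩ := hS.line_of_root hp0 hp hpf hff hg h
  exact hS.stab hodd hF hG hi (hS.turns5 hodd hk5 hF hG hi) hp0 hp hx0 hx hg hT hmap

variable {m : ℕ} (hm : m + 5 ≤ k) (hK : FixSlot J G i (m + 2)) {fv : Fin (m + 1) → Fin k → F}
  (hf : ∀ a b, a ≠ b → bf J (fv a) (fv b) = 0) (hf0 : ∀ a, bf J (fv a) (fv a) ≠ 0)
include hm hK hf hf0

/-- an element carrying an axis orthogonal to the fixed ones to another -/
theorem ce {g : Matrix (Fin t → Fin k) (Fin t → Fin k) F} (hg : MG G g) (hfix : ∀ a, Maps J i g (fv a) (fv a) 1)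
    {e e' : Fin k → F} (he : bf J e e ≠ 0) (hfe : ∀ a, bf J (fv a) e = 0) (he' : bf J e' e' ≠ 0)
    (hfe' : ∀ a, bf J (fv a) e' = 0) (hge : g * sl i (pj J e) = sl i (pj J e') * g) : Std g := by
  have hJ := hS.sj
  obtain ⟨h1, h1'⟩ := orth_cons hJ hf hf0 he hfe
  obtain ⟨p, f, hp0, hp, hpf, hff, hperp⟩ := exists_root_perp hJ (n := m + 2) (by omega) _ h1 h1'
  obtain ⟨h2, h2'⟩ := orth_cons hJ hf hf0 he' hfe'
  obtain ⟨hr, -⟩ := hS.mg_root hi hp hpf
  obtain ⟨A, hA⟩ := hK _ (hS.conj_mem hg hr) (by rw [hS.det_conj hg, det_sl_eS hJ i hp hpf]) _ h2 h2' fun a => by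
    induction a using Fin.cases with
    | zero =>
      rw [Fin.cons_zero]
      refine hS.fix_image hg hge ?_ (pj_fix he')
      rw [pj, mul_smul_comm, mul_rk, hS.eS_fix hp hpf (by simpa using (hperp 0).1) (by simpa using (hperp 0).2)]
    | succ a =>
      rw [Fin.cons_succ]
      exact hS.fix_self hg (hfix a) (hS.eS_fix hp hpf (by simpa using (hperp a.succ).1)
        (by simpa using (hperp a.succ).2))
  exact hS.root_std hodd hk5 hF hG hi hp0 hp hpf hff hg hA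

/-- an element commuting with a projection with two axes on both sides -/
theorem parts {y : Matrix (Fin t → Fin k) (Fin t → Fin k) F} (hy : MG G y)
    (hfix : ∀ a, Maps J i y (fv a) (fv a) 1) {P : Matrix (Fin k) (Fin k) F} (hadj : adjJ J P = P) (hPP : P * P = P)
    (hPf : ∀ a, P *ᵥ fv a = 0) (hc : Commute y (sl i P)) {v w c d : Fin k → F} (hv : bf J v v ≠ 0)
    (hw : bf J w w ≠ 0) (hvw : bf J v w = 0) (hPv : P *ᵥ v = v) (hPw : P *ᵥ w = w) (hcc : bf J c c ≠ 0)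
    (hdd : bf J d d ≠ 0) (hcd : bf J c d = 0) (hPc : P *ᵥ c = 0) (hPd : P *ᵥ d = 0) (hfc : ∀ a, bf J (fv a) c = 0)
    (hfd : ∀ a, bf J (fv a) d = 0) : Std y := by
  have hJ := hS.sj
  have hker : ∀ {x z}, P *ᵥ x = x → P *ᵥ z = 0 → bf J x z = 0 := fun {x z} hx hz => by
    rw [← hx, ← hadj, hJ.bf_adjJ, hz]; simp [bf]
  obtain ⟨p, f, hp0, hp, hpf, hff, hperp⟩ := exists_root3 hJ (hf0 0) hcc hdd (hfc 0) (hfd 0) hcd
  have hzero : ∀ x, P *ᵥ x = x → bf J x p = 0 ∧ bf J x f = 0 := fun x hx =>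
    hperp x (hker hx (hPf 0)) (hker hx hPc) (hker hx hPd)
  have hrP : eS J p f * P = P := Matrix.toLin'.injective (LinearMap.ext fun x => by
    rw [Matrix.toLin'_apply, Matrix.toLin'_apply, ← mulVec_mulVec]
    have hx : P *ᵥ (P *ᵥ x) = P *ᵥ x := by rw [mulVec_mulVec, hPP]
    exact hS.eS_fix hp hpf (hzero _ hx).1 (hzero _ hx).2)
  have hpfix : ∀ a : Fin m, eS J p f *ᵥ fv a.succ = fv a.succ := fun a => by
    have hfv : ∀ {z}, (∀ b, bf J (fv b) z = 0) → bf J (fv a.succ) z = 0 := fun h => h _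
    obtain ⟨h1, h2⟩ := hperp (fv a.succ) (hf _ _ (Fin.succ_ne_zero a)) (hfc _) (hfd _)
    exact hS.eS_fix hp hpf h1 h2
  obtain ⟨hr, -⟩ := hS.mg_root hi hp hpf
  have h1 := orth_cons hJ (fv := fun a : Fin m => fv a.succ) (fun a b hab => hf _ _ fun e => hab (Fin.succ_injective _ e))
    (fun a => hf0 _) hw (fun a => by rw [hJ.comm]; exact hker hPw (hPf _))
  have h2 := orth_cons hJ h1.1 h1.2 hv (fun a => by
    induction a using Fin.cases with
    | zero => simpa [hJ.comm w v] using hvw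
    | succ a => rw [Fin.cons_succ, hJ.comm]; exact hker hPv (hPf _))
  obtain ⟨A, hA⟩ := hK _ (hS.conj_mem hy hr) (by rw [hS.det_conj hy, det_sl_eS hJ i hp hpf]) _ h2.1 h2.2 fun a => by
    induction a using Fin.cases with
    | zero => rw [Fin.cons_zero]; exact hS.fix_image hy hc.eq hrP hPv
    | succ a =>
      induction a using Fin.cases with
      | zero => rw [Fin.cons_succ, Fin.cons_zero]; exact hS.fix_image hy hc.eq hrP hPw
      | succ a => rw [Fin.cons_succ, Fin.cons_succ]; exact hS.fix_self hy (hfix _) (hpfix a)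
  exact hS.root_std hodd hk5 hF hG hi hp0 hp hpf hff hy hA

/-- an element conjugating a half turn to a slot element -/
theorem uf_pair {a b : Fin k → F} (ha : bf J a a ≠ 0) (hb : bf J b b ≠ 0) (hab : bf J a b = 0)
    (hfa : ∀ x, bf J (fv x) a = 0) (hfb : ∀ x, bf J (fv x) b = 0)
    {h : Matrix (Fin t → Fin k) (Fin t → Fin k) F} (hh : MG G h) (hfix : ∀ x, Maps J i h (fv x) (fv x) 1)
    {Y : Matrix (Fin k) (Fin k) F} (hY : h * sl i (rf J a * rf J b) = sl i Y * h) : Std h := by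
  have hJ := hS.sj
  haveI : Nonempty (Fin k) := ⟨⟨0, by omega⟩⟩
  have h2 := hJ.two
  obtain ⟨hha, hh1, hh2⟩ := hS.adj_inv hh
  have hba : bf J b a = 0 := by rw [hJ.comm, hab]
  obtain ⟨P0, hP0⟩ : ∃ P, P = pj J a + pj J b := ⟨_, rfl⟩
  obtain ⟨P, hP⟩ : ∃ P, P = (2 : F)⁻¹ • (1 - Y) ∧ True := ⟨_, rfl, trivial⟩
  obtain ⟨hP, -⟩ := hP
  have e0 : P0 = (2 : F)⁻¹ • (1 - rf J a * rf J b) := by
    rw [hP0, rf_eq, rf_eq, sub_mul, mul_sub, mul_sub, one_mul, one_mul, mul_one, smul_mul_assoc, mul_smul_comm,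
      pj_orth hab, smul_zero, smul_zero, sub_zero]
    match_scalars <;> field_simp <;> ring
  have hsl : ∀ X : Matrix (Fin k) (Fin k) F, sl (β := Fin t) i ((2 : F)⁻¹ • (1 - X)) = (2 : F)⁻¹ • (1 - sl i X) :=
    fun X => by
      rw [sl_smul, sub_eq_add_neg, ← neg_one_smul F X, sl_add, sl_smul, sl_one, neg_one_smul, ← sub_eq_add_neg]
  have hgP : h * sl i P0 = sl i P * h := by
    rw [e0, hP, hsl, hsl, mul_smul_comm, smul_mul_assoc, mul_sub, sub_mul, mul_one, one_mul, hY]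
  have hPs : sl i P = h * sl i P0 * adjJ (GV J) h := by rw [hgP, mul_assoc, hh2, mul_one]
  have hP0P : P0 * P0 = P0 := by
    rw [hP0, add_mul, mul_add, mul_add, pj_mul ha, pj_mul hb, pj_orth hab, pj_orth hba, add_zero, zero_add]
  have hadj : adjJ J P = P := by
    refine sl_injective i ?_
    rw [← adj_sl hJ.det, hPs, hS.adj_mul', hS.adj_mul', hS.adj_adj', adj_sl hJ.det, hP0, adj_add, pj_adj hJ,
      pj_adj hJ, mul_assoc]
  have hPP : P * P = P := by
    refine sl_injective i ?_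
    rw [← sl_mul, hPs, show h * sl i P0 * adjJ (GV J) h * (h * sl i P0 * adjJ (GV J) h) =
      h * (sl i P0 * (adjJ (GV J) h * h) * sl i P0) * adjJ (GV J) h by simp only [mul_assoc], hh1, mul_one, sl_mul,
      hP0P]
  have hPne : P ≠ 0 := fun e => by
    rw [e, sl_zero] at hPs
    have h1 := congrArg (fun Z => adjJ (GV J) h * Z * h) hPs
    simp only [← mul_assoc, hh1, one_mul, mul_zero, zero_mul] at h1
    rw [mul_assoc, hh1, mul_one, ← sl_zero (F := F) (κ := Fin k) i] at h1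
    have h3 := congrArg (· *ᵥ a) (sl_injective i h1)
    simp only [zero_mulVec, hP0, add_mulVec, pj_fix ha, pj_zero hba, add_zero] at h3
    exact ha (by rw [← h3]; simp [bf])
  have hPf : ∀ x, P *ᵥ fv x = 0 := fun x => by
    refine maps_slot_eq hJ (i := i) fun z => ?_
    have h1 := hfix x z
    rw [mul_one] at h1
    rw [hPs, mul_assoc, ← h1, ← mul_assoc (adjJ (GV J) h), hh1, one_mul, mul_assoc, sl_mul, mul_rk, hP0, add_mulVec,
      pj_zero (by rw [hJ.comm]; exact hfa x), pj_zero (by rw [hJ.comm]; exact hfb x), add_zero,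
      show rk J (0 : Fin k → F) z = 0 by rw [rk, zero_vecMulVec], sl_zero, mul_zero, zero_mul]
  rcases line_or_two hJ hPne hadj hPP with ⟨v, -, -, hPv⟩ | ⟨v, w, hv, hw, hvw, hPv, hPw⟩
  · exfalso
    have hr1 : (sl i P0).rank ≤ (sl i P).rank := by
      have e : sl i P0 = adjJ (GV J) h * sl i P * h := by
        rw [mul_assoc, ← hgP, ← mul_assoc, hh1, one_mul]
      conv_lhs => rw [e]
      exact (rank_mul_le_left _ _).trans (rank_mul_le_right _ _)
    have hlow : 2 * k ^ t ≤ k * (sl i P0).rank := by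
      refine rank_sl_indep i (w := ![a, b]) ?_
      rw [show (fun x => P0 *ᵥ ![a, b] x) = ![a, b] by
        funext x; fin_cases x <;> simp [hP0, add_mulVec, pj_fix ha, pj_fix hb, pj_zero hab, pj_zero hba]]
      exact orth_li hJ (fam2 hJ ha hb hab).1 (fam2 hJ ha hb hab).2
    have hup : k * (sl i P).rank ≤ k ^ t := by
      rw [hPv, pj, sl_smul]
      exact (Nat.mul_le_mul_left _ (rank_smul_le _ _)).trans (rank_sl_rk_le J i v v)
    have h0 : 0 < k ^ t := pow_pos (by omega) t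
    have := Nat.mul_le_mul_left k hr1
    omega
  have hfsucc : ∀ a b : Fin m, a ≠ b → bf J (fv a.succ) (fv b.succ) = 0 :=
    fun a b hab => hf _ _ fun e => hab (Fin.succ_injective _ e)
  obtain ⟨g1, g1'⟩ := orth_cons hJ (fv := fun x : Fin m => fv x.succ) hfsucc (fun x => hf0 _) hb (fun x => hfb _)
  obtain ⟨g2, g2'⟩ := orth_cons hJ g1 g1' ha (fun x => by
    induction x using Fin.cases with
    | zero => simpa using hba
    | succ x => simpa using hfa x.succ)
  obtain ⟨p, f, hp0, hp, hpf, hff, hperp⟩ := exists_root_perp hJ (n := m + 2) (by omega) _ g2 g2'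
  have hpa := hperp 0
  have hpb := hperp 1
  simp only [Fin.cons_zero] at hpa
  have hpb' : bf J b p = 0 ∧ bf J b f = 0 := by simpa using hpb
  have hrP : eS J p f * P0 = P0 := by
    rw [hP0, mul_add, pj, pj, mul_smul_comm, mul_smul_comm, mul_rk, mul_rk, hS.eS_fix hp hpf hpa.1 hpa.2,
      hS.eS_fix hp hpf hpb'.1 hpb'.2]
  have hker : ∀ {x}, P *ᵥ x = x → ∀ z, P *ᵥ z = 0 → bf J x z = 0 := fun {x} hx z hz => by
    rw [← hx, ← hadj, hJ.bf_adjJ, hz]; simp [bf]
  have h1 := orth_cons hJ (fv := fun x : Fin m => fv x.succ) hfsucc (fun x => hf0 _) hw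
    (fun x => by rw [hJ.comm]; exact hker hPw _ (hPf _))
  have h3 := orth_cons hJ h1.1 h1.2 hv (fun x => by
    induction x using Fin.cases with
    | zero => simpa [hJ.comm w v] using hvw
    | succ x => rw [Fin.cons_succ, hJ.comm]; exact hker hPv _ (hPf _))
  obtain ⟨hr, -⟩ := hS.mg_root hi hp hpf
  obtain ⟨A, hA⟩ := hK _ (hS.conj_mem hh hr) (by rw [hS.det_conj hh, det_sl_eS hJ i hp hpf]) _ h3.1 h3.2 fun x => by
    induction x using Fin.cases with
    | zero => rw [Fin.cons_zero]; exact hS.fix_image hh hgP hrP hPv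
    | succ x =>
      induction x using Fin.cases with
      | zero => rw [Fin.cons_succ, Fin.cons_zero]; exact hS.fix_image hh hgP hrP hPw
      | succ x =>
        rw [Fin.cons_succ, Fin.cons_succ]
        exact hS.fix_self hh (hfix _) (hS.eS_fix hp hpf (by simpa using (hperp x.succ.succ).1)
          (by simpa using (hperp x.succ.succ).2))
  exact hS.root_std hodd hk5 hF hG hi hp0 hp hpf hff hh hA

/-- an element commuting with a slot involution permutes the slots unless the involution is scalar off the axes -/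
theorem z_split {y : Matrix (Fin t → Fin k) (Fin t → Fin k) F} (hy : MG G y)
    (hfix : ∀ x, Maps J i y (fv x) (fv x) 1) {Z : Matrix (Fin k) (Fin k) F} (hZa : adjJ J Z = Z) (hZZ : Z * Z = 1)
    (hcZ : Commute y (sl i Z)) {ε : F} (hZf : ∀ x, Z *ᵥ fv x = ε • fv x) {Pr : Matrix (Fin k) (Fin k) F}
    (hPr : Pr = ∑ x, pj J (fv x)) : Std y ∨ Z * (1 - Pr) = 1 - Pr ∨ Z * (1 - Pr) = -(1 - Pr) := by
  have hJ := hS.sj
  have h2 := hJ.two
  have hPra : adjJ J Pr = Pr := by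
    rw [hPr]
    refine Finset.sum_induction _ (fun X => adjJ J X = X) (fun X Y hX hY => by rw [adj_add, hX, hY]) adj_zero
      fun x _ => pj_adj hJ _
  have hPrf : ∀ x, Pr *ᵥ fv x = fv x := fun x => by
    rw [hPr, sum_mulVec, Finset.sum_eq_single x (fun y _ hy => pj_zero (hf y x hy))
      (fun h => absurd (Finset.mem_univ x) h), pj_fix (hf0 x)]
  have hPrPr : Pr * Pr = Pr := by
    conv_lhs => arg 2; rw [hPr]
    conv_rhs => rw [hPr]
    rw [Finset.mul_sum]
    exact Finset.sum_congr rfl fun x _ => by rw [pj, mul_smul_comm, mul_rk, hPrf]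
  have hZPr : Z * Pr = ε • Pr := by
    rw [hPr, Finset.mul_sum, Finset.smul_sum]
    exact Finset.sum_congr rfl fun x _ => by rw [pj, mul_smul_comm, mul_rk, hZf, rk_smul_left, smul_comm]
  have hPrZ : Pr * Z = ε • Pr := by
    have := congrArg (adjJ J) hZPr
    rwa [adj_mul hJ.det, hZa, hPra, adj_smul, hPra] at this
  have hcPr : Commute y (sl i Pr) := by
    rw [hPr, sl_sum]
    exact Commute.sum_right _ _ _ fun x _ => hS.pj_commute hy (hfix x)
  -- the two parts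
  have hW : (1 - Pr) * (1 - Pr) = 1 - Pr := by rw [sub_mul, mul_sub, mul_sub, hPrPr]; simp
  have hWZ : (1 - Pr) * Z = Z * (1 - Pr) := by rw [sub_mul, mul_sub, one_mul, mul_one, hZPr, hPrZ]
  have part : ∀ s : F, s * s = 1 → ∀ P, P = (2 : F)⁻¹ • (1 - Pr + s • (Z * (1 - Pr))) →
      adjJ J P = P ∧ P * P = P ∧ (∀ x, P *ᵥ fv x = 0) ∧ Commute y (sl i P) := by
    intro s hs P hP
    refine ⟨?_, ?_, fun x => ?_, ?_⟩
    · rw [hP, adj_smul, adj_add, adj_smul, adj_mul hJ.det, adj_sub, adj_one hJ.det, hPra, hZa, hWZ]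
    · rw [hP]
      have e1 : Z * (1 - Pr) * (Z * (1 - Pr)) = 1 - Pr := by
        rw [mul_assoc, ← mul_assoc (1 - Pr), hWZ, mul_assoc Z (1 - Pr), hW, ← mul_assoc, hZZ, one_mul]
      have e2 : (1 - Pr) * (Z * (1 - Pr)) = Z * (1 - Pr) := by rw [← mul_assoc, hWZ, mul_assoc, hW]
      have e3 : Z * (1 - Pr) * (1 - Pr) = Z * (1 - Pr) := by rw [mul_assoc, hW]
      simp only [smul_mul_assoc, mul_smul_comm, add_mul, mul_add, hW, e1, e2, e3, smul_smul, hs, one_smul]
      match_scalars <;> field_simp <;> first | ring1 | linear_combination hs | linear_combination -hs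
    · have e : (1 - Pr) *ᵥ fv x = 0 := by rw [sub_mulVec, one_mulVec, hPrf, sub_self]
      rw [hP, smul_mulVec, add_mulVec, smul_mulVec, ← mulVec_mulVec, e, mulVec_zero, smul_zero, add_zero, smul_zero]
    · rw [hP, sl_smul, sl_add, sl_smul, ← sl_mul, sub_eq_add_neg, ← neg_one_smul F Pr, sl_add, sl_smul, sl_one]
      exact ((((Commute.one_right y).add_right (hcPr.smul_right _))).add_right
        ((hcZ.mul_right ((Commute.one_right y).add_right (hcPr.smul_right _))).smul_right _)).smul_right _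
  obtain ⟨P, hP⟩ : ∃ P, P = (2 : F)⁻¹ • (1 - Pr + (1 : F) • (Z * (1 - Pr))) := ⟨_, rfl⟩
  obtain ⟨Q, hQ⟩ : ∃ Q, Q = (2 : F)⁻¹ • (1 - Pr + (-1 : F) • (Z * (1 - Pr))) := ⟨_, rfl⟩
  obtain ⟨hPa, hPP, hPf, hPc⟩ := part 1 (one_mul 1) P hP
  obtain ⟨hQa, hQQ, hQf, hQc⟩ := part (-1) (by ring) Q hQ
  by_cases hP0 : P = 0
  · refine Or.inr (Or.inr (eq_neg_of_add_eq_zero_right ?_))
    have := congrArg ((2 : F) • ·) (hP.symm.trans hP0)
    simpa [smul_smul, h2] using this
  by_cases hQ0 : Q = 0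
  · refine Or.inr (Or.inl (sub_eq_zero.1 ?_).symm)
    have := congrArg ((2 : F) • ·) (hQ.symm.trans hQ0)
    simpa [smul_smul, h2, ← sub_eq_add_neg] using this
  have hline : ∀ {R : Matrix (Fin k) (Fin k) F}, (∀ x, R *ᵥ fv x = 0) → adjJ J R = R → Commute y (sl i R) →
      ∀ {v}, R *ᵥ v = v → bf J v v ≠ 0 → R = pj J v → Std y := fun {R} hRf hRa hRc {v} hRv hv e => by
    have hfv : ∀ x, bf J (fv x) v = 0 := fun x => by
      rw [← hRv, ← hJ.bf_adjJ, hRa, hRf]; simp [bf]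
    exact hS.ce hodd hk5 hF hG hi hm hK hf hf0 hy hfix hv hfv hv hfv (e ▸ hRc).eq
  refine Or.inl ?_
  rcases line_or_two hJ hP0 hPa hPP with ⟨v, hv, hPv, e⟩ | ⟨v, w, hv, hw, hvw, hPv, hPw⟩
  · exact hline hPf hPa hPc hPv hv e
  rcases line_or_two hJ hQ0 hQa hQQ with ⟨c, hc, hQc', e⟩ | ⟨c, d, hc, hd, hcd, hQc', hQd⟩
  · exact hline hQf hQa hQc hQc' hc e
  have hPQ : P * Q = 0 := by
    have e1 : Z * (1 - Pr) * (Z * (1 - Pr)) = 1 - Pr := by
      rw [mul_assoc, ← mul_assoc (1 - Pr), hWZ, mul_assoc Z (1 - Pr), hW, ← mul_assoc, hZZ, one_mul]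
    have e2 : (1 - Pr) * (Z * (1 - Pr)) = Z * (1 - Pr) := by rw [← mul_assoc, hWZ, mul_assoc, hW]
    have e3 : Z * (1 - Pr) * (1 - Pr) = Z * (1 - Pr) := by rw [mul_assoc, hW]
    rw [hP, hQ]
    simp only [smul_mul_assoc, mul_smul_comm, add_mul, mul_add, hW, e1, e2, e3, smul_smul, one_smul]
    match_scalars <;> ring
  have hkill : ∀ {x}, Q *ᵥ x = x → P *ᵥ x = 0 ∧ ∀ a, bf J (fv a) x = 0 := fun {x} hx =>
    ⟨by rw [← hx, mulVec_mulVec, hPQ, zero_mulVec], fun a => by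
      rw [← hx, ← hJ.bf_adjJ, hQa, hQf]; simp [bf]⟩
  exact hS.parts hodd hk5 hF hG hi hm hK hf hf0 hy hfix hPa hPP hPf hPc hv hw hvw hPv hPw hc hd hcd
    (hkill hQc').1 (hkill hQd).1 (hkill hQc').2 (hkill hQd).2

/-- an element fixing the axes lies in the slot, or gives a slot involution scalar off the axes -/
theorem engine_axes {h : Matrix (Fin t → Fin k) (Fin t → Fin k) F} (hh : MG G h)
    (hfix : ∀ x, Maps J i h (fv x) (fv x) 1) :
    (∃ A, h = sl i A) ∨ ∃ (a b e : Fin k → F) (Z : Matrix (Fin k) (Fin k) F) (r : ℕ)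
      (w M : Matrix (Fin t → Fin k) (Fin t → Fin k) F),
      bf J a b = 0 ∧ (∀ x, bf J (fv x) e = 0) ∧ Good J e ∧
      MG G w ∧ MG G M ∧ (sl i Z).det = 1 ∧ sl i Z ≠ (1 : Matrix (Fin t → Fin k) (Fin t → Fin k) F) ∧ sl i Z = w ^ r ∧
      (∀ x, Z *ᵥ fv x = ((-1 : F) ^ r) • fv x) ∧
      (∀ Pr, Pr = ∑ x, pj J (fv x) → Z * (1 - Pr) = 1 - Pr ∨ Z * (1 - Pr) = -(1 - Pr)) ∧
      (∀ j, w ^ j * sl i (dl J e) * w ^ j = sl i (dl J e)) ∧
      w * sl i (dl J e) = M * sl i (rf J a * rf J b) * adjJ (GV J) M := by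
  have hJ := hS.sj
  haveI : Nonempty (Fin k) := ⟨⟨0, by omega⟩⟩
  obtain ⟨a, ha, hfa⟩ := exists_value_perp hJ (n := m + 1) (by omega) fv hf hf0 (one_ne_zero (α := F))
  have ha0 : bf J a a ≠ 0 := ha ▸ one_ne_zero
  obtain ⟨g1, g1'⟩ := orth_cons hJ hf hf0 ha0 hfa
  obtain ⟨b, hb, hfb'⟩ := exists_value_perp hJ (n := m + 2) (by omega) _ g1 g1' (one_ne_zero (α := F))
  have hb0 : bf J b b ≠ 0 := hb ▸ one_ne_zero
  have hab : bf J a b = 0 := by simpa using hfb' 0
  have hfb : ∀ x, bf J (fv x) b = 0 := fun x => by simpa using hfb' x.succ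
  obtain ⟨e, he, hfe⟩ := exists_good_perp hJ (n := m + 1) (by omega) fv hf hf0
  have hsg : sg F k = -1 := by rw [sg, hodd.neg_one_pow]
  obtain ⟨τ, hτ⟩ : ∃ τ, τ = sl (β := Fin t) i (dl J e) := ⟨_, rfl⟩
  have hτM : MG G τ := hτ ▸ hS.refl i hi e he
  have hττ : τ * τ = 1 := by rw [hτ, sl_mul, dl_sq he.1, sl_one]
  have hpM := hS.pair i hi a b ha0 (ha.trans hb.symm)
  obtain ⟨y, hy⟩ : ∃ y, y = h * sl i (rf J a * rf J b) * adjJ (GV J) h := ⟨_, rfl⟩
  have hyM : MG G y := hy ▸ hS.conj_mem hh hpM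
  have hpp : rf J a * rf J b * (rf J a * rf J b) = 1 := by
    have hc : rf J b * rf J a = rf J a * rf J b := by
      rw [rf_eq, rf_eq]
      simp only [sub_mul, mul_sub, one_mul, mul_one, smul_mul_assoc, mul_smul_comm, pj_orth hab,
        pj_orth (show bf J b a = 0 by rw [hJ.comm, hab]), smul_zero, sub_zero]
      abel
    rw [mul_assoc, ← mul_assoc (rf J b), hc, mul_assoc (rf J a), rf_sq hb0, mul_one, rf_sq ha0]
  obtain ⟨hha, hh1, hh2⟩ := hS.adj_inv hh
  have hyy : y * y = 1 := by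
    rw [hy, show h * sl i (rf J a * rf J b) * adjJ (GV J) h * (h * sl i (rf J a * rf J b) * adjJ (GV J) h) =
      h * (sl i (rf J a * rf J b) * (adjJ (GV J) h * h) * sl i (rf J a * rf J b)) * adjJ (GV J) h by
        simp only [mul_assoc], hh1, mul_one, sl_mul, hpp, sl_one, mul_one, hh2]
  have hyfix : ∀ x, Maps J i y (fv x) (fv x) 1 := fun x => hy ▸ hS.fix_self hh (hfix x) (by
    rw [← mulVec_mulVec, rf_perp (u := b) (by rw [hJ.comm]; exact hfb x),
      rf_perp (u := a) (by rw [hJ.comm]; exact hfa x)])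
  have hτf : ∀ x, Maps J i τ (fv x) ((-1 : F) • fv x) 1 := fun x => by
    have := maps_sl (J := J) i (dl J e) (fv x)
    rw [dl_perp (by rw [hJ.comm]; exact hfe x), hsg] at this
    exact hτ ▸ this
  have hwf : ∀ x, Maps J i (y * τ) (fv x) ((-1 : F) • fv x) 1 := fun x => by
    have := (hτf x).mul (maps_scale (hyfix x) (-1))
    rwa [mul_one] at this
  have hu0 : fv 0 ≠ 0 := fun e0 => hf0 0 (by rw [e0]; simp [bf])
  obtain ⟨z, r, hzM, hzd, hzr, hz1, hzz, hzy, hzτ, hkey⟩ := hS.dihedral hu0 hyM hτM hyy hττ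
    (by rw [hy, hS.det_conj hh, det_sl_pair hJ i ha0 hb0]) (by rw [hτ, det_sl_dl hodd hJ i he.1]) (hwf 0)
  have hzf : ∀ x, Maps J i z (fv x) ((-1 : F) ^ r • fv x) 1 := fun x => by
    rw [hzr]
    clear hzr
    induction r with
    | zero => rw [pow_zero, pow_zero, one_smul]; exact Maps.one i _
    | succ r ih =>
      have := (hwf x).mul (maps_scale ih (-1))
      rwa [mul_one, smul_smul, ← pow_succ', ← pow_succ] at this
  -- the involution lies in the slot
  obtain ⟨Z, hZ⟩ : ∃ Z, z = sl i Z := by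
    obtain ⟨z', hz'M, hz'τ, hz'f, hz'⟩ : ∃ z', MG G z' ∧ Commute z' τ ∧ (∀ x, Maps J i z' (fv x) (fv x) 1) ∧
        (z = z' ∨ z = z' * τ) := by
      rcases Nat.even_or_odd r with hev | hod
      · exact ⟨z, hzM, hzτ, fun x => by have := hzf x; rwa [hev.neg_one_pow, one_smul] at this, Or.inl rfl⟩
      · refine ⟨z * τ, hzM.mul hτM, hzτ.mul_left (Commute.refl τ), fun x => ?_,
          Or.inr (by rw [mul_assoc, hττ, mul_one])⟩
        have := (hτf x).mul (maps_scale (hzf x) (-1))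
        rwa [mul_one, smul_smul, hod.neg_one_pow, neg_mul_neg, one_mul, one_smul] at this
    have hpe : sl (β := Fin t) i (pj J e) = (2 : F)⁻¹ • (1 + τ) := by
      rw [hτ, ← sl_one (F := F) (κ := Fin k) i, ← sl_add, ← sl_smul]
      congr 1
      rw [dl, hsg, rf_eq]
      have := hJ.two
      match_scalars <;> field_simp <;> ring
    have hst := hS.ce hodd hk5 hF hG hi hm hK hf hf0 hz'M hz'f he.1 hfe he.1 hfe
      (show z' * sl i (pj J e) = sl i (pj J e) * z' from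
        (hpe ▸ ((Commute.one_right z').add_right hz'τ).smul_right _ : Commute z' (sl i (pj J e))).eq)
    obtain ⟨A, hA⟩ := hS.std_fix hu0 hst (hz'f 0)
    rcases hz' with e' | e'
    · exact ⟨A, e'.trans hA⟩
    · exact ⟨A * dl J e, by rw [e', hA, hτ, sl_mul]⟩
  have hZM : MG G (sl i Z) := hZ ▸ hzM
  have hZZ : Z * Z = 1 := sl_injective i (by rw [← sl_mul, ← hZ, hzz, sl_one])
  have hZa : adjJ J Z = Z := by
    have h1 := hS.slot_iso hZM
    calc adjJ J Z = adjJ J Z * (Z * Z) := by rw [hZZ, mul_one]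
      _ = Z := by rw [← mul_assoc, h1, one_mul]
  have hZf : ∀ x, Z *ᵥ fv x = (-1 : F) ^ r • fv x := fun x => maps_slot_eq hJ (i := i) (hZ ▸ hzf x)
  rcases hS.z_split hodd hk5 hF hG hi hm hK hf hf0 hyM hyfix hZa hZZ (hZ ▸ hzy.symm) hZf rfl with hstd | hc
  · refine Or.inl ?_
    obtain ⟨Y, hY⟩ := hS.std_fix hu0 hstd (hyfix 0)
    refine hS.std_fix hu0 (hS.uf_pair hodd hk5 hF hG hi hm hK hf hf0 ha0 hb0 hab hfa hfb hh hfix (Y := Y) ?_) (hfix 0)
    rw [← hY, hy, mul_assoc _ _ h, hh1, mul_one]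
  · exact Or.inr ⟨a, b, e, Z, r, y * τ, h, hab, hfe, he, hyM.mul hτM, hh, hZ ▸ hzd, hZ ▸ hz1, hZ ▸ hzr, hZf,
      fun Pr hPr => hPr ▸ hc, fun j => hτ ▸ hkey j, by rw [← hy, ← hτ, mul_assoc, hττ, mul_one]⟩

end Setting

namespace Setting

variable {i : Fin t} (hS : Setting J Sg G) (hodd : Odd k) (hk5 : 5 ≤ k) (hF : ¬ Full J Sg G)
  (hG : ∀ j ∈ Sg, ∀ g, MG G g → (∀ A, Commute g (sl j A)) → Std g) (hi : i ∈ Sg)
include hS hodd hk5 hF hG hi

/-- two fixed axes in dimension at least seven -/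
theorem plane7 (hk7 : 7 ≤ k) : FixSlot J G i 2 := by
  intro h hh _ fv hf hf0 hfix
  have hJ := hS.sj
  haveI : Nonempty (Fin k) := ⟨⟨0, by omega⟩⟩
  rcases hS.engine_axes hodd hk5 hF hG hi (m := 1) (by omega)
    (fun g hg _ f h1 h2 h3 => hS.fix3 hF hi h1 h2 hg h3) hf hf0 hh hfix with
    ha | ⟨a, b, e, Z, r, w, M, hab, hfe, he, hwM, hMM, hZd, hZ1, hZr, hZf, hc, hkey, hconj⟩
  · exact ha
  exfalso
  have h01 : bf J (fv 0) (fv 1) = 0 := hf 0 1 (by decide)
  obtain ⟨Pr, hPr⟩ : ∃ Pr, Pr = ∑ x, pj J (fv x) := ⟨_, rfl⟩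
  have hZPr : Z * Pr = (-1 : F) ^ r • Pr := by
    rw [hPr, Finset.mul_sum, Finset.smul_sum]
    exact Finset.sum_congr rfl fun x _ => by rw [pj, mul_smul_comm, mul_rk, hZf, rk_smul_left, smul_comm]
  have hZe : Z = Z * Pr + Z * (1 - Pr) := by rw [← mul_add, add_sub_cancel, mul_one]
  have hRR : rf J (fv 0) * rf J (fv 1) = 1 - (2 : F) • Pr := by
    rw [hPr, Fin.sum_univ_two, rf_eq, rf_eq, sub_mul, mul_sub, mul_sub, one_mul, one_mul, mul_one, smul_mul_assoc,
      mul_smul_comm, pj_orth h01, smul_zero, smul_zero, sub_zero]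
    module
  have hne1 : ∀ {X}, Z = X → sl (β := Fin t) i X = 1 → False := fun e1 e2 => hZ1 (e1 ▸ e2)
  have hneg : Z ≠ (-1 : F) • 1 := fun e1 => by
    rw [e1, hS.det_neg_one hodd] at hZd
    exact hJ.two (by linear_combination -hZd)
  rcases Nat.even_or_odd r with hev | hod
  · rw [hev.neg_one_pow, one_smul] at hZPr
    rcases hc Pr hPr with h1 | h1
    · refine hne1 (X := 1) ?_ (sl_one i)
      rw [hZe, hZPr, h1, add_sub_cancel]
    · -- minus a half turn
      have eZ : Z = (-1 : F) • (rf J (fv 0) * rf J (fv 1)) := by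
        rw [hZe, hZPr, h1, hRR]; module
      rw [eZ, show (-1 : F) • (rf J (fv 0) * rf J (fv 1)) = ((-1 : F) • 1) * (rf J (fv 0) * rf J (fv 1)) by
        rw [smul_mul_assoc, one_mul], ← sl_mul, det_mul, hS.det_neg_one hodd, det_sl_pair hJ i (hf0 0) (hf0 1)] at hZd
      exact hJ.two (by linear_combination -hZd)
  rw [hod.neg_one_pow, neg_one_smul] at hZPr
  rcases hc Pr hPr with h1 | h1
  swap
  · exact hneg (by rw [hZe, hZPr, h1]; module)
  have eZ : Z = rf J (fv 0) * rf J (fv 1) := by rw [hZe, hZPr, h1, hRR]; module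
  obtain ⟨r', rfl⟩ := hod
  obtain ⟨X, hX⟩ : ∃ X, X = sl (β := Fin t) i (Z * dl J e) := ⟨_, rfl⟩
  have hcj : X * w ^ r' = w ^ r' * (M * sl i (rf J a * rf J b) * adjJ (GV J) M) := by
    rw [← hconj, hX, ← sl_mul, hZr, ← mul_assoc, ← pow_succ, mul_assoc, show 2 * r' + 1 = r' + 1 + r' by omega,
      pow_add, mul_assoc, ← mul_assoc (w ^ r'), hkey r']
  obtain ⟨hwa, hw1, hw2⟩ := hS.adj_inv (hwM.pow r')
  obtain ⟨hMa, hM1, hM2⟩ := hS.adj_inv hMM
  have hXe : X - 1 = (w ^ r' * M) * (sl i (rf J a * rf J b) - 1) * (adjJ (GV J) M * adjJ (GV J) (w ^ r')) := by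
    rw [mul_sub, mul_one, sub_mul, show w ^ r' * M * (adjJ (GV J) M * adjJ (GV J) (w ^ r')) =
      w ^ r' * (M * adjJ (GV J) M) * adjJ (GV J) (w ^ r') by simp only [mul_assoc], hM2, mul_one, hw2,
      show w ^ r' * M * sl i (rf J a * rf J b) * (adjJ (GV J) M * adjJ (GV J) (w ^ r')) =
      w ^ r' * (M * sl i (rf J a * rf J b) * adjJ (GV J) M) * adjJ (GV J) (w ^ r') by simp only [mul_assoc],
      ← hcj, mul_assoc, hw2, mul_one]
  have hup : k * (X - 1).rank ≤ 2 * k ^ t := by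
    rw [hXe]
    exact (Nat.mul_le_mul_left k ((rank_mul_le_left _ _).trans (rank_mul_le_right _ _))).trans (rank_pair_le i hab)
  obtain ⟨h3, h3'⟩ := orth_cons hJ hf hf0 he.1 hfe
  have hlow : 3 * k ^ t ≤ k * (sl i (Z * dl J e - 1)).rank := by
    refine rank_neg_three hJ i (n := 3) (by omega) _ h3 h3' fun v hv => ?_
    have e1 : bf J e v = 0 := by simpa using hv 0
    have e2 : bf J (fv 0) v = 0 := by simpa using hv 1
    have e3 : bf J (fv 1) v = 0 := by have := hv (Fin.succ 1); rwa [Fin.cons_succ] at this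
    rw [sub_mulVec, one_mulVec, ← mulVec_mulVec, dl_perp e1, mulVec_smul, eZ, ← mulVec_mulVec, rf_perp e3, rf_perp e2,
      sg, hodd.neg_one_pow]
    module
  have hXs : X - 1 = sl i (Z * dl J e - 1) := by
    rw [hX, sub_eq_add_neg (Z * dl J e), ← neg_one_smul F (1 : Matrix (Fin k) (Fin k) F), sl_add, sl_smul, sl_one,
      neg_one_smul, ← sub_eq_add_neg]
  rw [hXs] at hup
  have h0 : 0 < k ^ t := pow_pos (by omega) t
  omega

/-- one fixed axis, given two -/
theorem axis5 (hK : FixSlot J G i 2) {u : Fin k → F} (hu : bf J u u ≠ 0) : AxisFix J G i u := by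
  intro h hh _ hfix
  have hJ := hS.sj
  haveI : Nonempty (Fin k) := ⟨⟨0, by omega⟩⟩
  obtain ⟨hf, hf0⟩ := fam1 (J := J) hu
  rcases hS.engine_axes hodd hk5 hF hG hi (m := 0) (by omega) hK (fv := ![u]) hf hf0 hh
    (fun x => by simpa [Fin.fin_one_eq_zero x] using hfix) with
    ha | ⟨a, b, e, Z, r, w, M, hab, hfe, he, hwM, hMM, hZd, hZ1, hZr, hZf, hc, hkey, hconj⟩
  · exact ha
  exfalso
  have hue : bf J u e = 0 := by simpa using hfe 0
  obtain ⟨Pr, hPr⟩ : ∃ Pr, Pr = pj J u := ⟨_, rfl⟩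
  have hZu : Z *ᵥ u = (-1 : F) ^ r • u := by simpa using hZf 0
  have hZPr : Z * Pr = (-1 : F) ^ r • Pr := by
    rw [hPr, pj, mul_smul_comm, mul_rk, hZu, rk_smul_left, smul_comm]
  have hZe : Z = Z * Pr + Z * (1 - Pr) := by rw [← mul_add, add_sub_cancel, mul_one]
  have hneg : Z ≠ (-1 : F) • 1 := fun e1 => by
    rw [e1, hS.det_neg_one hodd] at hZd
    exact hJ.two (by linear_combination -hZd)
  have hdl : dl J u = (2 : F) • Pr - 1 := by
    rw [dl, sg, hodd.neg_one_pow, rf_eq, hPr]; module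
  rcases Nat.even_or_odd r with hev | hod
  swap
  · rw [hod.neg_one_pow, neg_one_smul] at hZPr
    rcases hc Pr (by rw [hPr]; simp) with h1 | h1
    · have eZ : Z = (-1 : F) • dl J u := by rw [hZe, hZPr, h1, hdl]; module
      rw [eZ, show (-1 : F) • dl J u = ((-1 : F) • 1) * dl J u by rw [smul_mul_assoc, one_mul], ← sl_mul, det_mul,
        hS.det_neg_one hodd, det_sl_dl hodd hJ i hu] at hZd
      exact hJ.two (by linear_combination -hZd)
    · exact hneg (by rw [hZe, hZPr, h1]; module)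
  rw [hev.neg_one_pow, one_smul] at hZPr
  rcases hc Pr (by rw [hPr]; simp) with h1 | h1
  · exact hZ1 (by rw [show Z = 1 by rw [hZe, hZPr, h1, add_sub_cancel], sl_one])
  have eZ : Z = dl J u := by rw [hZe, hZPr, h1, hdl]; module
  obtain ⟨r', rfl⟩ := hev
  obtain ⟨hwa, hw1, hw2⟩ := hS.adj_inv (hwM.pow r')
  have hτe : sl i (dl J e) = adjJ (GV J) (w ^ r') * sl i (Z * dl J e) * w ^ r' := by
    rw [← sl_mul, hZr, pow_add, mul_assoc (adjJ (GV J) (w ^ r')), mul_assoc (w ^ r' * w ^ r'),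
      mul_assoc (w ^ r') (w ^ r'), ← mul_assoc (adjJ (GV J) (w ^ r')), hw1, one_mul, ← mul_assoc, hkey r']
  have h1s : ∀ A : Matrix (Fin k) (Fin k) F, sl (β := Fin t) i (A - 1) = sl i A - 1 := fun A => by
    rw [sub_eq_add_neg, ← neg_one_smul F (1 : Matrix (Fin k) (Fin k) F), sl_add, sl_smul, sl_one, neg_one_smul,
      ← sub_eq_add_neg]
  have hle : k * (sl i (dl J e - 1)).rank ≤ 2 * k ^ t := by
    have e1 : sl i (dl J e - 1) = adjJ (GV J) (w ^ r') * (sl i (Z * dl J e) - 1) * w ^ r' := by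
      rw [h1s, mul_sub, sub_mul, mul_one, hw1, ← hτe]
    rw [e1, eZ, show dl J u * dl J e = rf J u * rf J e by
      rw [dl, dl, smul_mul_assoc, mul_smul_comm, smul_smul, sg_sq, one_smul]]
    exact (Nat.mul_le_mul_left k ((rank_mul_le_left _ _).trans (rank_mul_le_right _ _))).trans (rank_pair_le i hue)
  have hlow : 3 * k ^ t ≤ k * (sl i (dl J e - 1)).rank := by
    refine rank_neg_three hJ i (n := 1) (by omega) ![e] (fam1 (J := J) he.1).1 (fam1 (J := J) he.1).2 fun v hv => ?_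
    rw [sub_mulVec, one_mulVec, dl_perp (by simpa using hv 0), sg, hodd.neg_one_pow]
    module
  have h0 : 0 < k ^ t := pow_pos (by omega) t
  omega

end Setting

end Cfsg.Agent.ClassicalMax.OOWreath
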