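import Cfsg.Agent.ClassicalMax.OOWreath.OddEngine
import Cfsg.Agent.S0035
import Cfsg.Agent.S0039
import Mathlib.GroupTheory.FixedPointFree

/-!
Odd dimension at least five: two fixed axes, one fixed axis, and centralisers of reflections.
-/

set_option autoImplicit false
set_option linter.unusedSectionVars false
set_option linter.unusedSimpArgs false

namespace Cfsg.Agent.ClassicalMax.OOWreath

open Matrix Cfsg.Agent.ClassicalMax.TPow
open Cfsg.Agent.ClassicalMax.SpWreath (GV GV_det)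

variable {F : Type*} [Field F] {k t : ℕ} {J : Matrix (Fin k) (Fin k) F} [Finite F]

/-- a rotation fixing two axes of five has one fixed line off them -/
theorem fixed_line (hJ : SJ J) (hk : k = 5) {a b : Fin k → F} (ha : bf J a a ≠ 0) (hb : bf J b b ≠ 0)
    (hab : bf J a b = 0) {A : Matrix (Fin k) (Fin k) F} (hA : adjJ J A * A = 1) (hdet : A.det = 1)
    (hAa : A *ᵥ a = a) (hAb : A *ᵥ b = b) (hA1 : A ≠ 1) :
    ∃ w, w ≠ 0 ∧ A *ᵥ w = w ∧ bf J a w = 0 ∧ bf J b w = 0 ∧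
      ∀ x, A *ᵥ x = x → bf J a x = 0 → bf J b x = 0 → ∃ c : F, x = c • w := by
  have hba : bf J b a = 0 := by rw [hJ.comm, hab]
  obtain ⟨P, hP⟩ : ∃ P, P = pj J a + pj J b := ⟨_, rfl⟩
  have hPP : P * P = P := by
    rw [hP, add_mul, mul_add, mul_add, pj_mul ha, pj_mul hb, pj_orth hab, pj_orth hba, add_zero, zero_add]
  have hPa : adjJ J P = P := by rw [hP, adj_add, pj_adj hJ, pj_adj hJ]
  have hAP : A * P = P := by rw [hP, mul_add, pj, pj, mul_smul_comm, mul_smul_comm, mul_rk, mul_rk, hAa, hAb]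
  have hPA : P * A = P := by
    have h1 : adjJ J A * P = P := by
      conv_lhs => rw [← hAP]
      rw [← mul_assoc, hA, one_mul]
    have h2 := congrArg (adjJ J) h1
    rwa [adj_mul hJ.det, adj_adj hJ.symm hJ.det, hPa] at h2
  obtain ⟨B, hB⟩ : ∃ B, B = A - 1 + P := ⟨_, rfl⟩
  have hR : (rf J a * rf J b) = 1 - (2 : F) • P := by
    rw [hP, rf_eq, rf_eq, sub_mul, mul_sub, mul_sub, one_mul, one_mul, mul_one, smul_mul_assoc, mul_smul_comm,
      pj_orth hab, smul_zero, smul_zero, sub_zero]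
    module
  have hB2 : A - 1 - P = B * (rf J a * rf J b) := by
    rw [hR, hB, mul_sub, mul_one, mul_smul_comm, add_mul, sub_mul, one_mul, hAP, hPP]
    module
  have hadjB : adjJ J B = -(adjJ J A * (A - 1 - P)) := by
    rw [hB, adj_add, adj_sub, adj_one hJ.det, hPa, mul_sub, mul_sub, hA, mul_one]
    have : adjJ J A * P = P := by
      conv_lhs => rw [← hAP]
      rw [← mul_assoc, hA, one_mul]
    rw [this]; abel
  have hBd : B.det = 0 := by
    have h1 := congrArg Matrix.det hadjB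
    rw [det_adjJ hJ.det, det_neg, det_mul, hB2, det_mul, det_adjJ hJ.det, hdet, det_mul, rf_det hJ ha,
      rf_det hJ hb, Fintype.card_fin, (show Odd k by rw [hk]; decide).neg_one_pow] at h1
    exact (mul_eq_zero.1 (show (2 : F) * B.det = 0 by linear_combination h1)).resolve_left hJ.two
  obtain ⟨w, hw0, hw⟩ := Matrix.exists_mulVec_eq_zero_iff.2 hBd
  have hPB : P * B = P := by rw [hB, mul_add, mul_sub, hPA, mul_one, hPP, sub_self, zero_add]
  have hPw : P *ᵥ w = 0 := by rw [← hPB, ← mulVec_mulVec, hw, mulVec_zero]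
  have hAw : A *ᵥ w = w := by
    have h1 := hw
    rw [hB, add_mulVec, hPw, add_zero, sub_mulVec, one_mulVec, sub_eq_zero] at h1
    exact h1
  have hperp : ∀ x, P *ᵥ x = 0 → bf J a x = 0 ∧ bf J b x = 0 := fun x hx => by
    have e1 : bf J (P *ᵥ a) x = bf J a (P *ᵥ x) := by rw [← hJ.bf_adjJ, hPa]
    have e2 : bf J (P *ᵥ b) x = bf J b (P *ᵥ x) := by rw [← hJ.bf_adjJ, hPa]
    rw [hP, add_mulVec, pj_fix ha, pj_zero hba, add_zero, ← hP, hx] at e1
    rw [hP, add_mulVec, pj_fix hb, pj_zero hab, zero_add, ← hP, hx] at e2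
    exact ⟨e1.trans (by simp [bf]), e2.trans (by simp [bf])⟩
  obtain ⟨haw, hbw⟩ := hperp w hPw
  refine ⟨w, hw0, hAw, haw, hbw, fun x hx hax hbx => ?_⟩
  by_contra! hno
  refine hA1 (fix_hyper hJ (n := 4) (by omega) (f := ![a, b, w, x]) (Fintype.linearIndependent_iff.2 fun g hg => ?_)
    hA hdet fun j => by fin_cases j <;> assumption)
  simp [Fin.sum_univ_four] at hg
  have g0 : g 0 = 0 := by
    have h := congrArg (bf J a) hg
    simp only [bf_add_right, bf_smul_right, hab, haw, hax] at h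
    simpa [show a ⬝ᵥ J *ᵥ a ≠ 0 from ha, bf] using h
  have g1 : g 1 = 0 := by
    have h := congrArg (bf J b) hg
    simp only [bf_add_right, bf_smul_right, hba, hbw, hbx] at h
    simpa [show b ⬝ᵥ J *ᵥ b ≠ 0 from hb, bf] using h
  rw [g0, g1, zero_smul, zero_smul, zero_add, zero_add] at hg
  have g3 : g 3 = 0 := by
    by_contra h3
    refine hno (-(g 2) / g 3) (smul_right_injective _ h3 ?_)
    simp only [smul_smul, mul_div_cancel₀ _ h3]
    linear_combination (norm := module) hg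
  have g2 : g 2 = 0 := by simpa [g3, hw0] using hg
  intro j; fin_cases j
  exacts [g0, g1, g2, g3]

variable {Sg : Finset (Fin t)} {G : Subgroup (GL (Fin t → Fin k) F)}

namespace Setting

variable {i : Fin t} (hS : Setting J Sg G) (hodd : Odd k) (hk5 : 5 ≤ k) (hF : ¬ Full J Sg G)
  (hG : ∀ j ∈ Sg, ∀ g, MG G g → (∀ A, Commute g (sl j A)) → Std g) (hi : i ∈ Sg)
include hS hodd hk5 hF hG hi

/-- an element fixing two axes and moving a non-singular line orthogonal to them -/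
theorem trick {a b : Fin k → F} (ha : bf J a a ≠ 0) (hb : bf J b b ≠ 0) (hab : bf J a b = 0)
    {g c : Matrix (Fin t → Fin k) (Fin t → Fin k) F} (hg : MG G g) (hga : Maps J i g a a 1)
    (hgb : Maps J i g b b 1) {e e' : Fin k → F} (he : bf J e e ≠ 0) (he' : bf J e' e' ≠ 0) (hae : bf J a e = 0)
    (hbe : bf J b e = 0) (hae' : bf J a e' = 0) (hbe' : bf J b e' = 0) (hco : Op Sg i c) (hc : Maps J i g e e' c) :
    Std g := by
  have hJ := hS.sj
  haveI : Nonempty (Fin k) := ⟨⟨0, by omega⟩⟩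
  have h2 := hJ.two
  have he0 : e ≠ 0 := fun h0 => he (by rw [h0]; simp [bf])
  -- the operator has norm one after scaling
  have hn := hS.line_norm hg he0 hco.self hc
  have hcc : adjJ (GV J) c * c = (bf J e e / bf J e' e') • 1 := by
    have := congrArg ((bf J e' e')⁻¹ • ·) hn
    simp only [smul_smul, inv_mul_cancel₀ he', one_smul] at this
    rw [this, div_eq_inv_mul]
  obtain ⟨μ, hμ⟩ := hS.square_class hodd (div_ne_zero he he') hcc
  have hμ0 : μ ≠ 0 := fun h0 => div_ne_zero he he' (by rw [hμ, h0, mul_zero])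
  obtain ⟨e1, he1⟩ : ∃ e1, e1 = μ • e' := ⟨_, rfl⟩
  obtain ⟨c1, hc1⟩ : ∃ c1, c1 = μ⁻¹ • c := ⟨_, rfl⟩
  have hc1o : Op Sg i c1 := hc1 ▸ hco.smul _
  have hm1 : Maps J i g e e1 c1 := fun z => by
    rw [hc z, he1, hc1, rk_smul_left, sl_smul, smul_mul_assoc, mul_smul_comm, smul_smul, mul_inv_cancel₀ hμ0, one_smul]
  have hee1 : bf J e1 e1 = bf J e e := by
    rw [he1, bf_smul_left, bf_smul_right, ← mul_assoc, ← hμ, div_mul_cancel₀ _ he']
  have hae1 : bf J a e1 = 0 := by rw [he1, bf_smul_right, hae', mul_zero]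
  have hbe1 : bf J b e1 = 0 := by rw [he1, bf_smul_right, hbe', mul_zero]
  obtain ⟨x, y, hxy⟩ := hJ.exists_binary ha hb hab he
  obtain ⟨x', y', hxy'⟩ := hJ.exists_binary ha hb hab (mul_ne_zero h2 he)
  obtain ⟨x'', y'', hxy''⟩ := hJ.exists_binary ha hb hab (neg_ne_zero.2 he)
  have hba : bf J b a = 0 := by rw [hJ.comm, hab]
  obtain ⟨u', hu'⟩ : ∃ u, u = x • a + y • b := ⟨_, rfl⟩
  rw [← hu'] at hxy
  obtain ⟨u, hu⟩ : ∃ u, u = (-(y * bf J b b)) • a + (x * bf J a a) • b := ⟨_, rfl⟩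
  have huu' : bf J u u' = 0 := by
    simp only [hu, hu', bf_add_left, bf_add_right, bf_smul_left, bf_smul_right, hab, hba]; ring
  have huu : bf J u u ≠ 0 := by
    have hn2 : bf J u u = bf J a a * bf J b b * bf J u' u' := by
      simp only [hu, hu', bf_add_left, bf_add_right, bf_smul_left, bf_smul_right, hab, hba]; ring
    rw [hn2, hxy]; exact mul_ne_zero (mul_ne_zero ha hb) he
  have hperp : ∀ {z}, bf J a z = 0 → bf J b z = 0 → bf J u z = 0 ∧ bf J u' z = 0 := fun {z} h1 h3 =>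
    ⟨by rw [hu, bf_add_left, bf_smul_left, bf_smul_left, h1, h3]; ring,
      by rw [hu', bf_add_left, bf_smul_left, bf_smul_left, h1, h3]; ring⟩
  obtain ⟨hue, hu'e⟩ := hperp hae hbe
  obtain ⟨hue1, hu'e1⟩ := hperp hae1 hbe1
  obtain ⟨w, hw⟩ : ∃ w, w = u' + e := ⟨_, rfl⟩
  obtain ⟨w1, hw1⟩ : ∃ w, w = u' + e1 := ⟨_, rfl⟩
  have hww : bf J w w = 2 * bf J e e := by
    simp only [hw, bf_add_left, bf_add_right, hxy, hu'e, hJ.comm e u']; ring
  have hww1 : bf J w1 w1 = 2 * bf J e e := by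
    simp only [hw1, bf_add_left, bf_add_right, hxy, hu'e1, hJ.comm e1 u', hee1]; ring
  obtain ⟨s, hs⟩ : ∃ s, s = x' • a + y' • b := ⟨_, rfl⟩
  rw [← hs] at hxy'
  have hss : bf J s s ≠ 0 := hxy' ▸ mul_ne_zero h2 he
  have hgu : Maps J i g u u 1 := hu ▸ maps_comb hga hgb _ _
  have hgu' : Maps J i g u' u' 1 := hu' ▸ maps_comb hga hgb _ _
  have hgs : Maps J i g s s 1 := hs ▸ maps_comb hga hgb _ _
  obtain ⟨hga', hg1, hg2⟩ := hS.adj_inv hg
  -- the conjugate of a rotation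
  obtain ⟨X, hX⟩ : ∃ X, X = g * sl i (rf J w) * adjJ (GV J) g := ⟨_, rfl⟩
  have hXs : sl i (rf J s) * X = g * sl i (rf J s * rf J w) * adjJ (GV J) g := by
    have hc : Commute g (sl i (rf J s)) := by
      rw [rf_eq, sub_eq_add_neg, ← neg_smul, sl_add, sl_smul, sl_one]
      exact (Commute.one_right g).add_right ((hS.pj_commute hg hgs).smul_right _)
    rw [hX, ← mul_assoc, ← mul_assoc, ← hc.eq, mul_assoc g, sl_mul]
  obtain ⟨h, hh⟩ : ∃ h, h = sl i (rf J w1) * X := ⟨_, rfl⟩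
  have hhM : MG G h := by
    have h1 := (hS.pair i hi w1 s (hww1 ▸ mul_ne_zero h2 he) (hww1.trans hxy'.symm)).mul
      (hS.conj_mem hg (hS.pair i hi s w hss (hxy'.trans hww.symm)))
    rwa [← hXs, ← mul_assoc, sl_mul, mul_assoc (rf J w1), rf_sq hss, mul_one, ← hh] at h1
  obtain ⟨g2, g2'⟩ := fam3 hJ ha hb (hee1 ▸ he) hab hae1 hbe1
  obtain ⟨c2, hc2, hc2f⟩ := hJ.exists_orth (n := 3) (by omega) _ g2 g2'
  obtain ⟨g3, g3'⟩ := orth_cons hJ g2 g2' hc2 hc2f
  obtain ⟨c3, hc3, hc3f⟩ := hJ.exists_orth (n := 4) (by omega) _ g3 g3'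
  have hfixc : ∀ z, bf J a z = 0 → bf J b z = 0 → bf J e1 z = 0 → Maps J i h z z 1 := by
    intro z za zb ze v
    have hzw : rf J w1 *ᵥ z = z := rf_perp (by rw [hw1, bf_add_left, (hperp za zb).2, ze, add_zero])
    have e2 : sl i (rk J w w) * adjJ (GV J) g * sl i (rk J z v) = 0 := by
      have f1 := hgu'.adj hJ.symm hJ.det (fun A => Commute.one_left _) w
      rw [adj_one hS.GV_det', mul_one] at f1
      have f2 := hm1.adj hJ.symm hJ.det hc1o.self w
      rw [show rk J w w = rk J w u' + rk J w e by rw [← rk_add_right, ← hw], sl_add, add_mul, f1, f2, add_mul,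
        mul_assoc (sl i _) (adjJ (GV J) c1), ((hc1o.adj hJ.symm hJ.det).self _).eq, ← mul_assoc, sl_mul, sl_mul,
        rk_mul_rk, rk_mul_rk, (hperp za zb).2, ze, zero_smul, sl_zero, zero_mul, add_zero]
    have e3 : X * sl i (rk J z v) = sl i (rk J z v) := by
      rw [hX, show rf J w = 1 + (-(2 / bf J w w)) • rk J w w by rw [rf]; module, sl_add, sl_smul, sl_one, mul_add,
        mul_one, add_mul, add_mul, hg2, one_mul, mul_smul_comm, smul_mul_assoc, smul_mul_assoc,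
        mul_assoc g (sl i (rk J w w)), mul_assoc g, e2, mul_zero, smul_zero, add_zero]
    rw [hh, mul_assoc, e3, sl_mul, mul_rk, hzw, mul_one]
  have hfixu : Maps J i h u u 1 := by
    have hR : rf J w *ᵥ u = u := rf_perp (by rw [hw, bf_add_left, hJ.comm, huu', hJ.comm e u, hue, add_zero])
    have h1 := (hS.fix_self hg hgu hR).mul (maps_sl (J := J) i (rf J w1) u)
    rw [mul_one, rf_perp (by rw [hw1, bf_add_left, hJ.comm, huu', hJ.comm e1 u, hue1, add_zero])] at h1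
    rw [hh, hX]
    exact h1
  have hc2a : bf J a c2 = 0 := hc2f 0
  have hc2b : bf J b c2 = 0 := hc2f 1
  have hc2e : bf J e1 c2 = 0 := hc2f 2
  have hc3a : bf J a c3 = 0 := by simpa using hc3f 1
  have hc3b : bf J b c3 = 0 := by simpa using hc3f 2
  have hc3e : bf J e1 c3 = 0 := by simpa using hc3f 3
  obtain ⟨g4, g4'⟩ := fam3 hJ huu hc2 hc3 (hperp hc2a hc2b).1 (hperp hc3a hc3b).1 (by simpa using hc3f 0)
  obtain ⟨A, hA⟩ := hS.fix3 hF hi g4 g4' hhM fun j => by
    fin_cases j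
    · exact hfixu
    · exact hfixc _ hc2a hc2b hc2e
    · exact hfixc _ hc3a hc3b hc3e
  have hXB : g * sl i (rf J w) = sl i (rf J w1 * A) * g := by
    rw [← sl_mul, ← hA, hh, ← mul_assoc (sl i (rf J w1)), sl_mul, rf_sq (hww1 ▸ mul_ne_zero h2 he), sl_one, one_mul,
      hX, mul_assoc _ _ g, hg1, mul_one]
  -- the operator is a scalar
  have hRu : rf J w *ᵥ u' = (-1 : F) • e := by
    rw [rf_mulVec, hww, hw, bf_add_left, hxy, hJ.comm e u', hu'e]
    match_scalars <;> field_simp <;> ring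
  obtain ⟨v', hv'⟩ : ∃ v, v = (rf J w1 * A) *ᵥ u' := ⟨_, rfl⟩
  have hsc : ∃ l : F, c1 = l • 1 := by
    have e2 : sl i (rk J v' e1) = (-1 : F) • (sl i (rk J e1 e1) * c1) := by
      rw [hv', ← mul_rk, ← sl_mul]
      have h1 := hgu' e1
      rw [mul_one] at h1
      rw [← h1, ← mul_assoc, ← hXB, mul_assoc, sl_mul, mul_rk, hRu, rk_smul_left, sl_smul, mul_smul_comm, hm1 e1]
    have e3 := congrArg (sl i (rk J e1 e1) * ·) e2
    simp only [sl_mul, rk_mul_rk, mul_smul_comm, ← mul_assoc, sl_smul, smul_mul_assoc, smul_smul] at e3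
    refine ⟨-(bf J e1 v' / bf J e1 e1), ?_⟩
    refine eq_of_sl i (hJ.rk_ne (u := e1) (v := e1) (fun h0 => hee1 ▸ he <| by rw [h0]; simp [bf])
      (fun h0 => hee1 ▸ he <| by rw [h0]; simp [bf])) hc1o.self (fun A => (Commute.one_left _).smul_left _) ?_
    have he10 : bf J e1 e1 ≠ 0 := hee1 ▸ he
    have e4 := congrArg ((-(bf J e1 e1))⁻¹ • ·) e3
    simp only [smul_smul, neg_one_mul, inv_mul_cancel₀ (neg_ne_zero.2 he10), one_smul] at e4
    rw [mul_smul_comm, mul_one, ← e4, div_eq_inv_mul, ← neg_mul, inv_neg]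
  obtain ⟨l, hl⟩ := hsc
  have hll : l * l = 1 := by
    have h1 := hS.line_norm hg he0 hc1o.self hm1
    rw [hl, adj_smul, adj_one hS.GV_det', smul_mul_assoc, one_mul, smul_smul, smul_smul, hee1] at h1
    have h3 := congrFun (congrFun h1 (fun _ => ⟨0, by omega⟩)) (fun _ => ⟨0, by omega⟩)
    simp only [Matrix.smul_apply, Matrix.one_apply_eq, smul_eq_mul, mul_one] at h3
    exact mul_left_cancel₀ he (by linear_combination h3)
  obtain ⟨v, hv⟩ : ∃ v, v = x'' • a + y'' • b := ⟨_, rfl⟩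
  rw [← hv] at hxy''
  have hve : bf J v e = 0 := by rw [hv, bf_add_left, bf_smul_left, bf_smul_left, hae, hbe]; ring
  have hve1 : bf J v e1 = 0 := by rw [hv, bf_add_left, bf_smul_left, bf_smul_left, hae1, hbe1]; ring
  have hgv : Maps J i g v v 1 := hv ▸ maps_comb hga hgb _ _
  have hge : Maps J i g e (l • e1) 1 := maps_op_smul (hl ▸ hm1)
  have hp0 : v + e ≠ 0 := fun h0 => he (by
    have := congrArg (bf J e) h0
    rw [bf_add_right, hJ.comm e v, hve, zero_add] at this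
    rw [this]; simp [bf])
  have hp1 : v + l • e1 ≠ 0 := fun h0 => by
    have := congrArg (bf J v) h0
    rw [bf_add_right, bf_smul_right, hve1, mul_zero, add_zero, hxy''] at this
    exact neg_ne_zero.2 he (this.trans (by simp [bf]))
  have hmap : Maps J i g (v + e) (v + l • e1) 1 := by
    have := maps_comb hgv hge 1 1
    simpa only [one_smul] using this
  refine hS.stab hodd hF hG hi (hS.turns5 hodd hk5 hF hG hi) hp0 ?_ hp1 ?_ hg Op.one hmap
  · simp only [bf_add_left, bf_add_right, hxy'', hve, hJ.comm e v]; ring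
  · simp only [bf_add_left, bf_add_right, bf_smul_left, bf_smul_right, hxy'', hve1, hJ.comm e1 v, hee1]
    linear_combination bf J e e * hll

/-- the fixed lines of two conjugate rotations correspond -/
theorem rot_map {a b : Fin k → F} (ha : bf J a a ≠ 0) (hb : bf J b b ≠ 0)
    {g : Matrix (Fin t → Fin k) (Fin t → Fin k) F} (hg : MG G g) (hga : Maps J i g a a 1) (hgb : Maps J i g b b 1)
    {A B : Matrix (Fin k) (Fin k) F} (hAB : g * sl i A = sl i B * g) {wA wB : Fin k → F} (hAw : A *ᵥ wA = wA)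
    (hawA : bf J a wA = 0) (hbwA : bf J b wA = 0) (hwB0 : wB ≠ 0)
    (huniq : ∀ x, B *ᵥ x = x → bf J a x = 0 → bf J b x = 0 → ∃ c : F, x = c • wB) :
    ∃ T, Op Sg i T ∧ Maps J i g wA wB T := by
  have hJ := hS.sj
  obtain ⟨d0, hd0⟩ := exists_bf_ne J hJ.det hwB0
  obtain ⟨d, hd⟩ : ∃ d, d = (bf J wB d0)⁻¹ • d0 := ⟨_, rfl⟩
  have hdw : bf J d wB = 1 := by rw [hd, bf_smul_left, hJ.comm d0, inv_mul_cancel₀ hd0]
  obtain ⟨T, hT⟩ : ∃ T, T = ct J i d wA g := ⟨_, rfl⟩
  have hTo : Op Sg i T := hT ▸ fun l hl C => by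
    rcases eq_or_ne l i with rfl | hli
    · exact ct_commute l d wA g C
    · exact ct_commute_other hli d wA (hS.out' hg (hl.resolve_left hli) C)
  have hmap : Maps J i g wA wB T := fun z => by
    obtain ⟨M, hM⟩ : ∃ M, M = g * sl i (rk J wA z) := ⟨_, rfl⟩
    have hMB : sl i B * M = M := by rw [hM, ← mul_assoc, ← hAB, mul_assoc, sl_mul, mul_rk, hAw]
    have hkill : ∀ v, Maps J i g v v 1 → bf J v wA = 0 → sl i (rk J v v) * M = 0 := fun v hv hvw => by
      rw [hM, ← mul_assoc, (hS.fix_left hg hv v).1, sl_mul, rk_mul_rk, hvw, zero_smul, sl_zero]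
    have hMa := hkill a hga hawA
    have hMb := hkill b hgb hbwA
    have e : sl i (rk J wB d) * M = M := by
      refine sub_eq_zero.1 (eq_zero_of_slices i fun x y => Matrix.toLin'.injective (LinearMap.ext fun v => ?_))
      rw [slice'_sub, slice'_sl_mul, Matrix.toLin'_apply, map_zero, LinearMap.zero_apply, sub_mulVec, ← mulVec_mulVec,
        rk_mulVec]
      obtain ⟨S, hS'⟩ : ∃ S, S = slice' M i x y *ᵥ v := ⟨_, rfl⟩
      have hperp : ∀ w, bf J w w ≠ 0 → sl i (rk J w w) * M = 0 → bf J w S = 0 := fun w hw h0 => by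
        have h1 := congrArg (fun Z => slice' Z i x y *ᵥ v) h0
        simp only [slice'_sl_mul, ← mulVec_mulVec, ← hS', rk_mulVec] at h1
        rw [show slice' (0 : Matrix (Fin t → Fin k) (Fin t → Fin k) F) i x y = 0 from rfl, zero_mulVec] at h1
        exact (smul_eq_zero.1 h1).resolve_right fun e0 => hw (by rw [e0]; simp [bf])
      have hfix : B *ᵥ S = S := by rw [hS', mulVec_mulVec, ← slice'_sl_mul, hMB]
      obtain ⟨c, hc⟩ := huniq S hfix (hperp a ha hMa) (hperp b hb hMb)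
      rw [← hS', hc, bf_smul_right, hdw, mul_one, sub_self]
    rw [← hM, ← e, hM, ← mul_assoc, sl_ct, hT]
  exact ⟨T, hTo, hmap⟩

/-- an element fixing two axes and normalising a rotation about them in dimension five -/
theorem rot_image (hk : k = 5) {a b : Fin k → F} (ha : bf J a a ≠ 0) (hb : bf J b b ≠ 0) (hab : bf J a b = 0)
    {g : Matrix (Fin t → Fin k) (Fin t → Fin k) F} (hg : MG G g) (hga : Maps J i g a a 1) (hgb : Maps J i g b b 1)
    {A B : Matrix (Fin k) (Fin k) F} (hA : MG G (sl i A)) (hAd : (sl i A).det = 1) (hAa : A *ᵥ a = a)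
    (hAb : A *ᵥ b = b) (hA1 : A ≠ 1) (hB : MG G (sl i B)) (hBa : B *ᵥ a = a) (hBb : B *ᵥ b = b)
    (hAB : g * sl i A = sl i B * g) : Std g := by
  have hJ := hS.sj
  haveI : Nonempty (Fin k) := ⟨⟨0, by omega⟩⟩
  obtain ⟨hga', hg1, hg2⟩ := hS.adj_inv hg
  have hAi := hS.slot_iso hA
  have hBi := hS.slot_iso hB
  have hB1 : B ≠ 1 := fun e => hA1 (by
    rw [e, sl_one, one_mul] at hAB
    have := congrArg (adjJ (GV J) g * ·) hAB
    simp only [← mul_assoc, hg1, one_mul] at this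
    exact sl_injective i (this.trans (sl_one i).symm))
  have hBd : B.det = 1 := by
    refine det_of_sl hodd hJ hBi (i := i) ?_
    have e : sl i B = g * sl i A * adjJ (GV J) g := by rw [hAB, mul_assoc, hg2, mul_one]
    rw [e, hS.det_conj hg, hAd]
  obtain ⟨wA, hwA0, hAw, hawA, hbwA, huniqA⟩ := fixed_line hJ hk ha hb hab hAi (det_of_sl hodd hJ hAi hAd) hAa hAb hA1
  obtain ⟨wB, hwB0, hBw, hawB, hbwB, huniq⟩ := fixed_line hJ hk ha hb hab hBi hBd hBa hBb hB1
  obtain ⟨T, hTo, hmap⟩ := hS.rot_map hodd hk5 hF hG hi ha hb hg hga hgb hAB hAw hawA hbwA hwB0 huniq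
  obtain ⟨T', hT'o, hmap'⟩ := hS.rot_map hodd hk5 hF hG hi ha hb hga' (hS.fix_left hg hga a).2 (hS.fix_left hg hgb b).2
    (show adjJ (GV J) g * sl i B = sl i A * adjJ (GV J) g by
      calc adjJ (GV J) g * sl i B = adjJ (GV J) g * (sl i B * g) * adjJ (GV J) g := by
            simp only [mul_assoc, hg2, mul_one]
        _ = _ := by rw [← hAB, ← mul_assoc, hg1, one_mul])
    hBw hawB hbwB hwA0 huniqA
  have hn := hS.line_norm hg hwA0 hTo.self hmap
  have hn' := hS.line_norm hga' hwB0 hT'o.self hmap'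
  by_cases hAA : bf J wA wA = 0
  · have hBB : bf J wB wB = 0 := by
      rw [hAA, zero_smul] at hn'
      exact (smul_eq_zero.1 hn'.symm).resolve_right one_ne_zero
    exact hS.stab hodd hF hG hi (hS.turns5 hodd hk5 hF hG hi) hwA0 hAA hwB0 hBB hg hTo hmap
  · by_cases hBB : bf J wB wB = 0
    · exfalso
      rw [hBB, zero_smul] at hn
      exact hAA ((smul_eq_zero.1 hn.symm).resolve_right one_ne_zero)
    exact hS.trick hodd hk5 hF hG hi ha hb hab hg hga hgb hAA hBB hawA hbwA hawB hbwB hTo hmap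

omit hi hG hF hk5 hodd hS in
theorem gram5 (hJ : SJ J) (hk : k = 5) {f : Fin 5 → Fin k → F} (hf : ∀ a b, a ≠ b → bf J (f a) (f b) = 0)
    (hf0 : ∀ a, bf J (f a) (f a) ≠ 0) :
    ∃ d : F, d ≠ 0 ∧ bf J (f 0) (f 0) * bf J (f 1) (f 1) * bf J (f 2) (f 2) * bf J (f 3) (f 3) * bf J (f 4) (f 4) =
      d * d * J.det := by
  subst hk
  obtain ⟨-, d, hd, e⟩ := basis_facts hJ f hf hf0
  rw [Fin.prod_univ_five] at e
  exact ⟨d, hd, e⟩

/-- two fixed axes in dimension five -/
theorem plane5 (hk : k = 5) : FixSlot J G i 2 := by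
  intro h0 hh0 hd0 fv hf hf0 hfix0
  have hJ := hS.sj
  haveI : Nonempty (Fin k) := ⟨⟨0, by omega⟩⟩
  haveI : Finite (GL (Fin t → Fin k) F) := inferInstance
  obtain ⟨a, ha'⟩ : ∃ a, a = fv 0 := ⟨_, rfl⟩
  obtain ⟨b, hb'⟩ : ∃ b, b = fv 1 := ⟨_, rfl⟩
  have ha : bf J a a ≠ 0 := ha' ▸ hf0 0
  have hb : bf J b b ≠ 0 := hb' ▸ hf0 1
  have hab : bf J a b = 0 := ha' ▸ hb' ▸ hf 0 1 (by decide)
  let X : Subgroup (GL (Fin t → Fin k) F) :=
    { carrier := {g | g ∈ G ∧ (g : Matrix (Fin t → Fin k) (Fin t → Fin k) F).det = 1 ∧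
        Maps J i (g : Matrix (Fin t → Fin k) (Fin t → Fin k) F) a a 1 ∧
        Maps J i (g : Matrix (Fin t → Fin k) (Fin t → Fin k) F) b b 1}
      one_mem' := ⟨G.one_mem, by rw [Units.val_one, det_one], by rw [Units.val_one]; exact Maps.one i a,
        by rw [Units.val_one]; exact Maps.one i b⟩
      mul_mem' := fun {x y} hx hy => by
        refine ⟨G.mul_mem hx.1 hy.1, by rw [Units.val_mul, det_mul, hx.2.1, hy.2.1, one_mul], ?_, ?_⟩
        · rw [Units.val_mul]; simpa only [mul_one] using hy.2.2.1.mul hx.2.2.1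
        · rw [Units.val_mul]; simpa only [mul_one] using hy.2.2.2.mul hx.2.2.2
      inv_mem' := fun {x} hx => by
        have hM : MG G (x : Matrix (Fin t → Fin k) (Fin t → Fin k) F) := ⟨x, hx.1, rfl⟩
        have e : ((x⁻¹ : GL (Fin t → Fin k) F) : Matrix (Fin t → Fin k) (Fin t → Fin k) F) =
            adjJ (GV J) (x : Matrix _ _ F) := Units.inv_eq_of_mul_eq_one_left (hS.adj_inv hM).2.1
        refine ⟨G.inv_mem hx.1, ?_, ?_, ?_⟩
        · rw [e, det_adjJ hS.GV_det', hx.2.1]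
        · rw [e]; exact (hS.fix_left hM hx.2.2.1 a).2
        · rw [e]; exact (hS.fix_left hM hx.2.2.2 b).2 }
  let val : X → Matrix (Fin t → Fin k) (Fin t → Fin k) F := fun x => ((x : GL (Fin t → Fin k) F) : Matrix _ _ F)
  have hXM : ∀ x : X, MG G (val x) := fun x => ⟨_, x.2.1, rfl⟩
  have hinv : ∀ x : X, val x⁻¹ = adjJ (GV J) (val x) := fun x =>
    Units.inv_eq_of_mul_eq_one_left (hS.adj_inv (hXM x)).2.1
  have hmul : ∀ x y : X, val (x * y) = val x * val y := fun _ _ => rfl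
  have hone : val 1 = 1 := rfl
  have hinj : Function.Injective val := fun x y e => Subtype.ext (Units.ext e)
  have mk : ∀ g, MG G g → g.det = 1 → Maps J i g a a 1 → Maps J i g b b 1 → ∃ x : X, val x = g := by
    rintro g ⟨γ, hγ, rfl⟩ h1 h2 h3
    exact ⟨⟨γ, hγ, h1, h2, h3⟩, rfl⟩
  let S : Subgroup X :=
    { carrier := {x | ∃ A, val x = sl i A}
      one_mem' := ⟨1, by rw [hone, sl_one]⟩
      mul_mem' := fun {x y} ⟨A, hA⟩ ⟨B, hB⟩ => ⟨A * B, by rw [hmul, hA, hB, sl_mul]⟩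
      inv_mem' := fun {x} ⟨A, hA⟩ => ⟨adjJ J A, by rw [hinv, hA, adj_sl hJ.det]⟩ }
  suffices hST : S = ⊤ by
    obtain ⟨x, hx⟩ := mk h0 hh0 hd0 (ha' ▸ hfix0 0) (hb' ▸ hfix0 1)
    obtain ⟨A, hA⟩ := (show x ∈ S by rw [hST]; trivial)
    exact ⟨A, hx ▸ hA⟩
  by_contra hST
  -- three half turns
  obtain ⟨τv, hτv⟩ : ∃ τ, τ = J.det * bf J a a * bf J b b := ⟨_, rfl⟩
  have hτ0 : τv ≠ 0 := hτv ▸ mul_ne_zero (mul_ne_zero hJ.det.ne_zero ha) hb
  obtain ⟨g2, g2'⟩ := fam2 hJ ha hb hab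
  obtain ⟨c1, hc1, hc1f⟩ := exists_value_perp hJ (n := 2) (by omega) ![a, b] g2 g2' hτ0
  obtain ⟨g3, g3'⟩ := orth_cons hJ g2 g2' (hc1 ▸ hτ0) hc1f
  obtain ⟨c2, hc2, hc2f⟩ := exists_value_perp hJ (n := 3) (by omega) _ g3 g3' hτ0
  obtain ⟨g4, g4'⟩ := orth_cons hJ g3 g3' (hc2 ▸ hτ0) hc2f
  obtain ⟨c, hc, hcf⟩ := hJ.exists_orth (n := 4) (by omega) _ g4 g4'
  obtain ⟨g5, g5'⟩ := orth_cons hJ g4 g4' hc hcf
  obtain ⟨d, hd, hdd⟩ := gram5 hJ hk g5 g5'
  have hdd' : bf J c c * τv * τv * (bf J a a * bf J b b) = d * d * J.det := by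
    rw [← hdd]
    show _ = bf J c c * bf J c2 c2 * bf J c1 c1 * bf J a a * bf J b b
    rw [hc1, hc2]; ring
  obtain ⟨l, hl⟩ : ∃ l, l = bf J a a * bf J b b * τv / d := ⟨_, rfl⟩
  have hl0 : l ≠ 0 := hl ▸ div_ne_zero (mul_ne_zero (mul_ne_zero ha hb) hτ0) hd
  obtain ⟨c3, hc3'⟩ : ∃ c3, c3 = l • c := ⟨_, rfl⟩
  have hc3 : bf J c3 c3 = τv := by
    rw [hc3', bf_smul_left, bf_smul_right, hl]
    have hX : bf J c c * τv * (bf J a a * bf J b b) * (bf J a a * bf J b b) = d * d :=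
      mul_left_cancel₀ hτ0 (by linear_combination (bf J a a * bf J b b) * hdd' - (d * d) * hτv)
    field_simp
    first | linear_combination hX | linear_combination -hX | linear_combination τv * hX
  have hac1 : bf J a c1 = 0 := hc1f 0
  have hbc1 : bf J b c1 = 0 := hc1f 1
  have h12 : bf J c1 c2 = 0 := by simpa using hc2f 0
  have hac2 : bf J a c2 = 0 := by simpa using hc2f 1
  have hbc2 : bf J b c2 = 0 := by simpa using hc2f 2
  have h23 : bf J c2 c3 = 0 := by rw [hc3', bf_smul_right, show bf J c2 c = 0 by simpa using hcf 0, mul_zero]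
  have h13 : bf J c1 c3 = 0 := by rw [hc3', bf_smul_right, show bf J c1 c = 0 by simpa using hcf 1, mul_zero]
  have hac3 : bf J a c3 = 0 := by rw [hc3', bf_smul_right, show bf J a c = 0 by simpa using hcf 2, mul_zero]
  have hbc3 : bf J b c3 = 0 := by rw [hc3', bf_smul_right, show bf J b c = 0 by simpa using hcf 3, mul_zero]
  have hn1 : bf J c1 c1 ≠ 0 := hc1 ▸ hτ0
  have hn2 : bf J c2 c2 ≠ 0 := hc2 ▸ hτ0
  have hn3 : bf J c3 c3 ≠ 0 := hc3 ▸ hτ0
  have hturn : ∀ {u v : Fin k → F}, bf J u u ≠ 0 → bf J v v = bf J u u → bf J u v = 0 → bf J a u = 0 →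
      bf J b u = 0 → bf J a v = 0 → bf J b v = 0 → ∃ x : X, x ∈ S ∧ val x = sl i (rf J u * rf J v) ∧ x * x = 1 ∧
        x ≠ 1 := by
    intro u v hu hv huv hau hbu hav hbv
    obtain ⟨x, hx⟩ := mk (sl i (rf J u * rf J v)) (hS.pair i hi u v hu hv.symm) (det_sl_pair hJ i hu (hv ▸ hu))
      (by
        have := maps_sl (J := J) i (rf J u * rf J v) a
        rwa [← mulVec_mulVec, rf_perp (u := v) (by rw [hJ.comm]; exact hav),
          rf_perp (u := u) (by rw [hJ.comm]; exact hau)] at this)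
      (by
        have := maps_sl (J := J) i (rf J u * rf J v) b
        rwa [← mulVec_mulVec, rf_perp (u := v) (by rw [hJ.comm]; exact hbv),
          rf_perp (u := u) (by rw [hJ.comm]; exact hbu)] at this)
    have hvu : bf J v u = 0 := by rw [hJ.comm, huv]
    have hcm : rf J v * rf J u = rf J u * rf J v := by
      rw [rf_eq, rf_eq]
      simp only [sub_mul, mul_sub, one_mul, mul_one, smul_mul_assoc, mul_smul_comm, pj_orth huv, pj_orth hvu,
        smul_zero, sub_zero]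
      abel
    refine ⟨x, ⟨_, hx⟩, hx, hinj ?_, fun e => ?_⟩
    · rw [hmul, hx, hone, sl_mul, mul_assoc (rf J u), ← mul_assoc (rf J v), hcm, mul_assoc (rf J u),
        rf_sq (hv ▸ hu), mul_one, rf_sq hu, sl_one]
    · rw [e, hone, ← sl_one (F := F) (κ := Fin k) i] at hx
      have h1 := congrArg (· *ᵥ u) (sl_injective i hx)
      simp only [one_mulVec, ← mulVec_mulVec, rf_perp hvu, rf_self hu] at h1
      have h2 : (2 : F) • u = 0 := by linear_combination (norm := module) h1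
      exact hu (by rw [(smul_eq_zero.1 h2).resolve_left hJ.two]; simp [bf])
  obtain ⟨x12, h12S, h12v, h12s, h12n⟩ := hturn hn1 (hc2.trans hc1.symm) h12 hac1 hbc1 hac2 hbc2
  obtain ⟨x13, h13S, h13v, h13s, h13n⟩ := hturn hn1 (hc3.trans hc1.symm) h13 hac1 hbc1 hac3 hbc3
  obtain ⟨x23, h23S, h23v, h23s, h23n⟩ := hturn hn2 (hc3.trans hc2.symm) h23 hac2 hbc2 hac3 hbc3
  have hprod : x12 * x13 = x23 := hinj (by
    have hcm : rf J c2 * rf J c1 = rf J c1 * rf J c2 := by
      rw [rf_eq, rf_eq]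
      simp only [sub_mul, mul_sub, one_mul, mul_one, smul_mul_assoc, mul_smul_comm, pj_orth h12,
        pj_orth (show bf J c2 c1 = 0 by rw [hJ.comm, h12]), smul_zero, sub_zero]
      abel
    rw [hmul, h12v, h13v, h23v, sl_mul, ← mul_assoc, mul_assoc (rf J c1) (rf J c2), hcm, ← mul_assoc, rf_sq hn1,
      one_mul])
  -- the slot part is a Frobenius complement
  have hS0 : S ≠ ⊥ := fun e => h12n (by simpa [e] using h12S)
  have hFr : Cfsg.IsFrobeniusComplement S := by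
    refine ⟨hS0, hST, fun g hg => eq_bot_iff.2 fun x hx => ?_⟩
    obtain ⟨hx1, hx2⟩ := Subgroup.mem_inf.1 hx
    rw [Subgroup.mem_pointwise_smul_iff_inv_smul_mem, MulAut.smul_def, MulAut.conj_inv_apply] at hx2
    rw [Subgroup.mem_bot]
    by_contra hne
    obtain ⟨B, hB⟩ := hx1
    obtain ⟨A, hA⟩ := hx2
    refine hg ?_
    have hxe : g * (g⁻¹ * x * g) = x * g := by group
    have hAB : val g * sl i A = sl i B * val g := by rw [← hA, ← hB, ← hmul, ← hmul, hxe]
    have hy := (g⁻¹ * x * g).2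
    have hA1 : A ≠ 1 := fun e => by
      rw [e, sl_one, ← hone] at hA
      have h1 := hinj hA
      exact hne (by rw [show x = g * (g⁻¹ * x * g) * g⁻¹ by group, h1, mul_one, mul_inv_cancel])
    have hA2 : ((g⁻¹ * x * g : X) : GL (Fin t → Fin k) F).1 = sl i A := hA
    have hB2 : (x : GL (Fin t → Fin k) F).1 = sl i B := hB
    have hAM := hXM (g⁻¹ * x * g)
    rw [hA] at hAM
    have hBM := hXM x
    rw [hB] at hBM
    obtain ⟨-, hyd, hya, hyb⟩ := hy
    rw [hA2] at hyd hya hyb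
    obtain ⟨-, -, hxa, hxb⟩ := x.2
    rw [hB2] at hxa hxb
    have hstd := hS.rot_image hodd hk5 hF hG hi hk ha hb hab (hXM g) g.2.2.2.1 g.2.2.2.2 hAM hyd (maps_slot_eq hJ hya)
      (maps_slot_eq hJ hyb) hA1 hBM (maps_slot_eq hJ hxa) (maps_slot_eq hJ hxb) hAB
    exact hS.std_fix (fun e => ha (by rw [e]; simp [bf])) hstd g.2.2.2.1
  obtain ⟨N, -, hN, hcompl⟩ := Cfsg.Agent.S0035.result S hFr
  have hN0 : N ≠ ⊥ := fun e => hST (by
    rw [e] at hcompl
    exact Subgroup.isComplement'_bot_left.1 hcompl)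
  have hfpf := (Cfsg.Agent.S0039.result N S hcompl hN0 hS0).1 hFr
  haveI := hN
  have hinvert : ∀ x ∈ S, x ≠ 1 → x * x = 1 → ∀ n ∈ N, x * n * x⁻¹ = n⁻¹ := by
    intro x hx hx1 hxx n hn
    obtain ⟨φ, hφ⟩ : ∃ φ : N → N, φ = MulAut.conjNormal x := ⟨_, rfl⟩
    have hfp : MonoidHom.FixedPointFree φ := fun m hm => by
      rw [hφ] at hm
      have e := congrArg Subtype.val hm
      rw [MulAut.conjNormal_apply, mul_inv_eq_iff_eq_mul] at e
      have h1 : (m : X) ∈ N ⊓ Subgroup.centralizer {x} :=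
        ⟨m.2, Subgroup.mem_centralizer_singleton_iff.2 e.symm⟩
      rw [hfpf x hx hx1, Subgroup.mem_bot] at h1
      exact Subtype.ext h1
    have hiv : Function.Involutive φ := fun m => Subtype.ext (by
      rw [hφ, MulAut.conjNormal_apply, MulAut.conjNormal_apply]
      have : x⁻¹ = x := inv_eq_of_mul_eq_one_right hxx
      rw [this, show x * (x * (m : X) * x) * x = (x * x) * m * (x * x) by group, hxx, one_mul, mul_one])
    subst hφ
    have h1 := congrFun (hfp.coe_eq_inv_of_involutive hiv) ⟨n, hn⟩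
    have h2 := congrArg Subtype.val h1
    rwa [MulAut.conjNormal_apply] at h2
  refine hN0 (eq_bot_iff.2 fun n hn => ?_)
  have h1 := hinvert x12 h12S h12n h12s
  have h3 := hinvert x13 h13S h13n h13s n hn
  have hcomm : x23 * n * x23⁻¹ = n := by
    rw [← hprod, show x12 * x13 * n * (x12 * x13)⁻¹ = x12 * (x13 * n * x13⁻¹) * x12⁻¹ by group, h3,
      h1 n⁻¹ (N.inv_mem hn), inv_inv]
  have h4 : n ∈ N ⊓ Subgroup.centralizer {x23} := by
    refine ⟨hn, Subgroup.mem_centralizer_singleton_iff.2 ?_⟩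
    rw [mul_inv_eq_iff_eq_mul] at hcomm
    exact hcomm.symm
  rw [hfpf x23 h23S h23n] at h4
  exact h4

/-- two fixed axes -/
theorem plane : FixSlot J G i 2 := by
  by_cases h7 : 7 ≤ k
  · exact hS.plane7 hodd hk5 hF hG hi h7
  · exact hS.plane5 hodd hk5 hF hG hi (by obtain ⟨r, hr⟩ := hodd; omega)

omit hi in
/-- centralisers of signed reflections permute the slots -/
theorem centStd5 : CentStd J Sg G := by
  intro j hj u hu g hg hc
  have hJ := hS.sj
  obtain ⟨a, hao, ha, haa⟩ := hS.commute_line hu.1 hg hc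
  obtain ⟨hf, hf0⟩ := fam1 (J := J) hu.1
  obtain ⟨p, f, hp0, hp, hpf, hff, hperp⟩ := exists_root_perp hJ (n := 1) (by omega) ![u] hf hf0
  obtain ⟨hr, -⟩ := hS.mg_root hj hp hpf
  have hru : eS J p f *ᵥ u = u :=
    hS.eS_fix hp hpf (by simpa using (hperp 0).1) (by simpa using (hperp 0).2)
  have hfix : Maps J j (g * sl j (eS J p f) * adjJ (GV J) g) u u 1 := by
    have e1 := maps_sl (J := J) j (eS J p f) u
    rw [hru] at e1
    have := ((hS.maps_adj hg ha haa).mul e1).mul ha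
    simpa only [mul_assoc, mul_one, one_mul, mul_eq_one_comm.1 haa] using this
  obtain ⟨A, hA⟩ := hS.axis5 hodd hk5 hF hG hj (hS.plane hodd hk5 hF hG hj) hu.1 _ (hS.conj_mem hg hr)
    (by rw [hS.det_conj hg, det_sl_eS hJ j hp hpf]) hfix
  exact hS.root_std hodd hk5 hF hG hj hp0 hp hpf hff hg hA

end Setting

end Cfsg.Agent.ClassicalMax.OOWreath
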