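import Cfsg.Agent.ClassicalMax.OOWreath.OddSmall

/-!
The field of five elements: the turns of every hyperbolic plane of a three dimensional slot.
-/

set_option autoImplicit false
set_option linter.unusedSectionVars false
set_option linter.unusedSimpArgs false

namespace Cfsg.Agent.ClassicalMax.OOWreath

open Matrix Cfsg.Agent.ClassicalMax.TPow
open Cfsg.Agent.ClassicalMax.SpWreath (GV GV_det)

variable {F : Type*} [Field F] {k t : ℕ} {J : Matrix (Fin k) (Fin k) F} [Finite F]

/-- in dimension three the middle of a plane is a line -/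
theorem mem_line (hJ : SJ J) (hk3 : k = 3) {p q e v : Fin k → F} (h : HP J p q) (he : Mem J p q e) (he0 : e ≠ 0)
    (hv : Mem J p q v) : ∃ c : F, v = c • e := by
  have hli : LinearIndependent F ![p, q] := by
    refine linearIndependent_fin2.2 ⟨fun e0 => ?_, fun s e0 => ?_⟩
    · have := h.pq
      rw [show q = 0 from e0] at this
      simp [bf] at this
    · have := congrArg (fun z => bf J z q) e0
      simp only [Matrix.cons_val_zero, Matrix.cons_val_one, bf_smul_left, h.qq, mul_zero, h.pq] at this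
      exact zero_ne_one this
  obtain ⟨z, hz0, -, hzu⟩ := hJ.perp_hyper (n := 2) (by omega) hli
  have key : ∀ {x}, Mem J p q x → ∃ c : F, x = c • z := fun {x} hx => hzu x fun a => by
    fin_cases a
    exacts [hx.1, hx.2]
  obtain ⟨c, hc⟩ := key he
  obtain ⟨d, hd⟩ := key hv
  have hc0 : c ≠ 0 := fun e0 => he0 (by rw [hc, e0, zero_smul])
  exact ⟨d / c, by rw [hc, smul_smul, div_mul_cancel₀ _ hc0, hd]⟩

variable {Sg : Finset (Fin t)} {G : Subgroup (GL (Fin t → Fin k) F)}

namespace Setting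

variable {i : Fin t} (hS : Setting J Sg G) (hodd : Odd k) (hk3 : k = 3) (hF : ¬ Full J Sg G) (hi : i ∈ Sg)
include hS hodd hk3 hF hi

/-- the slot elements fixing an axis without turns -/
theorem slot_two {p q e : Fin k → F} (h : HP J p q) (he : Mem J p q e) (he0 : bf J e e ≠ 0)
    (hT : ¬ Turn J G i p q) {A : Matrix (Fin k) (Fin k) F} (hA : MG G (sl i A)) (hAd : A.det = 1)
    (hAe : A *ᵥ e = e) : A = 1 ∨ A = dl J e := by
  have hJ := hS.sj
  have hAi := hS.slot_iso hA
  have hev : e ≠ 0 := fun e0 => he0 (by rw [e0]; simp [bf])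
  have hiso : ∀ u v, bf J (A *ᵥ u) (A *ᵥ v) = bf J u v := bf_iso hJ hAi
  have hqp : bf J q p = 1 := by rw [hJ.comm, h.pq]
  -- coordinates of the images
  have coord : ∀ v, bf J e v = 0 → A *ᵥ v = bf J q (A *ᵥ v) • p + bf J p (A *ᵥ v) • q := fun v hv => by
    obtain ⟨m, hm, e1⟩ := hJ.decomp h (A *ᵥ v)
    obtain ⟨c, rfl⟩ := mem_line hJ hk3 h he hev hm
    have h1 : bf J e (A *ᵥ v) = 0 := by
      nth_rw 1 [← hAe]
      rw [hiso, hv]
    rw [e1] at h1
    simp only [bf_add_right, bf_smul_right, hJ.comm e p, hJ.comm e q, he.1, he.2, mul_zero, add_zero] at h1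
    conv_lhs => rw [e1, (mul_eq_zero.1 h1).resolve_right he0, zero_smul, zero_add]
  have hep : bf J e p = 0 := by rw [hJ.comm, he.1]
  have heq : bf J e q = 0 := by rw [hJ.comm, he.2]
  obtain ⟨hfe, hfe0⟩ := fam1 (J := J) he0
  obtain ⟨al, hal⟩ : ∃ al, al = bf J q (A *ᵥ p) := ⟨_, rfl⟩
  obtain ⟨be, hbe⟩ : ∃ be, be = bf J p (A *ᵥ p) := ⟨_, rfl⟩
  have hp := coord p hep
  rw [← hal, ← hbe] at hp
  have hab : al * be = 0 := by
    have h1 := hiso p p
    rw [hp] at h1
    simp only [bf_add_left, bf_add_right, bf_smul_left, bf_smul_right, h.pp, h.qq, h.pq, hqp] at h1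
    exact (mul_eq_zero.1 (show (2 : F) * (al * be) = 0 by linear_combination h1)).resolve_left hJ.two
  have fix2 : ∀ {B : Matrix (Fin k) (Fin k) F} {v}, adjJ J B * B = 1 → B.det = 1 → B *ᵥ e = e → B *ᵥ v = v →
      bf J e v = 0 → v ≠ 0 → B = 1 := fun {B v} hB hBd hBe hBv hev' hv0 => by
    refine fix_hyper hJ (n := 2) (f := ![e, v]) (by omega) (linearIndependent_fin2.2 ⟨hv0, fun s e1 => ?_⟩) hB hBd
      fun a => by fin_cases a <;> assumption
    have := congrArg (bf J e) e1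
    simp only [Matrix.cons_val_zero, Matrix.cons_val_one, bf_smul_right, hev', mul_zero] at this
    exact he0 this.symm
  rcases mul_eq_zero.1 hab with e1 | e1
  · -- the lines are exchanged
    rw [e1, zero_smul, zero_add] at hp
    have hbe0 : be ≠ 0 := fun e2 => by
      have := congrArg (adjJ J A *ᵥ ·) hp
      simp only [e2, zero_smul, mulVec_zero, mulVec_mulVec, hAi, one_mulVec] at this
      exact h.p0 this
    have hq : A *ᵥ q = be⁻¹ • p := by
      have h2 := hiso p q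
      rw [hp, bf_smul_left, h.pq] at h2
      have e2 : bf J q (A *ᵥ q) = be⁻¹ := eq_inv_of_mul_eq_one_right h2
      have h3 := coord q heq
      have h4 := hiso q q
      rw [h3, e2] at h4
      simp only [bf_add_left, bf_add_right, bf_smul_left, bf_smul_right, h.pp, h.qq, h.pq, hqp] at h4
      have h5 : bf J p (A *ᵥ q) = 0 := (mul_eq_zero.1 (show (2 * be⁻¹) * bf J p (A *ᵥ q) = 0 by
        linear_combination h4)).resolve_left (mul_ne_zero hJ.two (inv_ne_zero hbe0))
      conv_lhs => rw [h3, e2, h5, zero_smul, add_zero]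
    have hv : A *ᵥ (p + be • q) = p + be • q := by
      rw [mulVec_add, mulVec_smul, hp, hq, smul_smul, mul_inv_cancel₀ hbe0, one_smul, add_comm]
    exfalso
    have h0 : p + be • q ≠ 0 := fun e2 => by
      have := congrArg (bf J q) e2
      rw [bf_add_right, bf_smul_right, h.qq, hqp, mul_zero, add_zero] at this
      exact one_ne_zero (this.trans (by simp [bf]))
    have hA1 := fix2 hAi hAd hAe hv (by simp [bf_add_right, bf_smul_right, hep, heq]) h0
    rw [hA1, one_mulVec] at hp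
    have := congrArg (bf J p) hp
    rw [h.pp, bf_smul_right, h.pq, mul_one] at this
    exact hbe0 this.symm
  rw [e1, zero_smul, add_zero] at hp
  have hal0 : al ≠ 0 := fun e2 => by
    have := congrArg (adjJ J A *ᵥ ·) hp
    simp only [e2, zero_smul, mulVec_zero, mulVec_mulVec, hAi, one_mulVec] at this
    exact h.p0 this
  have hq : A *ᵥ q = al⁻¹ • q := by
    have h2 := hiso p q
    rw [hp, bf_smul_left, h.pq] at h2
    have e2 : bf J p (A *ᵥ q) = al⁻¹ := eq_inv_of_mul_eq_one_right h2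
    have h3 := coord q heq
    have h4 := hiso q q
    rw [h3, e2] at h4
    simp only [bf_add_left, bf_add_right, bf_smul_left, bf_smul_right, h.pp, h.qq, h.pq, hqp] at h4
    have h5 : bf J q (A *ᵥ q) = 0 := (mul_eq_zero.1 (show (2 * al⁻¹) * bf J q (A *ᵥ q) = 0 by
      linear_combination h4)).resolve_left (mul_ne_zero hJ.two (inv_ne_zero hal0))
    conv_lhs => rw [h3, e2, h5, zero_smul, zero_add]
  by_cases hll : al * al = 1
  swap
  · refine absurd ⟨A, al, hll, hal0, hA, hp, hq, fun v hv => ?_⟩ hT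
    obtain ⟨c, rfl⟩ := mem_line hJ hk3 h he hev hv
    rw [mulVec_smul, hAe]
  rcases mul_self_eq_one_iff.1 hll with e2 | e2
  · left
    rw [e2, one_smul] at hp
    exact fix2 hAi hAd hAe hp hep h.p0
  · right
    have hsg : sg F k = -1 := by rw [sg, hodd.neg_one_pow]
    have hB := fix2 (B := A * dl J e) (v := p)
      (by rw [adj_mul hJ.det, mul_assoc, ← mul_assoc (adjJ J A), hAi, one_mul, hJ.dl_adj, dl_sq he0])
      (by rw [det_mul, hAd, dl_det_odd hodd hJ he0, one_mul])
      (by rw [← mulVec_mulVec, dl_self he0, hsg, neg_neg, one_smul, hAe])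
      (by rw [← mulVec_mulVec, dl_perp hep, hsg, mulVec_smul, hp, e2, smul_smul, neg_mul_neg, one_mul, one_smul])
      hep h.p0
    calc A = A * (dl J e * dl J e) := by rw [dl_sq he0, mul_one]
      _ = dl J e := by rw [← mul_assoc, hB, one_mul]

/-- an axis without turns over the field of five elements is fixed by a group of order prime to five -/
theorem small_coprime (h5 : (5 : F) = 0) {p q e : Fin k → F} (h : HP J p q) (he : Mem J p q e) (hea : Good J e)
    (hT : ¬ Turn J G i p q) : ¬ (5 : ℕ) ∣ Nat.card (axX J G i e) := by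
  classical
  intro h5X
  have hJ := hS.sj
  haveI : Nonempty (Fin k) := ⟨⟨0, by omega⟩⟩
  haveI : Fact (Nat.Prime 5) := ⟨Nat.prime_five⟩
  have h2 := hJ.two
  have hw : (2 : F) * 2 = -1 := by linear_combination h5
  have hqp : bf J q p = 1 := by rw [hJ.comm, h.pq]
  have hep : bf J e p = 0 := by rw [hJ.comm, he.1]
  have heq : bf J e q = 0 := by rw [hJ.comm, he.2]
  obtain ⟨ν, hν⟩ : ∃ ν, ν = bf J e e := ⟨_, rfl⟩
  have hν0 : ν ≠ 0 := hν ▸ hea.1
  obtain ⟨b, hb'⟩ : ∃ b, b = p + (ν / 2) • q := ⟨_, rfl⟩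
  obtain ⟨c, hc'⟩ : ∃ c, c = (2 : F) • p + (-ν) • q := ⟨_, rfl⟩
  have hbb : bf J b b = ν := by
    simp only [hb', bf_add_left, bf_add_right, bf_smul_left, bf_smul_right, h.pp, h.qq, h.pq, hqp]
    field_simp; ring
  have hcc : bf J c c = ν := by
    simp only [hc', bf_add_left, bf_add_right, bf_smul_left, bf_smul_right, h.pp, h.qq, h.pq, hqp]
    linear_combination (-ν) * h5
  have hab : bf J e b = 0 := by rw [hb', bf_add_right, bf_smul_right, hep, heq]; ring
  have hac : bf J e c = 0 := by rw [hc', bf_add_right, bf_smul_right, bf_smul_right, hep, heq]; ring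
  have hbc : bf J b c = 0 := by
    simp only [hb', hc', bf_add_left, bf_add_right, bf_smul_left, bf_smul_right, h.pp, h.qq, h.pq, hqp]
    field_simp; ring
  have hbg : Good J b := ⟨hbb ▸ hν0, fun ho => by rw [hbb, hν]; exact hea.2 ho⟩
  have hdl : dl J e * dl J b = dl J c := triangle hJ hk3 hea.1 hbg.1 (hcc ▸ hν0) hab hac hbc
  have hsg : sg F k = -1 := by rw [sg, hodd.neg_one_pow]
  obtain ⟨xu, hxu, hxe⟩ := hS.refl i hi e hea
  obtain ⟨Du, hDu, hDe⟩ := hS.refl i hi b hbg
  obtain ⟨X, hX⟩ : ∃ X, X = axX J G i e := ⟨_, rfl⟩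
  have hXm : ∀ {g}, g ∈ X → g ∈ G ∧ (g : Matrix (Fin t → Fin k) (Fin t → Fin k) F).det = 1 ∧
      Maps J i (g : Matrix (Fin t → Fin k) (Fin t → Fin k) F) e e 1 := fun {g} hg => by subst hX; exact hg
  have hxX : xu ∈ X := by
    rw [hX]
    refine ⟨hxu, by rw [hxe, det_sl_dl hodd hJ i hea.1], ?_⟩
    have := maps_sl (J := J) i (dl J e) e
    rwa [dl_self hea.1, hsg, neg_neg, one_smul, ← hxe] at this
  have hxx : xu * xu = 1 := Units.ext (by rw [Units.val_mul, hxe, sl_mul, dl_sq hea.1, sl_one, Units.val_one])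
  have hDD : Du * Du = 1 := Units.ext (by rw [Units.val_mul, hDe, sl_mul, dl_sq hbg.1, sl_one, Units.val_one])
  have hDx : Du * xu = xu * Du := Units.ext (by
    rw [Units.val_mul, Units.val_mul, hDe, hxe, sl_mul, sl_mul, (dl_commute_of_orth hJ hab).eq])
  have hxc : ∀ g ∈ X, g * xu = xu * g := fun g hg => Units.ext (by
    obtain ⟨hgG, -, hgm⟩ := hXm hg
    rw [Units.val_mul, Units.val_mul, hxe]; exact (hS.fix_commute ⟨g, hgG, rfl⟩ hgm).eq)
  have hDX : ∀ g ∈ X, Du * g * Du ∈ X := fun g hg => by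
    obtain ⟨hgG, hgd, hgm⟩ := hXm hg
    rw [hX]
    refine ⟨G.mul_mem (G.mul_mem hDu hgG) hDu, ?_, ?_⟩
    · rw [Units.val_mul, Units.val_mul, det_mul, det_mul, hgd, mul_one, ← det_mul, hDe, sl_mul, dl_sq hbg.1, sl_one,
        det_one]
    · have h1 := maps_sl (J := J) i (dl J b) e
      rw [dl_perp (by rw [hJ.comm, hab]), hsg, ← hDe] at h1
      have h3 := (h1.mul (maps_scale hgm (-1))).mul (maps_scale h1 (-1))
      rw [smul_smul, neg_mul_neg, one_mul, one_smul] at h3
      simpa only [Units.val_mul, mul_assoc, mul_one] using h3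
  have hA : ∀ g ∈ X, Du * g = g * Du → g = 1 ∨ g = xu := fun g hg hc => by
    obtain ⟨hgG, hgd, hgm⟩ := hXm hg
    rcases hS.small_cent hodd hk3 hF hi hea hbg (hbb.trans hν) (hcc.trans hν) hab hac hbc hw ⟨g, hgG, rfl⟩ hgd hgm
      (by
        show _ = _
        rw [← hDe, ← Units.val_mul, ← Units.val_mul, hc]) with e1 | e1
    · exact Or.inl (Units.ext (e1.trans Units.val_one.symm))
    · exact Or.inr (Units.ext (e1.trans hxe.symm))
  have hxu1 : xu ≠ 1 := fun e1 => by
    rw [e1, Units.val_one, ← sl_one (F := F) (κ := Fin k) i] at hxe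
    exact dl_ne_scalar hJ hea.1 1 (by rw [one_smul]; exact (sl_injective i hxe).symm)
  have hB : ∀ g ∈ X, g * Du ≠ xu * Du * g := by
    intro g hg hgD
    obtain ⟨hgG, hgd, hgm⟩ := hXm hg
    have hcomm : ∀ l ∈ Sg, l ≠ i → ∀ x y, bf J x x = 0 → bf J x y = 0 →
        Commute (g : Matrix (Fin t → Fin k) (Fin t → Fin k) F) (sl l (eS J x y)) := by
      intro l hl hli x y hx hy
      obtain ⟨r, hr, hre, hrp, -⟩ := hS.root_unit hl hx hy
      have hci : ∀ A, Commute (r : Matrix (Fin t → Fin k) (Fin t → Fin k) F) (sl i A) := fun A =>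
        hre ▸ sl_commute hli _ A
      have hrD : r * Du = Du * r := Units.ext (by rw [Units.val_mul, Units.val_mul, hDe]; exact (hci _).eq)
      have hrx : r * xu = xu * r := Units.ext (by rw [Units.val_mul, Units.val_mul, hxe]; exact (hci _).eq)
      have hrgX : r * g * r⁻¹ ∈ X := hX ▸ hS.axX_conj hr hci (hX ▸ hg)
      have hconj : r * g * r⁻¹ * Du = xu * Du * (r * g * r⁻¹) := by
        have e1 : r⁻¹ * Du = Du * r⁻¹ := by rw [inv_mul_eq_iff_eq_mul, ← mul_assoc, hrD, mul_inv_cancel_right]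
        rw [mul_assoc _ r⁻¹, e1, ← mul_assoc, mul_assoc r g Du, hgD]
        simp only [← mul_assoc, hrx]
        rw [mul_assoc xu r Du, hrD, ← mul_assoc]
      have hc2 : Du * (g⁻¹ * (r * g * r⁻¹)) = g⁻¹ * (r * g * r⁻¹) * Du := by
        have e0 : Du * g⁻¹ = g⁻¹ * (xu * Du) := by
          rw [eq_inv_mul_iff_mul_eq, ← mul_assoc, hgD, mul_assoc, mul_inv_cancel, mul_one]
        rw [← mul_assoc Du, e0, mul_assoc g⁻¹ (r * g * r⁻¹), hconj]
        simp only [mul_assoc]
      rcases hA _ (X.mul_mem (X.inv_mem hg) hrgX) hc2 with e1 | e1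
      · rw [inv_mul_eq_one, eq_mul_inv_iff_mul_eq] at e1
        rw [← hre]
        exact congrArg Units.val e1
      · exfalso
        rw [inv_mul_eq_iff_eq_mul] at e1
        have hn : ∀ n : ℕ, r ^ n * g * (r ^ n)⁻¹ = g * xu ^ n := fun n => by
          induction n with
          | zero => simp
          | succ n ih =>
            have hrxn : r * xu ^ n = xu ^ n * r := ((show Commute r xu from hrx).pow_right n).eq
            rw [pow_succ' r, _root_.mul_inv_rev, show r * r ^ n * g * ((r ^ n)⁻¹ * r⁻¹) = r * (r ^ n * g * (r ^ n)⁻¹) * r⁻¹ by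
              simp only [mul_assoc], ih, ← mul_assoc r, mul_assoc (r * g), pow_succ' xu]
            calc r * g * (xu ^ n * r⁻¹) = r * g * (r⁻¹ * (r * xu ^ n) * r⁻¹) := by rw [inv_mul_cancel_left]
              _ = r * g * r⁻¹ * xu ^ n := by rw [hrxn]; simp only [mul_assoc, mul_inv_cancel, mul_one]
              _ = g * (xu * xu ^ n) := by rw [e1, mul_assoc]
        haveI : CharP F 5 := (CharP.charP_iff_prime_eq_zero Nat.prime_five).2 (by exact_mod_cast h5)
        have h6 := hn 5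
        rw [show ringChar F = 5 from ringChar.eq F 5] at hrp
        rw [hrp, one_mul, inv_one, mul_one] at h6
        rw [show xu ^ 5 = xu * xu * (xu * xu) * xu by simp only [pow_succ, pow_zero, one_mul, mul_assoc], hxx, one_mul, one_mul,
          left_eq_mul] at h6
        exact hxu1 h6
    obtain ⟨A, hAe⟩ := hS.slot_of_commute_roots ⟨g, hgG, rfl⟩ hcomm
    have hg2 : g = 1 ∨ g = xu := by
      rcases hS.slot_two hodd hk3 hF hi h he hea.1 hT (A := A) ⟨g, hgG, hAe⟩
        (det_of_sl hodd hJ (hS.slot_iso ⟨g, hgG, hAe⟩) (hAe ▸ hgd)) (maps_slot_eq hJ (hAe ▸ hgm)) with e1 | e1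
      · exact Or.inl (Units.ext (by rw [hAe, e1, sl_one, Units.val_one]))
      · exact Or.inr (Units.ext (by rw [hAe, e1, hxe]))
    rcases hg2 with rfl | rfl
    · rw [one_mul, mul_one, right_eq_mul] at hgD; exact hxu1 hgD
    · rw [mul_assoc, hDx, mul_right_inj, right_eq_mul] at hgD; exact hxu1 hgD
  have hinv : ∀ g ∈ X, Du * g * Du = g⁻¹ := fun g hg => inverts_of_fibres hxX hxx hxc hDD hDx hDX hA hB hg
  have hab' : ∀ g ∈ X, ∀ g' ∈ X, g * g' = g' * g := fun g hg g' hg' => by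
    refine inv_injective ?_
    rw [← hinv _ (X.mul_mem hg hg'), _root_.mul_inv_rev g', ← hinv g hg, ← hinv g' hg']
    simp only [mul_assoc]
    rw [← mul_assoc Du Du, hDD, one_mul]
  -- the elements of order five
  let Q : Subgroup (GL (Fin t → Fin k) F) :=
    { carrier := {g | g ∈ X ∧ g ^ 5 = 1}
      one_mem' := ⟨X.one_mem, one_pow 5⟩
      mul_mem' := fun {a b} ha hb => ⟨X.mul_mem ha.1 hb.1, by
        rw [Commute.mul_pow (hab' a ha.1 b hb.1), ha.2, hb.2, one_mul]⟩
      inv_mem' := fun {a} ha => ⟨X.inv_mem ha.1, by rw [inv_pow, ha.2, inv_one]⟩ }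
  obtain ⟨g0, hg0⟩ := exists_prime_orderOf_dvd_card' (G := X) 5 (hX ▸ h5X)
  have hQp : IsPGroup 5 Q := fun g => ⟨1, Subtype.ext (by rw [pow_one]; exact g.2.2)⟩
  obtain ⟨Pa, hPa⟩ : ∃ P, P = sl (β := Fin t) i (pj J e) := ⟨_, rfl⟩
  have hQa : ∀ g : Q, Commute ((g : GL (Fin t → Fin k) F) : Matrix (Fin t → Fin k) (Fin t → Fin k) F) Pa := fun g =>
    hPa ▸ hS.pj_commute ⟨_, (hXm g.2.1).1, rfl⟩ (hXm g.2.1).2.2
  let W : Submodule F ((Fin t → Fin k) → F) := LinearMap.ker Pa.mulVecLin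
  letI : MulAction Q W :=
    { smul := fun g v => ⟨((g : GL (Fin t → Fin k) F) : Matrix _ _ F) *ᵥ v.1, by
        show Pa *ᵥ _ = 0
        rw [mulVec_mulVec, ← (hQa g).eq, ← mulVec_mulVec, show Pa *ᵥ v.1 = 0 from v.2, mulVec_zero]⟩
      one_smul := fun v => Subtype.ext (by
        show ((1 : GL (Fin t → Fin k) F) : Matrix _ _ F) *ᵥ v.1 = v.1
        rw [Units.val_one, one_mulVec])
      mul_smul := fun g g' v => Subtype.ext (by
        show ((g * g' : Q) : GL (Fin t → Fin k) F).1 *ᵥ v.1 = _ *ᵥ (_ *ᵥ v.1)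
        rw [mulVec_mulVec]; rfl) }
  haveI : CharP F 5 := (CharP.charP_iff_prime_eq_zero Nat.prime_five).2 (by exact_mod_cast h5)
  have hPe : sl (β := Fin t) i (pj J b) ≠ 0 := fun e1 => pj_ne hJ hbg.1 (sl_injective i (e1.trans (sl_zero i).symm))
  obtain ⟨w0, hw00, hw0⟩ : ∃ w : W, w ≠ 0 ∧ True := by
    obtain ⟨z, hz⟩ : ∃ z, sl (β := Fin t) i (pj J b) *ᵥ z ≠ 0 := by
      by_contra! h0
      exact hPe (Matrix.toLin'.injective (LinearMap.ext fun z => by simp [h0 z]))
    refine ⟨⟨sl i (pj J b) *ᵥ z, ?_⟩, fun e1 => hz (congrArg Subtype.val e1), trivial⟩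
    show Pa *ᵥ _ = 0
    rw [hPa, mulVec_mulVec, sl_mul, pj_orth hab, sl_zero, zero_mulVec]
  have hW5 : 5 ∣ Nat.card W := by
    have : addOrderOf w0 = 5 := addOrderOf_eq_prime (by
      rw [← Nat.cast_smul_eq_nsmul F, show ((5 : ℕ) : F) = 0 by exact_mod_cast h5, zero_smul]) hw00
    exact this ▸ addOrderOf_dvd_natCard w0
  obtain ⟨v, hv, hv0⟩ := hQp.exists_fixed_point_of_prime_dvd_card_of_fixed_point (α := W) hW5 (a := 0)
    fun g => Subtype.ext (mulVec_zero _)
  have hfix : ∀ g ∈ Q, (g : Matrix (Fin t → Fin k) (Fin t → Fin k) F) *ᵥ v.1 = v.1 := fun g hg =>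
    congrArg Subtype.val (hv ⟨g, hg⟩)
  -- fixed vectors in one of the other axes
  have hsum : pj J e + pj J b + pj J c = 1 := by
    subst hk3
    obtain ⟨hf, hf0⟩ := fam3 hJ hea.1 hbg.1 (hcc ▸ hν0) hab hac hbc
    have := (basis_facts hJ _ hf hf0).1
    simpa [Fin.sum_univ_three] using this
  have hdlb : dl J b = (2 : F) • pj J b - 1 := by rw [dl, hsg, rf_eq]; module
  obtain ⟨z, z', hzz, hzfix, hz0⟩ : ∃ z z', (z = b ∨ z = c) ∧ z' = sl (β := Fin t) i (pj J z) *ᵥ v.1 ∧
      (∀ g ∈ Q, (g : Matrix (Fin t → Fin k) (Fin t → Fin k) F) *ᵥ z' = z') ∧ z' ≠ 0 := by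
    have hD : ∀ g ∈ Q, (g : Matrix (Fin t → Fin k) (Fin t → Fin k) F) *ᵥ ((Du : Matrix _ _ F) *ᵥ v.1) =
        (Du : Matrix _ _ F) *ᵥ v.1 := fun g hg => by
      have e1 : g * Du = Du * g⁻¹ := by
        rw [← hinv g hg.1, ← mul_assoc, ← mul_assoc, hDD, one_mul]
      rw [mulVec_mulVec, ← Units.val_mul, e1, Units.val_mul, ← mulVec_mulVec, hfix _ (Q.inv_mem hg)]
    have hbv : sl (β := Fin t) i (pj J b) *ᵥ v.1 = (2 : F)⁻¹ • (v.1 + (Du : Matrix _ _ F) *ᵥ v.1) := by
      rw [hDe, hdlb, sub_eq_add_neg, ← neg_one_smul F (1 : Matrix (Fin k) (Fin k) F), sl_add, sl_smul, sl_smul, sl_one,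
        add_mulVec, smul_mulVec, smul_mulVec, one_mulVec]
      match_scalars <;> field_simp <;> ring
    have hbfix : ∀ g ∈ Q, (g : Matrix (Fin t → Fin k) (Fin t → Fin k) F) *ᵥ (sl i (pj J b) *ᵥ v.1) =
        sl i (pj J b) *ᵥ v.1 := fun g hg => by
      rw [hbv, mulVec_smul, mulVec_add, hfix g hg, hD g hg]
    by_cases hb0 : sl i (pj J b) *ᵥ v.1 = 0
    swap
    · exact ⟨b, _, Or.inl rfl, rfl, hbfix, hb0⟩
    have hcv : sl i (pj J c) *ᵥ v.1 = v.1 := by
      have h1 := congrArg (fun M => sl (β := Fin t) i M *ᵥ v.1) hsum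
      simp only [sl_add, sl_one, add_mulVec, one_mulVec, hb0, add_zero, ← hPa, show Pa *ᵥ v.1 = 0 from v.2,
        zero_add] at h1
      exact h1
    refine ⟨c, _, Or.inr rfl, rfl, fun g hg => ?_, fun e1 => hv0 (Subtype.ext (hcv.symm.trans e1).symm)⟩
    rw [hcv, hfix g hg]
  obtain ⟨hz'v, hzne⟩ := hz0
  have hzn : bf J z z ≠ 0 := by rcases hzz with rfl | rfl <;> [exact hbg.1; exact hcc ▸ hν0]
  let P' : Matrix (Fin t → Fin k) (Fin t → Fin k) F → Prop := fun M =>
    ∀ y, (∀ g ∈ Q, ∀ A, (g : Matrix (Fin t → Fin k) (Fin t → Fin k) F) *ᵥ (sl i (pj J z) *ᵥ (sl i A *ᵥ y)) =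
      sl i (pj J z) *ᵥ (sl i A *ᵥ y)) → ∀ g ∈ Q, ∀ A,
      (g : Matrix (Fin t → Fin k) (Fin t → Fin k) F) *ᵥ (sl i (pj J z) *ᵥ (sl i A *ᵥ (M *ᵥ y))) =
        sl i (pj J z) *ᵥ (sl i A *ᵥ (M *ᵥ y))
  have hP' : IsAlg P' := by
    refine ⟨fun y hy => by simpa only [one_mulVec] using hy, fun M N hM hN y hy g hg A => ?_,
      fun M hM s y hy g hg A => ?_, fun M N hM hN y hy => ?_⟩
    · simp only [add_mulVec, mulVec_add, hM y hy g hg A, hN y hy g hg A]
    · simp only [smul_mulVec, mulVec_smul, hM y hy g hg A]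
    · rw [← mulVec_mulVec]; exact hM _ (hN y hy)
  have hslots : ∀ (l : Fin t) A, P' (sl l A) := by
    intro l
    rcases eq_or_ne l i with rfl | hli
    · intro A y hy g hg B
      rw [mulVec_mulVec _ (sl l B), sl_mul]; exact hy g hg _
    have hci : ∀ C D, Commute (sl (F := F) (κ := Fin k) l C) (sl i D) := fun C D => sl_commute hli C D
    by_cases hl : l ∈ Sg
    · refine IsAlg.slot_of_roots (P := P') hP' hJ fun x y hx hy v' hv' g hg B => ?_
      obtain ⟨r, hr, hre, -, -⟩ := hS.root_unit hl hx hy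
      have hgr : r⁻¹ * g * r ∈ Q := by
        refine ⟨hX ▸ ?_, ?_⟩
        · have := hS.axX_conj (G.inv_mem hr) (fun A => ((hre ▸ hci _ A : Commute (r : Matrix _ _ F) (sl i A))).units_inv_left)
            (hX ▸ hg.1)
          rwa [inv_inv] at this
        · have := conj_pow (a := r⁻¹) (b := g) (i := 5)
          rw [inv_inv] at this
          rw [this, hg.2, mul_one, inv_mul_cancel]
      have h1 := congrArg (fun w => r.1 *ᵥ w) (hv' _ hgr B)
      simp only [mulVec_mulVec, ← Units.val_mul, mul_inv_cancel_left, ← mul_assoc, mul_inv_cancel, one_mul] at h1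
      simp only [Units.val_mul, hre, mulVec_mulVec] at h1 ⊢
      rw [show sl i (pj J z) * (sl i B * sl l (eS J x y)) = sl l (eS J x y) * (sl i (pj J z) * sl i B) by
        rw [← mul_assoc, ← ((hci _ _).mul_right (hci _ _)).eq]]
      simpa only [mul_assoc] using h1
    · intro A v' hv' g hg B
      have hgl := hS.out' ⟨g, (hXm hg.1).1, rfl⟩ hl A
      have h1 := congrArg (sl l A *ᵥ ·) (hv' g hg B)
      simp only [mulVec_mulVec] at h1 ⊢
      rw [show sl i (pj J z) * (sl i B * sl l A) = sl l A * (sl i (pj J z) * sl i B) by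
        rw [← mul_assoc, ← ((hci _ _).mul_right (hci _ _)).eq], ← mul_assoc, hgl.eq]
      simpa only [mul_assoc] using h1
  have hy0 : ∀ g ∈ Q, ∀ A, (g : Matrix (Fin t → Fin k) (Fin t → Fin k) F) *ᵥ (sl i (pj J z) *ᵥ (sl i A *ᵥ z')) =
      sl i (pj J z) *ᵥ (sl i A *ᵥ z') := fun g hg A => by
    have e1 : pj J z * (A * pj J z) = ((bf J z z)⁻¹ * bf J z (A *ᵥ z)) • pj J z := by
      rw [pj, smul_mul_assoc, mul_smul_comm, mul_smul_comm, mul_rk, rk_mul_rk, smul_smul, smul_smul, smul_smul]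
      congr 1; ring
    rw [hzfix, mulVec_mulVec _ (sl i A), sl_mul, mulVec_mulVec _ (sl i (pj J z)) (sl i (A * pj J z)), sl_mul, e1, sl_smul, smul_mulVec, mulVec_smul, ← hzfix,
      hz'v g hg]
  obtain ⟨x0, hx0⟩ := Function.ne_iff.1 hzne
  have hall : ∀ y, ∀ g ∈ Q, (g : Matrix (Fin t → Fin k) (Fin t → Fin k) F) *ᵥ (sl i (pj J z) *ᵥ y) =
      sl i (pj J z) *ᵥ y := fun y g hg => by
    have h1 := hP'.all_of_slots hslots (Matrix.vecMulVec y (Pi.single x0 (z' x0)⁻¹)) z' hy0 g hg 1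
    have e1 : Matrix.vecMulVec y (Pi.single x0 (z' x0)⁻¹) *ᵥ z' = y := by
      rw [Matrix.vecMulVec_mulVec, single_dotProduct, inv_mul_cancel₀ hx0]
      simp
    rwa [e1, sl_one, one_mulVec] at h1
  have hg0Q : (g0 : GL (Fin t → Fin k) F) ∈ Q :=
    ⟨g0.2, congrArg Subtype.val (show g0 ^ 5 = 1 by rw [← hg0]; exact pow_orderOf_eq_one g0)⟩
  have hgz : Maps J i ((g0 : GL (Fin t → Fin k) F) : Matrix (Fin t → Fin k) (Fin t → Fin k) F) z z 1 := fun w => by
    have e1 : ((g0 : GL (Fin t → Fin k) F) : Matrix _ _ F) * sl i (pj J z) = sl i (pj J z) :=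
      Matrix.toLin'.injective (LinearMap.ext fun y => by
        rw [Matrix.toLin'_apply, Matrix.toLin'_apply, ← mulVec_mulVec, hall y _ hg0Q])
    have e2 : sl (β := Fin t) i (rk J z w) = sl i (pj J z) * sl i (rk J z w) := by
      rw [sl_mul, mul_rk, pj_fix hzn]
    rw [mul_one]
    conv_lhs => rw [e2, ← mul_assoc, e1, ← e2]
  obtain ⟨hgG, hgd, hgm⟩ := hXm g0.2
  have hac' : bf J e z = 0 ∧ bf J z z = bf J e e := by
    rcases hzz with rfl | rfl
    exacts [⟨hab, hbb.trans hν⟩, ⟨hac, hcc.trans hν⟩]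
  have h1 := hS.two_fix hodd hk3 hF hi hea.1 hac'.1 hac'.2 hw ⟨_, hgG, rfl⟩ hgd hgm hgz
  rw [show g0 = 1 from Subtype.ext (Units.ext h1), orderOf_one] at hg0
  exact absurd hg0 (by norm_num)

/-- over the field of five elements every plane can be turned or its axis is fixed only by the slot -/
theorem turns_five (hq : Nat.card F = 5) : Turns J G i := by
  intro hk p q h e he he0
  by_cases hT : Turn J G i p q
  · exact Or.inl hT
  right
  have hJ := hS.sj
  letI := Fintype.ofFinite F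
  have h5 : (5 : F) = 0 := by
    have := Nat.cast_card_eq_zero F
    rw [Nat.card_eq_fintype_card] at hq
    rw [hq] at this
    exact_mod_cast this
  haveI : CharP F 5 := (CharP.charP_iff_prime_eq_zero Nat.prime_five).2 (by exact_mod_cast h5)
  have hqp : bf J q p = 1 := by rw [hJ.comm, h.pq]
  have hee : bf J e e ≠ 0 := fun e1 => by
    refine he0 (hJ.mem_ext h he ⟨by simp [bf], by simp [bf]⟩ fun x hx => ?_)
    obtain ⟨c, rfl⟩ := mem_line hJ hk3 h he he0 hx
    rw [bf_smul_right, e1, mul_zero]; simp [bf]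
  have hep : bf J e p = 0 := by rw [hJ.comm, he.1]
  have heq : bf J e q = 0 := by rw [hJ.comm, he.2]
  have hgood : Good J e := by
    refine ⟨hee, fun _ => ?_⟩
    have e11 : bf J (p + q) (p + q) = 2 := by
      simp only [bf_add_left, bf_add_right, h.pp, h.qq, h.pq, hqp]; ring
    have e22 : bf J (p + (-1 : F) • q) (p + (-1 : F) • q) = -2 := by
      simp only [bf_add_left, bf_add_right, bf_smul_left, bf_smul_right, h.pp, h.qq, h.pq, hqp]; ring
    subst hk3
    obtain ⟨hf, hf0⟩ := fam3 hJ (e11 ▸ hJ.two) (e22 ▸ neg_ne_zero.2 hJ.two) hee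
      (show bf J (p + q) (p + (-1 : F) • q) = 0 by
        simp only [bf_add_left, bf_add_right, bf_smul_right, h.pp, h.qq, h.pq, hqp]; ring)
      (show bf J (p + q) e = 0 by rw [bf_add_left, he.1, he.2, add_zero])
      (show bf J (p + (-1 : F) • q) e = 0 by rw [bf_add_left, bf_smul_left, he.1, he.2, mul_zero, add_zero])
    obtain ⟨-, d, hd, e3⟩ := basis_facts hJ _ hf hf0
    rw [Fin.prod_univ_three] at e3
    simp only [Matrix.cons_val] at e3
    rw [e11, e22] at e3
    -- minus four is a square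
    refine ⟨bf J e e / d, ?_⟩
    field_simp
    first
      | linear_combination -e3 - (bf J e e) * h5
      | linear_combination e3 + (bf J e e) * h5
      | linear_combination -(bf J e e) * e3 - (bf J e e * bf J e e) * h5
      | linear_combination (bf J e e) * e3 + (bf J e e * bf J e e) * h5
  refine ⟨hgood, hS.axis_of_coprime (by rw [ringChar.eq F 5]) ?_⟩
  rw [ringChar.eq F 5]
  exact hS.small_coprime hodd hk3 hF hi h5 h he hgood hT

end Setting

end Cfsg.Agent.ClassicalMax.OOWreath
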