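import Cfsg.Agent.ClassicalMax.OOWreath.OddThree

/-!
Slots of dimension three: centralisers of signed reflections permute the slots.
-/

set_option autoImplicit false
set_option linter.unusedSectionVars false
set_option linter.unusedSimpArgs false

namespace Cfsg.Agent.ClassicalMax.OOWreath

open Matrix Cfsg.Agent.ClassicalMax.TPow
open Cfsg.Agent.ClassicalMax.SpWreath (GV GV_det)

variable {F : Type*} [Field F] {k t : ℕ} {J : Matrix (Fin k) (Fin k) F}

theorem Maps.pow {i : Fin t} {M a : Matrix (Fin t → Fin k) (Fin t → Fin k) F} {v : Fin k → F}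
    (h : Maps J i M v v a) (n : ℕ) : Maps J i (M ^ n) v v (a ^ n) := by
  induction n with
  | zero => rw [pow_zero, pow_zero]; exact Maps.one i v
  | succ n ih => rw [pow_succ, pow_succ]; exact h.mul ih

theorem pj_nonscalar (hJ : SJ J) {u : Fin k → F} (hu : bf J u u ≠ 0) (c : F) : pj J u ≠ c • 1 := fun e => by
  refine dl_ne_scalar hJ hu (sg F k * (1 - 2 * c)) ?_
  rw [dl, rf_eq, e]; module

/-- contraction of an operator -/
theorem ct_of_commute (hJ : SJ J) (m : Fin t) (a b : Fin k → F) {X : Matrix (Fin t → Fin k) (Fin t → Fin k) F}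
    (hX : ∀ A, Commute X (sl m A)) : ct J m a b X = bf J a b • X := by
  haveI : Nonempty (Fin k) := ⟨⟨0, by have := hJ.kk; omega⟩⟩
  have hu : (Pi.single (⟨0, by have := hJ.kk; omega⟩ : Fin k) (1 : F) : Fin k → F) ≠ 0 := fun e => by
    simpa using congrFun e ⟨0, by have := hJ.kk; omega⟩
  refine eq_of_sl m (hJ.rk_ne hu hu) (ct_commute m a b X) (fun A => (hX A).smul_left _) ?_
  rw [← sl_ct, mul_assoc, (hX _).eq, ← mul_assoc, sl_mul, rk_mul_rk, sl_smul, smul_mul_assoc, mul_smul_comm]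

/-- the invariant of the norm of an axis: a singular line orthogonal to it -/
theorem exists_sing_perp_iff [Finite F] (hJ : SJ J) (hk3 : k = 3) {w : Fin k → F} (hw : bf J w w ≠ 0) :
    (∃ x, x ≠ 0 ∧ bf J x x = 0 ∧ bf J w x = 0) ↔ IsSquare (-(bf J w w) * J.det) := by
  have h2 := hJ.two
  subst hk3
  constructor
  · rintro ⟨x, hx0, hx, hwx⟩
    obtain ⟨q, -, hq, hxq, -, -, -⟩ := hJ.exists_frame hx0 hx
    have hxw : bf J x w = 0 := by rw [hJ.comm, hwx]
    obtain ⟨q1, hq1⟩ : ∃ q1, q1 = q + (-(bf J w q) / bf J w w) • w := ⟨_, rfl⟩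
    have hwq1 : bf J w q1 = 0 := by
      rw [hq1, bf_add_right, bf_smul_right, div_mul_cancel₀ _ hw]; ring
    have hxq1 : bf J x q1 = 1 := by rw [hq1, bf_add_right, bf_smul_right, hxw, hxq]; ring
    obtain ⟨q2, hq2⟩ : ∃ q2, q2 = q1 + (-(bf J q1 q1) / 2) • x := ⟨_, rfl⟩
    have hwq : bf J w q2 = 0 := by rw [hq2, bf_add_right, bf_smul_right, hwq1, hwx]; ring
    have hxq2 : bf J x q2 = 1 := by rw [hq2, bf_add_right, bf_smul_right, hxq1, hx]; ring
    have hqq : bf J q2 q2 = 0 := by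
      simp only [hq2, bf_add_left, bf_add_right, bf_smul_left, bf_smul_right, hx, hJ.comm q1 x, hxq1]
      field_simp; ring
    have hqx : bf J q2 x = 1 := by rw [hJ.comm, hxq2]
    have e11 : bf J (x + q2) (x + q2) = 2 := by
      simp only [bf_add_left, bf_add_right, hx, hqq, hxq2, hqx]; ring
    have e22 : bf J (x + (-1 : F) • q2) (x + (-1 : F) • q2) = -2 := by
      simp only [bf_add_left, bf_add_right, bf_smul_left, bf_smul_right, hx, hqq, hxq2, hqx]; ring
    obtain ⟨hf, hf0⟩ := fam3 hJ (e11 ▸ h2) (e22 ▸ neg_ne_zero.2 h2) hw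
      (show bf J (x + q2) (x + (-1 : F) • q2) = 0 by
        simp only [bf_add_left, bf_add_right, bf_smul_right, hx, hqq, hxq2, hqx]; ring)
      (show bf J (x + q2) w = 0 by rw [bf_add_left, hxw, hJ.comm q2, hwq, add_zero])
      (show bf J (x + (-1 : F) • q2) w = 0 by rw [bf_add_left, bf_smul_left, hxw, hJ.comm q2, hwq]; ring)
    obtain ⟨-, d, hd, e3⟩ := basis_facts hJ _ hf hf0
    rw [Fin.prod_univ_three] at e3
    simp only [Matrix.cons_val] at e3
    rw [e11, e22] at e3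
    refine ⟨2 * bf J w w / d, ?_⟩
    rw [div_mul_div_comm, eq_div_iff (mul_ne_zero hd hd)]
    linear_combination (bf J w w) * e3
  · rintro ⟨r, hr⟩
    obtain ⟨hf1, hf1'⟩ := fam1 (J := J) hw
    obtain ⟨a, ha, ha'⟩ := hJ.exists_orth (n := 1) (by omega) ![w] hf1 hf1'
    have hwa : bf J w a = 0 := by simpa using ha' 0
    obtain ⟨hf2, hf2'⟩ := fam2 hJ hw ha hwa
    obtain ⟨b, hb, hb'⟩ := hJ.exists_orth (n := 2) (by omega) ![w, a] hf2 hf2'
    have hwb : bf J w b = 0 := by simpa using hb' 0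
    have hab : bf J a b = 0 := by simpa using hb' 1
    obtain ⟨hf, hf0⟩ := fam3 hJ hw ha hb hwa hwb hab
    obtain ⟨-, d, hd, e3⟩ := basis_facts hJ _ hf hf0
    rw [Fin.prod_univ_three] at e3
    simp only [Matrix.cons_val] at e3
    obtain ⟨ρ, hρ⟩ : ∃ ρ, ρ = d * r / bf J w w := ⟨_, rfl⟩
    have hρρ : ρ * ρ = -(bf J a a * bf J b b) := by
      rw [hρ, div_mul_div_comm, div_eq_iff (mul_ne_zero hw hw)]
      linear_combination -(d * d) * hr + (bf J w w) * e3
    refine ⟨ρ • a + (bf J a a) • b, fun e => ?_, ?_, ?_⟩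
    · have := congrArg (bf J b) e
      rw [bf_add_right, bf_smul_right, bf_smul_right, hJ.comm b a, hab, mul_zero, zero_add] at this
      exact mul_ne_zero ha hb (this.trans (by simp [bf]))
    · simp only [bf_add_left, bf_add_right, bf_smul_left, bf_smul_right, hab, hJ.comm b a]
      linear_combination (bf J a a) * hρρ
    · rw [bf_add_right, bf_smul_right, bf_smul_right, hwa, hwb]; ring

variable [Finite F] {Sg : Finset (Fin t)} {G : Subgroup (GL (Fin t → Fin k) F)}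

namespace Setting

variable {i : Fin t} (hS : Setting J Sg G)
include hS

/-- the operators of the elements fixing an axis up to an operator -/
theorem exists_gamma {u : Fin k → F} (hu : bf J u u ≠ 0) :
    ∃ Γ : Subgroup (GL (Fin t → Fin k) F), Setting J (Sg.erase i) Γ ∧
      ∀ a, MG Γ a ↔ (Op Sg i a ∧ adjJ (GV J) a * a = 1 ∧ ∃ g, MG G g ∧ Maps J i g u u a) := by
  have hJ := hS.sj
  have hu0 : u ≠ 0 := fun e => hu (by rw [e]; simp [bf])
  have hiso : ∀ {g a}, MG G g → Op Sg i a → Maps J i g u u a → adjJ (GV J) a * a = 1 := fun {g a} hg ha h => by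
    have h1 := congrArg ((bf J u u)⁻¹ • ·) (hS.line_norm hg hu0 ha.self h)
    simpa only [smul_smul, inv_mul_cancel₀ hu, one_smul] using h1
  let P : GL (Fin t → Fin k) F → Prop := fun a => Op Sg i (a : Matrix (Fin t → Fin k) (Fin t → Fin k) F) ∧
    ∃ g, MG G g ∧ Maps J i g u u (a : Matrix (Fin t → Fin k) (Fin t → Fin k) F)
  let Γ : Subgroup (GL (Fin t → Fin k) F) :=
    { carrier := {a | P a}
      one_mem' := ⟨by rw [Units.val_one]; exact Op.one, 1, MG.one, by rw [Units.val_one]; exact Maps.one i u⟩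
      mul_mem' := fun {a b} ⟨ha, g, hg, hga⟩ ⟨hb, g', hg', hgb⟩ =>
        ⟨by rw [Units.val_mul]; exact ha.mul hb, g * g', hg.mul hg', by rw [Units.val_mul]; exact hgb.mul hga⟩
      inv_mem' := fun {a} ⟨ha, g, hg, hga⟩ => by
        have haa := hiso hg ha hga
        have e : ((a⁻¹ : GL (Fin t → Fin k) F) : Matrix (Fin t → Fin k) (Fin t → Fin k) F) =
            adjJ (GV J) (a : Matrix _ _ F) := Units.inv_eq_of_mul_eq_one_left haa
        exact ⟨e ▸ ha.adj hJ.symm hJ.det, _, (hS.adj_inv hg).1, e ▸ hS.maps_adj hg hga haa⟩ }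
  have hmk : ∀ a, MG Γ a ↔ (Op Sg i a ∧ adjJ (GV J) a * a = 1 ∧ ∃ g, MG G g ∧ Maps J i g u u a) := fun a => by
    constructor
    · rintro ⟨γ, ⟨ho, g, hg, hga⟩, rfl⟩
      exact ⟨ho, hiso hg ho hga, g, hg, hga⟩
    · rintro ⟨ho, haa, hg⟩
      exact ⟨⟨a, adjJ (GV J) a, mul_eq_one_comm.1 haa, haa⟩, ⟨ho, hg⟩, rfl⟩
  -- elements commuting with the slot
  have hown : ∀ {M}, MG G M → (∀ A, Commute M (sl i A)) → MG Γ M := fun {M} hM hc => (hmk M).2
    ⟨fun l hl A => hl.elim (fun e => e ▸ hc A) fun hl => hS.out' hM hl A, (hS.adj_inv hM).2.1, M, hM,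
      maps_commute hc u⟩
  refine ⟨Γ, ⟨hJ, fun a ha => ((hmk _).1 ⟨a, ha, rfl⟩).2.1, ?_, ?_, ?_, ?_, ?_⟩, hmk⟩
  · intro a ha l hl A
    exact ha.1 l (by
      by_cases hli : l = i
      · exact Or.inl hli
      · exact Or.inr fun h => hl (Finset.mem_erase.2 ⟨hli, h⟩)) A
  · intro l hl p e hp he
    exact hown (hS.root l (Finset.mem_of_mem_erase hl) p e hp he) fun A => sl_commute (Finset.ne_of_mem_erase hl) _ A
  · intro l hl v hv
    exact hown (hS.refl l (Finset.mem_of_mem_erase hl) v hv) fun A => sl_commute (Finset.ne_of_mem_erase hl) _ A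
  · intro l hl a b ha hab
    exact hown (hS.pair l (Finset.mem_of_mem_erase hl) a b ha hab) fun A => sl_commute (Finset.ne_of_mem_erase hl) _ A
  · intro σ hσ hfix
    have hσG : MG G (Asch.permU (F := F) (m := k) σ : Matrix (Fin t → Fin k) (Fin t → Fin k) F) :=
      ⟨_, hS.perm σ hσ fun l hl => hfix l fun h => hl (Finset.mem_of_mem_erase h), rfl⟩
    obtain ⟨γ, hγ, he⟩ := hown hσG fun A => by
      show Asch.permM σ * sl i A = sl i A * Asch.permM σ
      rw [permM_mul_sl, hfix i (Finset.notMem_erase i Sg)]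
    exact Units.ext he ▸ hγ

variable (hodd : Odd k) (hk3 : k = 3) (hF : ¬ Full J Sg G) (hi : i ∈ Sg)
  (hG : ∀ j ∈ Sg, ∀ g, MG G g → (∀ A, Commute g (sl j A)) → Std g)
include hodd hk3 hF hi hG

theorem gamma_not_full {u : Fin k → F} (hu : bf J u u ≠ 0) {Γ : Subgroup (GL (Fin t → Fin k) F)}
    (hmk : ∀ a, MG Γ a ↔ (Op Sg i a ∧ adjJ (GV J) a * a = 1 ∧ ∃ g, MG G g ∧ Maps J i g u u a))
    {j m : Fin t} (hj : j ∈ Sg.erase i) (hm : m ∈ Sg.erase i) (hmj : m ≠ j) : ¬ Full J (Sg.erase i) Γ := by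
  classical
  intro hFull
  have hJ := hS.sj
  haveI : Nonempty (Fin k) := ⟨⟨0, by omega⟩⟩
  have hji := Finset.ne_of_mem_erase hj
  have hjS := Finset.mem_of_mem_erase hj
  have hmS := Finset.mem_of_mem_erase hm
  obtain ⟨p, hp0, hp⟩ := hJ.exists_iso
  obtain ⟨q, e, hq, hpq, hpe, hqe, hee⟩ := hJ.exists_frame hp0 hp
  have hqp : bf J q p = 1 := by rw [hJ.comm, hpq]
  obtain ⟨c, hc⟩ : ∃ c, c = ringChar F := ⟨_, rfl⟩
  haveI : CharP F c := hc ▸ ringChar.charP F
  have hcp : c.Prime := CharP.char_is_prime F c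
  haveI : Fact c.Prime := ⟨hcp⟩
  obtain ⟨N, hN⟩ : ∃ N, N = sl (β := Fin t) j (rk J p p) * sl m (xp J p e) := ⟨_, rfl⟩
  obtain ⟨s, hs⟩ : ∃ s, s = 1 + N := ⟨_, rfl⟩
  have hsk : adjJ (GV J) (sl m (xp J p e)) = -sl (β := Fin t) m (xp J p e) := by
    rw [adj_sl hJ.det, xp, adj_sub, hJ.adjJ_rk, hJ.adjJ_rk, ← neg_sub, ← neg_one_smul F (rk J p e - rk J e p),
      sl_smul, neg_one_smul]
  have hcjm : ∀ A B, Commute (sl (β := Fin t) j A) (sl m (B : Matrix (Fin k) (Fin k) F)) := fun A B =>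
    sl_commute (Ne.symm hmj) A B
  have hNN : N * N = 0 := by
    rw [hN, mul_assoc, ← mul_assoc (sl m _), ← (hcjm _ _).eq, mul_assoc (sl j _) (sl m _), ← mul_assoc, sl_mul,
      rk_mul_rk, hp, zero_smul, sl_zero, zero_mul]
  obtain ⟨hso, hsa, g0, hg0, hg0s⟩ := (hmk s).1 (hs ▸ hN ▸ hFull j hj p hp _ (Op.slot hm hmj _) hsk)
  obtain ⟨γ0, hγ0, rfl⟩ := hg0
  have hsp : ∀ n : ℕ, s ^ n = 1 + (n : F) • N := fun n => by
    induction n with
    | zero => rw [pow_zero, Nat.cast_zero, zero_smul, add_zero]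
    | succ n ih =>
      rw [pow_succ, ih, hs, add_mul, one_mul, smul_mul_assoc, mul_add, mul_one, hNN, add_zero, Nat.cast_succ, add_smul,
        one_smul]
      abel
  -- a lift of order a power of the characteristic
  obtain ⟨n, m', hm', hord⟩ := Nat.exists_eq_pow_mul_and_not_dvd (orderOf_pos γ0).ne' c hcp.one_lt.ne'
  obtain ⟨E, hE⟩ : ∃ E, E = m' * ((m' : ZMod c)⁻¹).val := ⟨_, rfl⟩
  obtain ⟨R, hR⟩ : ∃ R, R = γ0 ^ E := ⟨_, rfl⟩
  have hRG : R ∈ G := hR ▸ G.pow_mem hγ0 _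
  have hRp : R ^ c ^ n = 1 := by
    rw [hR, ← pow_mul, hE, show m' * ((m' : ZMod c)⁻¹).val * c ^ n = c ^ n * m' * ((m' : ZMod c)⁻¹).val by ring,
      ← hord, pow_mul, pow_orderOf_eq_one, one_pow]
  have hEc : (E : F) = 1 := by
    have h1 : (E : ZMod c) = 1 := by
      rw [hE, Nat.cast_mul, ZMod.natCast_zmod_val,
        mul_inv_cancel₀ (fun e => hm' ((ZMod.natCast_eq_zero_iff _ _).1 e))]
    have h3 := congrArg (ZMod.castHom (dvd_refl c) F) h1
    rwa [map_natCast, map_one] at h3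
  have hRs : Maps J i (R : Matrix (Fin t → Fin k) (Fin t → Fin k) F) u u s := by
    have := hg0s.pow E
    rwa [hsp, hEc, one_smul, ← hs, ← Units.val_pow_eq_pow_val, ← hR] at this
  have hRd : (R : Matrix (Fin t → Fin k) (Fin t → Fin k) F).det = 1 := by
    obtain ⟨d, hd⟩ : ∃ d, d = (R : Matrix (Fin t → Fin k) (Fin t → Fin k) F).det := ⟨_, rfl⟩
    have h1 : d ^ c ^ n = 1 := by
      rw [hd, ← det_pow, ← Units.val_pow_eq_pow_val, hRp, Units.val_one, det_one]
    have h2 : (d - 1) ^ c ^ n = 0 := by rw [sub_pow_char_pow, one_pow, h1, sub_self]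
    rw [← hd, sub_eq_zero.1 (eq_zero_of_pow_eq_zero h2)]
  -- it commutes with a root of the first slot
  obtain ⟨r, hr, hre, hrp, -⟩ := hS.root_unit hjS hp hpe
  have hri : ∀ A, Commute (r : Matrix (Fin t → Fin k) (Fin t → Fin k) F) (sl i A) := fun A =>
    hre ▸ sl_commute hji _ A
  have hrs : Commute (r : Matrix (Fin t → Fin k) (Fin t → Fin k) F) s := by
    rw [hre, hs, hN]
    refine (Commute.one_right _).add_right (Commute.mul_right ?_ (hcjm _ _))
    obtain ⟨h1, h2⟩ := hJ.xp_mul_rk hp hpe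
    show _ = _
    rw [sl_mul, sl_mul, hJ.eS_eq hp hpe]
    simp only [mul_add, add_mul, mul_one, one_mul, smul_mul_assoc, mul_smul_comm, h1, h2]
  have hu0 : u ≠ 0 := fun e => hu (by rw [e]; simp [bf])
  have hRM : MG G (R : Matrix (Fin t → Fin k) (Fin t → Fin k) F) := ⟨R, hRG, rfl⟩
  have hri' : ∀ A, Commute (adjJ (GV J) (r : Matrix (Fin t → Fin k) (Fin t → Fin k) F)) (sl i A) := fun A => by
    rw [← hS.val_inv hr]; exact (hri A).units_inv_left
  have hfixK : Maps J i ((R * r * R⁻¹ * r⁻¹ : GL (Fin t → Fin k) F) : Matrix (Fin t → Fin k) (Fin t → Fin k) F)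
      u u 1 := by
    have h := (((maps_commute (J := J) hri' u).mul (hS.maps_adj hRM hRs hsa)).mul (maps_commute (J := J) hri u)).mul hRs
    simp only [Units.val_mul, hS.val_inv hRG, hS.val_inv hr, mul_assoc] at h ⊢
    refine cast (congrArg (Maps J i _ u u) ?_) h
    rw [← mul_assoc s, ← hrs.eq, mul_assoc, ← mul_assoc s, mul_eq_one_comm.1 hsa, one_mul]
    exact (hS.adj_inv ⟨r, hr, rfl⟩).2.2
  obtain ⟨A, hA⟩ := hS.axis3 hodd hk3 hF hG hi hu _
    ⟨_, G.mul_mem (G.mul_mem (G.mul_mem hRG hr) (G.inv_mem hRG)) (G.inv_mem hr), rfl⟩ (by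
      rw [Units.val_mul, Units.val_mul, Units.val_mul, hS.val_inv hRG, det_mul, hS.det_conj hRM, ← det_mul,
        ← Units.val_mul, mul_inv_cancel, Units.val_one, det_one]) hfixK
  have hKM : MG G (sl i A) :=
    hA ▸ ⟨_, G.mul_mem (G.mul_mem (G.mul_mem hRG hr) (G.inv_mem hRG)) (G.inv_mem hr), rfl⟩
  have hAd : (sl i A).det = 1 := by
    rw [← hA, Units.val_mul, Units.val_mul, Units.val_mul, hS.val_inv hRG, det_mul, hS.det_conj hRM, ← det_mul,
      ← Units.val_mul, mul_inv_cancel, Units.val_one, det_one]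
  have hA1 : A = 1 := by
    refine unipotent_one hJ hk3 hu (hS.slot_iso hKM) (det_of_sl hodd hJ (hS.slot_iso hKM) hAd)
      (maps_slot_eq hJ (hA ▸ hfixK)) (n := 1) (sl_injective i ?_)
    have h1 : ((R * r * R⁻¹ : GL (Fin t → Fin k) F) : Matrix (Fin t → Fin k) (Fin t → Fin k) F) =
        sl i A * (r : Matrix (Fin t → Fin k) (Fin t → Fin k) F) := by
      rw [← hA, ← Units.val_mul, inv_mul_cancel_right]
    have h2 := congrArg (· ^ ringChar F) h1
    rw [← Units.val_pow_eq_pow_val, conj_pow, hrp, mul_one, mul_inv_cancel, Units.val_one,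
      (hri A).symm.mul_pow, ← Units.val_pow_eq_pow_val, hrp, Units.val_one, mul_one, sl_pow_eq] at h2
    rw [sl_one, pow_one, ← h2]
  have hRr : Commute (R : Matrix (Fin t → Fin k) (Fin t → Fin k) F) (sl j (eS J p e)) := by
    have h1 : R * r * R⁻¹ * r⁻¹ = 1 := Units.ext (by rw [hA, hA1, sl_one, Units.val_one])
    rw [mul_inv_eq_one, mul_inv_eq_iff_eq_mul] at h1
    rw [← hre]
    exact congrArg Units.val h1
  obtain ⟨x, T, hx0, hx, hT, hmap⟩ := hS.line_of_root hp0 hp hpe hee hRM (X := eS J p e)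
    (by rw [hRr.eq, mul_assoc, (hS.adj_inv hRM).2.2, mul_one])
  have hRstd := hS.stab hodd hF hG hjS (hS.turns3 hodd hk3 hF hjS) hp0 hp hx0 hx hRM hT hmap
  -- the operator permutes the other slots
  obtain ⟨hRa, hR1, hR2⟩ := hS.adj_inv hRM
  obtain ⟨σ, θ, hθ⟩ := hRstd.data (by omega) hR2
  have hPc : (R : Matrix (Fin t → Fin k) (Fin t → Fin k) F) * sl i (pj J u) = sl i (pj J u) * (R : Matrix _ _ F) := by
    have h1 := congrArg (adjJ (GV J)) (hS.maps_adj hRM hRs hsa u)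
    rw [hS.adj_mul', hS.adj_mul', hS.adj_adj', hS.adj_adj', adj_sl hJ.det, hJ.adjJ_rk, (hso.self _).eq] at h1
    rw [pj, sl_smul, mul_smul_comm, smul_mul_assoc, h1, hRs u]
  have hσi : σ i = i := slot_map_eq (by omega) hR2 (image_nonscalar (by omega) hR1 (hθ i (pj J u)) (pj_nonscalar hJ hu))
    (hθ i (pj J u)) hPc
  have hRne : (R : Matrix (Fin t → Fin k) (Fin t → Fin k) F) ≠ 0 := fun e0 => by
    rw [e0, mul_zero] at hR1; exact zero_ne_one hR1
  obtain ⟨B, R', hBu, -, hR'i, hRB, -⟩ := exists_factor (l := i) hRne (θ := θ i)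
    (fun A => by have := hθ i A; rwa [hσi] at this)
  obtain ⟨κ, hκ⟩ : ∃ κ, κ = bf J u (B *ᵥ u) / bf J u u := ⟨_, rfl⟩
  have hsR : s = κ • R' := by
    refine eq_of_sl i (hJ.rk_ne hu0 hu0) hso.self (fun A => (hR'i A).smul_left κ) ?_
    have h1 := congrArg (sl i (rk J u u) * ·) (hRs u)
    simp only [hRB, mul_assoc, (hR'i _).eq] at h1
    simp only [← mul_assoc, sl_mul] at h1
    rw [mul_assoc (rk J u u) B, mul_rk, rk_mul_rk, rk_mul_rk, sl_smul, sl_smul, smul_mul_assoc, smul_mul_assoc] at h1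
    have h3 := congrArg ((bf J u u)⁻¹ • ·) h1
    simp only [smul_smul, inv_mul_cancel₀ hu, one_smul] at h3
    rw [mul_smul_comm, ← h3, hκ, div_eq_inv_mul]
  have hσj : σ j ≠ i := fun e1 => hji (σ.injective (e1.trans hσi.symm))
  have himg : ∀ A, s * sl j A = sl (σ j) (θ j A) * s := fun A => by
    have h1 := hθ j A
    rw [hRB, mul_assoc, ← mul_assoc (sl (σ j) _), ← (sl_commute (Ne.symm hσj) B (θ j A)).eq,
      mul_assoc (sl i B) (sl (σ j) _)] at h1
    have h3 := congrArg (sl i B⁻¹ * ·) h1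
    simp only [← mul_assoc, sl_mul, nonsing_inv_mul B hBu, sl_one, one_mul] at h3
    rw [hsR, smul_mul_assoc, mul_smul_comm, h3]
  -- it does not
  obtain ⟨C, hC⟩ : ∃ C, C = θ j (rk J q q) := ⟨_, rfl⟩
  have hs' : s * (1 - N) = 1 := by
    rw [hs, add_mul, one_mul, mul_sub, mul_one, hNN, sub_zero, sub_add_cancel]
  have hX : sl (σ j) C = s * sl j (rk J q q) * (1 - N) := by
    rw [hC, himg, mul_assoc, hs', mul_one]
  obtain ⟨P, hP⟩ : ∃ P, P = rk J p p := ⟨_, rfl⟩
  obtain ⟨Q, hQ⟩ : ∃ Q, Q = rk J q q := ⟨_, rfl⟩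
  have hexp : sl (σ j) C = sl j Q + sl j (P * Q - Q * P) * sl m (xp J p e) +
      (-1 : F) • (sl j (P * Q * P) * sl m (xp J p e * xp J p e)) := by
    rw [hX, hs, hN, ← hP, ← hQ]
    have e1 : sl (β := Fin t) j P * sl m (xp J p e) * sl j Q = sl j (P * Q) * sl m (xp J p e) := by
      rw [mul_assoc, ← (hcjm _ _).eq, ← mul_assoc, sl_mul]
    have e2 : sl (β := Fin t) j Q * (sl j P * sl m (xp J p e)) = sl j (Q * P) * sl m (xp J p e) := by
      rw [← mul_assoc, sl_mul]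
    have e3 : sl (β := Fin t) j (P * Q) * sl m (xp J p e) * (sl j P * sl m (xp J p e)) =
        sl j (P * Q * P) * sl m (xp J p e * xp J p e) := by
      rw [mul_assoc, ← mul_assoc (sl m _), ← (hcjm _ _).eq, mul_assoc (sl j P), sl_mul, ← mul_assoc, sl_mul]
    rw [add_mul, one_mul, e1, mul_sub, mul_one, add_mul, e2, e3, sub_eq_add_neg (P * Q), ← neg_one_smul F (Q * P),
      sl_add, sl_smul, add_mul, smul_mul_assoc]
    module
  have hct := congrArg (ct J m q q) hexp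
  have hcj : ∀ {A : Matrix (Fin k) (Fin k) F} (B' : Matrix (Fin k) (Fin k) F),
      ct J m q q (sl j A * sl m B') = bf J q (B' *ᵥ q) • sl j A := fun {A} B' => by
    rw [ct_mul_sl, ct_of_commute hJ m _ _ fun D => hcjm A D]
  have hPQP : P * Q * P = P := by
    rw [hP, hQ, rk_mul_rk, hpq, one_smul, rk_mul_rk, hqp, one_smul]
  have hxq : bf J q (xp J p e *ᵥ q) = 0 := by
    rw [xp, sub_mulVec, rk_mulVec, rk_mulVec, hpq, hJ.comm e q, hqe, zero_smul, zero_sub, one_smul,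
      ← neg_one_smul F e, bf_smul_right, hqe, mul_zero]
  have hxxq : bf J q ((xp J p e * xp J p e) *ᵥ q) = -bf J e e := by
    rw [hJ.xp_mul hp hpe hpe, smul_mulVec, rk_mulVec, hpq, one_smul, bf_smul_right, hqp, mul_one]
  rw [ct_add, ct_add, ct_smul, hcj, hcj, hxq, hxxq, zero_smul, add_zero, smul_smul, neg_mul_neg, one_mul,
    hPQP, ct_of_commute hJ m _ _ fun D => hcjm Q D, hq, zero_smul, zero_add] at hct
  have hP0 : P ≠ 0 := hP ▸ hJ.rk_ne hp0 hp0
  rcases eq_or_ne (σ j) m with e1 | e1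
  · rw [e1, ← one_mul (sl m C), ct_mul_sl, ct_one] at hct
    obtain ⟨d, hd⟩ : ∃ d : F, P = d • 1 := by
      refine ⟨(bf J e e)⁻¹ * bf J q (C *ᵥ q), sl_injective j ?_⟩
      rw [sl_smul, sl_one, mul_smul, hct, smul_smul, inv_mul_cancel₀ hee, one_smul]
    have h1 : P * P = 0 := by rw [hP, rk_mul_rk, hp, zero_smul]
    rw [hd, smul_mul_assoc, one_mul, smul_smul] at h1
    rw [(smul_eq_zero.1 h1).resolve_right one_ne_zero |> mul_self_eq_zero.1, zero_smul] at hd
    exact hP0 hd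
  · rw [ct_of_commute hJ m _ _ fun D => sl_commute e1 C D, hq, zero_smul] at hct
    refine hP0 (sl_injective j ?_)
    rw [sl_zero]
    exact (smul_eq_zero.1 hct.symm).resolve_left hee

end Setting

end Cfsg.Agent.ClassicalMax.OOWreath
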