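import Cfsg.Agent.ClassicalMax.OOWreath.OddCent
import Cfsg.Agent.ClassicalMax.OOWreath.OddFive

/-!
Slots of odd dimension: without full centres the slot algebras are permuted.
-/

set_option autoImplicit false
set_option linter.unusedSectionVars false

namespace Cfsg.Agent.ClassicalMax.OOWreath

open Matrix Cfsg.Agent.ClassicalMax.TPow
open Cfsg.Agent.ClassicalMax.SpWreath (GV GV_det)

variable {F : Type*} [Field F] [Finite F] {k t : ℕ} {J : Matrix (Fin k) (Fin k) F}

/-- without full centres the slot algebras are permuted -/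
theorem std_of_not_full_odd (hodd : Odd k) (Sg : Finset (Fin t)) (G : Subgroup (GL (Fin t → Fin k) F))
    (hS : Setting J Sg G) (hF : ¬ Full J Sg G) {g : Matrix (Fin t → Fin k) (Fin t → Fin k) F} (hg : MG G g) :
    Std g := by
  induction hn : Sg.card using Nat.strong_induction_on generalizing Sg G g with
  | _ n ih =>
  have hG : ∀ j ∈ Sg, ∀ g, MG G g → (∀ A, Commute g (sl j A)) → Std g := by
    intro j hj g hg hc
    obtain ⟨G', hS', hle, hmem⟩ := hS.drop j
    have hg' := (hmem g).2 ⟨hg, hc⟩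
    by_cases h2 : ∃ l ∈ Sg.erase j, ∃ m ∈ Sg.erase j, m ≠ l
    · obtain ⟨l, hl, m, hm, hlm⟩ := h2
      exact ih _ (hn ▸ Finset.card_erase_lt_of_mem hj) _ _ hS' (hS.not_full_drop hle hl hm hlm hF) hg' rfl
    push Not at h2
    rcases (Sg.erase j).eq_empty_or_nonempty with h0 | ⟨l, hl⟩
    · exact hS'.std_of_single j (fun m hm => by simp [h0] at hm) hg'
    · exact hS'.std_of_single l (fun m hm => h2 l hl m hm) hg'
  by_cases hk5 : 5 ≤ k
  · exact hS.std_of_cent (hS.centStd5 hodd hk5 hF hG) hg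
  have hk3 : k = 3 := by
    have := hS.sj.kk
    obtain ⟨r, hr⟩ := hodd
    omega
  exact hS.std_of_cent (hS.centStd3 hodd hk3 hF hG fun i hi Γ hΓ hFΓ M hM =>
    ih _ (hn ▸ Finset.card_erase_lt_of_mem hi) _ _ hΓ hFΓ hM rfl) hg

end Cfsg.Agent.ClassicalMax.OOWreath
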