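import Cfsg.Agent.ClassicalMax.OOWreath.OddBasic

/-!
An element fixing a singular line of a slot up to an operator acts on the middle of the line by that operator.
-/

set_option autoImplicit false
set_option linter.unusedSectionVars false
set_option linter.unusedSimpArgs false

namespace Cfsg.Agent.ClassicalMax.OOWreath

open Matrix Cfsg.Agent.ClassicalMax.TPow
open Cfsg.Agent.ClassicalMax.SpWreath (GV GV_det)

variable {F : Type*} [Field F] {k t : ℕ} {J : Matrix (Fin k) (Fin k) F}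

/-- a hyperbolic pair -/
structure HP (J : Matrix (Fin k) (Fin k) F) (p q : Fin k → F) : Prop where
  pp : bf J p p = 0
  qq : bf J q q = 0
  pq : bf J p q = 1

/-- orthogonal to the pair -/
def Mem (J : Matrix (Fin k) (Fin k) F) (p q v : Fin k → F) : Prop := bf J p v = 0 ∧ bf J q v = 0

variable (J) in
/-- the action on the middle -/
def Mid (Sg : Finset (Fin t)) (i : Fin t) (g a : Matrix (Fin t → Fin k) (Fin t → Fin k) F) (p q v v' : Fin k → F) :
    Prop :=
  Mem J p q v ∧ Mem J p q v' ∧ ∃ T, Op Sg i T ∧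
    ∀ z, g * sl i (rk J v z) = sl i (rk J v' z) * a + sl i (rk J p z) * T

theorem HP.p0 {p q : Fin k → F} (h : HP J p q) : p ≠ 0 := fun e => by
  have := h.pq; rw [e, bf, zero_dotProduct] at this; exact zero_ne_one this

theorem mem_comb {p q v w : Fin k → F} (hv : Mem J p q v) (hw : Mem J p q w) (c d : F) :
    Mem J p q (c • v + d • w) := by
  constructor <;> simp [bf_add_right, bf_smul_right, hv.1, hv.2, hw.1, hw.2]

/-- the part orthogonal to a pair -/
theorem SJ.decomp (hJ : SJ J) {p q : Fin k → F} (h : HP J p q) (z : Fin k → F) :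
    ∃ v, Mem J p q v ∧ z = v + bf J q z • p + bf J p z • q := by
  refine ⟨z + (-bf J q z) • p + (-bf J p z) • q, ⟨?_, ?_⟩, by module⟩
  · simp only [bf_add_right, bf_smul_right, h.pp, h.pq]; ring
  · simp only [bf_add_right, bf_smul_right, h.qq, hJ.comm q p, h.pq]; ring

theorem SJ.mem_ext (hJ : SJ J) {p q v w : Fin k → F} (h : HP J p q) (hv : Mem J p q v) (hw : Mem J p q w)
    (he : ∀ x, Mem J p q x → bf J v x = bf J w x) : v = w := by
  by_contra hne
  obtain ⟨z, hz⟩ := exists_bf_ne J hJ.det (sub_ne_zero.2 hne)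
  obtain ⟨x, hx, e⟩ := hJ.decomp h z
  refine hz ?_
  rw [e, sub_eq_add_neg, ← neg_one_smul F w]
  simp only [bf_add_right, bf_add_left, bf_smul_left, bf_smul_right, he x hx, hJ.comm v p, hv.1, hJ.comm v q, hv.2,
    hJ.comm w p, hw.1, hJ.comm w q, hw.2]
  ring

variable [Finite F] {Sg : Finset (Fin t)} {G : Subgroup (GL (Fin t → Fin k) F)}

namespace Setting

variable (hS : Setting J Sg G)
include hS

/-- the inverse of the operator of a line mapped to itself -/
theorem op_inv {i : Fin t} {p : Fin k → F} (hp0 : p ≠ 0) {g a : Matrix (Fin t → Fin k) (Fin t → Fin k) F}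
    (hg : MG G g) (ha : Maps J i g p p a) (hao : Op Sg i a) :
    ∃ b, Op Sg i b ∧ b * a = 1 ∧ a * b = 1 ∧ Maps J i (adjJ (GV J) g) p p b := by
  obtain ⟨γ, hγ, rfl⟩ := hg
  have hpw : ∀ j : ℕ, Maps J i ((γ : Matrix (Fin t → Fin k) (Fin t → Fin k) F) ^ j) p p (a ^ j) := fun j => by
    induction j with
    | zero => rw [pow_zero, pow_zero]; exact Maps.one i p
    | succ j ih => rw [pow_succ, pow_succ]; exact ha.mul ih
  have hop : ∀ j : ℕ, Op Sg i (a ^ j) := fun j => by
    induction j with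
    | zero => rw [pow_zero]; exact Op.one
    | succ j ih => rw [pow_succ]; exact ih.mul hao
  obtain ⟨n, hn⟩ : ∃ n, orderOf γ = n + 1 := ⟨_, (Nat.succ_pred_eq_of_pos (orderOf_pos γ)).symm⟩
  have h1 : a ^ (n + 1) = 1 := by
    refine maps_unique hS.sj hp0 (hop _).self (fun A => Commute.one_left _) (hpw _) ?_
    rw [← Units.val_pow_eq_pow_val, ← hn, pow_orderOf_eq_one, Units.val_one]
    exact Maps.one i p
  refine ⟨a ^ n, hop n, (pow_succ a n).symm.trans h1, (pow_succ' a n).symm.trans h1, fun z => ?_⟩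
  have h2 : (γ : Matrix (Fin t → Fin k) (Fin t → Fin k) F) * (sl i (rk J p z) * a ^ n) = sl i (rk J p z) := by
    rw [← mul_assoc, ha z, mul_assoc, ← pow_succ', h1, mul_one]
  conv_lhs => rw [← h2, ← mul_assoc, hS.iso γ hγ, one_mul]

/-- a line mapped by an operator of norm one keeps the products -/
theorem maps_bf {i : Fin t} {g a : Matrix (Fin t → Fin k) (Fin t → Fin k) F} (hg : MG G g)
    (hao : Op Sg i a) (haa : adjJ (GV J) a * a = 1) {v v' w w' : Fin k → F} (hv : Maps J i g v v' a)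
    (hw : Maps J i g w w' a) : bf J v' w' = bf J v w := by
  have hJ := hS.sj
  haveI : Nonempty (Fin k) := ⟨⟨0, by have := hJ.kk; omega⟩⟩
  obtain ⟨p, hp0, -⟩ := hJ.exists_iso
  have h1 := hv.adj hJ.symm hJ.det hao.self p
  have h2 : sl i (rk J p v) * adjJ (GV J) g * (g * sl i (rk J w p)) = bf J v w • sl i (rk J p p) := by
    rw [mul_assoc, ← mul_assoc (adjJ (GV J) g), (hS.adj_inv hg).2.1, one_mul, sl_mul, rk_mul_rk, sl_smul]
  rw [h1, hw p, mul_assoc (sl i _), ← mul_assoc (adjJ (GV J) a), ((hao.adj hJ.symm hJ.det).self _).eq,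
    mul_assoc (sl i _) (adjJ (GV J) a), haa, mul_one, sl_mul, rk_mul_rk, sl_smul] at h2
  rw [← sl_smul, ← sl_smul] at h2
  exact smul_left_injective F (hJ.rk_ne hp0 hp0) (sl_injective i h2)

/-- the image of the root operators at the line -/
theorem xp_image (hF : ¬ Full J Sg G) {i : Fin t} (hi : i ∈ Sg) {p : Fin k → F} (hp0 : p ≠ 0) (hp : bf J p p = 0)
    {g a : Matrix (Fin t → Fin k) (Fin t → Fin k) F} (hg : MG G g) (ha : Maps J i g p p a) (hao : Op Sg i a)
    {f : Fin k → F} (hpf : bf J p f = 0) :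
    ∃ f', bf J p f' = 0 ∧ g * sl i (xp J p f) = sl i (xp J p f') * g := by
  have hJ := hS.sj
  obtain ⟨b, hbo, hba, hab, hb⟩ := hS.op_inv hp0 hg ha hao
  obtain ⟨hga, hg1, hg2⟩ := hS.adj_inv hg
  obtain ⟨hr, -⟩ := hS.mg_root hi hp hpf
  obtain ⟨R, hR⟩ : ∃ R, R = g * sl i (eS J p f) * adjJ (GV J) g := ⟨_, rfl⟩
  have hrp : eS J p f *ᵥ p = p := by
    rw [hJ.eS_eq hp hpf, xp, add_mulVec, add_mulVec, one_mulVec, sub_mulVec, smul_mulVec, rk_mulVec, rk_mulVec,
      rk_mulVec, hp, hJ.comm f p, hpf]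
    simp
  have hrad : IsRad J Sg G i p R := by
    refine ⟨hR ▸ hS.conj_mem hg hr, ?_, fun v hv => ?_⟩
    · have e1 := maps_sl (J := J) i (eS J p f) p
      rw [hrp] at e1
      have := (hb.mul e1).mul ha
      rw [hR]
      simpa only [mul_assoc, one_mul, mul_one, hab] using this
    · refine ⟨a * ct J i f v (adjJ (GV J) g), hao.mul fun l hl A => ?_, fun w => ?_⟩
      · rcases eq_or_ne l i with rfl | hli
        · exact ct_commute l f v _ A
        · exact ct_commute_other hli f v (hS.out' hga (hl.resolve_left hli) A)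
      have e2 : sl i (rk J f p) * adjJ (GV J) g * sl i (rk J v w) = 0 := by
        have h1 := ha.adj hJ.symm hJ.det hao.self f
        rw [h1, mul_assoc, ((hao.adj hJ.symm hJ.det).self _).eq, ← mul_assoc, sl_mul, rk_mul_rk, hv, zero_smul,
          sl_zero, zero_mul]
      have e3 : sl i (rk J p p) * adjJ (GV J) g * sl i (rk J v w) = 0 := by
        have h1 := ha.adj hJ.symm hJ.det hao.self p
        rw [h1, mul_assoc, ((hao.adj hJ.symm hJ.det).self _).eq, ← mul_assoc, sl_mul, rk_mul_rk, hv, zero_smul,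
          sl_zero, zero_mul]
      rw [hR, hJ.eS_eq hp hpf, sl_add, sl_add, sl_one, sl_smul, xp, sub_eq_add_neg, ← neg_one_smul F (rk J f p),
        sl_add, sl_smul]
      simp only [mul_add, add_mul, mul_one, mul_smul_comm, smul_mul_assoc, hg2, one_mul]
      rw [mul_assoc g (sl i (rk J p f)), mul_assoc g (sl i (rk J p f) * _), sl_ct,
        mul_assoc g (sl i (rk J f p)), mul_assoc g (sl i (rk J f p) * _), e2, mul_assoc g (sl i (rk J p p)),
        mul_assoc g (sl i (rk J p p) * _), e3, ← mul_assoc g, ha w]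
      simp [mul_assoc]
  obtain ⟨f', hpf', hf'⟩ := hS.rad_slot hF hi hp0 hp hrad
  have hneg : ∀ e, bf J p e = 0 → bf J p (-e) = 0 := fun e he => by
    rw [← neg_one_smul F e, bf_smul_right, he, mul_zero]
  have h1 : g * sl i (eS J p f) = sl i (eS J p f') * g := by
    rw [← hf', hR, mul_assoc _ _ g, hg1, mul_one]
  have h2 : g * sl i (eS J p (-f)) = sl i (eS J p (-f')) * g := by
    have e1 : sl i (eS J p f) * sl i (eS J p (-f)) = (1 : Matrix (Fin t → Fin k) (Fin t → Fin k) F) := by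
      rw [sl_mul, hJ.eS_inv hp hpf, sl_one]
    have e2 : sl i (eS J p (-f')) * sl i (eS J p f') = (1 : Matrix (Fin t → Fin k) (Fin t → Fin k) F) := by
      rw [sl_mul, mul_eq_one_comm.1 (hJ.eS_inv hp hpf'), sl_one]
    calc g * sl i (eS J p (-f)) = sl i (eS J p (-f')) * sl i (eS J p f') * g * sl i (eS J p (-f)) := by
          rw [e2, one_mul]
      _ = sl i (eS J p (-f')) * g * (sl i (eS J p f) * sl i (eS J p (-f))) := by
          rw [mul_assoc (sl i (eS J p (-f'))) _ g, ← h1]; simp only [mul_assoc]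
      _ = _ := by rw [e1, mul_one]
  refine ⟨f', hpf', ?_⟩
  have hx : ∀ e, bf J p e = 0 → sl (β := Fin t) i (xp J p e) =
      (2 : F)⁻¹ • (sl i (eS J p e) - sl i (eS J p (-e))) := fun e he => by
    rw [eS, eS, xp_neg, neg_mul_neg, sl_add, sl_add, sl_add, sl_add,
      show sl (β := Fin t) i (-xp J p e) = -sl i (xp J p e) by rw [← neg_one_smul F (xp J p e), sl_smul, neg_one_smul]]
    have h2 := hJ.two
    match_scalars <;> field_simp <;> ring
  rw [hx f hpf, hx f' hpf', mul_smul_comm, smul_mul_assoc, mul_sub, sub_mul, h1, h2]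

/-- the middle: the operator is normalised -/
theorem mid_data (hodd : Odd k) (hF : ¬ Full J Sg G) {i : Fin t} (hi : i ∈ Sg) {p q : Fin k → F} (h : HP J p q)
    {g a : Matrix (Fin t → Fin k) (Fin t → Fin k) F} (hg : MG G g) (ha : Maps J i g p p a) (hao : Op Sg i a) :
    ∃ (a' : Matrix (Fin t → Fin k) (Fin t → Fin k) F) (γ : F), γ ≠ 0 ∧ Op Sg i a' ∧ adjJ (GV J) a' * a' = 1 ∧
      Maps J i g p (γ • p) a' ∧ ∀ v, Mem J p q v → ∃ v', Mid J Sg i g a' p q v v' := by
  have hJ := hS.sj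
  haveI : Nonempty (Fin k) := ⟨⟨0, by have := hJ.kk; omega⟩⟩
  have hp0 := h.p0
  have hq0 : q ≠ 0 := fun e => by
    have := h.pq; rw [e, bf, mulVec_zero, dotProduct_zero] at this; exact zero_ne_one this
  obtain ⟨ainv, -, -, hai, -⟩ := hS.op_inv hp0 hg ha hao
  obtain ⟨b, hb⟩ : ∃ b, b = ct J i p q g := ⟨_, rfl⟩
  have hopc : ∀ u w, Op Sg i (ct J i u w g) := fun u w l hl A => by
    rcases eq_or_ne l i with rfl | hli
    · exact ct_commute l u w g A
    · exact ct_commute_other hli u w (hS.out' hg (hl.resolve_left hli) A)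
  have hrel : ∀ v, Mem J p q v → ∃ v1, Mem J p q v1 ∧ bf J v v • a = bf J v1 v1 • b ∧
      ∀ z, g * sl i (rk J v z) = sl i (rk J v1 z) * b - sl i (rk J p z) * ct J i v1 q g := by
    intro v hv
    obtain ⟨f', hpf', hf'⟩ := hS.xp_image hF hi hp0 h.pp hg ha hao hv.1
    obtain ⟨v1, hv1⟩ : ∃ v1, v1 = f' + (-bf J q f') • p := ⟨_, rfl⟩
    have hm : Mem J p q v1 := by
      constructor <;> simp only [hv1, bf_add_right, bf_smul_right, hpf', h.pp, hJ.comm q p, h.pq] <;> ring
    have hx : g * sl i (xp J p v) = sl i (xp J p v1) * g := by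
      rw [hf', hv1, xp_add, xp_smul, show xp J p p = 0 from sub_self _, smul_zero, add_zero]
    have hvq : bf J v q = 0 := by rw [hJ.comm]; exact hv.2
    have hform : ∀ z, g * sl i (rk J v z) = sl i (rk J v1 z) * b - sl i (rk J p z) * ct J i v1 q g := by
      intro z
      have e1 : sl (β := Fin t) i (rk J v z) = -(sl i (xp J p v) * sl i (rk J q z)) := by
        rw [sl_mul, xp, sub_mul, rk_mul_rk, rk_mul_rk, hvq, h.pq, zero_smul, one_smul, zero_sub,
          ← neg_one_smul F (rk J v z), sl_smul, neg_one_smul, neg_neg]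
      rw [e1, mul_neg, ← mul_assoc, hx, xp, sub_eq_add_neg, ← neg_one_smul F (rk J v1 p), sl_add, sl_smul,
        neg_one_smul, ← sub_eq_add_neg, sub_mul, sub_mul, sl_ct, sl_ct, hb]
      abel
    refine ⟨v1, hm, eq_of_sl i (hJ.rk_ne hp0 hp0) (fun A => (hao.self A).smul_left _)
      (fun A => ((hb ▸ hopc p q : Op Sg i b).self A).smul_left _) ?_, hform⟩
    have e2 : sl (β := Fin t) i (xp J p v) * sl i (rk J v p) = bf J v v • sl i (rk J p p) := by
      rw [sl_mul, xp, sub_mul, rk_mul_rk, rk_mul_rk, hv.1, zero_smul, sub_zero, sl_smul]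
    have e3 := congrArg (g * ·) e2
    simp only [← mul_assoc] at e3
    rw [hx, mul_assoc, hform, mul_smul_comm, ha p, mul_sub, ← mul_assoc, ← mul_assoc, sl_mul, sl_mul, xp, sub_mul,
      sub_mul, rk_mul_rk, rk_mul_rk, rk_mul_rk, rk_mul_rk, hm.1, h.pp, hJ.comm v1 p, hm.1] at e3
    simp only [zero_smul, sub_zero, sl_zero, zero_mul, sl_smul, smul_mul_assoc] at e3
    rw [mul_smul_comm, mul_smul_comm]
    exact e3.symm
  obtain ⟨q', e, hq', hpq', hpe, -, he⟩ := hJ.exists_frame hp0 h.pp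
  obtain ⟨m, hm, hme⟩ := hJ.decomp h e
  have hmm : bf J m m ≠ 0 := by
    have : bf J e e = bf J m m := by
      rw [hme, hpe, zero_smul, add_zero]
      simp only [bf_add_left, bf_add_right, bf_smul_left, bf_smul_right, h.pp, hm.1, hJ.comm m p]
      ring
    rwa [← this]
  obtain ⟨m1, hm1, hab, hmf⟩ := hrel m hm
  have ha0 : a ≠ 0 := fun e0 => by rw [e0, zero_mul] at hai; exact one_ne_zero hai.symm
  have hm10 : bf J m1 m1 ≠ 0 := fun e0 => by
    rw [e0, zero_smul] at hab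
    exact (smul_eq_zero.1 hab).elim hmm ha0
  obtain ⟨β, hβ⟩ : ∃ β, β = bf J m m / bf J m1 m1 := ⟨_, rfl⟩
  have hβ0 : β ≠ 0 := hβ ▸ div_ne_zero hmm hm10
  have hbβ : b = β • a := by
    rw [hβ, div_eq_inv_mul, mul_smul, hab, smul_smul, inv_mul_cancel₀ hm10, one_smul]
  -- the norm of the operator
  have hnorm : (β * β * bf J m1 m1) • (adjJ (GV J) a * a) =
      bf J m m • (1 : Matrix (Fin t → Fin k) (Fin t → Fin k) F) := by
    have haa := hao.adj hJ.symm hJ.det
    refine eq_of_sl i (hJ.rk_ne hp0 hp0) (fun A => (((haa.mul hao)).self A).smul_left _)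
      (fun A => (Commute.one_left _).smul_left _) ?_
    have f1 := hmf p
    have f2 := congrArg (adjJ (GV J)) f1
    rw [hS.adj_mul', adj_sub, hS.adj_mul', hS.adj_mul', adj_sl hJ.det, adj_sl hJ.det, adj_sl hJ.det, hJ.adjJ_rk,
      hJ.adjJ_rk, hJ.adjJ_rk, hbβ, adj_smul] at f2
    rw [hbβ] at f1
    have f3 : sl i (rk J p m) * adjJ (GV J) g * (g * sl i (rk J m p)) = bf J m m • sl i (rk J p p) := by
      rw [mul_assoc, ← mul_assoc (adjJ (GV J) g), (hS.adj_inv hg).2.1, one_mul, sl_mul, rk_mul_rk, sl_smul]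
    rw [f1, f2] at f3
    have hT := (hopc m1 q).adj hJ.symm hJ.det
    simp only [sub_mul, mul_sub, smul_mul_assoc, mul_smul_comm, mul_assoc] at f3
    simp only [← mul_assoc (sl i (rk J p m1)), ← mul_assoc (sl i (rk J p p)), sl_mul, rk_mul_rk, hm1.1, h.pp,
      hJ.comm m1 p, zero_smul, sl_zero, zero_mul, mul_zero, smul_zero, sub_zero, sl_smul, smul_mul_assoc,
      mul_smul_comm, smul_smul] at f3
    rw [mul_smul_comm, mul_smul_comm, mul_one, ← f3, ← mul_assoc, ← mul_assoc, ← (haa.self _).eq, Matrix.mul_assoc (adjJ (GV J) a) (sl i (rk J p p)) a]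
  obtain ⟨γ, hγ⟩ := hS.square_class hodd (a := a) (c := β⁻¹) (inv_ne_zero hβ0) (by
    have := congrArg ((β * β * bf J m1 m1)⁻¹ • ·) hnorm
    simp only [smul_smul, inv_mul_cancel₀ (mul_ne_zero (mul_ne_zero hβ0 hβ0) hm10), one_smul] at this
    rw [this]
    congr 1
    rw [hβ]
    field_simp)
  have hγ0 : γ ≠ 0 := fun e0 => inv_ne_zero hβ0 (by rw [hγ, e0, mul_zero])
  refine ⟨γ⁻¹ • a, γ, hγ0, hao.smul _, ?_, fun z => ?_, fun v hv => ?_⟩
  · have := congrArg ((β * β * bf J m1 m1)⁻¹ • ·) hnorm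
    simp only [smul_smul, inv_mul_cancel₀ (mul_ne_zero (mul_ne_zero hβ0 hβ0) hm10), one_smul] at this
    rw [adj_smul, smul_mul_assoc, mul_smul_comm, smul_smul, this, smul_smul]
    convert one_smul F (1 : Matrix (Fin t → Fin k) (Fin t → Fin k) F) using 2
    rw [← mul_inv, ← hγ, inv_inv, hβ]
    field_simp
  · rw [ha z, rk_smul_left, sl_smul, smul_mul_assoc, mul_smul_comm, smul_smul, mul_inv_cancel₀ hγ0, one_smul]
  · obtain ⟨v1, hv1, -, hvf⟩ := hrel v hv
    refine ⟨(β * γ) • v1, hv, ⟨by rw [bf_smul_right, hv1.1, mul_zero], by rw [bf_smul_right, hv1.2, mul_zero]⟩,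
      -ct J i v1 q g, (hopc v1 q).neg, fun z => ?_⟩
    rw [hvf z, hbβ, rk_smul_left, sl_smul, mul_neg, ← sub_eq_add_neg]
    congr 1
    rw [smul_mul_assoc, mul_smul_comm, mul_smul_comm, smul_smul, mul_assoc, mul_inv_cancel₀ hγ0, mul_one]

variable {i : Fin t} {p q : Fin k → F} {g a : Matrix (Fin t → Fin k) (Fin t → Fin k) F}

theorem mid_bf (h : HP J p q) (hg : MG G g) (hao : Op Sg i a) (haa : adjJ (GV J) a * a = 1) {v v' w w' : Fin k → F}
    (hv : Mid J Sg i g a p q v v') (hw : Mid J Sg i g a p q w w') : bf J v' w' = bf J v w := by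
  have hJ := hS.sj
  haveI : Nonempty (Fin k) := ⟨⟨0, by have := hJ.kk; omega⟩⟩
  obtain ⟨-, hv', T, hT, eT⟩ := hv
  obtain ⟨-, hw', U, hU, eU⟩ := hw
  have hTa := hT.adj hJ.symm hJ.det
  have hao' := hao.adj hJ.symm hJ.det
  have f2 := congrArg (adjJ (GV J)) (eT p)
  rw [hS.adj_mul', adj_add, hS.adj_mul', hS.adj_mul', adj_sl hJ.det, adj_sl hJ.det, adj_sl hJ.det, hJ.adjJ_rk,
    hJ.adjJ_rk, hJ.adjJ_rk] at f2
  have f3 : sl i (rk J p v) * adjJ (GV J) g * (g * sl i (rk J w p)) = bf J v w • sl i (rk J p p) := by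
    rw [mul_assoc, ← mul_assoc (adjJ (GV J) g), (hS.adj_inv hg).2.1, one_mul, sl_mul, rk_mul_rk, sl_smul]
  rw [f2, eU p] at f3
  simp only [add_mul, mul_add, mul_assoc] at f3
  simp only [← mul_assoc (sl i (rk J p v')), ← mul_assoc (sl i (rk J p p)), sl_mul, rk_mul_rk, hw'.1,
    h.pp, hJ.comm v' p, hv'.1, zero_smul, sl_zero, zero_mul, mul_zero, add_zero, sl_smul, smul_mul_assoc,
    mul_smul_comm] at f3
  rw [← mul_assoc, (hao'.self _).eq, mul_assoc, haa, mul_one, ← sl_smul, ← sl_smul] at f3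
  exact smul_left_injective F (hJ.rk_ne h.p0 h.p0) (sl_injective i f3)

theorem mid_comb {v v' w w' : Fin k → F} (hv : Mid J Sg i g a p q v v') (hw : Mid J Sg i g a p q w w') (c d : F) :
    Mid J Sg i g a p q (c • v + d • w) (c • v' + d • w') := by
  obtain ⟨hvm, hv', T, hT, eT⟩ := hv
  obtain ⟨hwm, hw', U, hU, eU⟩ := hw
  refine ⟨mem_comb hvm hwm c d, mem_comb hv' hw' c d, c • T + d • U, (hT.smul c).add (hU.smul d), fun z => ?_⟩
  simp only [rk_add_left, rk_smul_left, sl_add, sl_smul, mul_add, add_mul, mul_smul_comm, smul_mul_assoc, eT z, eU z]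
  module

/-- the middle is mapped onto the middle -/
theorem mid_surj (h : HP J p q) (hg : MG G g) (hao : Op Sg i a) (haa : adjJ (GV J) a * a = 1)
    (hall : ∀ v, Mem J p q v → ∃ v', Mid J Sg i g a p q v v') {y : Fin k → F} (hy : Mem J p q y) :
    ∃ v, Mid J Sg i g a p q v y := by
  choose f hf using hall
  let φ : {v // Mem J p q v} → {v // Mem J p q v} := fun v => ⟨f v.1 v.2, (hf v.1 v.2).2.1⟩
  have hinj : Function.Injective φ := fun v w e => by
    have e' : f v.1 v.2 = f w.1 w.2 := congrArg Subtype.val e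
    refine Subtype.ext (hS.sj.mem_ext h v.2 w.2 fun x hx => ?_)
    rw [← hS.mid_bf h hg hao haa (hf v.1 v.2) (hf x hx), e', hS.mid_bf h hg hao haa (hf w.1 w.2) (hf x hx)]
  obtain ⟨v, hv⟩ := (Finite.injective_iff_surjective.1 hinj) ⟨y, hy⟩
  have e : f v.1 v.2 = y := congrArg Subtype.val hv
  exact ⟨v.1, e ▸ hf v.1 v.2⟩

/-- the components of the middle killed by a slot element -/
theorem mid_shift (hF : ¬ Full J Sg G) (hi : i ∈ Sg) (h : HP J p q) {γ : F}
    (hg : MG G g) (hao : Op Sg i a) (haa : adjJ (GV J) a * a = 1) (hp : Maps J i g p (γ • p) a) (hγ : γ ≠ 0)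
    (hall : ∀ v, Mem J p q v → ∃ v', Mid J Sg i g a p q v v') {A A' : Matrix (Fin k) (Fin k) F} {lam lam' : F}
    (hA : MG G (sl i A)) (hA' : MG G (sl i A')) (hAp : A *ᵥ p = lam • p) (hA'p : A' *ᵥ p = lam' • p)
    (hll : lam * lam' = 1)
    (hc : ∀ v v', Mid J Sg i g a p q v v' → ∃ u, Mid J Sg i g a p q (A *ᵥ v) u ∧ A' *ᵥ u = v')
    {v v' u : Fin k → F} {T U : Matrix (Fin t → Fin k) (Fin t → Fin k) F} (hT : Op Sg i T) (hU : Op Sg i U)
    (hv : Mid J Sg i g a p q v v') (eT : ∀ z, g * sl i (rk J v z) = sl i (rk J v' z) * a + sl i (rk J p z) * T)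
    (eU : ∀ z, g * sl i (rk J (A *ᵥ v) z) = sl i (rk J u z) * a + sl i (rk J p z) * U) (hu : A' *ᵥ u = v') :
    ∃ s : F, lam' • U - T = s • a := by
  have hJ := hS.sj
  haveI : Nonempty (Fin k) := ⟨⟨0, by have := hJ.kk; omega⟩⟩
  have haa' : a * adjJ (GV J) a = 1 := mul_eq_one_comm.1 haa
  have hb := hao.adj hJ.symm hJ.det
  obtain ⟨hga, hg1, hg2⟩ := hS.adj_inv hg
  obtain ⟨R, hR⟩ : ∃ R, R = sl i A' * (g * sl i A * adjJ (GV J) g) := ⟨_, rfl⟩
  have hRM : MG G R := hR ▸ hA'.mul (hS.conj_mem hg hA)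
  have hRg : ∀ X, R * (g * X) = sl i A' * (g * (sl i A * X)) := fun X => by
    rw [hR]
    simp only [mul_assoc]
    rw [← mul_assoc (adjJ (GV J) g), hg1, one_mul]
  have hRp : Maps J i R p p 1 := fun z => by
    have e1 : g * sl i (rk J (γ⁻¹ • p) z) = sl i (rk J p z) * a := by
      rw [rk_smul_left, sl_smul, mul_smul_comm, hp z, rk_smul_left, sl_smul, smul_mul_assoc, smul_smul,
        inv_mul_cancel₀ hγ, one_smul]
    have e3 : R * (sl i (rk J p z) * a) = sl i (rk J p z) * a := by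
      conv_lhs => rw [← e1, hRg, sl_mul, mul_rk, mulVec_smul, hAp, smul_comm, rk_smul_left, sl_smul, mul_smul_comm, e1,
        mul_smul_comm, ← mul_assoc, sl_mul, mul_rk, hA'p, rk_smul_left, sl_smul, smul_mul_assoc, smul_smul, hll, one_smul]
    have := congrArg (· * adjJ (GV J) a) e3
    simpa only [mul_assoc, haa', mul_one] using this
  have hmid : ∀ x x' w (T U : Matrix (Fin t → Fin k) (Fin t → Fin k) F), A' *ᵥ w = x' →
      (∀ z, g * sl i (rk J x z) = sl i (rk J x' z) * a + sl i (rk J p z) * T) →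
      (∀ z, g * sl i (rk J (A *ᵥ x) z) = sl i (rk J w z) * a + sl i (rk J p z) * U) →
      ∀ z, R * sl i (rk J x' z) = sl i (rk J x' z) + sl i (rk J p z) * ((lam' • U - T) * adjJ (GV J) a) := by
    intro x x' w T U hw eT eU z
    have e1 : R * (g * sl i (rk J x z)) = sl i (rk J x' z) * a + sl i (rk J p z) * (lam' • U) := by
      rw [hRg, sl_mul, mul_rk, eU, mul_add, ← mul_assoc, sl_mul, mul_rk, hw, ← mul_assoc, sl_mul, mul_rk, hA'p,
        rk_smul_left, sl_smul, smul_mul_assoc, mul_smul_comm]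
    rw [eT z, mul_add, ← mul_assoc R (sl i (rk J p z)), hRp z, mul_one, ← mul_assoc] at e1
    have e2 := congrArg (· * adjJ (GV J) a) (eq_sub_of_add_eq e1)
    simp only [mul_assoc, haa', mul_one, add_mul, sub_mul] at e2
    rw [e2, sub_mul, mul_sub]
    abel
  have hrad : IsRad J Sg G i p R := ⟨hRM, hRp, fun y hy => by
    obtain ⟨x', hx'⟩ : ∃ x', x' = y + (-bf J q y) • p := ⟨_, rfl⟩
    have hm : Mem J p q x' := by
      constructor <;> simp only [hx', bf_add_right, bf_smul_right, hy, h.pp, hJ.comm q p, h.pq] <;> ring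
    obtain ⟨x, hx⟩ := hS.mid_surj h hg hao haa hall hm
    obtain ⟨w, hw, hw'⟩ := hc x x' hx
    obtain ⟨-, -, T, hT, eT⟩ := hx
    obtain ⟨-, -, U, hU, eU⟩ := hw
    refine ⟨(lam' • U - T) * adjJ (GV J) a, ((hU.smul _).sub hT).mul hb, fun z => ?_⟩
    rw [show y = x' + bf J q y • p by rw [hx']; module, rk_add_left, rk_smul_left, sl_add, sl_smul, mul_add,
      mul_smul_comm, hRp z, mul_one, hmid x x' w T U hw' eT eU z]
    abel⟩
  obtain ⟨f, hpf, hRf⟩ := hS.rad_slot hF hi h.p0 h.pp hrad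
  refine ⟨bf J f v', ?_⟩
  have e1 := hmid v v' u T U hu eT eU p
  rw [hRf, sl_mul, mul_rk, hJ.eS_eq h.pp hpf, add_mulVec, add_mulVec, one_mulVec, xp, sub_mulVec, smul_mulVec,
    rk_mulVec, rk_mulVec, rk_mulVec, hv.2.1.1] at e1
  simp only [zero_smul, smul_zero, sub_zero, add_zero, rk_add_left, rk_smul_left, sl_add, sl_smul,
    add_right_inj] at e1
  have e2 : (lam' • U - T) * adjJ (GV J) a = bf J f v' • 1 := by
    refine eq_of_sl i (hJ.rk_ne h.p0 h.p0) (((hU.smul _).sub hT).mul hb).self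
      (fun A => (Commute.one_left _).smul_left _) ?_
    rw [← e1, mul_smul_comm, mul_one]
  have := congrArg (· * a) e2
  simpa only [mul_assoc, haa, mul_one, smul_mul_assoc, one_mul] using this

end Setting

end Cfsg.Agent.ClassicalMax.OOWreath
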