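import Cfsg.Agent.ClassicalMax.OOWreath.OddEngine
import Cfsg.Agent.ClassicalMax.OOWreath.OddAxis

/-!
Slots of dimension three over the field of five elements: an axis without turns is fixed only by the slot.
-/

set_option autoImplicit false
set_option linter.unusedSectionVars false
set_option linter.unusedSimpArgs false

namespace Cfsg.Agent.ClassicalMax.OOWreath

open Matrix Cfsg.Agent.ClassicalMax.TPow
open Cfsg.Agent.ClassicalMax.SpWreath (GV GV_det)

/-- an involution inverts a group in which it centralises only a central involution -/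
theorem inverts_of_fibres {Γ : Type*} [Group Γ] [Finite Γ] {X : Subgroup Γ} {x D : Γ} (hx : x ∈ X) (hxx : x * x = 1)
    (hxc : ∀ g ∈ X, g * x = x * g) (hDD : D * D = 1) (hDx : D * x = x * D) (hDX : ∀ g ∈ X, D * g * D ∈ X)
    (hA : ∀ g ∈ X, D * g = g * D → g = 1 ∨ g = x) (hB : ∀ g ∈ X, g * D ≠ x * D * g) {y : Γ} (hy : y ∈ X) :
    D * y * D = y⁻¹ := by
  classical
  have hDi : D⁻¹ = D := inv_eq_of_mul_eq_one_right hDD
  have hxi : x⁻¹ = x := inv_eq_of_mul_eq_one_right hxx
  have hD' : ∀ z : Γ, D * (D * z) = z := fun z => by rw [← mul_assoc, hDD, one_mul]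
  let ψ : X → X := fun g => ⟨(g : Γ)⁻¹ * (D * g * D), X.mul_mem (X.inv_mem g.2) (hDX _ g.2)⟩
  let cl : X → Set X := fun g => {g, ⟨x, hx⟩ * g}
  have key : ∀ g g' : X, cl (ψ g) = cl (ψ g') → cl g = cl g' := by
    intro g g' e
    have hm : ψ g ∈ cl (ψ g') := e ▸ Or.inl rfl
    obtain ⟨w, hw⟩ : ∃ w : Γ, w = (g' : Γ) * (g : Γ)⁻¹ := ⟨_, rfl⟩
    have hwX : w ∈ X := hw ▸ X.mul_mem g'.2 (X.inv_mem g.2)
    have hg' : (g' : Γ) = w * g := by rw [hw, inv_mul_cancel_right]
    rcases hm with hm | hm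
    · have h1 : (g : Γ)⁻¹ * (D * g * D) = (g' : Γ)⁻¹ * (D * g' * D) := congrArg Subtype.val hm
      have h2 := congrArg (fun z => (g' : Γ) * z * D * (g : Γ)⁻¹) h1
      simp only [mul_assoc, mul_inv_cancel_left, hD', mul_inv_cancel, mul_one] at h2
      rw [← mul_assoc, ← hw] at h2
      rcases hA w hwX h2.symm with h | h
      · rw [show g' = g from Subtype.ext (by rw [hg', h, one_mul])]
      · rw [show g' = ⟨x, hx⟩ * g from Subtype.ext (by rw [hg', h, Subgroup.coe_mul])]
        show ({g, _} : Set X) = {_, ⟨x, hx⟩ * (⟨x, hx⟩ * g)}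
        rw [← mul_assoc, show (⟨x, hx⟩ : X) * ⟨x, hx⟩ = 1 from Subtype.ext hxx, one_mul, Set.pair_comm]
    · exfalso
      have h1 : (g : Γ)⁻¹ * (D * g * D) = x * ((g' : Γ)⁻¹ * (D * g' * D)) :=
        congrArg Subtype.val (Set.mem_singleton_iff.1 hm)
      rw [← mul_assoc x, ← hxc _ (X.inv_mem g'.2)] at h1
      have h2 := congrArg (fun z => (g' : Γ) * z * D * (g : Γ)⁻¹) h1
      simp only [mul_assoc, mul_inv_cancel_left, hD', mul_inv_cancel, mul_one] at h2
      rw [← mul_assoc, ← hw] at h2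
      exact hB w hwX (h2.trans (mul_assoc _ _ _).symm)
  let Φ : Set.range cl → Set.range cl := fun s => ⟨cl (ψ s.2.choose), _, rfl⟩
  have hinj : Function.Injective Φ := fun s s' e => by
    have := key _ _ (congrArg Subtype.val e)
    rw [s.2.choose_spec, s'.2.choose_spec] at this
    exact Subtype.ext this
  obtain ⟨s, hs⟩ := Finite.injective_iff_surjective.1 hinj ⟨cl ⟨y, hy⟩, _, rfl⟩
  have hs' : cl (ψ s.2.choose) = cl ⟨y, hy⟩ := congrArg Subtype.val hs
  have hψ : ∀ g : X, D * (ψ g : Γ) * D = (ψ g : Γ)⁻¹ := fun g => by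
    show D * ((g : Γ)⁻¹ * (D * g * D)) * D = ((g : Γ)⁻¹ * (D * g * D))⁻¹
    simp only [_root_.mul_inv_rev, inv_inv, hDi, mul_assoc, hDD, mul_one]
  have hm : (⟨y, hy⟩ : X) ∈ cl (ψ s.2.choose) := by rw [hs']; exact Or.inl rfl
  rcases hm with hm | hm
  · have h1 : y = _ := congrArg Subtype.val hm
    rw [h1]; exact hψ _
  · have h1 : y = x * (ψ s.2.choose : Γ) := congrArg Subtype.val (Set.mem_singleton_iff.1 hm)
    obtain ⟨z, hz⟩ : ∃ z : Γ, z = (ψ s.2.choose : Γ) := ⟨_, rfl⟩
    have hzc : z⁻¹ * x = x * z⁻¹ := hxc _ (X.inv_mem (hz ▸ (ψ s.2.choose).2))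
    have hzD : D * z * D = z⁻¹ := hz ▸ hψ _
    rw [← hz] at h1
    calc D * y * D = x * (D * z * D) := by rw [h1, ← mul_assoc D x, hDx]; simp only [mul_assoc]
      _ = x * z⁻¹ := by rw [hzD]
      _ = y⁻¹ := by rw [← hzc, h1, _root_.mul_inv_rev, hxi]

variable {F : Type*} [Field F] {k t : ℕ} {J : Matrix (Fin k) (Fin k) F} [Finite F]

/-- the rotation swapping two axes -/
theorem rf_swap (hJ : SJ J) {a b : Fin k → F} (ha : bf J a a ≠ 0) (hab : bf J a b = 0) (hbb : bf J b b = bf J a a) :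
    bf J (a - b) (a - b) = 2 * bf J a a ∧ rf J (a - b) *ᵥ a = b ∧ rf J (a - b) *ᵥ b = a ∧
      ∀ c, bf J a c = 0 → bf J b c = 0 → rf J (a - b) *ᵥ c = c := by
  have hba : bf J b a = 0 := by rw [hJ.comm, hab]
  have e : ∀ z, bf J (a - b) z = bf J a z - bf J b z := fun z => by
    rw [sub_eq_add_neg, ← neg_one_smul F b, bf_add_left, bf_smul_left]; ring
  have hn : bf J (a - b) (a - b) = 2 * bf J a a := by
    rw [e, hJ.comm a, hJ.comm b, e, e, hab, hba, hbb]; ring
  have h2 := hJ.two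
  refine ⟨hn, ?_, ?_, fun c h1 h3 => rf_perp (by rw [e, h1, h3, sub_zero])⟩
  · rw [rf_mulVec, hn, e, hba, sub_zero]
    match_scalars <;> field_simp <;> ring
  · rw [rf_mulVec, hn, e, hab, hbb, zero_sub]
    match_scalars <;> field_simp <;> ring

variable {Sg : Finset (Fin t)} {G : Subgroup (GL (Fin t → Fin k) F)}

namespace Setting

variable {i : Fin t} (hS : Setting J Sg G) (hodd : Odd k) (hk3 : k = 3) (hF : ¬ Full J Sg G) (hi : i ∈ Sg)
include hS hodd hk3 hF hi

/-- two fixed axes of a common norm over a field with a square root of minus one -/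
theorem two_fix {a c : Fin k → F} (ha : bf J a a ≠ 0) (hac : bf J a c = 0) (hcc : bf J c c = bf J a a) {w : F}
    (hw : w * w = -1) {h : Matrix (Fin t → Fin k) (Fin t → Fin k) F} (hh : MG G h) (hd : h.det = 1)
    (hfa : Maps J i h a a 1) (hfc : Maps J i h c c 1) : h = 1 := by
  have hJ := hS.sj
  haveI : Nonempty (Fin k) := ⟨⟨0, by omega⟩⟩
  obtain ⟨A, rfl⟩ := hS.fix_pair hF hi (d := w • c) ha (by rw [bf_smul_right, hac, mul_zero])
    (by rw [bf_smul_left, bf_smul_right, ← mul_assoc, hw, hcc, neg_one_mul]) hh hfa (maps_scale hfc w)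
  have hA := hS.slot_iso hh
  obtain ⟨hf, hf0⟩ := fam2 hJ ha (hcc ▸ ha) hac
  rw [fix_hyper hJ (n := 2) (by omega) (orth_li hJ hf hf0) hA (det_of_sl hodd hJ hA hd) (fun x => by
    fin_cases x
    exacts [maps_slot_eq hJ hfa, maps_slot_eq hJ hfc]), sl_one]

/-- only the trivial element and the half turn commute with a second half turn -/
theorem small_cent {a b c : Fin k → F} (ha : Good J a) (hb : Good J b) (hbb : bf J b b = bf J a a)
    (hcc : bf J c c = bf J a a) (hab : bf J a b = 0) (hac : bf J a c = 0) (hbc : bf J b c = 0) {w : F}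
    (hw : w * w = -1) {g : Matrix (Fin t → Fin k) (Fin t → Fin k) F} (hg : MG G g) (hgd : g.det = 1)
    (hga : Maps J i g a a 1) (hgb : Commute g (sl i (dl J b))) : g = 1 ∨ g = sl i (dl J a) := by
  classical
  have hJ := hS.sj
  haveI : Nonempty (Fin k) := ⟨⟨0, by omega⟩⟩
  have hc0 : bf J c c ≠ 0 := hcc ▸ ha.1
  have hb0 := hb.1
  have hdl : dl J a * dl J b = dl J c := triangle hJ hk3 ha.1 hb0 hc0 hab hac hbc
  have hca : bf J c a = 0 := by rw [hJ.comm, hac]
  have hcv : c ≠ 0 := fun e => hc0 (by rw [e]; simp [bf])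
  have hbv : b ≠ 0 := fun e => hb0 (by rw [e]; simp [bf])
  obtain ⟨e1, e2, e3, e4⟩ := rf_swap hJ hb0 hbc (hcc.trans hbb.symm)
  obtain ⟨f1, f2, f3, f4⟩ := rf_swap hJ ha.1 hab hbb
  obtain ⟨σ, hσ⟩ : ∃ σ, σ = sl (β := Fin t) i (rf J (b - c) * rf J (a - b)) := ⟨_, rfl⟩
  have hσM : MG G σ := hσ ▸ hS.pair i hi _ _ (e1 ▸ mul_ne_zero hJ.two hb0) (by rw [e1, f1, hbb])
  have hσm : ∀ {v v'}, (rf J (b - c) * rf J (a - b)) *ᵥ v = v' → Maps J i σ v v' 1 := fun {v v'} e => by
    rw [hσ, ← e]; exact maps_sl i _ v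
  have sa : Maps J i σ a c 1 := hσm (by rw [← mulVec_mulVec, f2, e2])
  have sb : Maps J i σ b a 1 := hσm (by
    rw [← mulVec_mulVec, f3, e4 a (by rw [hJ.comm, hab]) hca])
  have sc : Maps J i σ c b 1 := hσm (by rw [← mulVec_mulVec, f4 c hac hbc, e3])
  have h11 : adjJ (GV J) (1 : Matrix (Fin t → Fin k) (Fin t → Fin k) F) * 1 = 1 := by
    rw [adj_one hS.GV_det', mul_one]
  have hσi : ∀ {v v'}, Maps J i σ v v' 1 → Maps J i (adjJ (GV J) σ) v' v 1 := fun h => by
    have := hS.maps_adj hσM h h11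
    rwa [adj_one hS.GV_det'] at this
  obtain ⟨ga, hg1, hg2⟩ := hS.adj_inv hg
  -- the operators on the two other axes
  have ops : ∀ {x}, MG G x → Maps J i x a a 1 → Commute x (sl i (dl J b)) → ∃ B C,
      Op Sg i B ∧ Op Sg i C ∧ adjJ (GV J) B * B = 1 ∧ adjJ (GV J) C * C = 1 ∧ Maps J i x b b B ∧ Maps J i x c c C := by
    intro x hx hxa hxb
    obtain ⟨B, hB, hBm, hBi⟩ := hS.commute_line hb0 hx hxb
    obtain ⟨C, hC, hCm, hCi⟩ := hS.commute_line hc0 hx (by
      rw [← hdl, ← sl_mul]; exact (hS.fix_commute hx hxa).mul_right hxb)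
    exact ⟨B, C, hB, hC, hBi, hCi, hBm, hCm⟩
  -- they commute
  have com : ∀ {x y B C B' C'}, MG G x → MG G y → x.det = 1 → Maps J i x a a 1 → Maps J i y a a 1 →
      Op Sg i B → Op Sg i C → adjJ (GV J) B * B = 1 → adjJ (GV J) C * C = 1 → Maps J i x b b B → Maps J i x c c C →
      Op Sg i B' → Op Sg i C' → adjJ (GV J) B' * B' = 1 → Maps J i y b b B' → Maps J i y c c C' → Commute B C' := by
    intro x y B C B' C' hx hy hxd hxa hya hBo hCo hB hC hxb hxc hB'o hC'o hB' hyb hyc
    obtain ⟨h, hh⟩ : ∃ h, h = σ * y * adjJ (GV J) σ := ⟨_, rfl⟩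
    have hhM : MG G h := hh ▸ hS.conj_mem hσM hy
    have hhc : Maps J i h c c 1 := by
      have := ((hσi sa).mul hya).mul sa
      rw [hh]; simpa only [mul_assoc, mul_one] using this
    have hha : Maps J i h a a B' := by
      have := ((hσi sb).mul hyb).mul sb
      rw [hh]; simpa only [mul_assoc, mul_one, one_mul] using this
    have hhb : Maps J i h b b C' := by
      have := ((hσi sc).mul hyc).mul sc
      rw [hh]; simpa only [mul_assoc, mul_one, one_mul] using this
    obtain ⟨hxM', hx1, hx2⟩ := hS.adj_inv hx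
    obtain ⟨hhM', hh1, hh2⟩ := hS.adj_inv hhM
    obtain ⟨K, hK⟩ : ∃ K, K = x * h * adjJ (GV J) x * adjJ (GV J) h := ⟨_, rfl⟩
    have hKa : Maps J i K a a 1 := by
      have := (((hS.maps_adj hhM hha hB').mul (hS.fix_left hx hxa a).2).mul hha).mul hxa
      rw [hK]; simpa only [mul_assoc, mul_one, one_mul, mul_eq_one_comm.1 hB'] using this
    have hKc : Maps J i K c c 1 := by
      have := (((hS.fix_left hhM hhc c).2).mul (hS.maps_adj hx hxc hC) |>.mul hhc).mul hxc
      rw [hK]; simpa only [mul_assoc, mul_one, one_mul, mul_eq_one_comm.1 hC] using this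
    have hKd : K.det = 1 := by
      rw [hK, det_mul, hS.det_conj hx, ← det_mul, hh2, det_one]
    have hK1 := hS.two_fix hodd hk3 hF hi ha.1 hac hcc hw (hK ▸ (hS.conj_mem hx hhM).mul hhM') hKd hKa hKc
    have hxh : x * h = h * x := by
      have := congrArg (· * (h * x)) hK1
      rw [hK] at this
      simpa only [← mul_assoc, mul_assoc _ (adjJ (GV J) h) h, hh1, mul_one, mul_assoc _ (adjJ (GV J) x) x, hx1,
        one_mul] using this
    have h1 := hhb.mul hxb
    rw [hxh] at h1
    exact maps_unique hJ hbv (fun A => (hBo.self A).mul_left (hC'o.self A))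
      (fun A => (hC'o.self A).mul_left (hBo.self A)) h1 (hxb.mul hhb)
  obtain ⟨B, C, hBo, hCo, hBi, hCi, hgB, hgC⟩ := ops hg hga hgb
  -- the operator on the third axis is scalar
  have hsc : ∃ κ : F, C = κ • 1 := by
    by_contra! hns
    let S : Set (Matrix (Fin t → Fin k) (Fin t → Fin k) F) := {C' | ∃ x B', MG G x ∧ x.det = 1 ∧ Maps J i x a a 1 ∧
      Commute x (sl i (dl J b)) ∧ Op Sg i B' ∧ Op Sg i C' ∧ adjJ (GV J) B' * B' = 1 ∧ adjJ (GV J) C' * C' = 1 ∧
      Maps J i x b b B' ∧ Maps J i x c c C'}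
    let P : Matrix (Fin t → Fin k) (Fin t → Fin k) F → Prop := fun X => X ∈ Algebra.adjoin F S
    have hPc : ∀ {Z}, (∀ C' ∈ S, Commute Z C') → ∀ {X}, P X → Commute Z X := fun {Z} hZ {X} hX => by
      refine Algebra.adjoin_induction (p := fun X _ => Commute Z X) hZ (fun r => ?_) (fun _ _ _ _ => Commute.add_right)
        (fun _ _ _ _ => Commute.mul_right) hX
      rw [Algebra.algebraMap_eq_smul_one]; exact (Commute.one_right Z).smul_right r
    have hPo : ∀ {X}, P X → Op Sg i X := fun {X} hX l hl A => by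
      refine (hPc (fun C' hC' => ?_) hX).symm
      obtain ⟨_, _, -, -, -, -, -, ho, -⟩ := hC'
      exact (ho l hl A).symm
    have hInv : Inv J P := by
      refine ⟨⟨Subalgebra.one_mem _, fun _ _ => Subalgebra.add_mem _, fun _ hX s => Subalgebra.smul_mem _ hX s,
        fun _ _ => Subalgebra.mul_mem _⟩, fun X hX l p e hp he => ?_⟩
      have hinv : sl (β := Fin t) l (eS J p (-e)) * sl l (eS J p e) = 1 := by
        rw [sl_mul, mul_eq_one_comm.1 (hJ.eS_inv hp he), sl_one]
      have hinv' : sl (β := Fin t) l (eS J p e) * sl l (eS J p (-e)) = 1 := by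
        rw [sl_mul, hJ.eS_inv hp he, sl_one]
      refine Algebra.adjoin_induction
        (p := fun X _ => sl l (eS J p e) * X * sl l (eS J p (-e)) ∈ Algebra.adjoin F S) (fun C' hC' => ?_)
        (fun r => ?_) (fun x y _ _ h1 h2 => ?_) (fun x y _ _ h1 h2 => ?_) hX
      · by_cases hl : l = i ∨ l ∉ Sg
        · rw [← ((hPo (Algebra.subset_adjoin hC')) l hl _).eq, mul_assoc, hinv', mul_one]
          exact Algebra.subset_adjoin hC'
        push Not at hl
        obtain ⟨hli, hl⟩ := hl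
        obtain ⟨x, B', hx, hxd, hxa, hxb, hB'o, hC'o, hB'i, hC'i, hxB, hxC⟩ := hC'
        obtain ⟨hr, hre⟩ := hS.mg_root hl hp he
        have hci : ∀ {e'} A, Commute (sl (β := Fin t) l (eS J p e')) (sl i A) := fun A => sl_commute hli _ A
        have m1 : ∀ {v O}, Maps J i x v v O → Maps J i (sl l (eS J p e) * x * sl l (eS J p (-e))) v v
            (sl l (eS J p e) * O * sl l (eS J p (-e))) := fun {v O} h => by
          have := ((maps_commute (J := J) (hci (e' := -e)) v).mul h).mul (maps_commute (J := J) (hci (e' := e)) v)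
          simpa only [mul_assoc] using this
        have hrO := Op.slot hl hli (eS J p e) (F := F)
        have hrO' := Op.slot hl hli (eS J p (-e)) (F := F)
        have hunit : ∀ {O}, adjJ (GV J) O * O = 1 → adjJ (GV J) (sl l (eS J p e) * O * sl l (eS J p (-e))) *
            (sl l (eS J p e) * O * sl l (eS J p (-e))) = 1 := fun {O} hO => by
          rw [← hre, hS.adj_mul', hS.adj_mul', hS.adj_adj']
          simp only [mul_assoc]
          rw [← mul_assoc (adjJ (GV J) (sl l (eS J p e))) (sl l (eS J p e)), hre, hinv, one_mul,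
            ← mul_assoc (adjJ (GV J) O), hO, one_mul, hinv']
        refine Algebra.subset_adjoin ⟨_, _, hre ▸ hS.conj_mem hr hx, ?_, ?_, ?_, (hrO.mul hB'o).mul hrO',
          (hrO.mul hC'o).mul hrO', hunit hB'i, hunit hC'i, m1 hxB, m1 hxC⟩
        · rw [← hre, hS.det_conj hr, hxd]
        · have := m1 hxa
          rwa [mul_one, hinv'] at this
        · exact ((hci _).mul_left hxb).mul_left (hci _)
      · rw [Algebra.algebraMap_eq_smul_one, mul_smul_comm, mul_one, smul_mul_assoc, hinv']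
        exact Subalgebra.smul_mem _ (Subalgebra.one_mem _) r
      · rw [mul_add, add_mul]; exact Subalgebra.add_mem _ h1 h2
      · have := Subalgebra.mul_mem _ h1 h2
        refine cast (congrArg (fun Z => Z ∈ Algebra.adjoin F S) ?_) this
        simp only [mul_assoc]
        rw [← mul_assoc (sl l (eS J p (-e))) (sl l (eS J p e)), hinv, one_mul]
    have hCS : C ∈ S := ⟨g, B, hg, hgd, hga, hgb, hBo, hCo, hBi, hCi, hgB, hgC⟩
    obtain ⟨l0, hl0⟩ := hInv.exists_slot hJ (c := C) (Algebra.subset_adjoin hCS) hns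
    have hne : ∀ {l}, (l = i ∨ l ∉ Sg) → l0 ≠ l := fun {l} hl =>
      ne_of_slot_commute (by omega) fun A D => ((hPo (hl0 D)) l hl A).symm
    have hli : l0 ≠ i := hne (Or.inl rfl)
    have hlS : l0 ∈ Sg := by
      by_contra hl
      exact hne (Or.inr hl) rfl
    -- the generators commute with the roots of that slot
    have hr0 : ∀ p e, bf J p p = 0 → bf J p e = 0 → ∀ C' ∈ S, Commute (sl l0 (eS J p e)) C' := by
      rintro p e hp he C' ⟨x, B', hx, hxd, hxa, hxb, hB'o, hC'o, hB'i, hC'i, hxB, hxC⟩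
      obtain ⟨hr, hre⟩ := hS.mg_root hlS hp he
      obtain ⟨r, hrdef⟩ : ∃ r, r = sl (β := Fin t) l0 (eS J p e) := ⟨_, rfl⟩
      rw [← hrdef] at hr hre ⊢
      obtain ⟨hr', hr1, hr2⟩ := hS.adj_inv hr
      have hci : ∀ A, Commute r (sl i A) := fun A => hrdef ▸ sl_commute hli _ A
      have hci' : ∀ A, Commute (adjJ (GV J) r) (sl i A) := fun A => by rw [hre]; exact sl_commute hli _ A
      obtain ⟨hxM', hx1, hx2⟩ := hS.adj_inv hx
      obtain ⟨K, hK⟩ : ∃ K, K = x * r * adjJ (GV J) x * adjJ (GV J) r := ⟨_, rfl⟩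
      have hBr : Commute B' r := by
        refine (hPc (Z := B') (fun C'' hC'' => ?_) (hrdef ▸ hl0 (eS J p e) : P r))
        obtain ⟨y, B'', hy, -, hya, -, hB''o, hC''o, hB''i, -, hyB, hyC⟩ := hC''
        exact com hx hy hxd hxa hya hB'o hC'o hB'i hC'i hxB hxC hB''o hC''o hB''i hyB hyC
      have hKa : Maps J i K a a 1 := by
        have := (((maps_commute (J := J) hci' a).mul (hS.fix_left hx hxa a).2).mul (maps_commute (J := J) hci a)).mul hxa
        rw [hK]; simpa only [mul_assoc, mul_one, one_mul, hr2] using this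
      have hKb : Maps J i K b b 1 := by
        have h := (((maps_commute (J := J) hci' b).mul (hS.maps_adj hx hxB hB'i)).mul (maps_commute (J := J) hci b)).mul hxB
        rw [hK]
        refine cast (congrArg₂ (fun M O => Maps J i M b b O) ?_ ?_) h
        · simp only [mul_assoc]
        · rw [← mul_assoc B', hBr.eq, mul_assoc r, ← mul_assoc B', mul_eq_one_comm.1 hB'i, one_mul, hr2]
      have hKd : K.det = 1 := by
        rw [hK, det_mul, hS.det_conj hx, ← det_mul, hr2, det_one]
      have hK1 := hS.two_fix hodd hk3 hF hi ha.1 hab hbb hw (hK ▸ (hS.conj_mem hx hr).mul hr') hKd hKa hKb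
      have hxr : x * r = r * x := by
        have := congrArg (· * (r * x)) hK1
        rw [hK] at this
        simpa only [← mul_assoc, mul_assoc _ (adjJ (GV J) r) r, hr1, mul_one, mul_assoc _ (adjJ (GV J) x) x, hx1,
          one_mul] using this
      have h1 := hxC.mul (maps_commute (J := J) hci c)
      rw [← hxr] at h1
      exact (maps_unique hJ hcv (fun A => (hC'o.self A).mul_left (hci A)) (fun A => (hci A).mul_left (hC'o.self A))
        ((maps_commute (J := J) hci c).mul hxC) h1).symm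
    refine ne_of_slot_commute (F := F) (k := k) (show 2 ≤ k by omega) (l := l0) (j := l0) (fun A D => ?_) rfl
    exact IsAlg.slot_of_roots (P := fun X => Commute X (sl l0 D))
      ⟨Commute.one_left _, fun a b ha hb => ha.add_left hb, fun a ha s => ha.smul_left s,
        fun a b ha hb => ha.mul_left hb⟩ hJ (fun p e hp he => hPc (hr0 p e hp he) (hl0 D)) A
  obtain ⟨κ, hκ⟩ := hsc
  have hκ1 := hS.sq_one h11 (s := κ) (hκ ▸ hCi)
  rcases mul_self_eq_one_iff.1 hκ1 with e | e
  · left
    refine hS.two_fix hodd hk3 hF hi ha.1 hac hcc hw hg hgd hga ?_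
    rwa [hκ, e, one_smul] at hgC
  · right
    obtain ⟨x, hx⟩ : ∃ x, x = sl (β := Fin t) i (dl J a) := ⟨_, rfl⟩
    have hsg : sg F k = -1 := by rw [sg, hodd.neg_one_pow]
    have hxa : Maps J i x a a 1 := by
      have := maps_sl (J := J) i (dl J a) a
      rwa [dl_self ha.1, hsg, neg_neg, one_smul, ← hx] at this
    have hxc : Maps J i x c ((-1 : F) • c) 1 := by
      have := maps_sl (J := J) i (dl J a) c
      rwa [dl_perp hac, hsg, ← hx] at this
    have hgc' : Maps J i g ((-1 : F) • c) c 1 := by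
      rw [hκ, e] at hgC
      have := maps_op_smul (maps_scale hgC (-1))
      rwa [smul_smul, neg_mul_neg, one_mul, one_smul] at this
    have h1 := hS.two_fix hodd hk3 hF hi ha.1 hac hcc hw (hg.mul (hx ▸ hS.refl i hi a ha))
      (by rw [det_mul, hgd, hx, det_sl_dl hodd hJ i ha.1, one_mul])
      (by simpa only [mul_one] using hxa.mul hga) (by simpa only [mul_one] using hxc.mul hgc')
    calc g = g * (x * x) := by rw [hx, sl_mul, dl_sq ha.1, sl_one, mul_one]
      _ = sl i (dl J a) := by rw [← mul_assoc, h1, one_mul, hx]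

end Setting

end Cfsg.Agent.ClassicalMax.OOWreath
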