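import Cfsg.Agent.ClassicalMax.OOWreath.OddMid

/-!
In odd dimension an element mapping one singular line of a slot to another permutes the slot algebras.
-/

set_option autoImplicit false
set_option linter.unusedSectionVars false
set_option linter.unusedSimpArgs false

namespace Cfsg.Agent.ClassicalMax.OOWreath

open Matrix Cfsg.Agent.ClassicalMax.TPow
open Cfsg.Agent.ClassicalMax.SpWreath (GV GV_det)

variable {F : Type*} [Field F] {k t : ℕ} {J : Matrix (Fin k) (Fin k) F}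

variable (J) in
/-- elements fixing an axis lie in the slot -/
def AxisFix (G : Subgroup (GL (Fin t → Fin k) F)) (i : Fin t) (u : Fin k → F) : Prop :=
  ∀ h, MG G h → h.det = 1 → Maps J i h u u 1 → ∃ A, h = sl i A

variable (J) in
/-- a slot element turning a hyperbolic plane -/
def Turn (G : Subgroup (GL (Fin t → Fin k) F)) (i : Fin t) (p q : Fin k → F) : Prop :=
  ∃ (A : Matrix (Fin k) (Fin k) F) (lam : F), lam * lam ≠ 1 ∧ lam ≠ 0 ∧ MG G (sl i A) ∧ A *ᵥ p = lam • p ∧
    A *ᵥ q = lam⁻¹ • q ∧ ∀ v, Mem J p q v → A *ᵥ v = v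

variable (J) in
/-- in dimension three every plane can be turned or its axis is fixed only by the slot -/
def Turns (G : Subgroup (GL (Fin t → Fin k) F)) (i : Fin t) : Prop :=
  k = 3 → ∀ p q, HP J p q → ∀ e, Mem J p q e → e ≠ 0 → Turn J G i p q ∨ (Good J e ∧ AxisFix J G i e)

theorem SJ.perp_of_ne_top (hJ : SJ J) {S : Submodule F (Fin k → F)} (hS : S ≠ ⊤) :
    ∃ y, y ≠ 0 ∧ ∀ x ∈ S, bf J y x = 0 := by
  obtain ⟨φ, hφ0, hφ⟩ := Submodule.exists_le_ker_of_lt_top S (lt_top_iff_ne_top.2 hS)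
  obtain ⟨y, hy⟩ : ∃ y, y = J⁻¹ *ᵥ fun c => φ (Pi.single c 1) := ⟨_, rfl⟩
  have hyφ : ∀ z, bf J y z = φ z := fun z => by
    rw [hy, hJ.comm, bf, mulVec_mulVec, mul_nonsing_inv J hJ.det, one_mulVec]
    conv_rhs => rw [pi_eq_sum_univ' z]
    simp only [map_sum, map_smul, dotProduct, smul_eq_mul]
  refine ⟨y, fun e => hφ0 (LinearMap.ext fun z => ?_), fun x hx => ?_⟩
  · rw [← hyφ, e, bf, zero_dotProduct]; rfl
  · rw [hyφ]; exact hφ hx

variable [Finite F] {Sg : Finset (Fin t)} {G : Subgroup (GL (Fin t → Fin k) F)}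

namespace Setting

variable (hS : Setting J Sg G)
include hS

/-- rotations of a plane by squares -/
theorem exists_torus {i : Fin t} (hi : i ∈ Sg) {p q : Fin k → F} (h : HP J p q) {s : F} (hs : s ≠ 0) :
    ∃ A, MG G (sl i A) ∧ A *ᵥ p = (s * s) • p ∧ A *ᵥ q = (s * s)⁻¹ • q ∧ ∀ v, Mem J p q v → A *ᵥ v = v := by
  have hJ := hS.sj
  have h2 := hJ.two
  have hqp : bf J q p = 1 := by rw [hJ.comm, h.pq]
  obtain ⟨b, hb⟩ : ∃ b, b = s⁻¹ • (p + (s * s) • q) := ⟨_, rfl⟩
  have haa : bf J (p + q) (p + q) = 2 := by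
    simp only [bf_add_left, bf_add_right, h.pp, h.qq, h.pq, hqp]; ring
  have hbb : bf J b b = 2 := by
    simp only [hb, bf_add_left, bf_add_right, bf_smul_left, bf_smul_right, h.pp, h.qq, h.pq, hqp]
    field_simp; ring
  refine ⟨rf J (p + q) * rf J b, hS.pair i hi _ _ (haa ▸ h2) (haa.trans hbb.symm), ?_, ?_, fun v hv => ?_⟩
  · rw [← mulVec_mulVec, rf_mulVec b, mulVec_add, mulVec_smul, rf_mulVec, rf_mulVec, hbb, haa]
    simp only [hb, bf_add_left, bf_add_right, bf_smul_left, bf_smul_right, h.pp, h.qq, h.pq, hqp]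
    match_scalars <;> field_simp <;> ring
  · rw [← mulVec_mulVec, rf_mulVec b, mulVec_add, mulVec_smul, rf_mulVec, rf_mulVec, hbb, haa]
    simp only [hb, bf_add_left, bf_add_right, bf_smul_left, bf_smul_right, h.pp, h.qq, h.pq, hqp]
    match_scalars <;> field_simp <;> ring
  · rw [← mulVec_mulVec, rf_perp (u := b), rf_perp]
    · rw [bf_add_left, hv.1, hv.2, add_zero]
    · rw [hb, bf_smul_left, bf_add_left, bf_smul_left, hv.1, hv.2, mul_zero, add_zero, mul_zero]

variable {i : Fin t} {p q : Fin k → F} {g a : Matrix (Fin t → Fin k) (Fin t → Fin k) F}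

theorem mid_unique (h : HP J p q) (hg : MG G g) (hao : Op Sg i a) (haa : adjJ (GV J) a * a = 1)
    (hall : ∀ v, Mem J p q v → ∃ v', Mid J Sg i g a p q v v') {v y y' : Fin k → F}
    (hy : Mid J Sg i g a p q v y) (hy' : Mid J Sg i g a p q v y') : y = y' := by
  refine hS.sj.mem_ext h hy.2.1 hy'.2.1 fun x hx => ?_
  obtain ⟨w, hw⟩ := hS.mid_surj h hg hao haa hall hx
  rw [hS.mid_bf h hg hao haa hy hw, hS.mid_bf h hg hao haa hy' hw]

/-- the middle is mapped to lines -/
theorem mid_maps (hodd : Odd k) (hF : ¬ Full J Sg G) (hi : i ∈ Sg) (h : HP J p q) {γ : F} (hg : MG G g)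
    (hao : Op Sg i a) (haa : adjJ (GV J) a * a = 1) (hp : Maps J i g p (γ • p) a) (hγ : γ ≠ 0)
    (hall : ∀ v, Mem J p q v → ∃ v', Mid J Sg i g a p q v v') {v y : Fin k → F}
    (hvy : Mid J Sg i g a p q v y) : ∃ τ : F, Maps J i g v (y + τ • p) a := by
  have hJ := hS.sj
  have h2 := hJ.two
  have fin : ∀ {v y : Fin k → F} {T : Matrix (Fin t → Fin k) (Fin t → Fin k) F} {s : F},
      (∀ z, g * sl i (rk J v z) = sl i (rk J y z) * a + sl i (rk J p z) * T) → T = s • a →
      Maps J i g v (y + s • p) a := fun {v y T s} e e' z => by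
    rw [e z, e', rk_add_left, rk_smul_left, sl_add, sl_smul, add_mul, smul_mul_assoc, mul_smul_comm]
  by_cases h5 : 5 ≤ Nat.card F
  · classical
    letI := Fintype.ofFinite F
    obtain ⟨s, -, hs⟩ := Finset.exists_mem_notMem_of_card_lt_card (s := ({0, 1, -1} : Finset F))
      (t := Finset.univ) (lt_of_le_of_lt Finset.card_le_three (by
        rw [Finset.card_univ, ← Nat.card_eq_fintype_card]; omega))
    simp only [Finset.mem_insert, Finset.mem_singleton, not_or] at hs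
    obtain ⟨hs0, hs1, hs2⟩ := hs
    have hne : (s * s)⁻¹ - 1 ≠ 0 := fun e => by
      rw [sub_eq_zero, inv_eq_one, mul_self_eq_one_iff] at e
      exact e.elim hs1 hs2
    obtain ⟨A, hA, hAp, -, hAv⟩ := hS.exists_torus hi h hs0
    obtain ⟨A', hA', hA'p, -, hA'v⟩ := hS.exists_torus hi h (inv_ne_zero hs0)
    have hm := hvy
    obtain ⟨hvm, hy, T, hT, eT⟩ := hvy
    obtain ⟨c, hc⟩ := hS.mid_shift hF hi h hg hao haa hp hγ hall hA hA' hAp hA'p (by field_simp)
      (fun x x' hx => ⟨x', (hAv x hx.1).symm ▸ hx, hA'v x' hx.2.1⟩) hT hT hm eT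
      (by rw [hAv v hvm]; exact eT) (hA'v y hy)
    refine ⟨((s * s)⁻¹ - 1)⁻¹ * c, fin eT ?_⟩
    rw [mul_smul, ← hc, show s⁻¹ * s⁻¹ = (s * s)⁻¹ by rw [mul_inv], show (s * s)⁻¹ • T - T = ((s * s)⁻¹ - 1) • T by
      rw [sub_smul, one_smul], smul_smul, inv_mul_cancel₀ hne, one_smul]
  have hk5 : 5 ≤ k := by
    have h4 := hJ.q5.resolve_left h5
    obtain ⟨r, hr⟩ := hodd
    omega
  have hsg : sg F k = -1 := by rw [sg, hodd.neg_one_pow]
  have hgood : ∀ d, Good J d → Mem J p q d → ∃ (d' : Fin k → F) (τ : F), Mid J Sg i g a p q d d' ∧ Maps J i g d (d' + τ • p) a := by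
    intro d hd hdm
    obtain ⟨d', hdd'⟩ := hall d hdm
    have hn : bf J d' d' = bf J d d := hS.mid_bf h hg hao haa hdd' hdd'
    have hd' : Good J d' := ⟨hn ▸ hd.1, fun ho => by rw [hn]; exact hd.2 ho⟩
    have hdp : ∀ {w}, Mem J p q w → dl J w *ᵥ p = (-1 : F) • p := fun {w} hw => by
      rw [dl_perp (by rw [hJ.comm]; exact hw.1), hsg]
    obtain ⟨-, hy, T, hT, eT⟩ := hdd'
    have hself : dl J d *ᵥ d = d := by rw [dl_self hd.1, hsg, neg_neg, one_smul]
    have hself' : dl J d' *ᵥ d' = d' := by rw [dl_self hd'.1, hsg, neg_neg, one_smul]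
    obtain ⟨c, hc⟩ := hS.mid_shift hF hi h hg hao haa hp hγ hall (hS.refl i hi d hd) (hS.refl i hi d' hd')
      (hdp hdm) (hdp hy) (by ring) (fun x x' hx => by
        refine ⟨(-1 : F) • x' + (2 / bf J d d * bf J d x) • d', ?_, ?_⟩
        · rw [show dl J d *ᵥ x = (-1 : F) • x + (2 / bf J d d * bf J d x) • d by
            rw [dl, smul_mulVec, rf_mulVec, hsg]; module]
          exact hS.mid_comb hx ⟨hdm, hy, T, hT, eT⟩ _ _
        · rw [mulVec_add, mulVec_smul, mulVec_smul, hself', dl, smul_mulVec, rf_mulVec, hsg, hn,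
            hS.mid_bf h hg hao haa ⟨hdm, hy, T, hT, eT⟩ hx]
          module) hT hT ⟨hdm, hy, T, hT, eT⟩ eT (by rw [hself]; exact eT) hself'
    refine ⟨d', (-2 : F)⁻¹ * c, ⟨hdm, hy, T, hT, eT⟩, fin eT ?_⟩
    rw [mul_smul, ← hc, show (-1 : F) • T - T = (-2 : F) • T by module, smul_smul,
      inv_mul_cancel₀ (neg_ne_zero.2 h2), one_smul]
  let W : Submodule F (Fin k → F) :=
    { carrier := {v | ∃ y τ, Mid J Sg i g a p q v y ∧ Maps J i g v (y + τ • p) a}
      zero_mem' := ⟨0, 0, ⟨⟨by simp [bf], by simp [bf]⟩, ⟨by simp [bf], by simp [bf]⟩, 0, Op.zero, fun z => by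
          simp [rk, zero_vecMulVec, sl_zero]⟩, by rw [zero_smul, add_zero]; exact maps_zero g a⟩
      add_mem' := fun {x x'} ⟨y, τ, h1, h1'⟩ ⟨y', τ', h3, h3'⟩ => ⟨(1 : F) • y + (1 : F) • y', τ + τ', by
          have  := hS.mid_comb h1 h3 1 1
          rwa [one_smul F x, one_smul F x'] at this, by
          have := maps_comb h1' h3' 1 1
          rw [one_smul F x, one_smul F x'] at this
          refine cast (congrArg (fun z => Maps J i g (x + x') z a) ?_) this
          module⟩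
      smul_mem' := fun c x ⟨y, τ, h1, h1'⟩ => ⟨c • y, c * τ, by
          have  := hS.mid_comb h1 h1 c 0
          rwa [zero_smul, add_zero, zero_smul, add_zero] at this, by
          have := maps_scale h1' c
          rwa [smul_add, smul_smul] at this⟩ }
  obtain ⟨S, hS'⟩ : ∃ S, S = W ⊔ Submodule.span F {p, q} := ⟨_, rfl⟩
  have htop : S = ⊤ := by
    by_contra hne
    obtain ⟨z, hz0, hz⟩ := hJ.perp_of_ne_top hne
    have hzp : bf J p z = 0 := by
      rw [hJ.comm]
      exact hz p (hS' ▸ Submodule.mem_sup_right (Submodule.subset_span (by simp)))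
    have hzq : bf J q z = 0 := by
      rw [hJ.comm]
      exact hz q (hS' ▸ Submodule.mem_sup_right (Submodule.subset_span (by simp)))
    obtain ⟨d, hd, hpd, hqd, hdz⟩ := hJ.exists_good_sep (by omega) h.pp h.qq h.pq hz0 hzp hzq
    refine hdz ?_
    rw [hJ.comm]
    exact hz d (hS' ▸ Submodule.mem_sup_left (hgood d hd ⟨hpd, hqd⟩))
  obtain ⟨w, hw, x, hx, hwx⟩ := Submodule.mem_sup.1 (show v ∈ W ⊔ Submodule.span F {p, q} by
    rw [← hS', htop]; exact Submodule.mem_top)
  obtain ⟨c, d, rfl⟩ := Submodule.mem_span_pair.1 hx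
  obtain ⟨y', τ, hm, hmap⟩ := hw
  have hqp : bf J q p = 1 := by rw [hJ.comm, h.pq]
  have hd : d = 0 := by
    have := congrArg (bf J p) hwx
    simpa [bf_add_right, bf_smul_right, hm.1.1, hvy.1.1, h.pp, h.pq] using this
  have hc : c = 0 := by
    have := congrArg (bf J q) hwx
    simpa [bf_add_right, bf_smul_right, hm.1.2, hvy.1.2, h.qq, hqp] using this
  rw [hc, hd, zero_smul, zero_smul, add_zero, add_zero] at hwx
  subst hwx
  exact ⟨τ, hS.mid_unique h hg hao haa hall hm hvy ▸ hmap⟩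

/-- a turning element gives the image of the partner -/
theorem partner_turn (hF : ¬ Full J Sg G) (hi : i ∈ Sg) (h : HP J p q) {γ : F} (hg : MG G g)
    (hao : Op Sg i a) (haa : adjJ (GV J) a * a = 1) (hp : Maps J i g p (γ • p) a) (hγ : γ ≠ 0)
    (hsur : ∀ y, Mem J p q y → ∃ (v : Fin k → F) (τ : F), Mem J p q v ∧ Maps J i g v (y + τ • p) a) (hT : Turn J G i p q) :
    ∃ q', Maps J i g q q' a := by
  have hJ := hS.sj
  haveI : Nonempty (Fin k) := ⟨⟨0, by have := hJ.kk; omega⟩⟩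
  obtain ⟨A, lam, hll, hl0, hA, hAp, hAq, hAv⟩ := hT
  have hAA := hS.slot_iso hA
  have hA1 : MG G (sl i (adjJ J A)) := by rw [← adj_sl hJ.det]; exact (hS.adj_inv hA).1
  have hA1v : ∀ {x y : Fin k → F}, A *ᵥ x = y → adjJ J A *ᵥ y = x := fun {x y} e => by
    rw [← e, mulVec_mulVec, hAA, one_mulVec]
  have hA1p : adjJ J A *ᵥ p = lam⁻¹ • p := by
    have := congrArg (lam⁻¹ • ·) (hA1v hAp)
    simpa only [mulVec_smul, smul_smul, inv_mul_cancel₀ hl0, one_smul] using this
  obtain ⟨hga, hg1, hg2⟩ := hS.adj_inv hg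
  have haa' : a * adjJ (GV J) a = 1 := mul_eq_one_comm.1 haa
  obtain ⟨Y, hY⟩ : ∃ Y, Y = g * sl i A * adjJ (GV J) g := ⟨_, rfl⟩
  have hYM : MG G Y := hY ▸ hS.conj_mem hg hA
  have hYg : Y * g = g * sl i A := by rw [hY, mul_assoc _ _ g, hg1, mul_one]
  have hYm : ∀ {x x' : Fin k → F} {c : F}, Maps J i g x x' a → A *ᵥ x = c • x → Maps J i Y x' (c • x') 1 :=
    fun {x x' c} hx hc z => by
      have e : Y * sl i (rk J x' z) * a = c • (sl i (rk J x' z) * a) := by
        rw [mul_assoc, ← hx z, ← mul_assoc, hYg, mul_assoc, sl_mul, mul_rk, hc, rk_smul_left, sl_smul, mul_smul_comm]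
      have := congrArg (· * adjJ (GV J) a) e
      simp only [mul_assoc, haa', mul_one, smul_mul_assoc] at this
      rw [this, mul_one, rk_smul_left, sl_smul]
  have hYp : Maps J i Y p (lam • p) 1 := by
    have := hYm (c := lam) hp hAp
    have h1 := maps_scale this γ⁻¹
    simp only [smul_smul] at h1
    rwa [inv_mul_cancel₀ hγ, one_smul, show γ⁻¹ * (lam * γ) = lam by field_simp] at h1
  have hYy : ∀ y, Mem J p q y → ∃ τ : F, Maps J i Y (y + τ • p) (y + τ • p) 1 := fun y hy => by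
    obtain ⟨v, τ, hv, hm⟩ := hsur y hy
    refine ⟨τ, ?_⟩
    have := hYm (c := 1) hm (by rw [hAv v hv, one_smul])
    rwa [one_smul] at this
  obtain ⟨R, hR⟩ : ∃ R, R = sl i (adjJ J A) * Y := ⟨_, rfl⟩
  have hRM : MG G R := hR ▸ hA1.mul hYM
  have hRm : ∀ {x y : Fin k → F}, Maps J i Y x y 1 → Maps J i R x (adjJ J A *ᵥ y) 1 := fun {x y} hx => by
    have := hx.mul (maps_sl (J := J) i (adjJ J A) y)
    rw [mul_one] at this
    exact hR ▸ this
  have hRp : Maps J i R p p 1 := by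
    have := hRm hYp
    rwa [mulVec_smul, hA1p, smul_smul, mul_inv_cancel₀ hl0, one_smul] at this
  have hrad : IsRad J Sg G i p R := ⟨hRM, hRp, fun y hy => by
    obtain ⟨x, hx⟩ : ∃ x, x = y + (-bf J q y) • p := ⟨_, rfl⟩
    have hm : Mem J p q x := by
      constructor <;> simp only [hx, bf_add_right, bf_smul_right, hy, h.pp, hJ.comm q p, h.pq] <;> ring
    obtain ⟨τ, hτ⟩ := hYy x hm
    have h1 := hRm hτ
    rw [mulVec_add, mulVec_smul, hA1v (hAv x hm), hA1p, smul_smul] at h1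
    have h3 := maps_comb h1 hRp 1 (bf J q y - τ)
    rw [show (1 : F) • (x + τ • p) + (bf J q y - τ) • p = y by rw [hx]; module,
      show (1 : F) • (x + (τ * lam⁻¹) • p) + (bf J q y - τ) • p = y + (τ * lam⁻¹ - τ) • p by rw [hx]; module] at h3
    refine ⟨(τ * lam⁻¹ - τ) • 1, Op.one.smul _, fun z => ?_⟩
    rw [h3 z, mul_one, mul_smul_comm, mul_one, rk_add_left, rk_smul_left, sl_add, sl_smul]⟩
  obtain ⟨f, hpf, hRf⟩ := hS.rad_slot hF hi h.p0 h.pp hrad
  obtain ⟨B, hB⟩ : ∃ B, B = A * eS J p f := ⟨_, rfl⟩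
  have hYB : Y = sl i B := by
    rw [hB, ← sl_mul, ← hRf, hR, ← mul_assoc, sl_mul, mul_eq_one_comm.1 hAA, sl_one, one_mul]
  have hBB := hS.slot_iso (hYB ▸ hYM)
  have hBp : B *ᵥ p = lam • p := maps_slot_eq hJ (hYB ▸ hYp)
  have hlne : lam⁻¹ - lam ≠ 0 := fun e => hll (by
    rw [sub_eq_zero] at e
    nth_rewrite 1 [← e]
    exact inv_mul_cancel₀ hl0)
  have hl1 : lam⁻¹ ≠ 1 := fun e => hll (by rw [inv_eq_one.1 e, one_mul])
  have heig : ∀ z, B *ᵥ z = lam⁻¹ • z → bf J p z = 0 → z = 0 := by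
    intro z hz hpz
    have hperp : ∀ y, Mem J p q y → bf J z y = 0 := fun y hy => by
      obtain ⟨τ, hτ⟩ := hYy y hy
      have e := bf_iso hJ hBB z (y + τ • p)
      rw [hz, maps_slot_eq hJ (hYB ▸ hτ), bf_smul_left, bf_add_right, bf_smul_right, hJ.comm z p, hpz, mul_zero,
        add_zero] at e
      exact (mul_eq_zero.1 (show (lam⁻¹ - 1) * bf J z y = 0 by linear_combination e)).resolve_left
        (sub_ne_zero.2 hl1)
    obtain ⟨v, hv, e⟩ := hJ.decomp h z
    have hv0 : v = 0 := hJ.mem_ext h hv ⟨by simp [bf], by simp [bf]⟩ fun x hx => by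
      have := hperp x hx
      rw [e] at this
      simp only [bf_add_left, bf_smul_left, hx.1, hx.2, mul_zero, add_zero] at this
      rw [this]; simp [bf]
    rw [hv0, zero_add, hpz, zero_smul, add_zero] at e
    rw [e, mulVec_smul, hBp, smul_smul, smul_smul] at hz
    have h3 : ((lam⁻¹ - lam) * bf J q z) • p = 0 := by linear_combination (norm := module) -hz
    rw [e, ((mul_eq_zero.1 ((smul_eq_zero.1 h3).resolve_right h.p0)).resolve_left hlne), zero_smul]
  have hM : ∀ z x y, B * slice' (g * sl i (rk J q z)) i x y = lam⁻¹ • slice' (g * sl i (rk J q z)) i x y := by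
    intro z x y
    rw [← slice'_sl_mul, ← hYB, ← mul_assoc, hYg, mul_assoc g, sl_mul, mul_rk, hAq, rk_smul_left, sl_smul,
      mul_smul_comm, slice'_smul]
  have hcol : ∀ z x y (w : Fin k → F),
      B *ᵥ (slice' (g * sl i (rk J q z)) i x y *ᵥ w) = lam⁻¹ • (slice' (g * sl i (rk J q z)) i x y *ᵥ w) :=
    fun z x y w => by rw [mulVec_mulVec, hM, smul_mulVec]
  obtain ⟨z0, hz0, hz0p⟩ : ∃ z, B *ᵥ z = lam⁻¹ • z ∧ bf J p z = 1 := by
    obtain ⟨z, hz, hne⟩ : ∃ z, B *ᵥ z = lam⁻¹ • z ∧ z ≠ 0 := by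
      by_contra! hall
      have hz : g * sl i (rk J q p) = 0 := eq_zero_of_slices i fun x y =>
        Matrix.toLin'.injective (LinearMap.ext fun w => by
          rw [Matrix.toLin'_apply, map_zero, LinearMap.zero_apply]; exact hall _ (hcol p x y w))
      have h1 := congrArg (adjJ (GV J) g * ·) hz
      simp only [← mul_assoc, hg1, one_mul, mul_zero] at h1
      rw [← sl_zero (F := F) (κ := Fin k) i] at h1
      exact hJ.rk_ne (fun e => by have := h.pq; rw [e, bf, mulVec_zero, dotProduct_zero] at this; exact zero_ne_one this)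
        h.p0 (sl_injective i h1)
    have hb : bf J p z ≠ 0 := fun e => hne (heig z hz e)
    exact ⟨(bf J p z)⁻¹ • z, by rw [mulVec_smul, hz, smul_comm], by rw [bf_smul_right, inv_mul_cancel₀ hb]⟩
  have huniq : ∀ z, B *ᵥ z = lam⁻¹ • z → z = bf J p z • z0 := fun z hz => by
    refine sub_eq_zero.1 (heig _ ?_ ?_)
    · rw [mulVec_sub, mulVec_smul, hz, hz0, smul_sub, smul_comm]
    · rw [sub_eq_add_neg, ← neg_one_smul F (bf J p z • z0), bf_add_right, bf_smul_right, bf_smul_right, hz0p]; ring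
  obtain ⟨c, hc⟩ : ∃ c, c = ct J i p q g := ⟨_, rfl⟩
  have hco : Op Sg i c := hc ▸ fun l hl A => by
    rcases eq_or_ne l i with rfl | hli
    · exact ct_commute l p q g A
    · exact ct_commute_other hli p q (hS.out' hg (hl.resolve_left hli) A)
  have hq : Maps J i g q z0 c := fun z => by
    have e : sl i (rk J z0 p) * (g * sl i (rk J q z)) = g * sl i (rk J q z) := by
      refine sub_eq_zero.1 (eq_zero_of_slices i fun x y => ?_)
      rw [slice'_sub, slice'_sl_mul]
      refine Matrix.toLin'.injective (LinearMap.ext fun w => ?_)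
      rw [Matrix.toLin'_apply, sub_mulVec, ← mulVec_mulVec, rk_mulVec, map_zero, LinearMap.zero_apply,
        ← huniq _ (hcol z x y w), sub_self]
    rw [← e, ← mul_assoc, sl_ct, hc]
  refine ⟨γ⁻¹ • z0, maps_op_smul (c := γ⁻¹) ?_⟩
  have f1 := hp.adj hJ.symm hJ.det hao.self p
  have f2 : sl i (rk J p p) * adjJ (GV J) g * (g * sl i (rk J q p)) = sl i (rk J p p) := by
    rw [mul_assoc, ← mul_assoc (adjJ (GV J) g), hg1, one_mul, sl_mul, rk_mul_rk, h.pq, one_smul]
  rw [f1, hq p, mul_assoc (sl i _), ← mul_assoc (adjJ (GV J) a), ((hao.adj hJ.symm hJ.det).self _).eq,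
    mul_assoc (sl i _) (adjJ (GV J) a), ← mul_assoc, sl_mul, rk_mul_rk, bf_smul_left, hz0p, mul_one, sl_smul,
    smul_mul_assoc] at f2
  have f3 : γ • (adjJ (GV J) a * c) = 1 :=
    eq_of_sl i (hJ.rk_ne h.p0 h.p0) (fun A => (((hao.adj hJ.symm hJ.det).mul hco).self A).smul_left _)
      (fun A => Commute.one_left _) (by rw [mul_smul_comm, f2, mul_one])
  have hca : c = γ⁻¹ • a := by
    have := congrArg (γ⁻¹ • a * ·) f3
    simp only [mul_smul_comm, smul_mul_assoc, ← mul_assoc, haa', one_mul, mul_one, smul_smul,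
      mul_inv_cancel₀ hγ, one_smul] at this
    exact this
  exact hca ▸ hq

/-- a signed reflection of the plane gives the image of the partner -/
theorem partner_refl (hodd : Odd k) (hF : ¬ Full J Sg G) (hi : i ∈ Sg) (h : HP J p q) {γ : F} (hg : MG G g)
    (hao : Op Sg i a) (haa : adjJ (GV J) a * a = 1) (hp : Maps J i g p (γ • p) a)
    (hmap : ∀ v, Mem J p q v → ∃ v', Maps J i g v v' a)
    (hk : 5 ≤ k ∨ (k = 3 ∧ ∃ (e : Fin k → F) (c : F), Good J e ∧ Mem J p q e ∧ AxisFix J G i e ∧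
      Maps J i g e (c • e) a)) :
    ∃ q', Maps J i g q q' a := by
  have hJ := hS.sj
  have hk3 := hJ.kk
  have h2 := hJ.two
  have hsg : sg F k = -1 := by rw [sg, hodd.neg_one_pow]
  have hqp : bf J q p = 1 := by rw [hJ.comm, h.pq]
  have hd0 : J.det ≠ 0 := hJ.det.ne_zero
  obtain ⟨w, hw⟩ : ∃ w, w = p + (J.det / 2) • q := ⟨_, rfl⟩
  have hww : bf J w w = J.det := by
    simp only [hw, bf_add_left, bf_add_right, bf_smul_left, bf_smul_right, h.pp, h.qq, h.pq, hqp]
    field_simp; ring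
  have hwg : Good J w := hJ.good_of_value hww
  have hAp : dl J w *ᵥ p = (J.det / 2) • q := by
    rw [dl, smul_mulVec, rf_mulVec, hsg, hww]
    simp only [hw, bf_add_left, bf_smul_left, h.pp, hqp]
    match_scalars <;> field_simp <;> ring
  have hAv : ∀ {v}, Mem J p q v → dl J w *ᵥ v = (-1 : F) • v := fun {v} hv => by
    rw [dl_perp (by rw [hw, bf_add_left, bf_smul_left, hv.1, hv.2, mul_zero, add_zero]), hsg]
  obtain ⟨hga, hg1, hg2⟩ := hS.adj_inv hg
  have haa' : a * adjJ (GV J) a = 1 := mul_eq_one_comm.1 haa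
  obtain ⟨Y, hY⟩ : ∃ Y, Y = g * sl i (dl J w) * adjJ (GV J) g := ⟨_, rfl⟩
  have hYM : MG G Y := hY ▸ hS.conj_mem hg (hS.refl i hi w hwg)
  have hYg : Y * g = g * sl i (dl J w) := by rw [hY, mul_assoc _ _ g, hg1, mul_one]
  have hfix : ∀ {v v' w' : Fin k → F}, Mem J p q v → Maps J i g v v' a → bf J w' v' = 0 →
      Maps J i (sl i (dl J w') * Y) v' v' 1 := fun {v v' w'} hv hm hp' z => by
    have e : Y * sl i (rk J v' z) * a = (-1 : F) • (sl i (rk J v' z) * a) := by
      rw [mul_assoc, ← hm z, ← mul_assoc, hYg, mul_assoc, sl_mul, mul_rk, hAv hv, rk_smul_left, sl_smul, mul_smul_comm]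
    have := congrArg (· * adjJ (GV J) a) e
    simp only [mul_assoc, haa', mul_one, smul_mul_assoc] at this
    rw [mul_assoc, this, mul_smul_comm, sl_mul, mul_rk, dl_perp hp', hsg, rk_smul_left, sl_smul, smul_smul,
      neg_mul_neg, one_mul, one_smul, mul_one]
  obtain ⟨w', hw', B, hB⟩ : ∃ w', Good J w' ∧ ∃ B, sl i (dl J w') * Y = sl i B := by
    rcases hk with hk5 | ⟨hk3', e, c, he, hem, hK, he'⟩
    · obtain ⟨f1, hf1⟩ : ∃ f, f = p + q := ⟨_, rfl⟩
      obtain ⟨f2, hf2⟩ : ∃ f, f = p + (-1 : F) • q := ⟨_, rfl⟩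
      have e11 : bf J f1 f1 = 2 := by
        simp only [hf1, bf_add_left, bf_add_right, h.pp, h.qq, h.pq, hqp]; ring
      have e22 : bf J f2 f2 = -2 := by
        simp only [hf2, bf_add_left, bf_add_right, bf_smul_left, bf_smul_right, h.pp, h.qq, h.pq, hqp]; ring
      have e12 : bf J f1 f2 = 0 := by
        simp only [hf1, hf2, bf_add_left, bf_add_right, bf_smul_left, bf_smul_right, h.pp, h.qq, h.pq, hqp]; ring
      have hmem : ∀ v, bf J f1 v = 0 → bf J f2 v = 0 → Mem J p q v := fun v h1 h3 => by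
        rw [hf1, bf_add_left] at h1
        rw [hf2, bf_add_left, bf_smul_left] at h3
        exact ⟨(mul_eq_zero.1 (show (2 : F) * bf J p v = 0 by linear_combination h1 + h3)).resolve_left h2,
          (mul_eq_zero.1 (show (2 : F) * bf J q v = 0 by linear_combination h1 - h3)).resolve_left h2⟩
      obtain ⟨hf, hf0⟩ := fam2 hJ (e11 ▸ h2) (e22 ▸ neg_ne_zero.2 h2) e12
      obtain ⟨u, hu, huf⟩ := exists_value_perp hJ (n := 2) (by omega) ![f1, f2] hf hf0 (one_ne_zero (α := F))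
      obtain ⟨hf', hf0'⟩ := fam3 hJ (e11 ▸ h2) (e22 ▸ neg_ne_zero.2 h2) (hu ▸ one_ne_zero) e12 (huf 0) (huf 1)
      obtain ⟨d, hd, hdf⟩ := exists_value_perp hJ (n := 3) (by omega) ![f1, f2, u] hf' hf0'
        (neg_ne_zero.2 (one_ne_zero (α := F)))
      have hum := hmem u (huf 0) (huf 1)
      have hdm := hmem d (hdf 0) (hdf 1)
      obtain ⟨u', hu'⟩ := hmap u hum
      obtain ⟨d', hd'⟩ := hmap d hdm
      have huu' : bf J u' u' = 1 := (hS.maps_bf hg hao haa hu' hu').trans hu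
      have hdd' : bf J d' d' = -1 := (hS.maps_bf hg hao haa hd' hd').trans hd
      have hud' : bf J u' d' = 0 := (hS.maps_bf hg hao haa hu' hd').trans (hdf 2)
      obtain ⟨hf2', hf20⟩ := fam2 hJ (huu' ▸ one_ne_zero) (hdd' ▸ neg_ne_zero.2 one_ne_zero) hud'
      obtain ⟨w', hw', hwf⟩ := exists_good_perp hJ (n := 2) (by omega) ![u', d'] hf2' hf20
      refine ⟨w', hw', hS.fix_pair hF hi (huu' ▸ one_ne_zero) hud' (by rw [hdd', huu'])
        ((hS.refl i hi w' hw').mul hYM) (hfix hum hu' (by rw [hJ.comm]; exact hwf 0))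
        (hfix hdm hd' (by rw [hJ.comm]; exact hwf 1))⟩
    · have hee : bf J (c • e) (c • e) = bf J e e := hS.maps_bf hg hao haa he' he'
      have hc0 : c ≠ 0 := fun e0 => he.1 (by rw [← hee, e0, zero_smul]; simp [bf])
      have he'g : bf J (c • e) (c • e) ≠ 0 := hee ▸ he.1
      obtain ⟨w', hw', hwf⟩ := exists_good_perp hJ (n := 1) (by omega) ![c • e] (fun a b hab =>
        absurd (Subsingleton.elim a b) hab) (fun a => by simpa [Subsingleton.elim a 0] using he'g)
      have h9 := maps_scale (hfix hem he' (w' := w') (by rw [hJ.comm]; exact hwf 0)) c⁻¹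
      rw [smul_smul, inv_mul_cancel₀ hc0, one_smul] at h9
      refine ⟨w', hw', hK _ ((hS.refl i hi w' hw').mul hYM) ?_ h9⟩
      rw [det_mul, det_sl_dl hodd hJ i hw'.1, hY, hS.det_conj hg, det_sl_dl hodd hJ i hwg.1, one_mul]
  have hYB : Y = sl i (dl J w' * B) := by
    rw [← sl_mul, ← hB, ← mul_assoc, sl_mul, dl_sq hw'.1, sl_one, one_mul]
  have h3 : Maps J i g ((J.det / 2) • q) ((dl J w' * B) *ᵥ (γ • p)) a := fun z => by
    rw [← hAp, ← mul_rk, ← sl_mul, ← mul_assoc, ← hYg, mul_assoc, hp z, ← mul_assoc, hYB, sl_mul, mul_rk]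
  have := maps_scale h3 (J.det / 2)⁻¹
  rw [smul_smul, inv_mul_cancel₀ (div_ne_zero hd0 h2), one_smul] at this
  exact ⟨_, this⟩

/-- a slot algebra goes to one slot algebra when the conjugates of its generators permute the slots -/
theorem image_of_std {j : Fin t} (hj : j ∈ Sg) (hg : MG G g)
    (hroot : ∀ p e, bf J p p = 0 → bf J p e = 0 → Std (g * sl j (eS J p e) * adjJ (GV J) g))
    (hrefl : ∀ c, Good J c → Std (g * sl j (dl J c) * adjJ (GV J) g)) :
    ∃ l, ∀ A, ∃ B, g * sl j A = sl l B * g := by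
  have hJ := hS.sj
  obtain ⟨hga, hg1, hg2⟩ := hS.adj_inv hg
  refine hS.slot_image hg (fun c => Good J c ∧ ∃ (l : Fin t) (w : Fin k → F), bf J w w ≠ 0 ∧
    g * sl j (dl J c) * adjJ (GV J) g = sl l (dl J w)) (fun c hc => hc.1.1) ?_ ?_ (fun c hc => hc.2)
  · rintro c p e ⟨hc, l1, w, hw, hcw⟩ hp he
    have hA := eS_iso hJ hp he
    refine ⟨⟨by rw [bf_iso hJ hA.1]; exact hc.1, fun h => by rw [bf_iso hJ hA.1]; exact hc.2 h⟩, ?_⟩
    obtain ⟨hr, -⟩ := hS.mg_root hj hp he
    obtain ⟨l2, B, hB⟩ := hS.std_conj_slot (hS.conj_mem hg hr) (hroot p e hp he) l1 (dl J w)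
    refine hS.classify_slot (i := j) (by rw [bf_iso hJ hA.1]; exact hc.1) hg (l := l2) (B := B) ?_
    rw [← hB, ← hcw, hS.adj_mul', hS.adj_mul', hS.adj_adj', adj_sl hJ.det, ← dl_conj hJ hA.1, ← sl_mul, ← sl_mul]
    simp only [mul_assoc]
    rw [← mul_assoc (adjJ (GV J) g) g, hg1, one_mul, ← mul_assoc (adjJ (GV J) g) g, hg1, one_mul]
  · obtain ⟨c, l1, w, hc, hw, h1⟩ := hS.exists_refl_image hg hj hrefl
    exact ⟨c, hc, l1, w, hw, h1⟩

/-- an element mapping a slot by one operator permutes the slots -/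
theorem std_of_op (hi : i ∈ Sg) (hG : ∀ j ∈ Sg, ∀ g, MG G g → (∀ A, Commute g (sl j A)) → Std g)
    (hg : MG G g) (hao : Op Sg i a) (haa : adjJ (GV J) a * a = 1) {A : Matrix (Fin k) (Fin k) F}
    (hgA : g = sl i A * a) : Std g := by
  have hJ := hS.sj
  haveI : Nonempty (Fin k) := ⟨⟨0, by have := hJ.kk; omega⟩⟩
  obtain ⟨hga, hg1, hg2⟩ := hS.adj_inv hg
  have hAA : adjJ J A * A = 1 := by
    rw [hgA, hS.adj_mul', adj_sl hJ.det, mul_assoc, ← mul_assoc (sl i (adjJ J A)), sl_mul, ← mul_assoc,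
      ((hao.adj hJ.symm hJ.det).self _).eq, mul_assoc, haa, mul_one] at hg1
    exact sl_injective i (hg1.trans (sl_one i).symm)
  have hAA' : A * adjJ J A = 1 := mul_eq_one_comm.1 hAA
  have haa2 := hao.adj hJ.symm hJ.det
  refine std_of_but hJ hg2 i fun j hji => ?_
  by_cases hj : j ∈ Sg
  swap
  · exact ⟨j, fun X => ⟨X, (hS.out' hg hj X).eq⟩⟩
  have hstd : ∀ X, MG G (sl j X) → Std (g * sl j X * adjJ (GV J) g) := by
    intro X hX
    have hc : ∀ C, Commute (a * sl j X * adjJ (GV J) a) (sl i C) := fun C =>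
      ((hao.self C).mul_left (sl_commute hji X C)).mul_left (haa2.self C)
    refine hG i hi _ (hS.conj_mem hg hX) fun C => ?_
    have e : g * sl j X * adjJ (GV J) g = a * sl j X * adjJ (GV J) a := by
      rw [hgA, hS.adj_mul', adj_sl hJ.det,
        show sl i A * a * sl j X * (adjJ (GV J) a * sl i (adjJ J A)) =
          sl i A * (a * sl j X * adjJ (GV J) a) * sl i (adjJ J A) by simp only [mul_assoc],
        ← (hc A).eq, mul_assoc, sl_mul, hAA', sl_one, mul_one]
    rw [e]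
    exact hc C
  exact hS.image_of_std hj hg (fun p e hp he => hstd _ (hS.root j hj p e hp he))
    fun c hc => hstd _ (hS.refl j hj c hc)

/-- an element mapping a singular line to a singular line permutes the slots -/
theorem stab (hodd : Odd k) (hF : ¬ Full J Sg G) (hG : ∀ j ∈ Sg, ∀ g, MG G g → (∀ A, Commute g (sl j A)) → Std g)
    (hi : i ∈ Sg) (hT : Turns J G i) {p p1 : Fin k → F} (hp0 : p ≠ 0) (hp : bf J p p = 0) (hp10 : p1 ≠ 0)
    (hp1 : bf J p1 p1 = 0) (hg : MG G g) (hao : Op Sg i a) (hga : Maps J i g p p1 a) : Std g := by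
  have hJ := hS.sj
  -- bring the image back
  obtain ⟨A, c, hc, hA, hAp⟩ : ∃ A c, (c : F) ≠ 0 ∧ MG G (sl i A) ∧ A *ᵥ p1 = c • p := by
    refine hJ.transport (fun v => ∃ A c, (c : F) ≠ 0 ∧ MG G (sl i A) ∧ A *ᵥ p1 = c • v) ?_ ?_ hp10 hp1 hp0 hp
      ⟨1, 1, one_ne_zero, by rw [sl_one]; exact MG.one, by rw [one_mulVec, one_smul]⟩
    · rintro v d hd ⟨A, c, hc, hA, e⟩
      exact ⟨A, c * d⁻¹, mul_ne_zero hc (inv_ne_zero hd), hA, by
        rw [e, smul_smul, mul_assoc, inv_mul_cancel₀ hd, mul_one]⟩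
    · rintro x y v hx hxy ⟨A, c, hc, hA, e⟩
      exact ⟨eS J x y * A, c, hc, by rw [← sl_mul]; exact (hS.root i hi x y hx hxy).mul hA,
        by rw [← mulVec_mulVec, e, mulVec_smul]⟩
  obtain ⟨g', hg'⟩ : ∃ g', g' = sl i A * g := ⟨_, rfl⟩
  have hAA := hS.slot_iso hA
  suffices Std g' by
    have := (Std.sl i (mul_eq_one_comm.1 hAA)).mul this
    rwa [hg', ← mul_assoc, sl_mul, hAA, sl_one, one_mul] at this
  have hg'M : MG G g' := hg' ▸ hA.mul hg
  have hga' : Maps J i g' p p (c • a) := by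
    have h1 := hga.mul (maps_sl (J := J) i A p1)
    rw [one_mul, hAp] at h1
    exact hg' ▸ maps_smul_op h1
  -- normalise
  obtain ⟨q, e0, hq, hpq, -, -, -⟩ := hJ.exists_frame hp0 hp
  have h : HP J p q := ⟨hp, hq, hpq⟩
  obtain ⟨a', γ, hγ, ha'o, ha'a, hpm, hall⟩ := hS.mid_data hodd hF hi h hg'M hga' (hao.smul c)
  have hmm : ∀ {v y}, Mid J Sg i g' a' p q v y → ∃ τ : F, Maps J i g' v (y + τ • p) a' := fun {v y} hvy =>
    hS.mid_maps hodd hF hi h hg'M ha'o ha'a hpm hγ hall hvy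
  have hmap : ∀ v, Mem J p q v → ∃ v', Maps J i g' v v' a' := fun v hv => by
    obtain ⟨y, hy⟩ := hall v hv
    obtain ⟨τ, hτ⟩ := hmm hy
    exact ⟨_, hτ⟩
  have hsur : ∀ y, Mem J p q y → ∃ (v : Fin k → F) (τ : F), Mem J p q v ∧ Maps J i g' v (y + τ • p) a' := fun y hy => by
    obtain ⟨v, hv⟩ := hS.mid_surj h hg'M ha'o ha'a hall hy
    obtain ⟨τ, hτ⟩ := hmm hv
    exact ⟨v, τ, hv.1, hτ⟩
  obtain ⟨q', hq'⟩ : ∃ q', Maps J i g' q q' a' := by
    by_cases hk : 5 ≤ k
    · exact hS.partner_refl hodd hF hi h hg'M ha'o ha'a hpm hmap (Or.inl hk)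
    have hk3 : k = 3 := by
      have := hJ.kk
      obtain ⟨r, hr⟩ := hodd
      omega
    obtain ⟨_, e, -, -, hpe, -, he⟩ := hJ.exists_frame hp0 hp
    obtain ⟨m, hm, hme⟩ := hJ.decomp h e
    have hm0 : m ≠ 0 := fun e0 => he (by
      rw [hme, hpe, e0, zero_add, zero_smul, add_zero, bf_smul_left, bf_smul_right, hp, mul_zero, mul_zero])
    by_cases hTurn : Turn J G i p q
    · exact hS.partner_turn hF hi h hg'M ha'o ha'a hpm hγ hsur hTurn
    obtain ⟨hgood, hAx⟩ := (hT hk3 p q h m hm hm0).resolve_left hTurn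
    have hmm0 : bf J m m ≠ 0 := hgood.1
    obtain ⟨y, hy⟩ := hall m hm
    obtain ⟨τ, hτ⟩ := hmm hy
    -- the middle is one line
    obtain ⟨d, rfl⟩ : ∃ d : F, y = d • m := by
      refine ⟨bf J m y / bf J m m, sub_eq_zero.1 (hJ.eq_zero_of_orth (n := 3) hk3.symm ![p + q, p + (-1 : F) • q, m]
        ?_ ?_ ?_)⟩
      · have hqp : bf J q p = 1 := by rw [hJ.comm, hpq]
        intro a b hab
        fin_cases a <;> fin_cases b <;> first
          | exact absurd rfl hab
          | (simp only [Matrix.cons_val, bf_add_left, bf_add_right, bf_smul_left, bf_smul_right, hp, hq, hpq, hqp,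
              hm.1, hm.2, hJ.comm m p, hJ.comm m q, Fin.zero_eta, Fin.mk_one, Fin.reduceFinMk, Fin.isValue] <;> ring)
      · intro a
        have hqp : bf J q p = 1 := by rw [hJ.comm, hpq]
        fin_cases a
        · simp [bf_add_left, bf_add_right, hp, hq, hpq, hqp, one_add_one_eq_two, hJ.two]
        · show bf J (p + (-1 : F) • q) (p + (-1 : F) • q) ≠ 0
          simp only [bf_add_left, bf_add_right, bf_smul_left, bf_smul_right, hp, hq, hpq, hqp]
          intro e1; exact hJ.two (by linear_combination -e1)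
        · exact hmm0
      · intro a
        obtain ⟨r, hr⟩ : ∃ r, r = bf J m y / bf J m m := ⟨_, rfl⟩
        rw [← hr, sub_eq_add_neg, ← neg_smul]
        fin_cases a
        · show bf J (p + q) (y + (-r) • m) = 0
          simp only [bf_add_left, bf_add_right, bf_smul_right, hy.2.1.1, hy.2.1.2, hm.1, hm.2]; ring
        · show bf J (p + (-1 : F) • q) (y + (-r) • m) = 0
          simp only [bf_add_left, bf_add_right, bf_smul_left, bf_smul_right, hy.2.1.1, hy.2.1.2, hm.1, hm.2]; ring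
        · show bf J m (y + (-r) • m) = 0
          simp only [bf_add_right, bf_smul_right, hr]
          rw [neg_mul, div_mul_cancel₀ _ hmm0, add_neg_cancel]
    have hd0 : d ≠ 0 := fun e0 => hmm0 (by
      rw [← hS.mid_bf h hg'M ha'o ha'a hy hy, e0, zero_smul]; simp [bf])
    obtain ⟨f, hf⟩ : ∃ f, f = (-(τ / (d * bf J m m))) • m := ⟨_, rfl⟩
    have hpf : bf J p f = 0 := by rw [hf, bf_smul_right, hm.1, mul_zero]
    have hfp : eS J p f *ᵥ (γ • p) = γ • p := by
      rw [mulVec_smul, hJ.eS_eq hp hpf, xp]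
      simp [add_mulVec, sub_mulVec, smul_mulVec, rk_mulVec, hp, hJ.comm f p, hpf, neg_mulVec]
    have hfy : eS J p f *ᵥ (d • m + τ • p) = d • m := by
      rw [hJ.eS_eq hp hpf, xp]
      simp only [add_mulVec, sub_mulVec, one_mulVec, smul_mulVec, rk_mulVec, mulVec_add, mulVec_smul, hp,
        hJ.comm f p, hpf, hm.1]
      rw [hf, bf_smul_left]
      match_scalars <;> field_simp <;> ring
    have hr := hS.root i hi p f hp hpf
    have hpm' : Maps J i (sl i (eS J p f) * g') p (γ • p) a' := by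
      have h1 := hpm.mul (maps_sl (J := J) i (eS J p f) (γ • p))
      rwa [one_mul, hfp] at h1
    have hmap' : ∀ v, Mem J p q v → ∃ v', Maps J i (sl i (eS J p f) * g') v v' a' := fun v hv => by
      obtain ⟨v', hv'⟩ := hmap v hv
      have h1 := hv'.mul (maps_sl (J := J) i (eS J p f) v')
      rw [one_mul] at h1
      exact ⟨_, h1⟩
    have hme' : Maps J i (sl i (eS J p f) * g') m (d • m) a' := by
      have h1 := hτ.mul (maps_sl (J := J) i (eS J p f) (d • m + τ • p))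
      rwa [one_mul, hfy] at h1
    obtain ⟨q'', hq''⟩ := hS.partner_refl hodd hF hi h (hr.mul hg'M) ha'o ha'a hpm' hmap'
      (Or.inr ⟨hk3, m, d, hgood, hm, hAx, hme'⟩)
    have hr' : sl i (adjJ J (eS J p f)) * (sl i (eS J p f) * g') = g' := by
      rw [← mul_assoc, sl_mul, hS.slot_iso hr, sl_one, one_mul]
    have h1 := hq''.mul (maps_sl (J := J) i (adjJ J (eS J p f)) q'')
    rw [one_mul, hr'] at h1
    exact ⟨_, h1⟩
  obtain ⟨B, hB⟩ := slot_of_maps hJ (i := i) (M := g') (b := a') fun v => by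
    obtain ⟨m, hm, e⟩ := hJ.decomp h v
    obtain ⟨m', hm'⟩ := hmap m hm
    refine ⟨(1 : F) • ((1 : F) • m' + bf J q v • (γ • p)) + bf J p v • q', ?_⟩
    have h3 := maps_comb (maps_comb hm' hpm 1 (bf J q v)) hq' 1 (bf J p v)
    rwa [show (1 : F) • ((1 : F) • m + bf J q v • p) + bf J p v • q = v by
      conv_rhs => rw [e]
      module] at h3
  exact hS.std_of_op hi hG hg'M ha'o ha'a hB

end Setting

end Cfsg.Agent.ClassicalMax.OOWreath
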