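import Cfsg.Agent.ClassicalMax.OOWreath.OddFiveQ

/-!
Slots of dimension three: turns of all planes, and axes fixed only by the slot.
-/

set_option autoImplicit false
set_option linter.unusedSectionVars false
set_option linter.unusedSimpArgs false

namespace Cfsg.Agent.ClassicalMax.OOWreath

open Matrix Cfsg.Agent.ClassicalMax.TPow
open Cfsg.Agent.ClassicalMax.SpWreath (GV GV_det)

variable {F : Type*} [Field F] {k t : ℕ} {J : Matrix (Fin k) (Fin k) F} [Finite F]

theorem card_cases (hJ : SJ J) (hk3 : k = 3) : Nat.card F = 5 ∨ 7 ≤ Nat.card F := by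
  letI := Fintype.ofFinite F
  have h5 : 5 ≤ Nat.card F := hJ.q5.resolve_right (by omega)
  by_contra! h
  have h6 : Nat.card F = 6 := by omega
  have h1 := Fintype.nonempty_field_iff.1 ⟨(inferInstance : Field F)⟩
  rw [← Nat.card_eq_fintype_card, h6, isPrimePow_nat_iff_bounded] at h1
  revert h1
  decide

/-- a rotation of order a power of the characteristic fixing an axis is trivial -/
theorem unipotent_one (hJ : SJ J) (hk3 : k = 3) {u : Fin k → F} (hu : bf J u u ≠ 0) {A : Matrix (Fin k) (Fin k) F}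
    (hA : adjJ J A * A = 1) (hAd : A.det = 1) (hAu : A *ᵥ u = u) {n : ℕ} (hn : A ^ ringChar F ^ n = 1) : A = 1 := by
  classical
  haveI : Fact (ringChar F).Prime := ⟨CharP.char_is_prime F _⟩
  haveI : Nonempty (Fin k) := ⟨⟨0, by omega⟩⟩
  by_contra hne
  have h0 : ∃ m, (A - 1) ^ m = 0 :=
    ⟨ringChar F ^ n, by
      rw [sub_pow_char_pow_of_commute (p := ringChar F) (n := n) (h := Commute.one_right A), one_pow, hn, sub_self]⟩
  have h2 : 2 ≤ Nat.find h0 := by
    by_contra! h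
    have hm' := Nat.find_spec h0
    interval_cases hk : Nat.find h0
    · rw [pow_zero] at hm'; exact one_ne_zero hm'
    · rw [pow_one, sub_eq_zero] at hm'; exact hne hm'
  obtain ⟨r, hr⟩ : ∃ r, Nat.find h0 = r + 2 := ⟨_, (Nat.sub_add_cancel h2).symm⟩
  obtain ⟨x, hx⟩ : ∃ x, (A - 1) ^ (r + 1) *ᵥ x ≠ 0 := by
    by_contra! h
    exact Nat.find_min h0 (m := r + 1) (by omega) (Matrix.toLin'.injective (LinearMap.ext fun x => by rw [Matrix.toLin'_apply, map_zero, LinearMap.zero_apply, h x]))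
  obtain ⟨v, hv⟩ : ∃ v, v = (A - 1) ^ (r + 1) *ᵥ x := ⟨_, rfl⟩
  rw [← hv] at hx
  have hAv : A *ᵥ v = v := by
    have h1 : (A - 1) *ᵥ v = 0 := by
      rw [hv, mulVec_mulVec, ← pow_succ', show r + 1 + 1 = r + 2 from rfl, ← hr, Nat.find_spec h0, zero_mulVec]
    rwa [sub_mulVec, one_mulVec, sub_eq_zero] at h1
  have huv : bf J u v = 0 := by
    rw [hv, pow_succ', ← mulVec_mulVec, sub_mulVec, one_mulVec, sub_eq_add_neg, ← neg_one_smul F, bf_add_right,
      bf_smul_right]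
    nth_rw 1 [← hAu]
    rw [bf_iso hJ hA]; ring
  refine hne (fix_hyper hJ (n := 2) (f := ![u, v]) (by omega) (linearIndependent_fin2.2 ⟨hx, fun s e => ?_⟩) hA hAd
    fun a => by fin_cases a <;> assumption)
  have := congrArg (bf J u) e
  simp only [Matrix.cons_val_zero, Matrix.cons_val_one, bf_smul_right, huv, mul_zero] at this
  exact hu this.symm

variable {Sg : Finset (Fin t)} {G : Subgroup (GL (Fin t → Fin k) F)}

namespace Setting

variable {i : Fin t} (hS : Setting J Sg G) (hodd : Odd k) (hk3 : k = 3) (hF : ¬ Full J Sg G)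
include hS hodd hk3 hF

/-- every plane has turns, or an axis fixed only by the slot -/
theorem turns3 (hi : i ∈ Sg) : Turns J G i := by
  letI := Fintype.ofFinite F
  rcases card_cases hS.sj hk3 with h5 | h7
  · exact hS.turns_five hodd hk3 hF hi h5
  intro _ p q h e _ _
  left
  obtain ⟨g, hg⟩ := IsCyclic.exists_generator (α := Fˣ)
  have hord := orderOf_eq_card_of_forall_mem_zpowers hg
  rw [Nat.card_units] at hord
  have hs : ((g : F) * g) * ((g : F) * g) ≠ 1 := fun e1 => by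
    have h4 : g ^ 4 = 1 := Units.ext (by rw [Units.val_pow_eq_pow_val, Units.val_one, ← e1]; ring)
    have := Nat.le_of_dvd (by norm_num) (orderOf_dvd_of_pow_eq_one h4)
    omega
  obtain ⟨A, hA, hAp, hAq, hAv⟩ := hS.exists_torus hi h g.ne_zero
  exact ⟨A, (g : F) * g, hs, mul_ne_zero g.ne_zero g.ne_zero, hA, hAp, hAq, hAv⟩

variable (hG : ∀ j ∈ Sg, ∀ g, MG G g → (∀ A, Commute g (sl j A)) → Std g)
include hG

/-- an element fixing an axis and commuting with a root of another slot lies in the slot -/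
theorem slot_of_root_cent {j : Fin t} (hj : j ∈ Sg) {p f u : Fin k → F} (hu : u ≠ 0) (hp0 : p ≠ 0)
    (hp : bf J p p = 0) (hpf : bf J p f = 0) (hff : bf J f f ≠ 0)
    {g : Matrix (Fin t → Fin k) (Fin t → Fin k) F} (hg : MG G g) (hfix : Maps J i g u u 1)
    (hc : Commute g (sl j (eS J p f))) : ∃ A, g = sl i A := by
  obtain ⟨x, T, hx0, hx, hT, hmap⟩ := hS.line_of_root hp0 hp hpf hff hg (X := eS J p f)
    (by rw [hc.eq, mul_assoc, (hS.adj_inv hg).2.2, mul_one])
  exact hS.std_fix hu (hS.stab hodd hF hG hj (hS.turns3 hodd hk3 hF hj) hp0 hp hx0 hx hg hT hmap) hfix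

/-- every non-singular axis is fixed only by the slot -/
theorem axis3 (hi : i ∈ Sg) {u : Fin k → F} (hu : bf J u u ≠ 0) : AxisFix J G i u := by
  classical
  letI := Fintype.ofFinite F
  have hJ := hS.sj
  haveI : Nonempty (Fin k) := ⟨⟨0, by omega⟩⟩
  have hu0 : u ≠ 0 := fun e => hu (by rw [e]; simp [bf])
  by_cases hj : ∃ j ∈ Sg, j ≠ i
  swap
  · intro h hh _ _
    exact hS.slot_of_commute_roots hh fun l hl hli => absurd ⟨l, hl, hli⟩ hj
  obtain ⟨j, hjS, hji⟩ := hj
  obtain ⟨p, hp0, hp⟩ := hJ.exists_iso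
  obtain ⟨q, f, -, hpq, hpf, -, hff⟩ := hJ.exists_frame hp0 hp
  obtain ⟨c, hc⟩ : ∃ c, c = ringChar F := ⟨_, rfl⟩
  haveI : CharP F c := hc ▸ ringChar.charP F
  have hcp : c.Prime := CharP.char_is_prime F c
  haveI : Fact c.Prime := ⟨hcp⟩
  obtain ⟨X, hX⟩ : ∃ X, X = axX J G i u := ⟨_, rfl⟩
  have hXm : ∀ {g}, g ∈ X → g ∈ G ∧ (g : Matrix (Fin t → Fin k) (Fin t → Fin k) F).det = 1 ∧
      Maps J i (g : Matrix (Fin t → Fin k) (Fin t → Fin k) F) u u 1 := fun {g} hg => by subst hX; exact hg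
  have hcop : ¬ c ∣ Nat.card X := by
    intro hdvd
    obtain ⟨r, hr, hre, hrp, -⟩ := hS.root_unit hjS hp hpf
    obtain ⟨z, hz, hz1, hzr, n, hzn⟩ := exists_fixed_pelt (fun x hx => hX ▸ hS.axX_conj hr
      (fun A => hre ▸ sl_commute hji _ A) (hX ▸ hx)) (hc ▸ hrp) hdvd
    obtain ⟨hzG, hzd, hzm⟩ := hXm hz
    obtain ⟨A, hA⟩ := hS.slot_of_root_cent hodd hk3 hF hG hjS hu0 hp0 hp hpf hff ⟨z, hzG, rfl⟩ hzm (by
      show _ = _
      rw [← hre, ← Units.val_mul, ← Units.val_mul, hzr.eq])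
    have hAA := hS.slot_iso ⟨z, hzG, hA⟩
    have hA1 := unipotent_one hJ hk3 hu hAA (det_of_sl hodd hJ hAA (hA ▸ hzd)) (maps_slot_eq hJ (hA ▸ hzm))
      (n := n) (sl_injective i (by
        rw [← sl_pow_eq, ← hA, ← Units.val_pow_eq_pow_val, ← hc, hzn, Units.val_one, sl_one]))
    exact hz1 (Units.ext (by rw [hA, hA1, sl_one, Units.val_one]))
  by_cases h5 : 5 ≤ c
  · exact hS.axis_of_coprime (hc ▸ h5) (hc ▸ hX ▸ hcop)
  -- characteristic three
  have hc3 : c = 3 := by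
    have h2 : c ≠ 2 := fun e => hJ.two (by
      rw [show (2 : F) = ((c : ℕ) : F) by rw [e]; norm_num, CharP.cast_eq_zero])
    have := hcp.two_le
    interval_cases c <;> first | rfl | exact absurd rfl h2 | exact absurd hcp (by decide)
  subst hc3
  have h9 : 3 < Nat.card F := by have := hJ.q5.resolve_right (show ¬ 4 ≤ k by omega); omega
  have hsm : ∀ s : F, bf J p (s • f) = 0 := fun s => by rw [bf_smul_right, hpf, mul_zero]
  have hadd : ∀ s s' : F, sl (β := Fin t) j (eS J p (s • f)) * sl j (eS J p (s' • f)) = sl j (eS J p ((s + s') • f)) :=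
    fun s s' => by rw [sl_mul, eS_add hJ hp (hsm s) (hsm s'), add_smul]
  let U : Subgroup (GL (Fin t → Fin k) F) :=
    { carrier := {g | ∃ s : F, (g : Matrix (Fin t → Fin k) (Fin t → Fin k) F) = sl j (eS J p (s • f))}
      one_mem' := ⟨0, by rw [zero_smul, eS_zero hJ hp, sl_one, Units.val_one]⟩
      mul_mem' := fun {a b} ⟨s, hs⟩ ⟨s', hs'⟩ => ⟨s + s', by rw [Units.val_mul, hs, hs', hadd]⟩
      inv_mem' := fun {a} ⟨s, hs⟩ => ⟨-s, by
        refine Units.inv_eq_of_mul_eq_one_left ?_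
        rw [hs, hadd, neg_add_cancel, zero_smul, eS_zero hJ hp, sl_one]⟩ }
  haveI : IsMulCommutative U := IsMulCommutative.of_setLike_mul_comm (by
    rintro a ⟨s, hs⟩ b ⟨s', hs'⟩
    exact Units.ext (by rw [Units.val_mul, Units.val_mul, hs, hs', hadd, hadd, add_comm]))
  have hU3 : ∀ a ∈ U, a ^ 3 = 1 := by
    rintro a ⟨s, hs⟩
    exact Units.ext (by
      rw [Units.val_pow_eq_pow_val, hs, sl_pow_eq, eS_pow hJ hp (hsm s), CharP.cast_eq_zero F 3, zero_smul,
        eS_zero hJ hp, sl_one, Units.val_one])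
  have hUc : ¬ IsCyclic U := by
    intro hcy
    obtain ⟨a, ha⟩ := hcy.exists_generator
    have h1 : Nat.card U ∣ 3 := by
      rw [← orderOf_eq_card_of_forall_mem_zpowers ha]
      exact orderOf_dvd_of_pow_eq_one (Subtype.ext (hU3 _ a.2))
    have hex : ∀ s : F, ∃ x : U, ((x : GL (Fin t → Fin k) F) : Matrix (Fin t → Fin k) (Fin t → Fin k) F) =
        sl j (eS J p (s • f)) := fun s => by
      obtain ⟨r, -, hre, -, -⟩ := hS.root_unit hjS hp (hsm s)
      exact ⟨⟨r, s, hre⟩, hre⟩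
    choose x hx using hex
    have hinj : Function.Injective x := fun s s' e => by
      have e1 := sl_injective j ((hx s).symm.trans (e ▸ hx s'))
      have e2 := congrArg (fun M => bf J q (M *ᵥ f)) e1
      simp only [hJ.eS_eq hp (hsm s), hJ.eS_eq hp (hsm s'), xp, add_mulVec, sub_mulVec, one_mulVec, smul_mulVec,
        rk_mulVec, hpf, zero_smul, smul_zero, add_zero, sub_zero, bf_add_right, bf_smul_right, bf_smul_left] at e2
      have hqp : bf J q p ≠ 0 := by rw [hJ.comm, hpq]; exact one_ne_zero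
      exact mul_right_cancel₀ hff (mul_right_cancel₀ hqp (by linear_combination e2))
    have := Nat.card_le_card_of_injective x hinj
    have := Nat.le_of_dvd (by norm_num) h1
    omega
  have hUX : U ≤ Subgroup.normalizer (X : Set (GL (Fin t → Fin k) F)) := by
    rintro a ⟨s, hs⟩
    obtain ⟨r, hr, hre, -, -⟩ := hS.root_unit hjS hp (hsm s)
    rw [show a = r from Units.ext (hs.trans hre.symm)]
    exact mem_normalizer_of_conj fun x hx => hX ▸ hS.axX_conj hr (fun A => hre ▸ sl_commute hji _ A) (hX ▸ hx)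
  have hcop' : (Nat.card U).Coprime (Nat.card X) := by
    have hp3 : IsPGroup 3 U := fun a => ⟨1, Subtype.ext (by rw [pow_one]; exact hU3 _ a.2)⟩
    obtain ⟨n, hn⟩ := IsPGroup.iff_card.1 hp3
    rw [hn]
    exact Nat.Coprime.pow_left n (Nat.prime_three.coprime_iff_not_dvd.2 hcop)
  let S : Subgroup (GL (Fin t → Fin k) F) :=
    { carrier := {g | g ∈ G ∧ ∃ A, (g : Matrix (Fin t → Fin k) (Fin t → Fin k) F) = sl i A}
      one_mem' := ⟨G.one_mem, 1, by rw [sl_one, Units.val_one]⟩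
      mul_mem' := fun {a b} ⟨ha, A, hA⟩ ⟨hb, B, hB⟩ => ⟨G.mul_mem ha hb, A * B, by
        rw [Units.val_mul, hA, hB, sl_mul]⟩
      inv_mem' := fun {a} ⟨ha, A, hA⟩ => ⟨G.inv_mem ha, adjJ J A, by rw [hS.val_inv ha, hA, adj_sl hJ.det]⟩ }
  intro h hh hd hfix
  obtain ⟨γ, hγ, rfl⟩ := hh
  have hXS : X ≤ S := by
    rw [← Cfsg.Agent.S0058.result U X hUc hUX hcop']
    refine iSup₂_le fun a ha g hg => ?_
    obtain ⟨hgX, hga⟩ := Subgroup.mem_inf.1 hg
    obtain ⟨hgG, -, hgm⟩ := hXm hgX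
    obtain ⟨⟨s, hs⟩, ha1⟩ := ha
    have hs0 : s ≠ 0 := fun e => ha1 (Units.ext (by rw [hs, e, zero_smul, eS_zero hJ hp, sl_one, Units.val_one]))
    obtain ⟨A, hA⟩ := hS.slot_of_root_cent hodd hk3 hF hG hjS hu0 hp0 hp (hsm s)
      (by rw [bf_smul_left, bf_smul_right]; exact mul_ne_zero hs0 (mul_ne_zero hs0 hff)) ⟨g, hgG, rfl⟩ hgm (by
        show _ = _
        rw [← hs, ← Units.val_mul, ← Units.val_mul, Subgroup.mem_centralizer_singleton_iff.1 hga])
    exact ⟨hgG, A, hA⟩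
  exact (hXS (hX ▸ ⟨hγ, hd, hfix⟩)).2

end Setting

end Cfsg.Agent.ClassicalMax.OOWreath
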