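import Cfsg.Agent.ClassicalMax.OOWreath.Slot
import Cfsg.Agent.ClassicalMax.SpWreath.Basic

/-!
Adjoints, contractions of one slot, and operators mapping one slot line to another.
-/

set_option autoImplicit false
set_option linter.unusedSectionVars false
set_option linter.unusedSimpArgs false

namespace Cfsg.Agent.ClassicalMax.OOWreath

open Matrix Cfsg.Agent.ClassicalMax.TPow
open Cfsg.Agent.ClassicalMax.SpWreath (GV GV_det)

variable {F : Type*} [Field F] {k : ℕ} {J : Matrix (Fin k) (Fin k) F}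

section Adj

variable {ν : Type} [Fintype ν] [DecidableEq ν] {G : Matrix ν ν F}

theorem adj_mul (hG : IsUnit G.det) (A B : Matrix ν ν F) : adjJ G (A * B) = adjJ G B * adjJ G A := by
  simp only [adjJ, transpose_mul]
  rw [show G⁻¹ * Bᵀ * G * (G⁻¹ * Aᵀ * G) = G⁻¹ * Bᵀ * (G * G⁻¹) * Aᵀ * G by simp only [Matrix.mul_assoc],
    mul_nonsing_inv G hG, Matrix.mul_one]
  simp only [Matrix.mul_assoc]

theorem adj_one (hG : IsUnit G.det) : adjJ G (1 : Matrix ν ν F) = 1 := by
  simp [adjJ, nonsing_inv_mul G hG]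

theorem adj_add (A B : Matrix ν ν F) : adjJ G (A + B) = adjJ G A + adjJ G B := by
  simp [adjJ, Matrix.mul_add, Matrix.add_mul]

theorem adj_sub (A B : Matrix ν ν F) : adjJ G (A - B) = adjJ G A - adjJ G B := by
  simp [adjJ, Matrix.mul_sub, Matrix.sub_mul]

theorem adj_neg (A : Matrix ν ν F) : adjJ G (-A) = -adjJ G A := by
  simp [adjJ]

theorem adj_smul (c : F) (A : Matrix ν ν F) : adjJ G (c • A) = c • adjJ G A := by
  simp [adjJ]

theorem adj_zero : adjJ G (0 : Matrix ν ν F) = 0 := by simp [adjJ]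

theorem adj_adj (hGs : Gᵀ = G) (hG : IsUnit G.det) (A : Matrix ν ν F) : adjJ G (adjJ G A) = A := by
  simp only [adjJ, transpose_mul, transpose_transpose, transpose_nonsing_inv, hGs]
  rw [show G⁻¹ * (G * (A * G⁻¹)) * G = G⁻¹ * G * A * (G⁻¹ * G) by simp only [Matrix.mul_assoc],
    nonsing_inv_mul G hG, Matrix.one_mul, Matrix.mul_one]

end Adj

section Big

variable {β : Type} [Fintype β] [DecidableEq β]

theorem GV_symm (hJ : Jᵀ = J) : (GV J (β := β))ᵀ = GV J := by
  rw [GV, tens_transpose, hJ]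

theorem GV_inv (hJ : IsUnit J.det) : (GV J (β := β))⁻¹ = tens fun _ => J⁻¹ := by
  refine inv_eq_right_inv ?_
  rw [GV, tens_mul, show ((fun _ : β => J) * fun _ => J⁻¹) = 1 from funext fun _ => mul_nonsing_inv J hJ, tens_one]

theorem adj_tens (hJ : IsUnit J.det) (T : β → Matrix (Fin k) (Fin k) F) :
    adjJ (GV J) (tens T) = tens fun j => adjJ J (T j) := by
  rw [adjJ, GV_inv hJ, tens_transpose, GV, tens_mul, tens_mul]
  rfl

theorem adj_sl (hJ : IsUnit J.det) (i : β) (A : Matrix (Fin k) (Fin k) F) :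
    adjJ (GV J) (sl i A) = sl i (adjJ J A) := by
  rw [sl, adj_tens hJ, sl]
  congr 1
  funext j
  rcases eq_or_ne j i with rfl | h
  · simp
  · simp [h, adj_one hJ]

/-- the adjoint commutes with the slots of the matrix -/
theorem adj_commute (hJs : Jᵀ = J) (hJ : IsUnit J.det) {i : β} {M : Matrix (β → Fin k) (β → Fin k) F}
    (h : ∀ A, Commute M (sl i A)) (A : Matrix (Fin k) (Fin k) F) : Commute (adjJ (GV J) M) (sl i A) := by
  have h1 := congrArg (adjJ (GV J)) (h (adjJ J A)).eq
  rw [adj_mul (GV_det hJ), adj_mul (GV_det hJ), adj_sl hJ, adj_adj hJs hJ] at h1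
  exact h1.symm

/-- the value functional of two vectors -/
def val (J : Matrix (Fin k) (Fin k) F) (a b : Fin k → F) : Matrix (Fin k) (Fin k) F →ₗ[F] F where
  toFun S := bf J a (S *ᵥ b)
  map_add' S S' := by rw [add_mulVec, bf_add_right]
  map_smul' c S := by rw [smul_mulVec, bf_smul_right, RingHom.id_apply, smul_eq_mul]

/-- the contraction of one slot by two vectors -/
def ct (J : Matrix (Fin k) (Fin k) F) (i : β) (a b : Fin k → F) (M : Matrix (β → Fin k) (β → Fin k) F) :
    Matrix (β → Fin k) (β → Fin k) F := lift i (val J a b) M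

theorem ct_commute (i : β) (a b : Fin k → F) (M : Matrix (β → Fin k) (β → Fin k) F) (A : Matrix (Fin k) (Fin k) F) :
    Commute (ct J i a b M) (sl i A) := lift_commute _ _ _ A

theorem ct_apply (i : β) (a b : Fin k → F) (M : Matrix (β → Fin k) (β → Fin k) F) (x y : β → Fin k) :
    ct J i a b M x y = if x i = y i then bf J a (slice' M i x y *ᵥ b) else 0 := rfl

theorem ct_add (i : β) (a b : Fin k → F) (M N : Matrix (β → Fin k) (β → Fin k) F) :
    ct J i a b (M + N) = ct J i a b M + ct J i a b N := by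
  ext x y
  simp only [ct_apply, Matrix.add_apply]
  split_ifs
  · rw [show slice' (M + N) i x y = slice' M i x y + slice' N i x y from rfl, add_mulVec, bf_add_right]
  · rw [add_zero]

theorem ct_smul (i : β) (a b : Fin k → F) (c : F) (M : Matrix (β → Fin k) (β → Fin k) F) :
    ct J i a b (c • M) = c • ct J i a b M := by
  ext x y
  simp only [ct_apply, Matrix.smul_apply]
  split_ifs
  · rw [show slice' (c • M) i x y = c • slice' M i x y from rfl, smul_mulVec, bf_smul_right, smul_eq_mul]
  · rw [smul_zero]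

theorem ct_sub (i : β) (a b : Fin k → F) (M N : Matrix (β → Fin k) (β → Fin k) F) :
    ct J i a b (M - N) = ct J i a b M - ct J i a b N := by
  rw [sub_eq_add_neg, ← neg_one_smul F N, ct_add, ct_smul, neg_one_smul, ← sub_eq_add_neg]

theorem slice_one (i : β) (x y : β → Fin k) :
    slice' (1 : Matrix (β → Fin k) (β → Fin k) F) i x y =
      (if ∀ j, j ≠ i → x j = y j then (1 : F) else 0) • (1 : Matrix (Fin k) (Fin k) F) := by
  ext a b
  rw [slice', Matrix.of_apply, Matrix.smul_apply, Matrix.one_apply, Matrix.one_apply, smul_eq_mul]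
  have key : (Function.update x i a = Function.update y i b) ↔ ((∀ j, j ≠ i → x j = y j) ∧ a = b) := by
    constructor
    · intro h
      refine ⟨fun j hj => ?_, by simpa using congrFun h i⟩
      have := congrFun h j
      simpa [hj] using this
    · rintro ⟨h, rfl⟩
      funext j
      rcases eq_or_ne j i with rfl | hj
      · simp
      · simp [hj, h j hj]
  by_cases hxy : ∀ j, j ≠ i → x j = y j
  · rw [if_pos hxy, one_mul]
    exact if_congr (key.trans (and_iff_right hxy)) rfl rfl
  · rw [if_neg hxy, zero_mul, if_neg fun h => hxy (key.1 h).1]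

theorem ct_one (i : β) (a b : Fin k → F) :
    ct J i a b (1 : Matrix (β → Fin k) (β → Fin k) F) = bf J a b • 1 := by
  ext x y
  rw [ct_apply, Matrix.smul_apply, smul_eq_mul]
  split_ifs with h
  · rw [slice_one, smul_mulVec, one_mulVec, bf_smul_right]
    by_cases hxy : x = y
    · subst hxy
      rw [if_pos fun j _ => rfl, one_mul, Matrix.one_apply_eq, mul_one]
    · rw [if_neg fun hall => hxy (funext fun j => ?_), zero_mul, Matrix.one_apply_ne hxy, mul_zero]
      rcases eq_or_ne j i with rfl | hj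
      · exact h
      · exact hall j hj
  · rw [Matrix.one_apply_ne fun e => h (congrFun e i), mul_zero]

theorem ct_sl_mul (hJs : Jᵀ = J) (hJ : IsUnit J.det) (i : β) (a b : Fin k → F) (A : Matrix (Fin k) (Fin k) F)
    (M : Matrix (β → Fin k) (β → Fin k) F) : ct J i a b (sl i A * M) = ct J i (adjJ J A *ᵥ a) b M := by
  ext x y
  simp only [ct_apply]
  split_ifs
  · rw [slice'_sl_mul, ← mulVec_mulVec, bf, bf, mulVec_mulVec _ J A, dotProduct_mulVec, dotProduct_mulVec (adjJ J A *ᵥ a)]
    congr 1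
    rw [← vecMul_transpose (adjJ J A), adjJ, transpose_mul, transpose_mul, transpose_transpose, transpose_nonsing_inv,
      hJs, vecMul_vecMul]
    congr 1
    rw [Matrix.mul_assoc, Matrix.mul_assoc, nonsing_inv_mul J hJ, Matrix.mul_one]
  · rfl

theorem ct_mul_sl (i : β) (a b : Fin k → F) (A : Matrix (Fin k) (Fin k) F)
    (M : Matrix (β → Fin k) (β → Fin k) F) : ct J i a b (M * sl i A) = ct J i a (A *ᵥ b) M := by
  ext x y
  simp only [ct_apply]
  split_ifs
  · rw [slice'_mul_sl, mulVec_mulVec]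
  · rfl

theorem sl_ct (i : β) {u v : Fin k → F} (a b : Fin k → F) (M : Matrix (β → Fin k) (β → Fin k) F) :
    sl i (rk J u a) * M * sl i (rk J b v) = sl i (rk J u v) * ct J i a b M := by
  refine eq_sl_mul_lift i (val J a b) fun x y => ?_
  rw [slice'_mul_sl, slice'_sl_mul, mul_assoc, mul_rk, rk_mul_rk]
  rfl

/-- an operator commuting with the slot as a factor -/
theorem eq_of_sl (i : β) {Q : Matrix (Fin k) (Fin k) F} (hQ : Q ≠ 0) {X Y : Matrix (β → Fin k) (β → Fin k) F}
    (hX : ∀ A, Commute X (sl i A)) (hY : ∀ A, Commute Y (sl i A)) (h : sl i Q * X = sl i Q * Y) : X = Y := by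
  refine sub_eq_zero.1 (eq_zero_of_sl_mul (i := i) hQ (fun A => (hX A).sub_left (hY A)) ?_)
  rw [mul_sub, h, sub_self]

/-- `M` maps the line of `v` to the line of `v'` by `a` -/
def Maps (J : Matrix (Fin k) (Fin k) F) (i : β) (M : Matrix (β → Fin k) (β → Fin k) F) (v v' : Fin k → F)
    (a : Matrix (β → Fin k) (β → Fin k) F) : Prop :=
  ∀ w : Fin k → F, M * sl i (rk J v w) = sl i (rk J v' w) * a

theorem Maps.mul {i : β} {M M' : Matrix (β → Fin k) (β → Fin k) F} {v v' v'' : Fin k → F}
    {a a' : Matrix (β → Fin k) (β → Fin k) F} (h : Maps J i M' v v' a') (h' : Maps J i M v' v'' a) :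
    Maps J i (M * M') v v'' (a * a') := fun w => by
  rw [mul_assoc, h w, ← mul_assoc, h' w, mul_assoc]

theorem Maps.one (i : β) (v : Fin k → F) : Maps J i (1 : Matrix (β → Fin k) (β → Fin k) F) v v 1 :=
  fun _ => by rw [one_mul, mul_one]

theorem maps_sl (i : β) (A : Matrix (Fin k) (Fin k) F) (v : Fin k → F) : Maps J i (sl i A) v (A *ᵥ v) 1 :=
  fun w => by rw [sl_mul, mul_rk, mul_one]

theorem maps_commute {i : β} {M : Matrix (β → Fin k) (β → Fin k) F} (h : ∀ A, Commute M (sl i A)) (v : Fin k → F) :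
    Maps J i M v v M := fun w => (h _).eq

theorem maps_add {i : β} {M M' : Matrix (β → Fin k) (β → Fin k) F} {v v' : Fin k → F}
    {a a' : Matrix (β → Fin k) (β → Fin k) F} (h : Maps J i M v v' a) (h' : Maps J i M' v v' a') :
    Maps J i (M + M') v v' (a + a') := fun w => by rw [add_mul, h w, h' w, mul_add]

/-- the adjoint form -/
theorem Maps.adj (hJs : Jᵀ = J) (hJ : IsUnit J.det) {i : β} {M : Matrix (β → Fin k) (β → Fin k) F}
    {v v' : Fin k → F} {a : Matrix (β → Fin k) (β → Fin k) F} (ha : ∀ A, Commute a (sl i A))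
    (h : Maps J i M v v' a) (w : Fin k → F) :
    sl i (rk J w v) * adjJ (GV J) M = sl i (rk J w v') * adjJ (GV J) a := by
  have h1 := congrArg (adjJ (GV J)) (h w)
  rw [adj_mul (GV_det hJ), adj_mul (GV_det hJ), adj_sl hJ, adj_sl hJ] at h1
  have e : ∀ x y : Fin k → F, adjJ J (rk J x y) = rk J y x := fun x y => by
    rw [adjJ, Matrix.mul_assoc, rk_transpose J (ε := (1 : F)) (by rw [hJs, one_smul]), one_smul,
      ← Matrix.mul_assoc, nonsing_inv_mul J hJ, Matrix.one_mul]
  rw [e, e, (adj_commute hJs hJ ha _).eq] at h1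
  exact h1

end Big

end Cfsg.Agent.ClassicalMax.OOWreath
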