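import Cfsg.Agent.ClassicalMax.OOWreath.Unique

/-!
The centralisers of products of two commuting signed reflections permute the slot algebras.
-/

set_option autoImplicit false
set_option linter.unusedSectionVars false
set_option linter.unusedSimpArgs false

namespace Cfsg.Agent.ClassicalMax.OOWreath

open Matrix Cfsg.Agent.ClassicalMax.TPow
open Cfsg.Agent.ClassicalMax.SpWreath (GV GV_det)

variable {F : Type*} [Field F] {k t : ℕ} {J : Matrix (Fin k) (Fin k) F}

variable (J) in
/-- the element fixes only the trivial coset of the stabiliser -/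
def UFx (G : Subgroup (GL (Fin t → Fin k) F)) (x : Matrix (Fin t → Fin k) (Fin t → Fin k) F) : Prop :=
  ∀ g, MG G g → Std (adjJ (GV J) g * x * g) → Std g

/-- the centraliser permutes the slot algebras -/
def CS (G : Subgroup (GL (Fin t → Fin k) F)) (z : Matrix (Fin t → Fin k) (Fin t → Fin k) F) : Prop :=
  ∀ g, MG G g → Commute g z → Std g

theorem Std.pow {M : Matrix (Fin t → Fin k) (Fin t → Fin k) F} (hM : Std M) (n : ℕ) : Std (M ^ n) := by
  induction n with
  | zero => rw [pow_zero]; exact Std.one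
  | succ n ih => rw [pow_succ]; exact ih.mul hM

theorem MG.pow {G : Subgroup (GL (Fin t → Fin k) F)} {M : Matrix (Fin t → Fin k) (Fin t → Fin k) F} (hM : MG G M)
    (n : ℕ) : MG G (M ^ n) := by
  induction n with
  | zero => rw [pow_zero]; exact MG.one
  | succ n ih => rw [pow_succ]; exact ih.mul hM

theorem scalar_of_prod [Finite F] (hk : 2 ≤ k) {i : Fin t} {X : Matrix (Fin k) (Fin k) F}
    {R : Matrix (Fin t → Fin k) (Fin t → Fin k) F} (hR : ∀ A, Commute R (sl i A)) (hR0 : R ≠ 0)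
    (h : ∀ A, Commute (sl i X * R) (sl i A)) : ∃ c : F, X = c • 1 := by
  haveI : Nonempty (Fin k) := ⟨⟨0, by omega⟩⟩
  refine SpWreath.scalar_of_commute fun A => ?_
  refine sub_eq_zero.1 (by_contra fun hne => hR0 (eq_zero_of_sl_mul (i := i) hne hR ?_))
  rw [sub_eq_add_neg, ← neg_one_smul F (A * X), sl_add, sl_smul, neg_one_smul, add_mul, neg_mul, ← sl_mul, ← sl_mul,
    mul_assoc, ← (hR A).eq, ← mul_assoc, (h A).eq, ← mul_assoc, add_neg_cancel]

/-- the factor in one slot is unique up to a scalar -/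
theorem factor_unique [Finite F] (hk : 2 ≤ k) {i : Fin t} {X Y : Matrix (Fin k) (Fin k) F} (hY : IsUnit Y.det)
    {R R' : Matrix (Fin t → Fin k) (Fin t → Fin k) F} (hR : ∀ A, Commute R (sl i A))
    (hR' : ∀ A, Commute R' (sl i A)) (hR0 : R ≠ 0) (h : sl i X * R = sl i Y * R') : ∃ c : F, X = c • Y := by
  have h1 : sl i (Y⁻¹ * X) * R = R' := by
    rw [← sl_mul, mul_assoc, h, ← mul_assoc, sl_mul, nonsing_inv_mul Y hY, sl_one, one_mul]
  obtain ⟨c, hc⟩ := scalar_of_prod hk hR hR0 fun A => h1.symm ▸ hR' A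
  refine ⟨c, ?_⟩
  have := congrArg (Y * ·) hc
  simpa only [← mul_assoc, mul_nonsing_inv Y hY, one_mul, mul_smul_comm, mul_one] using this

theorem exists_perp {n : ℕ} (hn : n < k) (f : Fin n → Fin k → F) :
    ∃ w : Fin k → F, w ≠ 0 ∧ ∀ a, bf J (f a) w = 0 := by
  let φ : (Fin k → F) →ₗ[F] (Fin n → F) :=
    { toFun := fun w a => bf J (f a) w
      map_add' := fun x y => funext fun a => bf_add_right ..
      map_smul' := fun c x => funext fun a => by simp [bf_smul_right] }
  by_contra! h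
  have hinj : Function.Injective φ := (injective_iff_map_eq_zero φ).2 fun w hw => by
    by_contra hw0
    obtain ⟨a, ha⟩ := h w hw0
    exact ha (congrFun hw a)
  have := LinearMap.finrank_le_finrank_of_injective hinj
  rw [Module.finrank_fintype_fun_eq_card, Module.finrank_fintype_fun_eq_card, Fintype.card_fin, Fintype.card_fin] at this
  omega

theorem dl_det {u : Fin k → F} (hu : bf J u u ≠ 0) : IsUnit (dl J u).det :=
  isUnit_iff_ne_zero.2 fun h0 => by simpa [det_mul, h0] using congrArg Matrix.det (dl_sq hu)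

theorem dl_eq_of_smul (hJ : SJ J) {u v : Fin k → F} (hu : bf J u u ≠ 0) (hv : bf J v v ≠ 0) {c : F}
    (h : dl J u = c • dl J v) : dl J u = dl J v := by
  have hk := hJ.kk
  obtain ⟨w, hw0, hw⟩ := exists_perp (J := J) (n := 2) (by omega) ![u, v]
  have h1 := congrArg (· *ᵥ w) h
  simp only [smul_mulVec, dl_perp (show bf J u w = 0 from hw 0), dl_perp (show bf J v w = 0 from hw 1), smul_smul] at h1
  have hc : c = 1 := by
    have h2 : (sg F k - c * sg F k) • w = 0 := by rw [sub_smul, h1, sub_self]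
    have h3 := (smul_eq_zero.1 h2).resolve_right hw0
    exact mul_right_cancel₀ (sg_ne (F := F) (k := k)) (by linear_combination -h3)
  rw [h, hc, one_smul]

theorem dl_commute_of_orth (hJ : SJ J) {u v : Fin k → F} (h : bf J u v = 0) : Commute (dl J u) (dl J v) := by
  have h' : bf J v u = 0 := by rw [hJ.comm, h]
  show _ = _
  simp only [dl, smul_mul_assoc, mul_smul_comm, rf_eq, sub_mul, mul_sub, one_mul, mul_one, pj_orth h, pj_orth h',
    smul_zero, smul_sub, sub_zero]
  module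

theorem dl_mul_orth (hJ : SJ J) {u v : Fin k → F} (h : bf J u v = 0) :
    dl J u * dl J v = 1 - (2 : F) • pj J u - (2 : F) • pj J v := by
  rw [dl, dl, smul_mul_assoc, mul_smul_comm, smul_smul, sg_sq, one_smul]
  simp only [rf_eq, smul_mul_assoc, mul_smul_comm, sub_mul, mul_sub, one_mul, mul_one, pj_orth h, smul_zero, sub_zero]

theorem dl_pair_ne (hJ : SJ J) (hk : 4 ≤ k) {u v b : Fin k → F} (hu : bf J u u ≠ 0) (hv : bf J v v ≠ 0)
    (hb : bf J b b ≠ 0) (huv : bf J u v = 0) (c : F) : dl J b ≠ c • (dl J u * dl J v) := fun h => by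
  have h2 := hJ.two
  have hvu : bf J v u = 0 := by rw [hJ.comm, huv]
  obtain ⟨w, hw0, hw⟩ := exists_perp (J := J) (n := 3) (by omega) ![u, v, b]
  have h1 := congrArg (· *ᵥ w) h
  simp only [smul_mulVec, ← mulVec_mulVec, dl_perp (show bf J u w = 0 from hw 0), dl_perp (show bf J v w = 0 from hw 1),
    dl_perp (show bf J b w = 0 from hw 2), mulVec_smul, smul_smul, sg_sq] at h1
  have hcs : c = sg F k := by
    have h4 : (sg F k - c) • w = 0 := by rw [sub_smul, h1, mul_one, sub_self]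
    exact (sub_eq_zero.1 ((smul_eq_zero.1 h4).resolve_right hw0)).symm
  subst hcs
  have key : ∀ x y, bf J x y = 0 → bf J x x ≠ 0 → (dl J x * dl J y) *ᵥ x = -x := fun x y hxy hx => by
    rw [← mulVec_mulVec, dl_perp (show bf J y x = 0 by rw [hJ.comm, hxy]), mulVec_smul, dl_self hx, smul_smul,
      mul_neg, sg_sq, neg_one_smul]
  have hev : ∀ x, (dl J u * dl J v) *ᵥ x = -x → x = (bf J b x / bf J b b) • b := fun x hx => by
    have h5 := congrArg (· *ᵥ x) h
    simp only [smul_mulVec, hx] at h5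
    rw [dl, smul_mulVec] at h5
    have h6 := smul_right_injective _ (sg_ne (F := F) (k := k)) h5
    rw [rf_mulVec] at h6
    refine smul_right_injective _ h2 ?_
    simp only [smul_smul]
    linear_combination (norm := module) h6
  have e1 := hev u (key u v huv hu)
  have e2 := hev v (by rw [(dl_commute_of_orth hJ huv).eq]; exact key v u hvu hv)
  have h7 := huv
  rw [e1, e2, bf_smul_left, bf_smul_right] at h7
  rcases mul_eq_zero.1 h7 with h8 | h8
  · rw [h8, zero_smul] at e1; exact hu (by rw [e1]; simp [bf])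
  rcases mul_eq_zero.1 h8 with h9 | h9
  · rw [h9, zero_smul] at e2; exact hv (by rw [e2]; simp [bf])
  · exact hb h9

variable [Finite F] {Sg : Finset (Fin t)} {G : Subgroup (GL (Fin t → Fin k) F)}

namespace Setting

variable (hS : Setting J Sg G)
include hS

theorem refl_adj (i : Fin t) (u : Fin k → F) : adjJ (GV J) (sl i (dl J u)) = sl i (dl J u) := by
  rw [adj_sl hS.sj.det, hS.sj.dl_adj]

theorem ufx_conj {h x : Matrix (Fin t → Fin k) (Fin t → Fin k) F} (hh : MG G h) (hhs : Std h) (hx : UFx J G x) :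
    UFx J G (h * x * adjJ (GV J) h) := fun g hg hgs => by
  obtain ⟨hha, h1, h2⟩ := hS.adj_inv hh
  have h3 := hx (adjJ (GV J) h * g) (hha.mul hg) (by
    rw [hS.adj_mul', hS.adj_adj']
    simpa only [mul_assoc] using hgs)
  have h4 := hhs.mul h3
  rwa [← mul_assoc, h2, one_mul] at h4

theorem cs_of_ufx {x : Matrix (Fin t → Fin k) (Fin t → Fin k) F} (hxs : Std x) (hx : UFx J G x) : CS G x :=
  fun g hg hc => hx g hg (by rw [mul_assoc, ← hc.eq, ← mul_assoc, (hS.adj_inv hg).2.1, one_mul]; exact hxs)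

/-- the power of the product of two involutions returning to the stabiliser -/
theorem engine_core {d y : Matrix (Fin t → Fin k) (Fin t → Fin k) F} (hd : MG G d) (hds : Std d) (hdd : d * d = 1)
    (hdu : UFx J G d) (hy : MG G y) (hyy : y * y = 1) :
    ∃ f : ℕ, Std ((d * y) ^ (2 * f + 1)) ∧
      adjJ (GV J) ((d * y) ^ f) * y * (d * y) ^ f = d * (d * y) ^ (2 * f + 1) := by
  classical
  obtain ⟨u, hu⟩ : ∃ u, u = d * y := ⟨_, rfl⟩
  have huM : MG G u := hu ▸ hd.mul hy
  have hex : ∃ n, 0 < n ∧ Std (u ^ n) := by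
    obtain ⟨g, -, hg⟩ := huM
    obtain ⟨n, hn, hn1⟩ := isOfFinOrder_iff_pow_eq_one.1 (isOfFinOrder_of_finite g)
    exact ⟨n, hn, by rw [← hg, ← Units.val_pow_eq_pow_val, hn1, Units.val_one]; exact Std.one⟩
  obtain ⟨m, ⟨hm, hms⟩, hmin⟩ : ∃ m, (0 < m ∧ Std (u ^ m)) ∧ ∀ j < m, ¬ (0 < j ∧ Std (u ^ j)) :=
    ⟨Nat.find hex, Nat.find_spec hex, fun j hj => Nat.find_min hex hj⟩
  have hud : ∀ n, d * u ^ n = adjJ (GV J) (u ^ n) * d ∧ y * u ^ n = adjJ (GV J) (u ^ n) * y := by
    have hinv : adjJ (GV J) u = y * d := by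
      obtain ⟨-, h1, -⟩ := hS.adj_inv huM
      calc adjJ (GV J) u = adjJ (GV J) u * (u * (y * d)) := by
            rw [hu, mul_assoc d y, ← mul_assoc y y, hyy, one_mul, hdd, mul_one]
        _ = y * d := by rw [← mul_assoc, h1, one_mul]
    intro n
    induction n with
    | zero => simp [adj_one hS.GV_det']
    | succ n ih =>
      rw [pow_succ', hS.adj_mul', ← pow_succ']
      constructor
      · rw [pow_succ, ← mul_assoc, ih.1, mul_assoc _ d, mul_assoc _ (adjJ _ u)]
        congr 1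
        rw [hinv, hu, ← mul_assoc d d, hdd, one_mul, mul_assoc, hdd, mul_one]
      · rw [pow_succ, ← mul_assoc, ih.2, mul_assoc _ y, mul_assoc _ (adjJ _ u)]
        congr 1
        rw [hinv, hu, mul_assoc y d y]
  rcases Nat.even_or_odd m with ⟨f, hf⟩ | ⟨f, hf⟩
  · exfalso
    refine hmin f (by omega) ⟨by omega, hdu (u ^ f) (huM.pow f) ?_⟩
    rw [mul_assoc, (hud f).1, ← mul_assoc, ← hS.adj_mul', ← pow_add, ← hf]
    exact (hS.std_adj (huM.pow m) hms).mul hds
  · subst hu
    refine ⟨f, hf ▸ hms, ?_⟩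
    have h2 : adjJ (GV J) ((d * y) ^ (f + f)) = adjJ (GV J) ((d * y) ^ f) * adjJ (GV J) ((d * y) ^ f) := by
      rw [pow_add, hS.adj_mul']
    rw [mul_assoc, (hud f).2, ← mul_assoc, ← h2, show 2 * f + 1 = f + f + 1 by omega, pow_succ, ← mul_assoc d,
      (hud (f + f)).1, mul_assoc (adjJ _ _) d, ← mul_assoc d d, hdd, one_mul]

/-- one involution with a single fixed coset commuting with `z` gives the centraliser -/
theorem engine {z a d : Matrix (Fin t → Fin k) (Fin t → Fin k) F} (haM : MG G a) (has : Std a) (haa : a * a = 1)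
    (hau : UFx J G a) (hdM : MG G d) (hds : Std d) (hdd : d * d = 1) (hdu : UFx J G d) (hza : Commute a z)
    (hzd : Commute d z)
    (H : ∀ h, MG G h → Std h → Commute h z → Commute d (h * a * adjJ (GV J) h) ∧
      ∀ g, MG G g → Commute g z → Commute g (d * (h * a * adjJ (GV J) h)) → Std g) : CS G z := by
  intro g hg hgz
  obtain ⟨hga, hg1, hg2⟩ := hS.adj_inv hg
  have hcm : ∀ {q : Matrix (Fin t → Fin k) (Fin t → Fin k) F}, MG G q → Commute q z → Commute (adjJ (GV J) q) z := by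
    intro q hq hqz
    obtain ⟨-, h1, h2⟩ := hS.adj_inv hq
    calc adjJ (GV J) q * z = adjJ (GV J) q * (z * q) * adjJ (GV J) q := by
          simp only [mul_assoc, h2, mul_one]
      _ = z * adjJ (GV J) q := by rw [← hqz.eq, ← mul_assoc, h1, one_mul]
  obtain ⟨y, hy⟩ : ∃ y, y = g * a * adjJ (GV J) g := ⟨_, rfl⟩
  have hyM : MG G y := hy ▸ hS.conj_mem hg haM
  have hyy : y * y = 1 := by
    rw [hy, show g * a * adjJ (GV J) g * (g * a * adjJ (GV J) g) = g * a * (adjJ (GV J) g * g) * a * adjJ (GV J) g by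
      simp only [mul_assoc], hg1, mul_one, mul_assoc g a a, haa, mul_one, hg2]
  have hyz : Commute y z := hy ▸ ((hgz.mul_left hza).mul_left (hcm hg hgz))
  obtain ⟨f, hst, hconj⟩ := hS.engine_core hdM hds hdd hdu hyM hyy
  obtain ⟨u, hu⟩ : ∃ u, u = d * y := ⟨_, rfl⟩
  rw [← hu] at hst hconj
  have huM : MG G u := hu ▸ hdM.mul hyM
  have huz : Commute u z := hu ▸ hzd.mul_left hyz
  obtain ⟨h, hh⟩ : ∃ h, h = adjJ (GV J) (u ^ f) * g := ⟨_, rfl⟩
  have hhM : MG G h := hh ▸ (hS.adj_inv (huM.pow f)).1.mul hg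
  have he : h * a * adjJ (GV J) h = d * u ^ (2 * f + 1) := by
    rw [hh, hS.adj_mul', hS.adj_adj', ← hconj, hy]
    simp only [mul_assoc]
  have hhs : Std h := by
    have h1 := hau (adjJ (GV J) h) (hS.adj_inv hhM).1 (by rw [hS.adj_adj', he]; exact hds.mul hst)
    have h2 := hS.std_adj (hS.adj_inv hhM).1 h1
    rwa [hS.adj_adj'] at h2
  have hhz : Commute h z := hh ▸ (hcm (huM.pow f) (huz.pow_left f)).mul_left hgz
  obtain ⟨hc, hC⟩ := H h hhM hhs hhz
  have hU : d * (h * a * adjJ (GV J) h) = u ^ (2 * f + 1) := by rw [he, ← mul_assoc, hdd, one_mul]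
  have hUU : (d * (h * a * adjJ (GV J) h)) * (d * (h * a * adjJ (GV J) h)) = 1 := by
    obtain ⟨-, h1, h2⟩ := hS.adj_inv hhM
    rw [mul_assoc d, ← mul_assoc (h * a * adjJ (GV J) h), ← hc.eq, mul_assoc d (h * a * adjJ (GV J) h),
      show h * a * adjJ (GV J) h * (h * a * adjJ (GV J) h) = h * a * (adjJ (GV J) h * h) * a * adjJ (GV J) h by
        simp only [mul_assoc], h1, mul_one, mul_assoc h a a, haa, mul_one, h2, mul_one, hdd]
  have hyU : Commute y (u ^ (2 * f + 1)) := by
    have e1 : SemiconjBy y u (y * d) := by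
      show y * u = y * d * y
      rw [hu, mul_assoc]
    have e2 : (y * d) ^ (2 * f + 1) = u ^ (2 * f + 1) := by
      have e3 : u ^ (2 * f + 1) * (y * d) ^ (2 * f + 1) = 1 := by
        have c1 : u * (y * d) = 1 := by rw [hu, mul_assoc, ← mul_assoc y y, hyy, one_mul, hdd]
        have c2 : Commute u (y * d) := by
          show _ = _
          rw [c1, hu, mul_assoc, ← mul_assoc d d, hdd, one_mul, hyy]
        rw [← c2.mul_pow, c1, one_pow]
      rw [hU] at hUU
      calc (y * d) ^ (2 * f + 1) = u ^ (2 * f + 1) * u ^ (2 * f + 1) * (y * d) ^ (2 * f + 1) := by rw [hUU, one_mul]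
        _ = u ^ (2 * f + 1) := by rw [mul_assoc, e3, mul_one]
    have := e1.pow_right (2 * f + 1)
    rwa [e2] at this
  have hys := hC y hyM hyz (hU.symm ▸ hyU)
  have h3 := hau (adjJ (GV J) g) hga (by rw [hS.adj_adj', ← hy]; exact hys)
  have h4 := hS.std_adj hga h3
  rwa [hS.adj_adj'] at h4

/-- the image of a reflection by an element permuting the slots -/
theorem refl_image {h : Matrix (Fin t → Fin k) (Fin t → Fin k) F} (hh : MG G h) (hhs : Std h) {i : Fin t}
    {u : Fin k → F} (hu : bf J u u ≠ 0) :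
    ∃ l w, bf J w w ≠ 0 ∧ h * sl i (dl J u) * adjJ (GV J) h = sl l (dl J w) := by
  obtain ⟨l, B, hB⟩ := hS.std_conj_slot hh hhs i (dl J u)
  exact hS.classify_slot hu hh hB

theorem conj_mul {h : Matrix (Fin t → Fin k) (Fin t → Fin k) F} (hh : MG G h)
    (X Y : Matrix (Fin t → Fin k) (Fin t → Fin k) F) :
    h * X * adjJ (GV J) h * (h * Y * adjJ (GV J) h) = h * (X * Y) * adjJ (GV J) h := by
  rw [show h * X * adjJ (GV J) h * (h * Y * adjJ (GV J) h) = h * X * (adjJ (GV J) h * h) * Y * adjJ (GV J) h by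
    simp only [mul_assoc], (hS.adj_inv hh).2.1, mul_one]
  simp only [mul_assoc]

theorem conj_fix {h z : Matrix (Fin t → Fin k) (Fin t → Fin k) F} (hh : MG G h) (hc : Commute h z) :
    h * z * adjJ (GV J) h = z := by
  rw [hc.eq, mul_assoc, (hS.adj_inv hh).2.2, mul_one]

/-- two slots are sent to different slots -/
theorem image_ne {h : Matrix (Fin t → Fin k) (Fin t → Fin k) F} (hh : MG G h) (hhs : Std h) {i l : Fin t} (hil : i ≠ l)
    {X Y X' Y' : Matrix (Fin k) (Fin k) F} (hX : ∀ c : F, X ≠ c • 1) (hY : ∀ c : F, Y ≠ c • 1) {p q : Fin t}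
    (hp : h * sl i X * adjJ (GV J) h = sl p X') (hq : h * sl l Y * adjJ (GV J) h = sl q Y') : p ≠ q := by
  have hk := hS.sj.kk
  obtain ⟨-, h1, h2⟩ := hS.adj_inv hh
  obtain ⟨σ, θ, hθ⟩ := hhs.data (by omega) h2
  intro e
  have e1 : h * sl i X = sl p X' * h := by rw [← hp, mul_assoc _ (adjJ _ h) h, h1, mul_one]
  have e2 : h * sl l Y = sl q Y' * h := by rw [← hq, mul_assoc _ (adjJ _ h) h, h1, mul_one]
  have a1 := slot_map_eq (by omega) h2 (image_nonscalar (by omega) h1 (hθ i X) hX) (hθ i X) e1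
  have a2 := slot_map_eq (by omega) h2 (image_nonscalar (by omega) h1 (hθ l Y) hY) (hθ l Y) e2
  exact hil (σ.injective (a1.trans (e.trans a2.symm)))

variable (hC : CentStd J Sg G)
include hC

theorem ufx_good {i : Fin t} (hi : i ∈ Sg) {u : Fin k → F} (hu : Good J u) : UFx J G (sl i (dl J u)) :=
  fun _ hg hgs => hS.uf hC hi hu hg hgs

/-- two orthogonal reflections of one slot -/
theorem same_pair {i : Fin t} (hi : i ∈ Sg) {a b : Fin k → F} (ha : Good J a) (hb : bf J b b ≠ 0)
    (hab : bf J a b = 0) (hor : 4 ≤ k ∨ Good J b) : CS G (sl i (dl J a * dl J b)) := by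
  have hJ := hS.sj
  have hk := hJ.kk
  haveI : Nonempty (Fin k) := ⟨⟨0, by omega⟩⟩
  by_cases hk4 : 4 ≤ k
  swap
  · have hbg := hor.resolve_left hk4
    obtain ⟨c, hc, hc'⟩ := hJ.exists_orth (n := 2) (by omega) ![a, b] (by
      intro x y h; fin_cases x <;> fin_cases y <;> first | exact absurd rfl h | simp [hJ.comm b a, hab])
      (by intro x; fin_cases x; exacts [ha.1, hb])
    have hcg := good_third hJ (by omega) ha hbg hc hab (hc' 0) (hc' 1)
    rw [triangle hJ (by omega) ha.1 hb hc hab (hc' 0) (hc' 1)]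
    exact fun g hg hgc => hC i hi c hcg g hg hgc
  obtain ⟨w, hw, hw'⟩ := exists_good_perp hJ (n := 2) (by omega) ![a, b] (by
    intro x y h; fin_cases x <;> fin_cases y <;> first | exact absurd rfl h | simp [hJ.comm b a, hab])
    (by intro x; fin_cases x; exacts [ha.1, hb])
  have haw : bf J a w = 0 := hw' 0
  have hbw : bf J b w = 0 := hw' 1
  have hzs : ∀ {u v : Fin k → F}, bf J u u ≠ 0 → bf J v v ≠ 0 → bf J u v = 0 → ∀ c : F, dl J u * dl J v ≠ c • 1 :=
    fun {u v} hu hv huv c e => by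
      obtain ⟨x, hx0, hx⟩ := exists_perp (J := J) (n := 2) (by omega) ![u, v]
      have h1 := congrArg (· *ᵥ u) e
      have h3 := congrArg (· *ᵥ x) e
      simp only [smul_mulVec, one_mulVec, ← mulVec_mulVec,
        dl_perp (show bf J v u = 0 by rw [hJ.comm, huv]), mulVec_smul, dl_self hu, smul_smul, mul_neg, sg_sq,
        dl_perp (show bf J u x = 0 from hx 0), dl_perp (show bf J v x = 0 from hx 1), neg_one_smul, one_smul] at h1 h3
      have hu0 : u ≠ 0 := fun e => hu (by rw [e, bf, zero_dotProduct])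
      have c1 : (c + 1) • u = 0 := by rw [add_smul, ← h1, one_smul, neg_add_cancel]
      have c2 : (c - 1) • x = 0 := by rw [sub_smul, ← h3, one_smul, sub_self]
      exact hJ.two (by linear_combination (smul_eq_zero.1 c1).resolve_right hu0 - (smul_eq_zero.1 c2).resolve_right hx0)
  refine hS.engine (a := sl i (dl J a)) (d := sl i (dl J w)) (hS.refl i hi a ha) (Std.sl i (dl_sq ha.1))
    (by rw [sl_mul, dl_sq ha.1, sl_one]) (hS.ufx_good hC hi ha) (hS.refl i hi w hw) (Std.sl i (dl_sq hw.1))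
    (by rw [sl_mul, dl_sq hw.1, sl_one]) (hS.ufx_good hC hi hw) ?_ ?_ ?_
  · show _ = _
    rw [sl_mul, sl_mul, mul_assoc, ← (dl_commute_of_orth hJ hab).eq]
  · show _ = _
    rw [sl_mul, sl_mul, ← mul_assoc, (dl_commute_of_orth hJ (show bf J w a = 0 by rw [hJ.comm, haw])).eq, mul_assoc,
      (dl_commute_of_orth hJ (show bf J w b = 0 by rw [hJ.comm, hbw])).eq, mul_assoc]
  intro h hh hhs hhz
  obtain ⟨p, a1, ha1, hp⟩ := hS.refl_image hh hhs (i := i) ha.1
  obtain ⟨q, b1, hb1, hq⟩ := hS.refl_image hh hhs (i := i) hb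
  have hpq : sl p (dl J a1) * sl q (dl J b1) = sl i (dl J a * dl J b) := by
    rw [← hp, ← hq, hS.conj_mul hh, sl_mul, hS.conj_fix hh hhz]
  have e1 : q = p := by
    by_contra hqp
    rcases slot_prod hJ hqp (dl_det ha1) (fun e => dl_ne_scalar hJ hb1 0 (by rw [e, zero_smul])) hpq with
      ⟨c, hc⟩ | ⟨c, hc⟩
    · exact dl_ne_scalar hJ hb1 c hc
    · exact dl_ne_scalar hJ ha1 c hc
  subst e1
  rw [sl_mul] at hpq
  obtain rfl := slot_eq hpq.symm (hzs ha.1 hb hab)
  have hpq' := sl_injective i hpq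
  have hcm : Commute (sl (β := Fin t) i (dl J a1)) (sl i (dl J b1)) := by
    show _ = _
    rw [← hp, ← hq, hS.conj_mul hh, hS.conj_mul hh, sl_mul, sl_mul, (dl_commute_of_orth hJ hab).eq]
  have hcm' : Commute (dl J a1) (dl J b1) := by
    have := hcm.eq
    rw [sl_mul, sl_mul] at this
    exact sl_injective i this
  have ho1 : bf J a1 b1 = 0 := (rf_comm hJ ha1 hb1 hcm').resolve_right fun e =>
    hzs ha.1 hb hab 1 (by rw [one_smul, ← hpq', e, dl_sq hb1])
  have hperp : ∀ {v z : Fin k → F}, (dl J a * dl J b) *ᵥ z = -z → bf J a v = 0 → bf J b v = 0 → bf J z v = 0 := by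
    intro v z hz hav hbv
    have h1 : (dl J a * dl J b) *ᵥ v = v := by
      rw [← mulVec_mulVec, dl_perp hbv, mulVec_smul, dl_perp hav, smul_smul, sg_sq, one_smul]
    have h2 := hJ.bf_adjJ (dl J a * dl J b) z v
    rw [adj_mul hJ.det, hJ.dl_adj, hJ.dl_adj, ← (dl_commute_of_orth hJ hab).eq, hz, h1, ← neg_one_smul F z,
      bf_smul_left] at h2
    exact (mul_eq_zero.1 (show (2 : F) * bf J z v = 0 by linear_combination -h2)).resolve_left hJ.two
  have key : ∀ x y, bf J x y = 0 → bf J x x ≠ 0 → (dl J x * dl J y) *ᵥ x = -x := fun x y hxy hx => by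
    rw [← mulVec_mulVec, dl_perp (show bf J y x = 0 by rw [hJ.comm, hxy]), mulVec_smul, dl_self hx, smul_smul,
      mul_neg, sg_sq, neg_one_smul]
  have hwa : bf J w a1 = 0 := by
    rw [hJ.comm]; exact hperp (hpq' ▸ key a1 b1 ho1 ha1) haw hbw
  have hwb : bf J w b1 = 0 := by
    rw [hJ.comm]
    refine hperp ?_ haw hbw
    rw [← hpq', (dl_commute_of_orth hJ ho1).eq]
    exact key b1 a1 (by rw [hJ.comm, ho1]) hb1
  rw [hp]
  refine ⟨?_, fun g hg hgz hgd => hC i hi w hw g hg ?_⟩
  · show _ = _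
    rw [sl_mul, sl_mul, (dl_commute_of_orth hJ hwa).eq]
  have e2 : sl (β := Fin t) i (dl J w) =
      sg F k • ((1 : Matrix (Fin t → Fin k) (Fin t → Fin k) F) - (2 : F)⁻¹ •
        ((1 + sl i (dl J a * dl J b)) * (1 - sl i (dl J w) * sl i (dl J a1)))) := by
    have hmat : dl J w = sg F k • ((1 : Matrix (Fin k) (Fin k) F) - (2 : F)⁻¹ •
        ((1 + dl J a * dl J b) * (1 - dl J w * dl J a1))) := by
      rw [← hpq', dl_mul_orth hJ ho1, dl_mul_orth hJ hwa, dl, rf_eq]
      simp only [mul_add, add_mul, mul_sub, sub_mul, one_mul, mul_one, smul_mul_assoc, mul_smul_comm, smul_sub,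
        smul_add, smul_smul, pj_mul ha1, pj_orth ho1, pj_orth (show bf J b1 w = 0 by rw [hJ.comm, hwb]),
        pj_orth (show bf J a1 w = 0 by rw [hJ.comm, hwa]), pj_orth (show bf J b1 a1 = 0 by rw [hJ.comm, ho1]), smul_zero]
      have h2 := hJ.two
      match_scalars <;> field_simp <;> ring
    conv_lhs => rw [hmat]
    have hsub : ∀ X Y : Matrix (Fin k) (Fin k) F, sl (β := Fin t) i (X - Y) = sl i X - sl i Y := fun X Y => by
      rw [eq_sub_iff_add_eq, ← sl_add, sub_add_cancel]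
    rw [sl_smul, hsub, sl_smul, ← sl_mul, sl_add, hsub, sl_one, ← sl_mul i (dl J a), ← sl_mul i (dl J w)]
  rw [e2]
  exact ((Commute.one_right g).sub_right ((((Commute.one_right g).add_right hgz).mul_right
    ((Commute.one_right g).sub_right hgd)).smul_right _)).smul_right _

/-- two reflections of different slots -/
theorem diff_pair {i l : Fin t} (hl : l ∈ Sg) (hil : i ≠ l) {a b : Fin k → F} (ha : bf J a a ≠ 0)
    (haM : MG G (sl i (dl J a))) (hau : UFx J G (sl i (dl J a))) (hb : bf J b b ≠ 0) (hor : 4 ≤ k ∨ Good J b) :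
    CS G (sl i (dl J a) * sl l (dl J b)) := by
  have hJ := hS.sj
  have hk := hJ.kk
  haveI : Nonempty (Fin k) := ⟨⟨0, by omega⟩⟩
  obtain ⟨w, hw, hw'⟩ := exists_good_perp hJ (n := 1) (by omega) ![b] (fun _ _ h => absurd (Subsingleton.elim _ _) h)
    (fun _ => by simpa using hb)
  have hbw : bf J w b = 0 := by rw [hJ.comm]; exact hw' 0
  have hcl := fun A B : Matrix (Fin k) (Fin k) F => sl_commute hil A B
  refine hS.engine (a := sl i (dl J a)) (d := sl l (dl J w)) haM (Std.sl i (dl_sq ha))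
    (by rw [sl_mul, dl_sq ha, sl_one]) hau (hS.refl l hl w hw) (Std.sl l (dl_sq hw.1))
    (by rw [sl_mul, dl_sq hw.1, sl_one]) (hS.ufx_good hC hl hw) ?_ ?_ ?_
  · exact (Commute.refl _).mul_right (hcl _ _)
  · refine (hcl _ _).symm.mul_right ?_
    show _ = _
    rw [sl_mul, sl_mul, (dl_commute_of_orth hJ hbw).eq]
  intro h hh hhs hhz
  obtain ⟨p, a1, ha1, hp⟩ := hS.refl_image hh hhs (i := i) ha
  obtain ⟨q, b1, hb1, hq⟩ := hS.refl_image hh hhs (i := l) hb
  have hne := hS.image_ne hh hhs hil (dl_ne_scalar hJ ha) (dl_ne_scalar hJ hb) hp hq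
  have hpq : sl p (dl J a1) * sl q (dl J b1) = sl i (dl J a) * sl l (dl J b) := by
    rw [← hp, ← hq, hS.conj_mul hh, hS.conj_fix hh hhz]
  have hcq : ∀ A, Commute (sl (β := Fin t) q (dl J b1)) (sl p A) := fun A => sl_commute (Ne.symm hne) _ A
  have hq0 : sl (β := Fin t) q (dl J b1) ≠ 0 := fun e => dl_ne_scalar hJ hb1 0
    (by rw [zero_smul]; exact sl_injective q (e.trans (sl_zero q).symm))
  have hcase : sl p (dl J a1) = sl i (dl J a) ∨ sl p (dl J a1) = sl l (dl J b) := by
    rcases eq_or_ne p i with rfl | hpi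
    · obtain ⟨c, hc⟩ := factor_unique (by omega) (dl_det ha) hcq (fun A => sl_commute hil.symm _ A) hq0 hpq
      exact Or.inl (by rw [dl_eq_of_smul hJ ha1 ha hc])
    rcases eq_or_ne p l with rfl | hpl
    · obtain ⟨c, hc⟩ := factor_unique (by omega) (dl_det hb) hcq (fun A => sl_commute hil _ A) hq0
        (hpq.trans (hcl _ _).eq)
      exact Or.inr (by rw [dl_eq_of_smul hJ ha1 hb hc])
    exfalso
    obtain ⟨c, hc⟩ := scalar_of_prod (by omega) hcq hq0 fun A => by
      rw [hpq]; exact (sl_commute (Ne.symm hpi) _ A).mul_left (sl_commute (Ne.symm hpl) _ A)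
    exact dl_ne_scalar hJ ha1 c hc
  rw [hp]
  rcases hcase with e | e <;> rw [e]
  · refine ⟨(hcl _ _).symm, fun g hg hgz hgd => hS.same_pair hC hl hw hb hbw hor g hg ?_⟩
    have h1 := hgd.mul_right hgz
    rwa [mul_assoc, ← mul_assoc (sl i (dl J a)), sl_mul i, dl_sq ha, sl_one, one_mul, sl_mul] at h1
  · refine ⟨?_, fun g hg _ hgd => hS.same_pair hC hl hw hb hbw hor g hg (by rwa [sl_mul] at hgd)⟩
    show _ = _
    rw [sl_mul, sl_mul, (dl_commute_of_orth hJ hbw).eq]

end Setting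

end Cfsg.Agent.ClassicalMax.OOWreath
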