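import Cfsg.Agent.ClassicalMax.OOWreath.Base

/-!
Elements of the unipotent radical at a singular vector of one slot with one axis, their product and conjugation rules,
and the sets of their components and centres.
-/

set_option autoImplicit false
set_option linter.unusedSectionVars false
set_option linter.unusedSimpArgs false

namespace Cfsg.Agent.ClassicalMax.OOWreath

open Matrix Cfsg.Agent.ClassicalMax.TPow
open Cfsg.Agent.ClassicalMax.SpWreath (GV GV_det)

variable {F : Type*} [Field F] {k t : ℕ} {J : Matrix (Fin k) (Fin k) F} {Sg : Finset (Fin t)}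
  {G : Subgroup (GL (Fin t → Fin k) F)}

/-- commuting with one slot and with the inactive slots -/
def Op (Sg : Finset (Fin t)) (i : Fin t) (M : Matrix (Fin t → Fin k) (Fin t → Fin k) F) : Prop :=
  ∀ l, (l = i ∨ l ∉ Sg) → ∀ A, Commute M (sl l A)

namespace Op

variable {i : Fin t} {M N : Matrix (Fin t → Fin k) (Fin t → Fin k) F}

theorem one : Op (F := F) (k := k) Sg i 1 := fun _ _ _ => Commute.one_left _

theorem zero : Op (F := F) (k := k) Sg i 0 := fun _ _ _ => Commute.zero_left _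

theorem add (h : Op Sg i M) (h' : Op Sg i N) : Op Sg i (M + N) := fun l hl A => (h l hl A).add_left (h' l hl A)

theorem sub (h : Op Sg i M) (h' : Op Sg i N) : Op Sg i (M - N) := fun l hl A => (h l hl A).sub_left (h' l hl A)

theorem neg (h : Op Sg i M) : Op Sg i (-M) := fun l hl A => (h l hl A).neg_left

theorem smul (h : Op Sg i M) (c : F) : Op Sg i (c • M) := fun l hl A => (h l hl A).smul_left c

theorem mul (h : Op Sg i M) (h' : Op Sg i N) : Op Sg i (M * N) := fun l hl A => (h l hl A).mul_left (h' l hl A)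

theorem self (h : Op Sg i M) (A : Matrix (Fin k) (Fin k) F) : Commute M (sl i A) := h i (Or.inl rfl) A

theorem adj (hJs : Jᵀ = J) (hJ : IsUnit J.det) (h : Op Sg i M) : Op Sg i (adjJ (GV J) M) :=
  fun l hl A => adj_commute hJs hJ (h l hl) A

theorem slot {l : Fin t} (hl : l ∈ Sg) (hli : l ≠ i) (A : Matrix (Fin k) (Fin k) F) : Op Sg i (sl l A) :=
  fun j hj B => sl_commute (fun e => by
    rcases hj with rfl | hj
    · exact hli e
    · exact hj (e ▸ hl)) A B

end Op

variable (J) in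
/-- an element of the radical with one axis -/
noncomputable def rn (i : Fin t) (p e : Fin k → F) (T Z : Matrix (Fin t → Fin k) (Fin t → Fin k) F) :
    Matrix (Fin t → Fin k) (Fin t → Fin k) F :=
  1 + sl i (rk J p e) * T - sl i (rk J e p) * adjJ (GV J) T +
    sl i (rk J p p) * (Z - (bf J e e / 2) • (T * adjJ (GV J) T))

theorem rn_zero (i : Fin t) (p e : Fin k → F) (Z : Matrix (Fin t → Fin k) (Fin t → Fin k) F) :
    rn J i p e 0 Z = 1 + sl i (rk J p p) * Z := by
  simp [rn, adj_zero]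

variable (J Sg G) in
/-- the components of the radical elements of the group -/
def H (i : Fin t) (p e : Fin k → F) (T : Matrix (Fin t → Fin k) (Fin t → Fin k) F) : Prop :=
  Op Sg i T ∧ ∃ Z, Op Sg i Z ∧ adjJ (GV J) Z = -Z ∧ MG G (rn J i p e T Z)

variable (J Sg G) in
/-- the centres -/
def Cc (i : Fin t) (p : Fin k → F) (Z : Matrix (Fin t → Fin k) (Fin t → Fin k) F) : Prop :=
  Op Sg i Z ∧ adjJ (GV J) Z = -Z ∧ MG G (1 + sl i (rk J p p) * Z)

variable (J Sg G) in
/-- all centres in all slots -/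
def Full : Prop :=
  ∀ i ∈ Sg, ∀ p : Fin k → F, bf J p p = 0 → ∀ Z, Op Sg i Z → adjJ (GV J) Z = -Z →
    MG G (1 + sl i (rk J p p) * Z)

namespace Setting

variable (hS : Setting J Sg G)
include hS

theorem comm' (u v : Fin k → F) : bf J u v = bf J v u := hS.sj.comm u v

theorem rn_mul {i : Fin t} {p e : Fin k → F} (hp : bf J p p = 0) (hpe : bf J p e = 0)
    {T Z T' Z' : Matrix (Fin t → Fin k) (Fin t → Fin k) F} (hT : Op Sg i T) (hT' : Op Sg i T') (hZ : Op Sg i Z)
    (hZ' : Op Sg i Z') :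
    rn J i p e T Z * rn J i p e T' Z' = rn J i p e (T + T')
      (Z + Z' + (bf J e e / 2) • (T' * adjJ (GV J) T - T * adjJ (GV J) T')) := by
  have hTa := hT.adj hS.sj.symm hS.sj.det
  have hTa' := hT'.adj hS.sj.symm hS.sj.det
  have key : ∀ (A A' : Matrix (Fin k) (Fin k) F) (X X' : Matrix (Fin t → Fin k) (Fin t → Fin k) F), Op Sg i X →
      sl i A * X * (sl i A' * X') = sl i (A * A') * (X * X') := fun A A' X X' hX => by
    rw [← sl_mul, mul_assoc, ← mul_assoc X, (hX.self A').eq]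
    simp only [mul_assoc]
  have hCm : Op Sg i (Z - (bf J e e / 2) • (T * adjJ (GV J) T)) := hZ.sub ((hT.mul hTa).smul _)
  obtain ⟨C, hC⟩ : ∃ C, C = Z - (bf J e e / 2) • (T * adjJ (GV J) T) := ⟨_, rfl⟩
  obtain ⟨C', hC'⟩ : ∃ C', C' = Z' - (bf J e e / 2) • (T' * adjJ (GV J) T') := ⟨_, rfl⟩
  simp only [rn]
  rw [← hC, ← hC']
  rw [← hC] at hCm
  simp only [add_mul, sub_mul, mul_add, mul_sub, one_mul, mul_one, key _ _ _ _ hT, key _ _ _ _ hTa, key _ _ _ _ hCm,
    rk_mul_rk, hp, hpe, hS.comm' e p, zero_smul, sl_zero, zero_mul, sl_smul, smul_mul_assoc]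
  rw [hC, hC']
  simp only [adj_add, mul_add, add_mul, mul_sub, sub_mul, mul_smul_comm, smul_smul, smul_add, smul_sub]
  have h2 := hS.sj.two
  match_scalars <;> field_simp <;> ring

theorem rn_scalar {i : Fin t} {p e : Fin k → F} (hp : bf J p p = 0) (hpe : bf J p e = 0) (s : F) :
    sl i (eS J p (s • e)) = rn J i p e (s • 1) 0 := by
  have h2 := hS.sj.two
  rw [rn, adj_smul, adj_one hS.GV_det', hS.sj.eS_eq hp (by rw [bf_smul_right, hpe, mul_zero]), sl_add, sl_add,
    sl_one, sl_smul, xp_smul, sl_smul, xp, sub_eq_add_neg (rk J p e), ← neg_one_smul F (rk J e p), sl_add,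
    sl_smul, bf_smul_left, bf_smul_right]
  simp only [mul_smul_comm, mul_one, smul_mul_assoc, one_mul, mul_sub, mul_zero, smul_smul, smul_add]
  match_scalars <;> field_simp <;> ring

/-- conjugation of a radical element -/
theorem rn_conj {i : Fin t} {p p' e e' : Fin k → F} {g a b : Matrix (Fin t → Fin k) (Fin t → Fin k) F}
    (hg : MG G g) (hap : Maps J i g p p' a) (hbe : Maps J i g e e' b) (ha : ∀ A, Commute a (sl i A))
    (hb : ∀ A, Commute b (sl i A)) (hbb : adjJ (GV J) b * b = 1) (hee : bf J e' e' = bf J e e)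
    {T Z : Matrix (Fin t → Fin k) (Fin t → Fin k) F} (hT : Op Sg i T) (hZ : Op Sg i Z) :
    g * rn J i p e T Z * adjJ (GV J) g =
      rn J i p' e' (a * T * adjJ (GV J) b) (a * Z * adjJ (GV J) a) := by
  have hJs := hS.sj.symm
  have hJ := hS.sj.det
  have hTa := hT.adj hJs hJ
  have haa := fun A => adj_commute hJs hJ ha A
  have hba := fun A => adj_commute hJs hJ hb A
  have hgg : g * adjJ (GV J) g = 1 := (hS.adj_inv hg).2.2
  have hpa := hap.adj hJs hJ ha
  have hea := hbe.adj hJs hJ hb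
  have key : ∀ {u v u' v' : Fin k → F} {au av X : Matrix (Fin t → Fin k) (Fin t → Fin k) F},
      Maps J i g u u' au → (∀ A, Commute au (sl i A)) → (∀ A, Commute X (sl i A)) →
      (∀ w, sl i (rk J w v) * adjJ (GV J) g = sl i (rk J w v') * adjJ (GV J) av) →
      g * (sl i (rk J u v) * X) * adjJ (GV J) g = sl i (rk J u' v') * (au * X * adjJ (GV J) av) := by
    intro u v u' v' au av X h1 hau hX h3
    rw [← mul_assoc g, h1, mul_assoc (sl i _) au X, ← ((hau (rk J u' v)).mul_left (hX _)).eq, mul_assoc (au * X),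
      h3, ← mul_assoc, ((hau (rk J u' v')).mul_left (hX _)).eq, mul_assoc, mul_assoc]
  have hC : ∀ A, Commute (Z - (bf J e e / 2) • (T * adjJ (GV J) T)) (sl i A) :=
    fun A => (hZ.sub ((hT.mul hTa).smul _)).self A
  rw [rn, rn, mul_add, mul_sub, mul_add, mul_one, add_mul, sub_mul, add_mul, hgg, key hap ha hT.self hea,
    key hbe hb hTa.self hpa, key hap ha hC hpa, hee]
  have e1 : adjJ (GV J) (a * T * adjJ (GV J) b) = b * adjJ (GV J) T * adjJ (GV J) a := by
    rw [hS.adj_mul', hS.adj_mul', hS.adj_adj', mul_assoc]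
  have e2 : a * T * adjJ (GV J) b * (b * adjJ (GV J) T * adjJ (GV J) a) = a * (T * adjJ (GV J) T) * adjJ (GV J) a := by
    rw [show a * T * adjJ (GV J) b * (b * adjJ (GV J) T * adjJ (GV J) a) =
      a * T * (adjJ (GV J) b * b) * (adjJ (GV J) T * adjJ (GV J) a) by simp only [mul_assoc], hbb, mul_one]
    simp only [mul_assoc]
  rw [e1, e2, mul_sub, mul_sub, sub_mul, mul_smul_comm, smul_mul_assoc, mul_sub]

theorem rn_inv {i : Fin t} {p e : Fin k → F} (hp : bf J p p = 0) (hpe : bf J p e = 0)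
    {T Z : Matrix (Fin t → Fin k) (Fin t → Fin k) F} (hT : Op Sg i T) (hZ : Op Sg i Z)
    (h : MG G (rn J i p e T Z)) : MG G (rn J i p e (-T) (-Z)) := by
  obtain ⟨h1, h2, h3⟩ := hS.adj_inv h
  refine cast (congrArg (MG G) ?_) h1
  have e1 : rn J i p e T Z * rn J i p e (-T) (-Z) = 1 := by
    rw [hS.rn_mul hp hpe hT hT.neg hZ hZ.neg, adj_neg, neg_mul, mul_neg, sub_self, add_neg_cancel, add_neg_cancel,
      smul_zero, add_zero, rn_zero, mul_zero, add_zero]
  calc adjJ (GV J) (rn J i p e T Z) = adjJ (GV J) (rn J i p e T Z) * (rn J i p e T Z * rn J i p e (-T) (-Z)) := by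
        rw [e1, mul_one]
    _ = _ := by rw [← mul_assoc, h2, one_mul]

theorem H_add {i : Fin t} {p e : Fin k → F} (hp : bf J p p = 0) (hpe : bf J p e = 0)
    {T T' : Matrix (Fin t → Fin k) (Fin t → Fin k) F} (h : H J Sg G i p e T) (h' : H J Sg G i p e T') :
    H J Sg G i p e (T + T') := by
  obtain ⟨hT, Z, hZ, hZs, hM⟩ := h
  obtain ⟨hT', Z', hZ', hZs', hM'⟩ := h'
  have hTa := hT.adj hS.sj.symm hS.sj.det
  have hTa' := hT'.adj hS.sj.symm hS.sj.det
  refine ⟨hT.add hT', _, (hZ.add hZ').add (((hT'.mul hTa).sub (hT.mul hTa')).smul _), ?_,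
    hS.rn_mul hp hpe hT hT' hZ hZ' ▸ hM.mul hM'⟩
  rw [adj_add, adj_add, adj_smul, adj_sub, hS.adj_mul', hS.adj_mul', hS.adj_adj', hS.adj_adj', hZs, hZs', neg_add,
    neg_add, ← smul_neg, neg_sub]

theorem H_neg {i : Fin t} {p e : Fin k → F} (hp : bf J p p = 0) (hpe : bf J p e = 0)
    {T : Matrix (Fin t → Fin k) (Fin t → Fin k) F} (h : H J Sg G i p e T) : H J Sg G i p e (-T) := by
  obtain ⟨hT, Z, hZ, hZs, hM⟩ := h
  exact ⟨hT.neg, -Z, hZ.neg, by rw [adj_neg, hZs], hS.rn_inv hp hpe hT hZ hM⟩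

theorem H_scalar {i : Fin t} (hi : i ∈ Sg) {p e : Fin k → F} (hp : bf J p p = 0) (hpe : bf J p e = 0) (s : F) :
    H J Sg G i p e (s • 1) :=
  ⟨Op.one.smul s, 0, Op.zero, by rw [adj_zero, neg_zero], hS.rn_scalar hp hpe s ▸
    hS.root i hi p (s • e) hp (by rw [bf_smul_right, hpe, mul_zero])⟩

/-- the commutator of two radical elements -/
theorem Cc_comm {i : Fin t} {p e : Fin k → F} (hp : bf J p p = 0) (hpe : bf J p e = 0)
    {T T' : Matrix (Fin t → Fin k) (Fin t → Fin k) F} (h : H J Sg G i p e T) (h' : H J Sg G i p e T') :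
    Cc J Sg G i p ((bf J e e) • (T' * adjJ (GV J) T - T * adjJ (GV J) T')) := by
  obtain ⟨hT, Z, hZ, hZs, hM⟩ := h
  obtain ⟨hT', Z', hZ', hZs', hM'⟩ := h'
  have hTa := hT.adj hS.sj.symm hS.sj.det
  have hTa' := hT'.adj hS.sj.symm hS.sj.det
  have hW := (hT'.mul hTa).sub (hT.mul hTa')
  refine ⟨hW.smul _, ?_, ?_⟩
  · rw [adj_smul, adj_sub, hS.adj_mul', hS.adj_mul', hS.adj_adj', hS.adj_adj', ← smul_neg, neg_sub]
  have h1 := hM.mul hM'
  rw [hS.rn_mul hp hpe hT hT' hZ hZ'] at h1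
  have h2 := (hS.rn_inv hp hpe hT hZ hM).mul (hS.rn_inv hp hpe hT' hZ' hM')
  rw [hS.rn_mul hp hpe hT.neg hT'.neg hZ.neg hZ'.neg] at h2
  have h3 := h1.mul h2
  rw [hS.rn_mul hp hpe (hT.add hT') (hT.neg.add hT'.neg) ((hZ.add hZ').add (hW.smul _))
    ((hZ.neg.add hZ'.neg).add (((hT'.neg.mul (hT.neg.adj hS.sj.symm hS.sj.det)).sub
      (hT.neg.mul (hT'.neg.adj hS.sj.symm hS.sj.det))).smul _)),
    show T + T' + (-T + -T') = 0 by abel, rn_zero] at h3
  refine cast (congrArg (fun X => MG G (1 + sl i (rk J p p) * X)) ?_) h3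
  have h2 := hS.sj.two
  simp only [adj_add, adj_neg, mul_add, add_mul, neg_mul, mul_neg, neg_neg, smul_sub, smul_add, smul_neg]
  match_scalars <;> field_simp <;> ring

theorem Cc_add {i : Fin t} {p : Fin k → F} (hp : bf J p p = 0) {Z Z' : Matrix (Fin t → Fin k) (Fin t → Fin k) F}
    (h : Cc J Sg G i p Z) (h' : Cc J Sg G i p Z') : Cc J Sg G i p (Z + Z') := by
  refine ⟨h.1.add h'.1, by rw [adj_add, h.2.1, h'.2.1, neg_add], cast (congrArg (MG G) ?_) (h.2.2.mul h'.2.2)⟩
  rw [mul_add, mul_one, add_mul, one_mul, mul_assoc, ← mul_assoc Z, (h.1.self _).eq, mul_assoc (sl i _) Z,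
    ← mul_assoc (sl i _), sl_mul, rk_mul_rk, hp, zero_smul, sl_zero, zero_mul, add_zero, mul_add]
  abel

theorem Cc_zero {i : Fin t} {p : Fin k → F} : Cc J Sg G i p 0 :=
  ⟨Op.zero, by rw [adj_zero, neg_zero], by rw [mul_zero, add_zero]; exact MG.one⟩

theorem Cc_neg {i : Fin t} {p : Fin k → F} (hp : bf J p p = 0) {Z : Matrix (Fin t → Fin k) (Fin t → Fin k) F}
    (h : Cc J Sg G i p Z) : Cc J Sg G i p (-Z) := by
  obtain ⟨h1, h2, h3⟩ := hS.adj_inv h.2.2
  refine ⟨h.1.neg, by rw [adj_neg, h.2.1], cast (congrArg (MG G) ?_) h1⟩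
  have e1 : (1 + sl i (rk J p p) * Z) * (1 + sl i (rk J p p) * -Z) = 1 := by
    rw [mul_add, mul_one, add_mul, one_mul, mul_assoc, ← mul_assoc Z, (h.1.self _).eq, mul_assoc (sl i _) Z,
      ← mul_assoc (sl i _), sl_mul, rk_mul_rk, hp, zero_smul, sl_zero, zero_mul, add_zero, mul_neg]
    abel
  calc adjJ (GV J) (1 + sl i (rk J p p) * Z) = _ * ((1 + sl i (rk J p p) * Z) * (1 + sl i (rk J p p) * -Z)) := by
        rw [e1, mul_one]
    _ = _ := by rw [← mul_assoc, h2, one_mul]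

end Setting

end Cfsg.Agent.ClassicalMax.OOWreath
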