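import Cfsg.Agent.ClassicalMax.OOWreath.RadReduce

/-!
A non-zero centre, or a component that is not scalar, gives all centres in all slots.
-/

set_option autoImplicit false
set_option linter.unusedSectionVars false
set_option linter.unusedSimpArgs false

namespace Cfsg.Agent.ClassicalMax.OOWreath

open Matrix Cfsg.Agent.ClassicalMax.TPow
open Cfsg.Agent.ClassicalMax.SpWreath (GV GV_det)

variable {F : Type*} [Field F] {k t : ℕ} {J : Matrix (Fin k) (Fin k) F} {Sg : Finset (Fin t)}
  {G : Subgroup (GL (Fin t → Fin k) F)}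

/-- a subspace closed under products with all squares of singular vectors is everything -/
theorem SJ.span_of_sing [Finite F] (hJ : SJ J) (S : Submodule F (Matrix (Fin k) (Fin k) F))
    (hmul : ∀ A B, A ∈ S → B ∈ S → A * B ∈ S) (hP : ∀ g, bf J g g = 0 → rk J g g ∈ S) : S = ⊤ := by
  let R : (Fin k → F) → Submodule F (Fin k → F) := fun u =>
    { carrier := {w | rk J u w ∈ S}
      zero_mem' := by
        show rk J u 0 ∈ S
        rw [show rk J u (0 : Fin k → F) = 0 by rw [rk, zero_vecMul, vecMulVec_zero]]; exact S.zero_mem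
      add_mem' := fun {a b} ha hb => by
        show rk J u (a + b) ∈ S
        rw [rk_add_right]; exact S.add_mem ha hb
      smul_mem' := fun c a ha => by
        show rk J u (c • a) ∈ S
        rw [rk_smul_right]; exact S.smul_mem c ha }
  let L : (Fin k → F) → Submodule F (Fin k → F) := fun w =>
    { carrier := {u | rk J u w ∈ S}
      zero_mem' := by
        show rk J 0 w ∈ S
        rw [rk, zero_vecMulVec]; exact S.zero_mem
      add_mem' := fun {a b} ha hb => by
        show rk J (a + b) w ∈ S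
        rw [rk_add_left]; exact S.add_mem ha hb
      smul_mem' := fun c a ha => by
        show rk J (c • a) w ∈ S
        rw [rk_smul_left]; exact S.smul_mem c ha }
  have hR : ∀ p w, p ≠ 0 → bf J p p = 0 → rk J p w ∈ S := fun p w hp0 hp => by
    suffices R p = ⊤ from (this ▸ Submodule.mem_top : w ∈ R p)
    refine hJ.partner_span hp0 hp (R p) fun g hg hpg => ?_
    have h1 := S.smul_mem (bf J p g)⁻¹ (hmul _ _ (hP p hp) (hP g hg))
    rwa [rk_mul_rk, smul_smul, inv_mul_cancel₀ hpg, one_smul] at h1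
  have hall : ∀ u w, rk J u w ∈ S := fun u w => by
    suffices L w = ⊤ from (this ▸ Submodule.mem_top : u ∈ L w)
    refine hJ.iso_span (L w) fun g hg => ?_
    rcases eq_or_ne g 0 with rfl | hg0
    · exact Submodule.zero_mem _
    · exact hR g w hg0 hg
  refine eq_top_iff.2 fun A _ => ?_
  rw [show A = ∑ b, rk J (Pi.single b 1) (A.row b ᵥ* J⁻¹) by
    ext x y
    simp only [rk, Matrix.sum_apply, vecMulVec_apply, vecMul_vecMul, nonsing_inv_mul J hJ.det, vecMul_one,
      Pi.single_apply, ite_mul, one_mul, zero_mul, Finset.sum_ite_eq, Finset.mem_univ, if_true]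
    rfl]
  exact S.sum_mem fun b _ => hall _ _

theorem ne_of_slot_commute [Nonempty (Fin k)] (h2 : 2 ≤ k) {l j : Fin t}
    (h : ∀ A B : Matrix (Fin k) (Fin k) F, Commute (sl l A) (sl (F := F) j B)) : j ≠ l := by
  rintro rfl
  have h1 := h (Matrix.single ⟨0, by omega⟩ ⟨1, by omega⟩ 1) (Matrix.single ⟨1, by omega⟩ ⟨0, by omega⟩ 1)
  rw [Commute, SemiconjBy, sl_mul, sl_mul] at h1
  have h3 := congrFun (congrFun (sl_injective j h1) ⟨0, by omega⟩) ⟨0, by omega⟩
  simp at h3

variable (J Sg G) in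
/-- left multipliers of the components -/
def Lm (i : Fin t) (p e : Fin k → F) (X : Matrix (Fin t → Fin k) (Fin t → Fin k) F) : Prop :=
  Op Sg i X ∧ ∀ T, H J Sg G i p e T → H J Sg G i p e (X * T)

variable (J Sg G) in
/-- all centres of the slot `l` in slot `i` -/
def Rl (i l : Fin t) : Prop :=
  ∀ p : Fin k → F, p ≠ 0 → bf J p p = 0 → ∀ X : Matrix (Fin k) (Fin k) F, adjJ J X = -X → Cc J Sg G i p (sl l X)

namespace Setting

variable [Finite F] (hS : Setting J Sg G)
include hS

/-- the Levi element of two opposite centres -/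
theorem levi {i : Fin t} {p q e : Fin k → F} (hp : bf J p p = 0) (hq : bf J q q = 0) (hpq : bf J p q = 1)
    (hpe : bf J p e = 0) (hqe : bf J q e = 0)
    {Z Z' : Matrix (Fin t → Fin k) (Fin t → Fin k) F} (hZ : Cc J Sg G i p Z) (hZ' : Cc J Sg G i q Z')
    (hz : Z' * Z * Z' = 0) : Lm J Sg G i p e (Z * Z') := by
  have hqp : bf J q p = 1 := by rw [hS.comm', hpq]
  have hep : bf J e p = 0 := by rw [hS.comm', hpe]
  have heq : bf J e q = 0 := by rw [hS.comm', hqe]
  obtain ⟨h, hhd⟩ : ∃ h, h = (1 + sl i (rk J q q) * -Z') * (1 + sl i (rk J p p) * Z) * (1 + sl i (rk J q q) * Z') :=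
    ⟨_, rfl⟩
  have hh : MG G h := hhd ▸ (((hS.Cc_neg hq hZ').2.2.mul hZ.2.2).mul hZ'.2.2)
  have key : ∀ (A A' : Matrix (Fin k) (Fin k) F) (X X' : Matrix (Fin t → Fin k) (Fin t → Fin k) F), Op Sg i X →
      sl i A * X * (sl i A' * X') = sl i (A * A') * (X * X') := fun A A' X X' hX => by
    rw [← sl_mul, mul_assoc, ← mul_assoc X, (hX.self A').eq]
    simp only [mul_assoc]
  have hexp : h = 1 + sl i (rk J p p) * Z + sl i (rk J p q) * (Z * Z') - sl i (rk J q p) * (Z' * Z) := by
    rw [hhd]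
    simp only [mul_neg, neg_mul, add_mul, mul_add, one_mul, mul_one]
    simp only [key _ _ _ _ hZ'.1, key _ _ _ _ (hZ'.1.mul hZ.1), key _ _ _ _ hZ.1, rk_mul_rk, hq, hpq, hqp, one_smul,
      zero_smul, sl_zero, zero_mul, hz, mul_zero, neg_zero, add_zero]
    abel
  have mp : ∀ v w, h * sl i (rk J v w) = sl i (rk J v w) + sl i (bf J p v • rk J p w) * Z +
      sl i (bf J q v • rk J p w) * (Z * Z') - sl i (bf J p v • rk J q w) * (Z' * Z) := fun v w => by
    rw [hexp, sub_mul, add_mul, add_mul, one_mul, mul_assoc (sl i _) Z, (hZ.1.self _).eq,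
      mul_assoc (sl i _) (Z * Z'), ((hZ.1.mul hZ'.1).self _).eq, mul_assoc (sl i _) (Z' * Z),
      ((hZ'.1.mul hZ.1).self _).eq, ← mul_assoc, ← mul_assoc, ← mul_assoc (sl i _) _ (Z' * Z), sl_mul, sl_mul, sl_mul,
      rk_mul_rk, rk_mul_rk, rk_mul_rk]
  have hmp : Maps J i h p p (1 + Z * Z') := fun w => by
    rw [mp, hp, hqp, zero_smul, zero_smul, one_smul, sl_zero, zero_mul, zero_mul, add_zero, sub_zero, mul_add, mul_one]
  have hme : Maps J i h e e 1 := fun w => by
    simp only [mp, hpe, hqe, zero_smul, sl_zero, zero_mul, add_zero, sub_zero, mul_one]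
  refine ⟨hZ.1.mul hZ'.1, fun T hT => ?_⟩
  have h1 : H J Sg G i p e ((1 + Z * Z') * T) := by
    obtain ⟨hTo, Z0, hZ0, hZ0s, hM⟩ := hT
    have hO1 : Op Sg i (1 + Z * Z') := Op.one.add (hZ.1.mul hZ'.1)
    refine ⟨hO1.mul hTo, _, (hO1.mul hZ0).mul (hO1.adj hS.sj.symm hS.sj.det), ?_, ?_⟩
    · rw [hS.adj_mul', hS.adj_mul', hS.adj_adj', hZ0s, neg_mul, mul_neg, mul_assoc]
    · have := hS.rn_conj hh hmp hme hO1.self (fun A => Commute.one_left _)
        (by rw [adj_one hS.GV_det', one_mul]) rfl hTo hZ0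
      rw [adj_one hS.GV_det', mul_one] at this
      exact this ▸ hS.conj_mem hh hM
  have h2 := hS.H_add hp hpe h1 (hS.H_neg hp hpe hT)
  rwa [add_mul, one_mul, add_neg_cancel_comm] at h2

/-- a matrix is not killed by all moved copies of itself -/
theorem separate_T (T : Finset (Fin t)) (hT : ∀ l ∉ Sg, l ∈ T) {R : Matrix (Fin t → Fin k) (Fin t → Fin k) F}
    (hR0 : R ≠ 0) (hR : ∀ j ∈ T, ∀ A, Commute R (sl j A)) :
    ∃ M, MG G M ∧ (∀ j ∈ T, ∀ A, Commute M (sl j A)) ∧ R * M * R ≠ 0 := by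
  classical
  by_contra! hall
  set W := Submodule.span F {M | MG G M ∧ ∀ j ∈ T, ∀ A, Commute M (sl j A)} with hW
  have hA : IsAlg fun M => M ∈ W := by
    refine ⟨Submodule.subset_span ⟨MG.one, fun _ _ _ => Commute.one_left _⟩, fun a b => W.add_mem,
      fun a ha s => W.smul_mem s ha, fun a b ha hb => ?_⟩
    refine Submodule.span_induction₂ (p := fun a b _ _ => a * b ∈ W) ?_ ?_ ?_ ?_ ?_ ?_ ?_ ha hb
    · exact fun x y hx hy => Submodule.subset_span ⟨hx.1.mul hy.1, fun j hj A => (hx.2 j hj A).mul_left (hy.2 j hj A)⟩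
    · intro y _; simp
    · intro x _; simp
    · intro x y z _ _ _ hx hy; rw [add_mul]; exact W.add_mem hx hy
    · intro x y z _ _ _ hx hy; rw [mul_add]; exact W.add_mem hx hy
    · intro c x y _ _ hx; rw [smul_mul_assoc]; exact W.smul_mem c hx
    · intro c x y _ _ hx; rw [mul_smul_comm]; exact W.smul_mem c hx
  have hker : ∀ M ∈ W, R * M * R = 0 := fun M hM => by
    refine Submodule.span_induction (p := fun M _ => R * M * R = 0) (fun x hx => hall x hx.1 hx.2) (by simp)
      (fun x y _ _ hx hy => by rw [mul_add, add_mul, hx, hy, add_zero])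
      (fun c x _ hx => by rw [mul_smul_comm, smul_mul_assoc, hx, smul_zero]) hM
  obtain ⟨x0, y0, hxy⟩ : ∃ x y, R x y ≠ 0 := by
    by_contra! h0; exact hR0 (Matrix.ext h0)
  have heq : ∀ x y, R x y ≠ 0 → ∀ j ∈ T, x j = y j := fun x y h j hj => by
    by_contra hne
    have h1 := congrFun (congrFun (hR j hj (Matrix.single (x j) (x j) 1)).eq x) y
    rw [mul_sl, sl_mulVec] at h1
    simp only [Matrix.single_apply, ite_and, ite_mul, mul_ite, one_mul, mul_one, zero_mul, mul_zero,
      Finset.sum_ite_eq, Finset.mem_univ, if_true, Function.update_eq_self, if_neg hne] at h1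
    exact h h1.symm
  let D : Fin t → Matrix (Fin k) (Fin k) F := fun j => if j ∈ T then 1 else Matrix.single (y0 j) (x0 j) 1
  have hD : tens D ∈ W := hA.prod_slots fun j => by
    by_cases hj : j ∈ T
    · rw [show D j = 1 from if_pos hj, sl_one]; exact hA.one
    · refine hA.slot_of_roots hS.sj (fun p e hp he => Submodule.subset_span ⟨hS.root j ?_ p e hp he, fun i hi A =>
        sl_commute (fun e' : j = i => hj (e' ▸ hi)) _ A⟩) _
      by_contra h; exact hj (hT j h)
  refine hxy ?_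
  have h1 := congrFun (congrFun (hker _ hD) x0) y0
  rw [Matrix.mul_apply, Matrix.zero_apply] at h1
  simp only [Matrix.mul_apply, Finset.sum_mul] at h1
  rw [Finset.sum_eq_single x0, Finset.sum_eq_single y0] at h1
  · have hd : tens D y0 x0 = 1 := by
      rw [tens_apply]
      refine Finset.prod_eq_one fun j _ => ?_
      by_cases hj : j ∈ T
      · simp [D, hj, heq x0 y0 hxy j hj]
      · simp [D, hj]
    rw [hd, mul_one, mul_eq_zero, or_self] at h1
    exact h1
  · intro z _ hz
    by_cases h : R x0 z = 0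
    · rw [h, zero_mul, zero_mul]
    · rw [show tens D z x0 = 0 from ?_, mul_zero, zero_mul]
      rw [tens_apply]
      obtain ⟨j, hj⟩ := Function.ne_iff.1 hz
      refine Finset.prod_eq_zero (Finset.mem_univ j) ?_
      by_cases hjT : j ∈ T
      · refine absurd ?_ hj
        rw [← heq x0 z h j hjT, heq x0 y0 hxy j hjT]
      · simp [D, hjT, Ne.symm hj]
  · exact fun h => absurd (Finset.mem_univ _) h
  · intro z _ hz
    refine Finset.sum_eq_zero fun z' _ => ?_
    by_cases h : R x0 z' = 0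
    · rw [h, zero_mul, zero_mul]
    by_cases h' : R z y0 = 0
    · rw [h', mul_zero]
    rw [show tens D z' z = 0 from ?_, mul_zero, zero_mul]
    rw [tens_apply]
    obtain ⟨j, hj⟩ := Function.ne_iff.1 hz
    refine Finset.prod_eq_zero (Finset.mem_univ j) ?_
    by_cases hjT : j ∈ T
    · refine absurd ?_ hj
      rw [heq z y0 h' j hjT, heq x0 y0 hxy j hjT]
    · simp [D, hjT, Ne.symm hj]
  · exact fun h => absurd (Finset.mem_univ _) h

/-- a slot of components from a centre -/
theorem slot_H {i : Fin t} (hi : i ∈ Sg) {p q e : Fin k → F} (hp0 : p ≠ 0) (hp : bf J p p = 0) (hq : bf J q q = 0)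
    (hpq : bf J p q = 1) (hpe : bf J p e = 0) (hqe : bf J q e = 0)
    {Z : Matrix (Fin t → Fin k) (Fin t → Fin k) F} (hZ : Cc J Sg G i p Z) (hZ0 : Z ≠ 0) (S0 : Finset (Fin t))
    (hS0 : ∀ l ∈ S0, ∀ A, Commute Z (sl l A)) :
    ∃ l ∈ Sg, l ≠ i ∧ l ∉ S0 ∧ ∀ A : Matrix (Fin k) (Fin k) F, H J Sg G i p e (sl l A) := by
  classical
  have hk := hS.sj.kk
  have hne : Nonempty (Fin k) := ⟨⟨0, by omega⟩⟩
  have hJ := hS.sj
  obtain ⟨l, hlS, hli, hl0, pl, u, hpl0, hpl, hplu, hu, R, hR0, hRo, hRl, hRS, hC⟩ := hS.reduce hp hZ hZ0 S0 hS0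
  set T : Finset (Fin t) := S0 ∪ Finset.univ.filter (fun j => j = i ∨ j = l ∨ j ∉ Sg) with hT
  have hmT : ∀ j, j ∈ T ↔ (j ∈ S0 ∨ j = i ∨ j = l ∨ j ∉ Sg) := fun j => by simp [hT]
  obtain ⟨M, hM, hMc, hne0⟩ := hS.separate_T T (fun j hj => (hmT j).2 (Or.inr (Or.inr (Or.inr hj)))) hR0
    fun j hj A => by
      rcases (hmT j).1 hj with h | h | h | h
      · exact hRS j h A
      · exact hRo j (Or.inl h) A
      · exact h ▸ hRl A
      · exact hRo j (Or.inr h) A
  have hMi : ∀ A, Commute M (sl i A) := hMc i ((hmT i).2 (Or.inr (Or.inl rfl)))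
  have hMl : ∀ A, Commute M (sl l A) := hMc l ((hmT l).2 (Or.inr (Or.inr (Or.inl rfl))))
  obtain ⟨hMa, hMM, hMM'⟩ := hS.adj_inv hM
  obtain ⟨R', hR'⟩ : ∃ R', R' = M * R * adjJ (GV J) M := ⟨_, rfl⟩
  have hR'l : ∀ A, Commute R' (sl l A) := fun A => by
    rw [hR']; exact ((hMl A).mul_left (hRl A)).mul_left (adj_commute hJ.symm hJ.det hMl A)
  have hC' : Cc J Sg G i p (sl l (xp J pl u) * R') := by
    refine cast (congrArg (Cc J Sg G i p) ?_) (hS.Cc_conj hM hMi hC)
    rw [hR', ← mul_assoc M, (hMl _).eq]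
    simp only [mul_assoc]
  obtain ⟨c, hc, hCq⟩ := hS.Cc_move hi hp0 hp (fun h => by rw [h, bf, mulVec_zero, dotProduct_zero] at hpq; exact zero_ne_one hpq) hq hC'
  have hmul : ∀ (A B : Matrix (Fin k) (Fin k) F) (X Y : Matrix (Fin t → Fin k) (Fin t → Fin k) F),
      (∀ C, Commute X (sl l C)) → sl l A * X * (sl l B * Y) = sl l (A * B) * (X * Y) := fun A B X Y hX => by
    rw [← sl_mul, mul_assoc, ← mul_assoc X, (hX B).eq]
    simp only [mul_assoc]
  obtain ⟨hx1, hx2⟩ := hJ.xp_mul_rk hpl hplu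
  obtain ⟨K, hKd⟩ : ∃ K, K = sl l (xp J pl u) * R * (c • (sl l (xp J pl u) * R')) := ⟨_, rfl⟩
  have hKe : K = sl l ((-bf J u u) • rk J pl pl) * (c • (R * R')) := by
    rw [hKd, mul_smul_comm, hmul _ _ _ _ hRl, hJ.xp_mul hpl hplu hplu, mul_smul_comm]
  have hLK : Lm J Sg G i p e K := hKd ▸ hS.levi hp hq hpq hpe hqe hC hCq (by
    rw [smul_mul_assoc, smul_mul_assoc, mul_smul_comm, hmul _ _ _ _ hR'l,
      hmul _ _ _ _ (fun A => (hR'l A).mul_left (hRl A)), hJ.xp_mul hpl hplu hplu, smul_mul_assoc, hx2, smul_zero,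
      sl_zero, zero_mul, smul_zero, smul_zero])
  have hKc : ∀ j ∈ T, j ≠ l → ∀ A, Commute K (sl j A) := fun j hj hjl A => by
    have hRj : Commute R (sl j A) := by
      rcases (hmT j).1 hj with h | h | h | h
      · exact hRS j h A
      · exact hRo j (Or.inl h) A
      · exact absurd h hjl
      · exact hRo j (Or.inr h) A
    have hMj := hMc j hj
    have hR'j : Commute R' (sl j A) := by
      rw [hR']; exact ((hMj A).mul_left hRj).mul_left (adj_commute hJ.symm hJ.det hMj A)
    rw [hKe]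
    exact (sl_commute (Ne.symm hjl) _ A).mul_left ((hRj.mul_left hR'j).smul_left c)
  set Sm := {X | Lm J Sg G i p e X ∧ ∀ j ∈ S0, ∀ A, Commute X (sl j A)} with hSm
  set W := Submodule.span F Sm with hW
  have hmemS : ∀ X Y, X ∈ Sm → Y ∈ Sm → X * Y ∈ Sm := fun X Y hX hY =>
    ⟨⟨hX.1.1.mul hY.1.1, fun T' hT' => by rw [mul_assoc]; exact hX.1.2 _ (hY.1.2 T' hT')⟩,
      fun j hj A => (hX.2 j hj A).mul_left (hY.2 j hj A)⟩
  have hInv : Inv J fun X => X ∈ W := by
    refine { one := Submodule.subset_span ⟨⟨Op.one, fun T hT => by rwa [one_mul]⟩, fun _ _ _ => Commute.one_left _⟩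
             add := fun a b => W.add_mem, smul := fun a ha s => W.smul_mem s ha, mul := fun a b ha hb => ?_
             conj := fun a ha j f v hf hfv => ?_ }
    · refine Submodule.span_induction₂ (p := fun a b _ _ => a * b ∈ W) ?_ ?_ ?_ ?_ ?_ ?_ ?_ ha hb
      · exact fun x y hx hy => Submodule.subset_span (hmemS x y hx hy)
      · intro y _; simp
      · intro x _; simp
      · intro x y z _ _ _ hx hy; rw [add_mul]; exact W.add_mem hx hy
      · intro x y z _ _ _ hx hy; rw [mul_add]; exact W.add_mem hx hy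
      · intro c x y _ _ hx; rw [smul_mul_assoc]; exact W.smul_mem c hx
      · intro c x y _ _ hx; rw [mul_smul_comm]; exact W.smul_mem c hx
    · refine Submodule.span_induction (p := fun a _ => sl j (eS J f v) * a * sl j (eS J f (-v)) ∈ W)
        (fun x hx => Submodule.subset_span ?_) (by simp) (fun x y _ _ hx hy => by
          rw [mul_add, add_mul]; exact W.add_mem hx hy) (fun c x _ hx => by
          rw [mul_smul_comm, smul_mul_assoc]; exact W.smul_mem c hx) ha
      have hee : ∀ (X : Matrix (Fin t → Fin k) (Fin t → Fin k) F), (∀ A, Commute X (sl j A)) →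
          sl j (eS J f v) * X * sl j (eS J f (-v)) = X := fun X hX => by
        rw [mul_assoc, (hX _).eq, ← mul_assoc, sl_mul, hJ.eS_inv hf hfv, sl_one, one_mul]
      by_cases hcase : j = i ∨ j ∉ Sg ∨ j ∈ S0
      · rw [hee x fun A => ?_]
        · exact hx
        · rcases hcase with h | h | h
          · exact hx.1.1 j (Or.inl h) A
          · exact hx.1.1 j (Or.inr h) A
          · exact hx.2 j h A
      simp only [not_or, not_not] at hcase
      obtain ⟨hg, hg'⟩ := hS.mg_root hcase.2.1 hf hfv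
      have hgi : ∀ A, Commute (sl j (eS J f v)) (sl i A) := sl_commute hcase.1 _
      obtain ⟨hga, hgg, -⟩ := hS.adj_inv hg
      rw [← hg']
      refine ⟨⟨((Op.slot hcase.2.1 hcase.1 _).mul hx.1.1).mul ((Op.slot hcase.2.1 hcase.1 _).adj hJ.symm hJ.det),
        fun T' hT' => ?_⟩, fun m hm A => ?_⟩
      · have hT'' := hS.H_conj hga (adj_commute hJ.symm hJ.det hgi) hT'
        rw [hS.adj_adj'] at hT''
        have := hS.H_conj hg hgi (hx.1.2 _ hT'')
        refine cast (congrArg (H J Sg G i p e) ?_) this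
        simp only [mul_assoc, (hS.adj_inv hg).2.2, mul_one]
      · have hjm : j ≠ m := fun e' => hcase.2.2 (e' ▸ hm)
        rw [hg']
        exact ((sl_commute hjm _ A).mul_left (hx.2 m hm A)).mul_left (sl_commute hjm _ A)
  have hKW : K ∈ W := Submodule.subset_span ⟨hLK, fun j hj => hKc j ((hmT j).2 (Or.inl hj)) fun e' => hl0 (e' ▸ hj)⟩
  have hKns : ∀ κ : F, K ≠ κ • (1 : Matrix (Fin t → Fin k) (Fin t → Fin k) F) := fun κ hκ => by
    have hRR : R * R' ≠ 0 := fun h => hne0 (by
      calc R * M * R = R * (M * R * (adjJ (GV J) M * M)) := by rw [hMM, mul_one, mul_assoc]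
        _ = R * R' * M := by rw [hR']; simp only [mul_assoc]
        _ = 0 := by rw [h, zero_mul])
    have hsq : K * K = 0 := by
      rw [hKe, hmul _ _ _ _ (fun A => ((hRl A).mul_left (hR'l A)).smul_left c), smul_mul_assoc, mul_smul_comm,
        rk_mul_rk, hpl, zero_smul, smul_zero, smul_zero, sl_zero, zero_mul]
    rw [hκ, smul_mul_assoc, one_mul, smul_smul, smul_eq_zero, mul_self_eq_zero] at hsq
    have hκ0 : κ = 0 := hsq.resolve_right one_ne_zero
    rw [hκ0, zero_smul, hKe] at hκ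
    exact smul_ne_zero hc hRR (eq_zero_of_sl_mul (i := l) (smul_ne_zero (neg_ne_zero.2 hu) (hJ.rk_ne hpl0 hpl0))
      (fun A => ((hRl A).mul_left (hR'l A)).smul_left c) hκ)
  obtain ⟨l', hl'⟩ := hInv.exists_slot hJ hKW hKns
  let Good' : Submodule F (Matrix (Fin t → Fin k) (Fin t → Fin k) F) :=
    { carrier := {X | Op Sg i X ∧ (∀ j ∈ S0, ∀ A, Commute X (sl j A)) ∧ ∀ s : F, H J Sg G i p e (s • X)}
      zero_mem' := ⟨Op.zero, fun _ _ _ => Commute.zero_left _, fun s => by
        have := hS.H_scalar hi hp hpe (0 : F); rw [zero_smul] at this; rwa [smul_zero]⟩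
      add_mem' := fun {a b} ha hb => ⟨ha.1.add hb.1, fun j hj A => (ha.2.1 j hj A).add_left (hb.2.1 j hj A),
        fun s => by rw [smul_add]; exact hS.H_add hp hpe (ha.2.2 s) (hb.2.2 s)⟩
      smul_mem' := fun c a ha => ⟨ha.1.smul c, fun j hj A => (ha.2.1 j hj A).smul_left c,
        fun s => by rw [smul_smul]; exact ha.2.2 _⟩ }
  have hsub : W ≤ Good' := Submodule.span_le.2 fun X hX => ⟨hX.1.1, hX.2, fun s => by
    have := hX.1.2 _ (hS.H_scalar hi hp hpe s)
    rwa [mul_smul_comm, mul_one] at this⟩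
  have h3 := fun A => hsub (hl' A)
  have hl'i : l' ≠ i ∧ l' ∈ Sg ∧ l' ∉ S0 := by
    refine ⟨fun e' => ne_of_slot_commute (F := F) (t := t) (by omega) (l := l') (j := i) (fun A B => (h3 A).1.self B)
      e'.symm, ?_, fun h => ne_of_slot_commute (F := F) (t := t) (by omega) (l := l') (j := l')
      (fun A B => (h3 A).2.1 l' h B) rfl⟩
    by_contra h
    exact ne_of_slot_commute (F := F) (t := t) (by omega) (l := l') (j := l') (fun A B => (h3 A).1 l' (Or.inr h) B) rfl
  exact ⟨l', hl'i.2.1, hl'i.1, hl'i.2.2, fun A => by simpa using (h3 A).2.2 1⟩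

/-- all centres of one slot from a centre -/
theorem rl_of_centre {i : Fin t} (hi : i ∈ Sg) {p : Fin k → F} (hp0 : p ≠ 0) (hp : bf J p p = 0)
    {Z : Matrix (Fin t → Fin k) (Fin t → Fin k) F} (hZ : Cc J Sg G i p Z) (hZ0 : Z ≠ 0) (S0 : Finset (Fin t))
    (hS0 : ∀ l ∈ S0, ∀ A, Commute Z (sl l A)) : ∃ l ∈ Sg, l ≠ i ∧ l ∉ S0 ∧ Rl J Sg G i l := by
  have hJ := hS.sj
  obtain ⟨q, e, hq, hpq, hpe, hqe, he⟩ := hJ.exists_frame hp0 hp
  obtain ⟨l, hl, hli, hl0, hH⟩ := hS.slot_H hi hp0 hp hq hpq hpe hqe hZ hZ0 S0 hS0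
  refine ⟨l, hl, hli, hl0, fun p' hp0' hp' => hJ.transport
    (fun v => ∀ X, adjJ J X = -X → Cc J Sg G i v (sl l X)) ?_ ?_ hp0 hp hp0' hp' fun X hX => ?_⟩
  · intro v a ha hv X hX
    obtain ⟨h1, h2, h3⟩ := hv ((a * a) • X) (by rw [adj_smul, hX, smul_neg])
    refine ⟨Op.slot hl hli X, by rw [adj_sl hJ.det, hX, ← neg_one_smul F X, sl_smul, neg_one_smul], cast (congrArg (MG G) ?_) h3⟩
    rw [rk_smul_left, rk_smul_right, smul_smul, sl_smul, sl_smul, smul_mul_assoc, mul_smul_comm]
  · intro a f v ha hf hv X hX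
    obtain ⟨h1, h2, h3⟩ := hv X hX
    obtain ⟨hg, hg'⟩ := hS.mg_root hi ha hf
    refine ⟨h1, h2, cast (congrArg (MG G) ?_) (hS.conj_mem hg h3)⟩
    rw [mul_add, mul_one, add_mul, (hS.adj_inv hg).2.2, ← mul_assoc (sl i (eS J a f)), sl_mul, mul_assoc,
      adj_sl hJ.det, (h1.self _).eq, ← mul_assoc, sl_mul, mul_rk, hJ.rk_mul, adj_adj hJ.symm hJ.det]
  · have h1 := hS.Cc_comm hp hpe (hH ((-(2 * bf J e e))⁻¹ • X)) (hS.H_scalar hi hp hpe 1)
    refine cast (congrArg (Cc J Sg G i p) ?_) h1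
    rw [one_smul, adj_one hS.GV_det', one_mul, mul_one, adj_sl hJ.det, adj_smul, hX, sl_smul, sl_smul,
      ← neg_one_smul F X, sl_smul]
    have h2 := hJ.two
    match_scalars <;> field_simp <;> ring

/-- left multiplication by the slot -/
theorem rl_Lm {i l : Fin t} (hi : i ∈ Sg) (hl : l ∈ Sg) (hli : l ≠ i) (h : Rl J Sg G i l) {p q e : Fin k → F}
    (hp0 : p ≠ 0) (hp : bf J p p = 0) (hq : bf J q q = 0)
    (hpq : bf J p q = 1) (hpe : bf J p e = 0) (hqe : bf J q e = 0) (A : Matrix (Fin k) (Fin k) F) :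
    Lm J Sg G i p e (sl l A) := by
  have hJ := hS.sj
  let W : Submodule F (Matrix (Fin k) (Fin k) F) :=
    { carrier := {A | ∀ s : F, Lm J Sg G i p e (sl l (s • A))}
      zero_mem' := fun s => by
        rw [smul_zero, sl_zero]
        refine ⟨Op.zero, fun T hT => ?_⟩
        have := hS.H_scalar hi hp hpe (0 : F); rw [zero_smul] at this
        rwa [zero_mul]
      add_mem' := fun {a b} ha hb s => by
        rw [smul_add, sl_add]
        exact ⟨(ha s).1.add (hb s).1, fun T hT => by rw [add_mul]; exact hS.H_add hp hpe ((ha s).2 T hT) ((hb s).2 T hT)⟩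
      smul_mem' := fun c a ha s => by rw [smul_smul]; exact ha _ }
  have hW : W = ⊤ := by
    refine hJ.span_of_sing W (fun a b ha hb s => ?_) (fun g hg s => ?_)
    · have h1 := ha s
      have h2 := hb 1
      rw [one_smul] at h2
      rw [← smul_mul_assoc, ← sl_mul]
      exact ⟨h1.1.mul h2.1, fun T hT => by rw [mul_assoc]; exact h1.2 _ (h2.2 T hT)⟩
    · rcases eq_or_ne g 0 with rfl | hg0
      · rw [rk, zero_vecMulVec, smul_zero, sl_zero]
        exact ⟨Op.zero, fun T hT => by
          have := hS.H_scalar hi hp hpe (0 : F); rw [zero_smul] at this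
          rwa [zero_mul]⟩
      obtain ⟨g', u, -, -, hgu, -, hu⟩ := hJ.exists_frame hg0 hg
      have hq0 : q ≠ 0 := fun e' => by rw [e', bf, mulVec_zero, dotProduct_zero] at hpq; exact zero_ne_one hpq
      have hskew : ∀ c : F, adjJ J (c • xp J g u) = -(c • xp J g u) := fun c => by
        rw [adj_smul, xp, adj_sub, hJ.adjJ_rk, hJ.adjJ_rk, ← smul_neg, neg_sub]
      have hmm : ∀ A B : Matrix (Fin k) (Fin k) F, sl (β := Fin t) l A * sl l B = sl l (A * B) := sl_mul l
      have h1 := hS.levi hp hq hpq hpe hqe (h p hp0 hp _ (hskew (-(s / bf J u u)))) (h q hq0 hq _ (hskew 1)) (by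
        rw [hmm, hmm, smul_mul_smul_comm, smul_mul_smul_comm, hJ.xp_mul hg hgu hgu, smul_mul_assoc,
          (hJ.xp_mul_rk hg hgu).2, smul_zero, smul_zero, sl_zero])
      rw [hmm, smul_mul_smul_comm, hJ.xp_mul hg hgu hgu, smul_smul] at h1
      refine cast (congrArg (fun c : F => Lm J Sg G i p e (sl l (c • rk J g g))) ?_) h1
      field_simp
  have h1 := (show A ∈ W from hW ▸ Submodule.mem_top) 1
  rwa [one_smul] at h1

theorem rl_symm {i l : Fin t} (hi : i ∈ Sg) (hl : l ∈ Sg) (hli : l ≠ i) (h : Rl J Sg G i l) : Rl J Sg G l i := by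
  have hJ := hS.sj
  obtain ⟨p, hp0, hp⟩ := hJ.exists_iso
  obtain ⟨q, w, hq, hpq, hpw, hqw, hw⟩ := hJ.exists_frame hp0 hp
  have hH : ∀ g, bf J g g = 0 → H J Sg G l p w (sl i (rk J g g)) := fun g hg => by
    rcases eq_or_ne g 0 with rfl | hg0
    · rw [rk, zero_vecMulVec, sl_zero]
      have := hS.H_scalar hl hp hpw (0 : F)
      rwa [zero_smul] at this
    refine ⟨Op.slot hi hli.symm _, 0, Op.zero, by rw [adj_zero, neg_zero], ?_⟩
    obtain ⟨-, -, h3⟩ := h g hg0 hg (xp J p w) (by rw [xp, adj_sub, hJ.adjJ_rk, hJ.adjJ_rk, neg_sub])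
    refine cast (congrArg (MG G) ?_) h3
    rw [rn, adj_sl hJ.det, hJ.adjJ_rk, sl_mul, rk_mul_rk, hg, zero_smul, sl_zero, smul_zero, sub_zero, mul_zero,
      add_zero, xp, sub_eq_add_neg (rk J p w), ← neg_one_smul F (rk J w p), sl_add, sl_smul, neg_one_smul,
      ← sub_eq_add_neg, mul_sub, (sl_commute (β := Fin t) hli.symm _ _).eq,
      (sl_commute (β := Fin t) hli.symm (rk J g g) (rk J w p)).eq]
    abel
  have h1 := hS.Cc_comm hp hpw (hH p hp) (hH q hq)
  have hne : (bf J w w) • (sl i (rk J q q) * adjJ (GV J) (sl i (rk J p p)) -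
      sl i (rk J p p) * adjJ (GV J) (sl i (rk J q q))) ≠ 0 := by
    rw [adj_sl hJ.det, adj_sl hJ.det, hJ.adjJ_rk, hJ.adjJ_rk, sl_mul, sl_mul, rk_mul_rk, rk_mul_rk, hS.comm' q p, hpq,
      one_smul, one_smul]
    refine smul_ne_zero hw (sub_ne_zero.2 fun e => ?_)
    have hne' : Nonempty (Fin k) := ⟨⟨0, by have := hJ.kk; omega⟩⟩
    have h2 := congrArg (· *ᵥ q) (sl_injective i e)
    simp only [rk_mulVec, hpq, hq, zero_smul, one_smul] at h2
    rw [h2] at hpq
    simp [bf] at hpq
  obtain ⟨l', hl', -, hl'0, hR⟩ := hS.rl_of_centre hl hp0 hp h1 hne (Finset.univ.erase i) fun j hj A => by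
    have hji : i ≠ j := (Finset.ne_of_mem_erase hj).symm
    have hs : ∀ B : Matrix (Fin k) (Fin k) F, Commute (sl (β := Fin t) i B) (sl j A) := fun B => sl_commute hji B A
    rw [adj_sl hJ.det, adj_sl hJ.det]
    exact (((hs _).mul_left (hs _)).sub_left ((hs _).mul_left (hs _))).smul_left _
  rwa [show l' = i by simpa using hl'0] at hR

theorem rl_perm {i l : Fin t} (hl : l ∈ Sg) (hli : l ≠ i) (h : Rl J Sg G i l) (σ : Equiv.Perm (Fin t))
    (hσ : Equiv.Perm.sign σ = 1) (hfix : ∀ j ∉ Sg, σ j = j) : Rl J Sg G (σ i) (σ l) := by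
  intro p hp0 hp X hX
  have hl' : σ l ∈ Sg := by
    by_contra hc
    exact hc (show σ l ∈ Sg from (σ.injective (hfix _ hc)).symm ▸ hl)
  refine ⟨Op.slot hl' (σ.injective.ne hli) X, by
    rw [adj_sl hS.sj.det, hX, ← neg_one_smul F X, sl_smul, neg_one_smul], ?_⟩
  obtain ⟨g, hg, hge⟩ := (h p hp0 hp X hX).2.2
  have hp' := hS.perm σ hσ hfix
  refine ⟨Asch.permU σ * g * (Asch.permU σ)⁻¹, G.mul_mem (G.mul_mem hp' hg) (G.inv_mem hp'), ?_⟩
  rw [Units.val_mul, Units.val_mul, hge, mul_add, mul_one, add_mul, ← Units.val_mul, mul_inv_cancel, Units.val_one]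
  congr 1
  rw [← permU_conj σ i (rk J p p), ← permU_conj σ l X]
  simp only [mul_assoc]
  rw [← mul_assoc (((Asch.permU σ)⁻¹ : GL (Fin t → Fin k) F) : Matrix (Fin t → Fin k) (Fin t → Fin k) F),
    ← Units.val_mul, inv_mul_cancel, Units.val_one, one_mul]

theorem rl_all {i l : Fin t} (hi : i ∈ Sg) (hl : l ∈ Sg) (hli : l ≠ i) (h : Rl J Sg G i l) {a b : Fin t}
    (ha : a ∈ Sg) (hb : b ∈ Sg) (hab : b ≠ a) : Rl J Sg G a b := by
  classical
  have step : ∀ i l m : Fin t, i ∈ Sg → l ∈ Sg → m ∈ Sg → l ≠ i → m ≠ i → m ≠ l → Rl J Sg G i l → Rl J Sg G l m := by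
    intro i l m hi hl hm hli hmi hml h
    have hσ := hS.rl_perm hl hli h (Equiv.swap i m * Equiv.swap l i)
      (by rw [map_mul, Equiv.Perm.sign_swap hmi.symm, Equiv.Perm.sign_swap hli]; rfl)
      (fun j hj => by
        rw [Equiv.Perm.mul_apply, Equiv.swap_apply_of_ne_of_ne (fun e : j = l => hj (e ▸ hl))
          (fun e : j = i => hj (e ▸ hi)), Equiv.swap_apply_of_ne_of_ne (fun e : j = i => hj (e ▸ hi))
          (fun e : j = m => hj (e ▸ hm))])
    simpa [Equiv.swap_apply_of_ne_of_ne hli hml.symm, Equiv.swap_apply_of_ne_of_ne hml hmi] using hσ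
  have hfrom : ∀ m ∈ Sg, m ≠ l → Rl J Sg G l m := fun m hm hml => by
    rcases eq_or_ne m i with rfl | hmi
    · exact hS.rl_symm hi hl hli h
    · exact step i l m hi hl hm hli hmi hml h
  rcases eq_or_ne a l with rfl | hal
  · exact hfrom b hb hab
  have hal' := hfrom a ha hal
  rcases eq_or_ne b l with rfl | hbl
  · exact hS.rl_symm hl ha hal hal'
  · exact step l a b hl ha hb hal hbl hab hal'

/-- everything from one centre -/
theorem full_of_centre {i : Fin t} (hi : i ∈ Sg) {p : Fin k → F} (hp0 : p ≠ 0) (hp : bf J p p = 0)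
    {Z : Matrix (Fin t → Fin k) (Fin t → Fin k) F} (hZ : Cc J Sg G i p Z) (hZ0 : Z ≠ 0) : Full J Sg G := by
  classical
  have hJ := hS.sj
  have hne : Nonempty (Fin k) := ⟨⟨0, by have := hJ.kk; omega⟩⟩
  obtain ⟨l, hl, hli, -, hR⟩ := hS.rl_of_centre hi hp0 hp hZ hZ0 ∅ fun j hj => absurd hj (Finset.notMem_empty j)
  intro j hj g hg X hXo hXs
  rcases eq_or_ne g 0 with rfl | hg0
  · rw [rk, zero_vecMulVec, sl_zero, zero_mul, add_zero]; exact MG.one
  obtain ⟨q, w, hq, hgq, hgw, hqw, hw⟩ := hJ.exists_frame hg0 hg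
  let W : Submodule F (Matrix (Fin t → Fin k) (Fin t → Fin k) F) :=
    { carrier := {X | ∀ s : F, Lm J Sg G j g w (s • X)}
      zero_mem' := fun s => by
        rw [smul_zero]
        refine ⟨Op.zero, fun T hT => ?_⟩
        have := hS.H_scalar hj hg hgw (0 : F); rw [zero_smul] at this
        rwa [zero_mul]
      add_mem' := fun {a b} ha hb s => by
        rw [smul_add]
        exact ⟨(ha s).1.add (hb s).1, fun T hT => by rw [add_mul]; exact hS.H_add hg hgw ((ha s).2 T hT) ((hb s).2 T hT)⟩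
      smul_mem' := fun c a ha s => by rw [smul_smul]; exact ha _ }
  have hslot : ∀ m ∈ Sg, m ≠ j → ∀ A, sl m A ∈ W := fun m hm hmj A s => by
    rw [← sl_smul]
    exact hS.rl_Lm hj hm hmj (hS.rl_all hi hl hli hR hj hm hmj) hg0 hg hq hgq hgw hqw _
  obtain ⟨m, hm, hmj⟩ : ∃ m ∈ Sg, m ≠ j := by
    rcases eq_or_ne i j with rfl | h
    · exact ⟨l, hl, hli⟩
    · exact ⟨i, hi, h⟩
  have hone : (1 : Matrix (Fin t → Fin k) (Fin t → Fin k) F) ∈ W := by
    rw [← sl_one (F := F) (κ := Fin k) m]; exact hslot m hm hmj 1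
  have hmulW : ∀ a b, a ∈ W → b ∈ W → a * b ∈ W := fun a b ha hb s => by
    have h1 := ha s
    have h2 := hb 1
    rw [one_smul] at h2
    rw [← smul_mul_assoc]
    exact ⟨h1.1.mul h2.1, fun T hT => by rw [mul_assoc]; exact h1.2 _ (h2.2 T hT)⟩
  have hall : ∀ (s : Finset (Fin t)), (∀ m ∈ s, m ∈ Sg ∧ m ≠ j) → ∀ M : Matrix (Fin t → Fin k) (Fin t → Fin k) F,
      (∀ m ∉ s, ∀ A, Commute M (sl m A)) → M ∈ W := by
    intro s
    induction s using Finset.induction_on with
    | empty =>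
      intro _ M hM
      obtain ⟨κ, hκ⟩ := eq_smul_one_of_commute M fun m A => (hM m (Finset.notMem_empty m) A).eq
      rw [hκ]
      exact W.smul_mem κ hone
    | insert n s hns ih =>
      intro hs M hM
      let φ : Fin k → Fin k → (Matrix (Fin k) (Fin k) F →ₗ[F] F) := fun a b =>
        { toFun := fun S => S a b, map_add' := fun _ _ => rfl, map_smul' := fun _ _ => rfl }
      have hφ : ∀ a b S, φ a b S = S a b := fun _ _ _ => rfl
      have hsum : M = ∑ a, ∑ b, sl n (Matrix.single a b 1) * lift n (φ a b) M := by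
        refine sub_eq_zero.1 (eq_zero_of_slices n fun x y => ?_)
        have hsum' : ∀ {γ : Type} (s : Finset γ) (f : γ → Matrix (Fin t → Fin k) (Fin t → Fin k) F),
            slice' (∑ m ∈ s, f m) n x y = ∑ m ∈ s, slice' (f m) n x y := fun s f => by
          ext a b
          simp [slice', Matrix.sum_apply]
        rw [slice'_sub, hsum', sub_eq_zero]
        simp only [hsum', slice'_sl_mul]
        ext a b
        simp only [Matrix.sum_apply, Matrix.mul_apply, Matrix.single_apply, slice', Matrix.of_apply, lift,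
          Function.update_self, Function.update_idem, ite_and, ite_mul, one_mul, zero_mul, hφ, mul_ite, mul_zero, Finset.sum_ite_eq, Finset.mem_univ, if_true]
        rw [Finset.sum_eq_single a (fun a' _ ha' => by simp [ha']) (fun h => absurd (Finset.mem_univ a) h),
          Finset.sum_eq_single b (fun b' _ hb' => by simp [hb']) (fun h => absurd (Finset.mem_univ b) h)]
        simp
      rw [hsum]
      refine W.sum_mem fun a _ => W.sum_mem fun b _ => hmulW _ _
        (hslot n (hs n (Finset.mem_insert_self _ _)).1 (hs n (Finset.mem_insert_self _ _)).2 _)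
        (ih (fun m hm => hs m (Finset.mem_insert_of_mem hm)) _ fun m' hm' A => ?_)
      rcases eq_or_ne m' n with rfl | hne'
      · exact lift_commute _ _ _ A
      · have hc := hM m' (fun h => (Finset.mem_insert.1 h).elim hne' hm') A
        have e1 : lift n (φ a b) (M * sl m' A) = lift n (φ a b) M * sl m' A := by
          ext x y
          simp only [lift, Matrix.of_apply, mul_sl, hφ,
            Function.update_of_ne hne'.symm, Function.update_of_ne hne']
          split_ifs with h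
          · refine Finset.sum_congr rfl fun c _ => ?_
            rw [Function.update_comm hne']
          · exact (Finset.sum_eq_zero fun c _ => zero_mul _).symm
        have e2 : lift n (φ a b) (sl m' A * M) = sl m' A * lift n (φ a b) M := by
          ext x y
          simp only [lift, Matrix.of_apply, sl_mulVec, hφ,
            Function.update_of_ne hne'.symm, Function.update_of_ne hne']
          split_ifs with h
          · refine Finset.sum_congr rfl fun c _ => ?_
            rw [Function.update_comm hne']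
          · exact (Finset.sum_eq_zero fun c _ => mul_zero _).symm
        show _ = _
        rw [← e1, hc.eq, e2]
  have hXW : (-(2 * bf J w w))⁻¹ • X ∈ W := W.smul_mem _ (hall (Sg.erase j) (fun m hm => ⟨Finset.mem_of_mem_erase hm,
    Finset.ne_of_mem_erase hm⟩) X fun m hm => hXo m (by
      by_cases h : m = j
      · exact Or.inl h
      · exact Or.inr fun h' => hm (Finset.mem_erase.2 ⟨h, h'⟩)))
  have h1 := (hXW 1).2 _ (hS.H_scalar hj hg hgw 1)
  rw [one_smul, one_smul, mul_one] at h1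
  have h2 := hS.Cc_comm hg hgw h1 (hS.H_scalar hj hg hgw 1)
  refine cast (congrArg (fun Y => MG G (1 + sl j (rk J g g) * Y)) ?_) h2.2.2
  rw [one_smul, adj_one hS.GV_det', one_mul, mul_one, adj_smul, hXs]
  have h3 := hJ.two
  match_scalars <;> field_simp <;> ring

/-- a component that is not scalar -/
theorem full_of_comp {i : Fin t} (hi : i ∈ Sg) {p e : Fin k → F} (hp0 : p ≠ 0) (hp : bf J p p = 0)
    (hpe : bf J p e = 0) (he : bf J e e ≠ 0) {T : Matrix (Fin t → Fin k) (Fin t → Fin k) F} (hT : H J Sg G i p e T)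
    (hns : ∀ c : F, T ≠ c • (1 : Matrix (Fin t → Fin k) (Fin t → Fin k) F)) : Full J Sg G := by
  classical
  have hJ := hS.sj
  have hne : Nonempty (Fin k) := ⟨⟨0, by have := hJ.kk; omega⟩⟩
  by_contra hF
  have hsym : ∀ A B, H J Sg G i p e A → H J Sg G i p e B → B * adjJ (GV J) A = A * adjJ (GV J) B := fun A B hA hB => by
    refine sub_eq_zero.1 ((smul_eq_zero.1 ?_).resolve_left he)
    by_contra h
    exact hF (hS.full_of_centre hi hp0 hp (hS.Cc_comm hp hpe hA hB) h)
  have hs1 : H J Sg G i p e 1 := by simpa using hS.H_scalar hi hp hpe 1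
  have hadj : ∀ A, H J Sg G i p e A → adjJ (GV J) A = A := fun A hA => by
    have := hsym A 1 hA hs1
    rwa [one_mul, adj_one hS.GV_det', mul_one] at this
  have hcomm : ∀ A B, H J Sg G i p e A → H J Sg G i p e B → B * A = A * B := fun A B hA hB => by
    have := hsym A B hA hB
    rwa [hadj A hA, hadj B hB] at this
  set Sa := {X | H J Sg G i p e X} with hSa
  set W := Algebra.adjoin F Sa with hW
  have hInv : Inv J fun X => X ∈ W := by
    refine { one := W.one_mem, add := fun a b => W.add_mem, smul := fun a ha s => W.smul_mem ha s,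
             mul := fun a b => W.mul_mem, conj := fun a ha j f v hf hfv => ?_ }
    have hee : ∀ (X : Matrix (Fin t → Fin k) (Fin t → Fin k) F), (∀ A, Commute X (sl j A)) →
        sl j (eS J f v) * X * sl j (eS J f (-v)) = X := fun X hX => by
      rw [mul_assoc, (hX _).eq, ← mul_assoc, sl_mul, hJ.eS_inv hf hfv, sl_one, one_mul]
    induction ha using Algebra.adjoin_induction with
    | mem x hx =>
      by_cases hcase : j = i ∨ j ∉ Sg
      · rw [hee x (hx.1 j hcase)]; exact Algebra.subset_adjoin hx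
      · simp only [not_or, not_not] at hcase
        obtain ⟨hg, hg'⟩ := hS.mg_root hcase.2 hf hfv
        rw [← hg']
        exact Algebra.subset_adjoin (hS.H_conj hg (sl_commute hcase.1 _) hx)
    | algebraMap r =>
      rw [Algebra.algebraMap_eq_smul_one, hee _ fun A => (Commute.one_left _).smul_left r,
        ← Algebra.algebraMap_eq_smul_one]
      exact W.algebraMap_mem r
    | add x y _ _ hx hy => rw [mul_add, add_mul]; exact W.add_mem hx hy
    | mul x y _ _ hx hy =>
      have : sl j (eS J f v) * (x * y) * sl j (eS J f (-v)) =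
          sl j (eS J f v) * x * sl j (eS J f (-v)) * (sl j (eS J f v) * y * sl j (eS J f (-v))) := by
        have e1 : sl j (eS J f (-v)) * sl (β := Fin t) j (eS J f v) = 1 := by
          have hfv' : bf J f (-v) = 0 := by rw [← neg_one_smul F v, bf_smul_right, hfv, mul_zero]
          have := hJ.eS_inv hf hfv'
          rw [neg_neg] at this
          rw [sl_mul, this, sl_one]
        simp only [mul_assoc]
        rw [← mul_assoc (sl j (eS J f (-v))) (sl j (eS J f v)), e1, one_mul]
      rw [this]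
      exact W.mul_mem hx hy
  obtain ⟨l, hl⟩ := hInv.exists_slot hJ (Algebra.subset_adjoin hT) hns
  have hWc : ∀ a ∈ W, ∀ b ∈ W, Commute a b := fun a ha b hb => by
    refine Algebra.commute_of_mem_adjoin_of_forall_mem_commute hb fun y hy => ?_
    exact (Algebra.commute_of_mem_adjoin_of_forall_mem_commute ha fun z hz => hcomm z y hz hy).symm
  exact ne_of_slot_commute (F := F) (t := t) (by have := hJ.kk; omega) (l := l) (j := l)
    (fun A B => hWc _ (hl A) _ (hl B)) rfl

/-- without full centres the radical elements with one axis are slot root elements -/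
theorem rn_slot (hF : ¬ Full J Sg G) {i : Fin t} (hi : i ∈ Sg) {p e : Fin k → F} (hp0 : p ≠ 0) (hp : bf J p p = 0)
    (hpe : bf J p e = 0) (he : bf J e e ≠ 0) {T Z : Matrix (Fin t → Fin k) (Fin t → Fin k) F} (hTo : Op Sg i T)
    (hZo : Op Sg i Z) (hZs : adjJ (GV J) Z = -Z) (hM : MG G (rn J i p e T Z)) : ∃ s : F, T = s • 1 ∧ Z = 0 := by
  obtain ⟨s, hs⟩ : ∃ s : F, T = s • 1 := by
    by_contra! h
    exact hF (hS.full_of_comp hi hp0 hp hpe he ⟨hTo, Z, hZo, hZs, hM⟩ h)
  refine ⟨s, hs, by_contra fun hZ => hF (hS.full_of_centre hi hp0 hp (Z := Z) ⟨hZo, hZs, ?_⟩ hZ)⟩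
  have h1 := hM.mul (hS.rn_scalar hp hpe (-s) ▸ hS.root i hi p _ hp (by rw [bf_smul_right, hpe, mul_zero]))
  rw [hS.rn_mul hp hpe hTo (Op.one.smul _) hZo Op.zero, hs, ← add_smul, add_neg_cancel, zero_smul, rn_zero] at h1
  refine cast (congrArg (fun Y => MG G (1 + sl i (rk J p p) * Y)) ?_) h1
  simp [adj_neg, adj_smul, adj_one hS.GV_det', smul_smul, mul_comm]

end Setting

end Cfsg.Agent.ClassicalMax.OOWreath
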