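import Cfsg.Agent.ClassicalMax.OOWreath.RadBasic

/-!
A non-zero centre gives one that is a root operator in one slot times a matrix of the other slots, and a Levi element
multiplying the components by a nilpotent.
-/

set_option autoImplicit false
set_option linter.unusedSectionVars false
set_option linter.unusedSimpArgs false

namespace Cfsg.Agent.ClassicalMax.OOWreath

open Matrix Cfsg.Agent.ClassicalMax.TPow
open Cfsg.Agent.ClassicalMax.SpWreath (GV GV_det)

variable {F : Type*} [Field F] {k t : ℕ} {J : Matrix (Fin k) (Fin k) F} {Sg : Finset (Fin t)}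
  {G : Subgroup (GL (Fin t → Fin k) F)}

theorem eS_adj (hJ : SJ J) {p e : Fin k → F} (hp : bf J p p = 0) (he : bf J p e = 0) :
    adjJ J (eS J p e) = eS J p (-e) := by
  have he' : bf J p (-e) = 0 := by rw [← neg_one_smul F e, bf_smul_right, he, mul_zero]
  have hq : bf J (-e) (-e) = bf J e e := by
    rw [← neg_one_smul F e, bf_smul_left, bf_smul_right]; ring
  rw [hJ.eS_eq hp he, hJ.eS_eq hp he', hq, xp_neg, xp, adj_add, adj_add, adj_one hJ.det, adj_sub, adj_smul,
    hJ.adjJ_rk, hJ.adjJ_rk, hJ.adjJ_rk, neg_sub]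

namespace SJ

variable (hJ : SJ J)
include hJ

/-- a vector orthogonal to an orthogonal basis vanishes -/
theorem eq_zero_of_orth {n : ℕ} (hn : n = k) (f : Fin n → Fin k → F) (hf : ∀ a b, a ≠ b → bf J (f a) (f b) = 0)
    (hf0 : ∀ a, bf J (f a) (f a) ≠ 0) {z : Fin k → F} (hz : ∀ a, bf J (f a) z = 0) : z = 0 := by
  classical
  subst hn
  have hsum : ∀ (u : Fin n → F) (g : Fin n → Fin n → F) (s : Finset (Fin n)),
      bf J u (∑ a ∈ s, g a) = ∑ a ∈ s, bf J u (g a) := fun u g s => by
    induction s using Finset.induction_on with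
    | empty => simp [bf]
    | insert a s ha ih => rw [Finset.sum_insert ha, Finset.sum_insert ha, bf_add_right, ih]
  have hli : LinearIndependent F f := Fintype.linearIndependent_iff.2 fun g hg a => by
    have h := congrArg (bf J (f a)) hg
    rw [hsum, Finset.sum_eq_single a (fun b _ hb => by rw [bf_smul_right, hf a b (Ne.symm hb), mul_zero])
      (fun h => absurd (Finset.mem_univ a) h), bf_smul_right] at h
    have h0 : bf J (f a) (0 : Fin n → F) = 0 := by simp [bf]
    rw [h0] at h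
    exact (mul_eq_zero.1 h).resolve_right (hf0 a)
  have htop := hli.span_eq_top_of_card_eq_finrank' (by simp)
  by_contra hz0
  obtain ⟨w, hw⟩ := exists_bf_ne J hJ.det hz0
  have hw' : w ∈ Submodule.span F (Set.range f) := htop ▸ Submodule.mem_top
  refine hw ?_
  refine Submodule.span_induction (p := fun w _ => bf J z w = 0) (fun x hx => ?_) (by simp [bf])
    (fun x y _ _ hx hy => by rw [bf_add_right, hx, hy, add_zero]) (fun c x _ hx => by rw [bf_smul_right, hx, mul_zero]) hw'
  obtain ⟨a, rfl⟩ := hx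
  rw [hJ.comm]; exact hz a

variable [Finite F]

/-- an integral combination of second differences isolating the value on `p` -/
theorem exists_combZ {p : Fin k → F} (hp0 : p ≠ 0) (hp : bf J p p = 0) :
    ∃ (n : ℕ) (a : Fin n → ℤ) (e : Fin n → Fin k → F) (c : F), c ≠ 0 ∧ (∀ i, bf J p (e i) = 0) ∧
      ∀ S, ∑ i, a i • ddf J p (e i) S = (c * bf J p (S *ᵥ p)) • rk J p p := by
  classical
  obtain ⟨q, e, hq, hpq, hpe, hqe, he⟩ := hJ.exists_frame hp0 hp
  have h2 := hJ.two
  by_cases h5 : 5 ≤ Nat.card F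
  swap
  · obtain ⟨e', hpe', -, hee', he'⟩ := hJ.exists_frame4 (hJ.q5.resolve_left h5) hp hq hpq hpe hqe he
    have h1 : bf J p (e + e') = 0 := by rw [bf_add_right, hpe, hpe', add_zero]
    have hm : bf J p (e + (-1 : F) • e') = 0 := by rw [bf_add_right, bf_smul_right, hpe, hpe']; ring
    refine ⟨4, ![1, 1, -2, -2], ![e + e', e + (-1 : F) • e', e, e'], 2 * (bf J e e * bf J e' e'),
      mul_ne_zero h2 (mul_ne_zero he he'), ?_, fun S => ?_⟩
    · intro i; fin_cases i <;> assumption
    simp only [Fin.sum_univ_four, Matrix.cons_val, ← Int.cast_smul_eq_zsmul F, hJ.ddf_eq hp h1, hJ.ddf_eq hp hm,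
      hJ.ddf_eq hp hpe, hJ.ddf_eq hp hpe', xp_add, xp_smul, bf_add_left, bf_add_right, bf_smul_left, bf_smul_right,
      hee', hJ.comm e' e, add_mul, mul_add, smul_mul_assoc, mul_smul_comm, smul_smul, smul_add, smul_sub, one_mul,
      one_smul, Int.cast_one, Int.cast_neg, Int.cast_ofNat]
    match_scalars <;> field_simp <;> ring
  have hse : ∀ s : F, bf J p (s • e) = 0 := fun s => by rw [bf_smul_right, hpe, mul_zero]
  by_cases h3 : (3 : F) = 0
  swap
  · refine ⟨2, ![1, -4], ![(2 : F) • e, e], bf J e e ^ 2 / 2 * (2 * 2 * 3), ?_, ?_, fun S => ?_⟩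
    · exact mul_ne_zero (div_ne_zero (pow_ne_zero _ he) h2) (mul_ne_zero (mul_ne_zero h2 h2) h3)
    · intro i; fin_cases i
      · exact hse 2
      · exact hpe
    simp only [Fin.sum_univ_two, Matrix.cons_val, ← Int.cast_smul_eq_zsmul F,
      hJ.ddf_eq hp (hse 2), hJ.ddf_eq hp hpe, xp_smul, bf_smul_left, bf_smul_right, smul_mul_assoc, mul_smul_comm,
      smul_smul, smul_add, smul_sub, one_mul, one_smul, Int.cast_one, Int.cast_neg, Int.cast_ofNat]
    match_scalars <;> field_simp <;> ring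
  letI := Fintype.ofFinite F
  have h7 : 7 ≤ Nat.card F := by
    have : CharP F 3 := (CharP.charP_iff_prime_eq_zero (by norm_num : Nat.Prime 3)).2 (by exact_mod_cast h3)
    obtain ⟨n, -, hn⟩ := FiniteField.card F 3
    rw [Nat.card_eq_fintype_card] at h5 ⊢
    rcases Nat.lt_or_ge (n : ℕ) 2 with h | h
    · interval_cases hh : (n : ℕ) <;> simp_all
    · have : 3 ^ 2 ≤ 3 ^ (n : ℕ) := Nat.pow_le_pow_right (by norm_num) h
      omega
  obtain ⟨u, hu0, hu1, hu2, hu3⟩ : ∃ u : F, u ≠ 0 ∧ u ≠ 1 ∧ u ≠ -1 ∧ 1 + u * u ≠ 0 := by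
    obtain ⟨i, hi⟩ : ∃ i : F, ∀ u : F, 1 + u * u = 0 → u = i ∨ u = -i := by
      by_cases h : ∃ i : F, 1 + i * i = 0
      · obtain ⟨i, hi⟩ := h
        refine ⟨i, fun u hu => ?_⟩
        have : (u - i) * (u + i) = 0 := by linear_combination hu - hi
        exact (mul_eq_zero.1 this).imp sub_eq_zero.1 eq_neg_of_add_eq_zero_left
      · exact ⟨0, fun u hu => absurd ⟨u, hu⟩ h⟩
    obtain ⟨u, -, hu⟩ := Finset.exists_mem_notMem_of_card_lt_card (s := ({0, 1, -1, i, -i} : Finset F))
      (t := Finset.univ) (lt_of_le_of_lt Finset.card_le_five (by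
        rw [Finset.card_univ, ← Nat.card_eq_fintype_card]; omega))
    simp only [Finset.mem_insert, Finset.mem_singleton, not_or] at hu
    exact ⟨u, hu.1, hu.2.1, hu.2.2.1, fun h => (hi u h).elim hu.2.2.2.1 hu.2.2.2.2⟩
  obtain ⟨c, d, hcd, hc0, hd0⟩ : ∃ c d : F, c * c + d * d = 1 ∧ c ≠ 0 ∧ d ≠ 0 := by
    refine ⟨(1 - u * u) / (1 + u * u), 2 * u / (1 + u * u), ?_, div_ne_zero (fun h => ?_) hu3,
      div_ne_zero (mul_ne_zero h2 hu0) hu3⟩
    · rw [div_mul_div_comm, div_mul_div_comm, ← add_div, div_eq_one_iff_eq (mul_ne_zero hu3 hu3)]; ring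
    · have : (1 - u) * (1 + u) = 0 := by linear_combination h
      exact (mul_eq_zero.1 this).elim (fun h => hu1 (sub_eq_zero.1 h).symm)
        fun h => hu2 (eq_neg_of_add_eq_zero_right h)
  refine ⟨3, ![1, 1, -1], ![c • e, d • e, e], bf J e e ^ 2 / 2 * (-(2 * ((c * c) * (d * d)))), ?_, ?_, fun S => ?_⟩
  · exact mul_ne_zero (div_ne_zero (pow_ne_zero _ he) h2)
      (neg_ne_zero.2 (mul_ne_zero h2 (mul_ne_zero (mul_ne_zero hc0 hc0) (mul_ne_zero hd0 hd0))))
  · intro i; fin_cases i
    · exact hse c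
    · exact hse d
    · exact hpe
  simp only [Fin.sum_univ_three, Matrix.cons_val, ← Int.cast_smul_eq_zsmul F,
    hJ.ddf_eq hp (hse c), hJ.ddf_eq hp (hse d), hJ.ddf_eq hp hpe, xp_smul, bf_smul_left, bf_smul_right,
    smul_mul_assoc, mul_smul_comm, smul_smul, smul_add, smul_sub, one_mul, one_smul, Int.cast_one, Int.cast_neg]
  match_scalars
  all_goals field_simp
  all_goals first
    | ring1
    | linear_combination (-bf J e e) * hcd
    | linear_combination (bf J e e) * hcd
    | linear_combination (2 * bf J e e) * hcd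
    | linear_combination (-2 * bf J e e) * hcd
    | linear_combination hcd
    | linear_combination (-1 : F) * hcd
    | linear_combination (c * c + d * d + 1) * hcd
    | linear_combination (-2 : F) * hcd
    | linear_combination (bf J p (S *ᵥ p) * (c * c + d * d + 1)) * hcd

end SJ

namespace Setting

variable [Finite F] (hS : Setting J Sg G)
include hS

theorem mg_root {l : Fin t} (hl : l ∈ Sg) {p e : Fin k → F} (hp : bf J p p = 0) (he : bf J p e = 0) :
    MG G (sl l (eS J p e)) ∧ adjJ (GV J) (sl l (eS J p e)) = sl l (eS J p (-e)) :=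
  ⟨hS.root l hl p e hp he, by rw [adj_sl hS.sj.det, eS_adj hS.sj hp he]⟩

/-- elements commuting with the slot keep the centres -/
theorem Cc_conj {i : Fin t} {p : Fin k → F} {g : Matrix (Fin t → Fin k) (Fin t → Fin k) F} (hg : MG G g)
    (hgi : ∀ A, Commute g (sl i A)) {Z : Matrix (Fin t → Fin k) (Fin t → Fin k) F} (h : Cc J Sg G i p Z) :
    Cc J Sg G i p (g * Z * adjJ (GV J) g) := by
  have hga : MG G (adjJ (GV J) g) := (hS.adj_inv hg).1
  have hOg : Op Sg i g := fun l hl A => hl.elim (fun e => e ▸ hgi A) fun hl => hS.out' hg hl A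
  refine ⟨(hOg.mul h.1).mul (hOg.adj hS.sj.symm hS.sj.det), ?_, cast (congrArg (MG G) ?_) (hS.conj_mem hg h.2.2)⟩
  · rw [hS.adj_mul', hS.adj_mul', hS.adj_adj', h.2.1, neg_mul, mul_neg, mul_assoc]
  · rw [mul_add, mul_one, add_mul, (hS.adj_inv hg).2.2, ← mul_assoc g, (hgi _).eq]
    simp only [mul_assoc]

/-- elements commuting with the slot keep the components -/
theorem H_conj {i : Fin t} {p e : Fin k → F} {g : Matrix (Fin t → Fin k) (Fin t → Fin k) F} (hg : MG G g)
    (hgi : ∀ A, Commute g (sl i A)) {T : Matrix (Fin t → Fin k) (Fin t → Fin k) F}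
    (h : H J Sg G i p e T) : H J Sg G i p e (g * T * adjJ (GV J) g) := by
  obtain ⟨hT, Z, hZ, hZs, hM⟩ := h
  have hOg : Op Sg i g := fun l hl A => hl.elim (fun e => e ▸ hgi A) fun hl => hS.out' hg hl A
  have hga := hOg.adj hS.sj.symm hS.sj.det
  refine ⟨(hOg.mul hT).mul hga, g * Z * adjJ (GV J) g, (hOg.mul hZ).mul hga, ?_, ?_⟩
  · rw [hS.adj_mul', hS.adj_mul', hS.adj_adj', hZs, neg_mul, mul_neg, mul_assoc]
  · rw [← hS.rn_conj hg (maps_commute hgi p) (maps_commute hgi e) hgi hgi (hS.adj_inv hg).2.1 rfl hT hZ]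
    exact hS.conj_mem hg hM

theorem Cc_zsmul {i : Fin t} {p : Fin k → F} (hp : bf J p p = 0) {Z : Matrix (Fin t → Fin k) (Fin t → Fin k) F}
    (h : Cc J Sg G i p Z) (n : ℤ) : Cc J Sg G i p (n • Z) := by
  induction n with
  | zero => rw [zero_zsmul]; exact Cc_zero hS
  | succ n ih => rw [add_zsmul, one_zsmul]; exact hS.Cc_add hp ih h
  | pred n ih => rw [sub_zsmul, one_zsmul]; exact hS.Cc_add hp ih (hS.Cc_neg hp h)

theorem Cc_bdf {i : Fin t} {p : Fin k → F} (hp : bf J p p = 0) {Z : Matrix (Fin t → Fin k) (Fin t → Fin k) F}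
    (h : Cc J Sg G i p Z) {l : Fin t} (hl : l ∈ Sg) (hli : l ≠ i) {a e : Fin k → F} (ha : bf J a a = 0)
    (he : bf J a e = 0) : Cc J Sg G i p (bdf J l a e Z) := by
  have he' : bf J a (-e) = 0 := by rw [← neg_one_smul F e, bf_smul_right, he, mul_zero]
  obtain ⟨h1, h1'⟩ := hS.mg_root hl ha he
  obtain ⟨h2, h2'⟩ := hS.mg_root hl ha he'
  rw [neg_neg] at h2'
  have e1 := hS.Cc_conj h1 (sl_commute hli _) h
  have e2 := hS.Cc_conj h2 (sl_commute hli _) h
  rw [h1'] at e1
  rw [h2'] at e2
  rw [bdf, show (2 : F) • Z = Z + Z from two_smul F Z, sub_eq_add_neg]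
  exact hS.Cc_add hp (hS.Cc_add hp e1 e2) (hS.Cc_neg hp (hS.Cc_add hp h h))

/-- a centre at another singular vector of the slot -/
theorem Cc_move {i : Fin t} (hi : i ∈ Sg) {p p' : Fin k → F} (hp0 : p ≠ 0) (hp : bf J p p = 0) (hp0' : p' ≠ 0)
    (hp' : bf J p' p' = 0) {Z : Matrix (Fin t → Fin k) (Fin t → Fin k) F} (h : Cc J Sg G i p Z) :
    ∃ c : F, c ≠ 0 ∧ Cc J Sg G i p' (c • Z) := by
  refine hS.sj.transport (fun v => ∃ c : F, c ≠ 0 ∧ Cc J Sg G i v (c • Z)) ?_ ?_ hp0 hp hp0' hp'
    ⟨1, one_ne_zero, by rwa [one_smul]⟩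
  · rintro v a ha ⟨c, hc, h1, h2, h3⟩
    refine ⟨c / (a * a), div_ne_zero hc (mul_ne_zero ha ha), ?_, ?_, cast (congrArg (MG G) ?_) h3⟩
    · have := h1.smul (a * a)⁻¹
      rwa [smul_smul, ← div_eq_inv_mul] at this
    · rw [adj_smul, show adjJ (GV J) Z = -Z from h.2.1, smul_neg]
    · rw [rk_smul_left, rk_smul_right, smul_smul, sl_smul, smul_mul_assoc, mul_smul_comm, mul_smul_comm, smul_smul,
        mul_div_cancel₀ _ (mul_ne_zero ha ha)]
  · rintro a e v ha he ⟨c, hc, h1, h2, h3⟩
    obtain ⟨hg, hg'⟩ := hS.mg_root hi ha he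
    refine ⟨c, hc, h1, h2, cast (congrArg (MG G) ?_) (hS.conj_mem hg h3)⟩
    rw [mul_add, mul_one, add_mul, (hS.adj_inv hg).2.2, ← mul_assoc (sl i (eS J a e)), sl_mul, mul_assoc,
      adj_sl hS.sj.det, (h1.self _).eq, ← mul_assoc, sl_mul, mul_rk, hS.sj.rk_mul,
      adj_adj hS.sj.symm hS.sj.det]

/-- a centre that is a root operator in a slot -/
theorem reduce {i : Fin t} {p0 : Fin k → F} (hp00 : bf J p0 p0 = 0)
    {Z : Matrix (Fin t → Fin k) (Fin t → Fin k) F} (hZ : Cc J Sg G i p0 Z) (hZ0 : Z ≠ 0) (S0 : Finset (Fin t))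
    (hS0 : ∀ l ∈ S0, ∀ A, Commute Z (sl l A)) :
    ∃ l ∈ Sg, l ≠ i ∧ l ∉ S0 ∧ ∃ p u, p ≠ 0 ∧ bf J p p = 0 ∧ bf J p u = 0 ∧ bf J u u ≠ 0 ∧
      ∃ R, R ≠ 0 ∧ Op Sg i R ∧ (∀ A, Commute R (sl l A)) ∧ (∀ j ∈ S0, ∀ A, Commute R (sl j A)) ∧
        Cc J Sg G i p0 (sl l (xp J p u) * R) := by
  classical
  haveI : Nonempty (Fin k) := ⟨⟨0, by have := hS.sj.kk; omega⟩⟩
  have hJ := hS.sj
  by_contra hcon
  set T0 : Finset (Fin t) := S0 ∪ Finset.univ.filter (fun l => l = i ∨ l ∉ Sg) with hT0
  suffices key : ∀ s : Finset (Fin t), ∃ (S : Finset (Fin t)) (U : Fin t → Matrix (Fin k) (Fin k) F)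
      (R : Matrix (Fin t → Fin k) (Fin t → Fin k) F), S ⊆ s \ T0 ∧ (∀ j ∈ S, U j ≠ 0 ∧ adjJ J (U j) = U j) ∧ R ≠ 0 ∧
      (∀ j ∈ s ∪ T0, ∀ A, Commute R (sl j A)) ∧ Cc J Sg G i p0 (mono S U * R) by
    obtain ⟨S, U, R, -, hU, hR0, hRc, hM⟩ := key Finset.univ
    obtain ⟨κ, hκ⟩ := eq_smul_one_of_commute R fun j A => (hRc j (by simp) A).eq
    have h1 := hM.2.1
    rw [hκ, mul_smul_comm, mul_one, adj_smul, mono, adj_tens hJ.det] at h1
    rw [show (fun j => adjJ J (S.piecewise U 1 j)) = S.piecewise U 1 from funext fun j => by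
      by_cases hj : j ∈ S
      · simp [hj, (hU j hj).2]
      · simp [hj, adj_one hJ.det]] at h1
    have h2 : (2 : F) • (mono S U * R) = 0 := by
      rw [hκ, mul_smul_comm, mul_one, two_smul, mono]
      nth_rewrite 1 [h1]
      rw [neg_add_cancel]
    rcases smul_eq_zero.1 h2 with h | h
    · exact hJ.two h
    · exact hR0 (mono_cancel (fun j hj => (hU j hj).1) (fun j _ A => hRc j (by simp) A) h)
  intro s
  induction s using Finset.induction_on with
  | empty =>
    refine ⟨∅, fun _ => 1, Z, by simp, by simp, hZ0, fun j hj A => ?_, ?_⟩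
    · simp only [Finset.empty_union, hT0, Finset.mem_union, Finset.mem_filter, Finset.mem_univ, true_and] at hj
      exact hj.elim (fun h => hS0 j h A) fun h => hZ.1 j h A
    · rwa [mono, Finset.piecewise_empty, tens_one, one_mul]
  | insert l s hls ih =>
    obtain ⟨S, U, R, hSs, hU, hR0, hRc, hM⟩ := ih
    by_cases hcl : ∀ A, Commute R (sl l A)
    · refine ⟨S, U, R, hSs.trans (Finset.sdiff_subset_sdiff (Finset.subset_insert _ _) le_rfl), hU, hR0,
        fun j hj A => ?_, hM⟩
      rcases Finset.mem_union.1 hj with hj | hj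
      · rcases Finset.mem_insert.1 hj with rfl | hj
        · exact hcl A
        · exact hRc j (Finset.mem_union_left _ hj) A
      · exact hRc j (Finset.mem_union_right _ hj) A
    have hlT : l ∉ T0 := fun h => hcl (hRc l (Finset.mem_union_right _ h))
    have hl : l ∈ Sg ∧ l ≠ i ∧ l ∉ S0 := by
      simp only [hT0, Finset.mem_union, Finset.mem_filter, Finset.mem_univ, true_and, not_or, not_not] at hlT
      exact ⟨hlT.2.2, hlT.2.1, hlT.1⟩
    have hlS : l ∉ S := fun e => hls (Finset.mem_sdiff.1 (hSs e)).1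
    have hjl : ∀ j ∈ s ∪ T0, l ≠ j := fun j hj e => by
      subst e
      exact (Finset.mem_union.1 hj).elim hls hlT
    have hbc : ∀ (a e : Fin k → F), ∀ j ∈ s ∪ T0, ∀ A, Commute (bdf J l a e R) (sl j A) := fun a e j hj A =>
      ((((sl_commute (hjl j hj) _ A).mul_left (hRc j hj A)).mul_left (sl_commute (hjl j hj) _ A)).add_left
        (((sl_commute (hjl j hj) _ A).mul_left (hRc j hj A)).mul_left (sl_commute (hjl j hj) _ A))).sub_left
        ((hRc j hj A).smul_left _)
    have hcm : ∀ A X, sl l A * (mono S U * X) = mono S U * (sl l A * X) := fun A X => by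
      rw [← mul_assoc, ← (mono_commute hlS _ _).eq, mul_assoc]
    have hbm : ∀ a e, bf J a a = 0 → bf J a e = 0 → Cc J Sg G i p0 (mono S U * bdf J l a e R) := fun a e ha he => by
      refine cast (congrArg (Cc J Sg G i p0) ?_) (hS.Cc_bdf hp00 hM hl.1 hl.2.1 ha he)
      simp only [bdf, mul_add, mul_sub, mul_smul_comm, mul_assoc, hcm]
    have hsum : ∀ {n : ℕ} (f : Fin n → Matrix (Fin t → Fin k) (Fin t → Fin k) F) (s : Finset (Fin n)) (x y : Fin t → Fin k),
        slice' (∑ m ∈ s, f m) l x y = ∑ m ∈ s, slice' (f m) l x y := fun f s x y => by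
      induction s using Finset.induction_on with
      | empty => rfl
      | insert m s hm ih => rw [Finset.sum_insert hm, Finset.sum_insert hm, slice'_add, ih]
    by_cases hα : ∃ a x y, bf J a a = 0 ∧ bf J a (slice' R l x y *ᵥ a) ≠ 0
    · obtain ⟨a, x, y, ha, hv⟩ := hα
      have ha0 : a ≠ 0 := fun e => hv (by rw [e, bf, zero_dotProduct])
      obtain ⟨n, z, e, c, hc, hae, hSum⟩ := hJ.exists_combZ ha0 ha
      obtain ⟨W, hW⟩ : ∃ W, W = ∑ m, z m • bdf J l a (e m) R := ⟨_, rfl⟩
      have hWc : ∀ j ∈ s ∪ T0, ∀ A, Commute W (sl j A) := fun j hj A => by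
        rw [hW]
        exact Finset.sum_induction _ (fun Z => Commute Z (sl j A)) (fun _ _ => Commute.add_left)
          (Commute.zero_left _) fun m _ => (hbc a (e m) j hj A).smul_left _
      have hsl : ∀ x y, slice' W l x y = (c * bf J a (slice' R l x y *ᵥ a)) • rk J a a := fun x y => by
        rw [hW, hsum, ← hSum]
        exact Finset.sum_congr rfl fun m _ => by
          rw [show slice' (z m • bdf J l a (e m) R) l x y = z m • slice' (bdf J l a (e m) R) l x y from rfl, slice'_bdf]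
      have hW0 : W ≠ 0 := fun e0 => by
        have h1 := hsl x y
        rw [e0, show slice' (0 : Matrix (Fin t → Fin k) (Fin t → Fin k) F) l x y = 0 from rfl, eq_comm, smul_eq_zero] at h1
        exact h1.elim (mul_ne_zero hc hv) (hJ.rk_ne ha0 ha0)
      obtain ⟨q, w, hq, haq, -, -, -⟩ := hJ.exists_frame ha0 ha
      obtain ⟨hWe, hR'0, hR'c⟩ := Inv.factor (J := J) hJ (s := s ∪ T0) (fun h => (Finset.mem_union.1 h).elim hls hlT)
        (hJ.rk_ne ha0 ha0) (val J q q) hW0 hWc fun x y => by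
          rw [hsl]
          show _ = bf J q (_ *ᵥ q) • _
          rw [smul_mulVec, rk_mulVec, haq, one_smul, bf_smul_right, hJ.comm q a, haq, mul_one]
      refine ⟨insert l S, Function.update U l (rk J a a), lift l (val J q q) W, ?_, ?_, hR'0, ?_, ?_⟩
      · intro j hj
        rcases Finset.mem_insert.1 hj with rfl | hj
        · exact Finset.mem_sdiff.2 ⟨Finset.mem_insert_self _ _, hlT⟩
        · exact Finset.sdiff_subset_sdiff (Finset.subset_insert _ _) le_rfl (hSs hj)
      · intro j hj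
        rcases Finset.mem_insert.1 hj with rfl | hj
        · rw [Function.update_self]; exact ⟨hJ.rk_ne ha0 ha0, hJ.adjJ_rk a a⟩
        · rw [Function.update_of_ne (fun e : j = l => hlS (e ▸ hj))]; exact hU j hj
      · intro j hj A
        refine hR'c j ?_ A
        rcases Finset.mem_union.1 hj with hj | hj
        · rcases Finset.mem_insert.1 hj with rfl | hj
          · exact Finset.mem_insert_self _ _
          · exact Finset.mem_insert_of_mem (Finset.mem_union_left _ hj)
        · exact Finset.mem_insert_of_mem (Finset.mem_union_right _ hj)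
      · rw [mono_insert hlS, Function.update_self, mul_assoc,
          mono_congr fun j hj => Function.update_of_ne (fun e : j = l => hlS (e ▸ hj)) _ _, hcm, ← hWe, hW,
          Finset.mul_sum]
        exact Finset.sum_induction _ (Cc J Sg G i p0) (fun _ _ => hS.Cc_add hp00) (Cc_zero hS)
          fun m _ => by rw [mul_smul_comm]; exact hS.Cc_zsmul hp00 (hbm a (e m) ha (hae m)) _
    push Not at hα
    obtain ⟨x0, y0, hns⟩ : ∃ x y, ∀ c : F, slice' R l x y ≠ c • (1 : Matrix (Fin k) (Fin k) F) := by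
      by_contra! h
      exact hcl (commute_of_slice_scalar l h)
    have hκ : ∀ x y, ∃ κ : F, slice' R l x y + adjJ J (slice' R l x y) = κ • (1 : Matrix (Fin k) (Fin k) F) :=
      fun x y => hJ.cone fun a ha => hα a x y ha
    choose κ hκ using hκ
    obtain ⟨A0, hA0⟩ : ∃ A0, A0 = slice' R l x0 y0 - (κ x0 y0 / 2) • (1 : Matrix (Fin k) (Fin k) F) := ⟨_, rfl⟩
    have hA0s : adjJ J A0 = -A0 := by
      rw [hA0, adj_sub, adj_smul, adj_one hJ.det, eq_sub_of_add_eq' (hκ x0 y0)]
      have h2 := hJ.two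
      match_scalars <;> field_simp <;> ring
    obtain ⟨a, ha, hmv⟩ := hJ.exists_moved hA0s fun e0 => hns (κ x0 y0 / 2) (sub_eq_zero.1 (hA0 ▸ e0))
    have ha0 : a ≠ 0 := fun e => hmv 0 (by rw [e, mulVec_zero, smul_zero])
    obtain ⟨q, u, hq, haq, hau, hqu, hu⟩ := hJ.exists_frame ha0 ha
    let yv : (Fin t → Fin k) → (Fin t → Fin k) → Fin k → F := fun x y =>
      bf J u u • (slice' R l x y *ᵥ a) + (-(2 * bf J u (slice' R l x y *ᵥ a))) • u
    have hyp : ∀ x y, bf J a (yv x y) = 0 := fun x y => by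
      simp only [yv, bf_add_right, bf_smul_right, hau, hα a x y ha]; ring
    have hwne : ∀ c : F, yv x0 y0 ≠ c • a := fun c hc => by
      simp only [yv] at hc
      have h1 := congrArg (bf J u) hc
      rw [bf_add_right, bf_smul_right, bf_smul_right, bf_smul_right, hJ.comm u a, hau, mul_zero] at h1
      have h2' : bf J u (slice' R l x0 y0 *ᵥ a) = 0 := by
        have : (-1 : F) * bf J u u * bf J u (slice' R l x0 y0 *ᵥ a) = 0 := by linear_combination h1
        exact (mul_eq_zero.1 this).resolve_left (mul_ne_zero (neg_ne_zero.2 one_ne_zero) hu)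
      rw [h2', mul_zero, neg_zero, zero_smul, add_zero] at hc
      refine hmv ((bf J u u)⁻¹ * c - κ x0 y0 / 2) ?_
      rw [hA0, sub_mulVec, smul_mulVec, one_mulVec, sub_smul, mul_smul, ← hc, inv_smul_smul₀ hu]
    -- the part orthogonal to the pair
    let y' : (Fin t → Fin k) → (Fin t → Fin k) → Fin k → F := fun x y => yv x y + (-bf J q (yv x y)) • a
    have hy'a : ∀ x y, bf J a (y' x y) = 0 := fun x y => by
      simp only [y', bf_add_right, bf_smul_right, hyp, ha]; ring
    have hy'q : ∀ x y, bf J q (y' x y) = 0 := fun x y => by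
      simp only [y', bf_add_right, bf_smul_right, hJ.comm q a, haq]; ring
    have hy'0 : y' x0 y0 ≠ 0 := fun e => hwne (bf J q (yv x0 y0)) (by
      simp only [y'] at e
      linear_combination (norm := module) e)
    have hZ1 : ∀ x y, slice' (bdf J l a u R) l x y = xp J a (y' x y) := fun x y => by
      rw [slice'_bdf, hJ.ddf_xp ha hau (hκ x y) (hα a x y ha)]
      show xp J a (yv x y) = xp J a (yv x y + (-bf J q (yv x y)) • a)
      conv_rhs => rw [xp_add, xp_smul, show xp J a a = 0 from sub_self _, smul_zero, add_zero]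
    -- isolate one axis
    obtain ⟨w, W, hwa, hwq, hw, hWm, hWc, hWs, hw0⟩ : ∃ (w : Fin k → F) (W : Matrix (Fin t → Fin k) (Fin t → Fin k) F),
        bf J a w = 0 ∧ bf J q w = 0 ∧ bf J w w ≠ 0 ∧ Cc J Sg G i p0 (mono S U * W) ∧
        (∀ j ∈ s ∪ T0, ∀ A, Commute W (sl j A)) ∧
        (∀ x y, ∃ c : F, slice' W l x y = c • xp J a w) ∧ W ≠ 0 := by
      by_cases hk : 4 ≤ k
      · obtain ⟨w, hwg, hwa, hwq, hwy⟩ := hJ.exists_good_sep hk ha hq haq hy'0 (hy'a x0 y0) (hy'q x0 y0)
        have hd := hS.refl l hl.1 w hwg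
        have hd' : adjJ (GV J) (sl l (dl J w)) = sl l (dl J w) := by rw [adj_sl hJ.det, hJ.dl_adj]
        have hdx : ∀ v, bf J a v = 0 → dl J w * xp J a v * dl J w = xp J a (rf J w *ᵥ v) := fun v _ => by
          simp only [dl, smul_mul_assoc, mul_smul_comm, smul_smul, sg_sq, one_smul, xp, mul_sub, sub_mul, smul_sub,
            mul_rk, hJ.rk_mul, hJ.rf_adj, rf_perp (show bf J w a = 0 by rw [hJ.comm]; exact hwa)]
        obtain ⟨W, hWd⟩ : ∃ W, W = bdf J l a u R - sl l (dl J w) * bdf J l a u R * sl l (dl J w) := ⟨_, rfl⟩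
        have hsl : ∀ x y, slice' W l x y = (2 / bf J w w * bf J w (y' x y)) • xp J a w := fun x y => by
          rw [hWd, slice'_sub, slice'_mul_sl, slice'_sl_mul, hZ1, hdx _ (hy'a x y)]
          generalize y' x y = Y
          rw [rf_mulVec, xp_add, xp_smul]
          module
        refine ⟨w, W, hwa, hwq, hwg.1, ?_, fun j hj A => ?_, fun x y => ⟨_, hsl x y⟩, fun e0 => ?_⟩
        · rw [hWd, mul_sub, sub_eq_add_neg]
          refine hS.Cc_add hp00 (hbm a u ha hau) (hS.Cc_neg hp00 ?_)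
          refine cast (congrArg (Cc J Sg G i p0) ?_) (hS.Cc_conj hd (sl_commute hl.2.1 _) (hbm a u ha hau))
          rw [hd', hcm, mul_assoc]
        · rw [hWd]
          exact (hbc a u j hj A).sub_left
            (((sl_commute (hjl j hj) _ A).mul_left (hbc a u j hj A)).mul_left (sl_commute (hjl j hj) _ A))
        · have h1 := hsl x0 y0
          rw [e0, show slice' (0 : Matrix (Fin t → Fin k) (Fin t → Fin k) F) l x0 y0 = 0 from rfl, eq_comm,
            smul_eq_zero] at h1
          refine h1.elim (mul_ne_zero (div_ne_zero hJ.two hwg.1) hwy) fun hx => ?_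
          have h2 := congrArg (· *ᵥ q) hx
          simp only [xp, sub_mulVec, rk_mulVec, zero_mulVec, hJ.comm w q, hwq, haq, zero_smul, zero_sub, one_smul,
            neg_eq_zero] at h2
          exact hwg.1 (by rw [h2]; simp [bf])
      · have hk3 : k = 3 := by have := hJ.kk; omega
        have hline : ∀ v, bf J a v = 0 → bf J q v = 0 → v = (bf J u v / bf J u u) • u := fun v h1 h3 => by
          refine sub_eq_zero.1 (hJ.eq_zero_of_orth (n := 3) hk3.symm ![a + q, a + (-1 : F) • q, u] ?_ ?_ ?_)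
          · intro b b' hb
            fin_cases b <;> fin_cases b' <;> first | exact absurd rfl hb | (
              simp [-neg_smul, -neg_mul, bf_add_left, bf_add_right, bf_smul_left, bf_smul_right, ha, hq, haq,
                hJ.comm q a, hau, hqu, hJ.comm u a, hJ.comm u q])
          · intro b
            fin_cases b
            · simpa [bf_add_left, bf_add_right, ha, hq, haq, hJ.comm q a, one_add_one_eq_two] using hJ.two
            · simp [-neg_smul, -neg_mul, bf_add_left, bf_add_right, bf_smul_left, bf_smul_right, ha, hq, haq,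
                hJ.comm q a]
              intro h; exact hJ.two (by linear_combination -h)
            · exact hu
          · intro b
            rw [sub_eq_add_neg, ← neg_smul, bf_add_right, bf_smul_right]
            fin_cases b <;> simp [-neg_smul, bf_add_left, bf_smul_left, h1, h3, hau, hqu, hu]
        refine ⟨u, bdf J l a u R, hau, hqu, hu, hbm a u ha hau, hbc a u,
          fun x y => ⟨bf J u (y' x y) / bf J u u, ?_⟩, fun e0 => ?_⟩
        · rw [hZ1, ← xp_smul, ← hline _ (hy'a x y) (hy'q x y)]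
        · have h1 := hZ1 x0 y0
          rw [e0, show slice' (0 : Matrix (Fin t → Fin k) (Fin t → Fin k) F) l x0 y0 = 0 from rfl] at h1
          have h2 := congrArg (· *ᵥ q) h1.symm
          simp only [xp, sub_mulVec, rk_mulVec, zero_mulVec, hJ.comm (y' x0 y0) q, hy'q x0 y0, haq, zero_smul,
            zero_sub, one_smul, neg_eq_zero] at h2
          exact hy'0 h2
    have hxq : xp J a w *ᵥ q = -w := by
      simp [xp, sub_mulVec, rk_mulVec, hJ.comm w q, hwq, haq]
    have hxne : xp J a w ≠ 0 := fun e => hw (by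
      rw [show w = 0 from neg_eq_zero.1 (by rw [← hxq, e, zero_mulVec])]
      simp [bf])
    obtain ⟨hWe, hR'0, hR'c⟩ := Inv.factor (J := J) hJ (s := s ∪ T0) (fun h => (Finset.mem_union.1 h).elim hls hlT)
      hxne ((-(bf J w w)⁻¹) • val J w q) hw0 hWc fun x y => by
        obtain ⟨c, hc⟩ := hWs x y
        rw [hc]
        show _ = (-(bf J w w)⁻¹ * bf J w (_ *ᵥ q)) • _
        rw [smul_mulVec, hxq, bf_smul_right, ← neg_one_smul F w, bf_smul_right]
        congr 1
        field_simp
    refine absurd ⟨l, hl.1, hl.2.1, hl.2.2, a, w, ha0, ha, hwa, hw,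
      mono S U * lift l ((-(bf J w w)⁻¹) • val J w q) W, ?_, ?_, ?_, ?_, ?_⟩ hcon
    · exact fun h => hR'0 (mono_cancel (fun j hj => (hU j hj).1)
        (fun j hj A => hR'c j (Finset.mem_insert_of_mem (Finset.mem_union_left _ (Finset.mem_sdiff.1 (hSs hj)).1)) A) h)
    · intro j hj A
      have hjT : j ∈ T0 := by simp [hT0, hj]
      exact (mono_commute (fun e => (Finset.mem_sdiff.1 (hSs e)).2 hjT) _ _).mul_left
        (hR'c j (Finset.mem_insert_of_mem (Finset.mem_union_right _ hjT)) A)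
    · exact fun A => (mono_commute hlS _ _).mul_left (hR'c l (Finset.mem_insert_self _ _) A)
    · intro j hj A
      have hjT : j ∈ T0 := by simp [hT0, hj]
      exact (mono_commute (fun e => (Finset.mem_sdiff.1 (hSs e)).2 hjT) _ _).mul_left
        (hR'c j (Finset.mem_insert_of_mem (Finset.mem_union_right _ hjT)) A)
    · rw [hcm, ← hWe]; exact hWm

end Setting

end Cfsg.Agent.ClassicalMax.OOWreath
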