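import Cfsg.Agent.ClassicalMax.OOWreath.Stand
import Cfsg.Agent.ClassicalMax.SpWreath.Crit

/-!
Ranks of matrices built from one or two slots.
-/

set_option autoImplicit false
set_option linter.unusedSectionVars false
set_option linter.unusedSimpArgs false

namespace Cfsg.Agent.ClassicalMax.OOWreath

open Matrix Cfsg.Agent.ClassicalMax.TPow

variable {F : Type*} [Field F] {k t : ℕ}

section General

variable {ν : Type} [Fintype ν] [DecidableEq ν]

theorem rank_add_le' (A B : Matrix ν ν F) : (A + B).rank ≤ A.rank + B.rank := by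
  rw [Matrix.rank, Matrix.rank, Matrix.rank]
  have h : LinearMap.range (A + B).mulVecLin ≤ LinearMap.range A.mulVecLin ⊔ LinearMap.range B.mulVecLin := by
    rintro _ ⟨v, rfl⟩
    simp only [mulVecLin_apply, add_mulVec]
    exact Submodule.add_mem_sup ⟨v, rfl⟩ ⟨v, rfl⟩
  exact (Submodule.finrank_mono h).trans (Submodule.finrank_add_le_finrank_add_finrank _ _)

theorem rank_smul_le (c : F) (A : Matrix ν ν F) : (c • A).rank ≤ A.rank := by
  rw [show c • A = (c • (1 : Matrix ν ν F)) * A by rw [smul_mul_assoc, one_mul]]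
  exact rank_mul_le_right _ _

theorem rank_sub_le' (A B : Matrix ν ν F) : (A - B).rank ≤ A.rank + B.rank := by
  rw [sub_eq_add_neg, ← neg_one_smul F B]
  exact (rank_add_le' _ _).trans (Nat.add_le_add_left (rank_smul_le _ _) _)

theorem rank_pos' {A : Matrix ν ν F} (h : A ≠ 0) : 0 < A.rank := by
  rw [Nat.pos_iff_ne_zero]
  intro h0
  rw [Matrix.rank, Submodule.finrank_eq_zero, LinearMap.range_eq_bot] at h0
  exact h (Matrix.mulVec_injective (funext fun v => by
    have := LinearMap.congr_fun h0 v
    simpa [mulVecLin_apply] using this))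

theorem rank_one_le_sum {γ : Type} (s : Finset γ) (P : γ → Matrix ν ν F) :
    (∑ c ∈ s, P c).rank ≤ ∑ c ∈ s, (P c).rank := by
  classical
  induction s using Finset.induction_on with
  | empty => simp
  | insert c s hc ih =>
    rw [Finset.sum_insert hc, Finset.sum_insert hc]
    exact (rank_add_le' _ _).trans (Nat.add_le_add_left ih _)

/-- the parts of a matrix cut by orthogonal idempotents -/
theorem rank_sum_proj {γ : Type} {P : γ → Matrix ν ν F} (hP : ∀ c, P c * P c = P c)
    (hPP : ∀ c c', c ≠ c' → P c * P c' = 0) (E : Matrix ν ν F) (hE : ∀ c, Commute (P c) E) (s : Finset γ) :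
    ∑ c ∈ s, (P c * E).rank ≤ E.rank := by
  classical
  suffices h : ∑ c ∈ s, (P c * E).rank ≤ ((∑ c ∈ s, P c) * E).rank from h.trans (rank_mul_le_right _ _)
  induction s using Finset.induction_on with
  | empty => simp
  | insert c s hc ih =>
    have h1 : P c * ∑ d ∈ s, P d = 0 := by
      rw [Finset.mul_sum]; exact Finset.sum_eq_zero fun d hd => hPP _ _ fun e => hc (e ▸ hd)
    have h2 : (∑ d ∈ s, P d) * P c = 0 := by
      rw [Finset.sum_mul]; exact Finset.sum_eq_zero fun d hd => hPP _ _ fun e => hc (e ▸ hd)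
    have h3 := (rank_sum_orth hP hPP s).1
    rw [Finset.sum_insert hc, Finset.sum_insert hc]
    obtain ⟨S, hS⟩ : ∃ S, S = ∑ d ∈ s, P d := ⟨_, rfl⟩
    rw [← hS] at h1 h2 h3 ih ⊢
    have hSE : Commute S E := hS ▸ Commute.sum_left _ _ _ fun d _ => hE d
    have e1 : LinearMap.range (P c * E).mulVecLin ⊔ LinearMap.range (S * E).mulVecLin ≤
        LinearMap.range ((P c + S) * E).mulVecLin := by
      refine sup_le ?_ ?_
      · rintro _ ⟨v, rfl⟩
        refine ⟨P c *ᵥ v, ?_⟩
        simp only [mulVecLin_apply, mulVec_mulVec, add_mul, mul_assoc, ← (hE c).eq]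
        rw [← mul_assoc, hP, ← mul_assoc, h2, zero_mul, add_zero]
      · rintro _ ⟨v, rfl⟩
        refine ⟨S *ᵥ v, ?_⟩
        simp only [mulVecLin_apply, mulVec_mulVec, add_mul, mul_assoc, ← hSE.eq]
        rw [← mul_assoc, h1, zero_mul, zero_add, ← mul_assoc, h3]
    have e2 : LinearMap.range (P c * E).mulVecLin ⊓ LinearMap.range (S * E).mulVecLin = ⊥ := by
      refine eq_bot_iff.2 fun x hx => ?_
      obtain ⟨⟨v, rfl⟩, w, hw⟩ := hx
      simp only [mulVecLin_apply] at hw ⊢
      have h := congrArg (P c *ᵥ ·) hw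
      simp only [mulVec_mulVec, ← mul_assoc, h1, hP, zero_mul, zero_mulVec] at h
      simp [← h]
    have h4 := Submodule.finrank_sup_add_finrank_inf_eq (LinearMap.range (P c * E).mulVecLin)
      (LinearMap.range (S * E).mulVecLin)
    rw [e2, finrank_bot, add_zero] at h4
    have h5 := Submodule.finrank_mono e1
    simp only [Matrix.rank] at ih ⊢
    omega

end General

theorem sl_single_sum (l : Fin t) :
    ∑ c : Fin k, sl (β := Fin t) l (Matrix.single c c (1 : F)) = 1 := by
  rw [← sl_one (F := F) (κ := Fin k) l, show (1 : Matrix (Fin k) (Fin k) F) = ∑ c, Matrix.single c c 1 by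
    ext i j; simp [Matrix.sum_apply, Matrix.single_apply, Matrix.one_apply, ite_and]]
  induction (Finset.univ : Finset (Fin k)) using Finset.induction_on with
  | empty => simp [sl_zero]
  | insert c s hc ih => rw [Finset.sum_insert hc, Finset.sum_insert hc, sl_add, ih]

theorem exists_diag {C : Matrix (Fin k) (Fin k) F} (hC : C ≠ 0) (c : Fin k) :
    ∃ X Y, X * C * Y = Matrix.single c c (1 : F) := by
  obtain ⟨i, j, h⟩ : ∃ i j, C i j ≠ 0 := by
    by_contra! h0; exact hC (Matrix.ext h0)
  refine ⟨Matrix.single c i (C i j)⁻¹, Matrix.single j c 1, ?_⟩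
  ext a b
  simp only [Matrix.mul_apply, Matrix.single_apply, ite_and, ite_mul, zero_mul, mul_ite, mul_one, mul_zero,
    Finset.sum_ite_eq, Finset.mem_univ, if_true]
  by_cases ha : c = a <;> by_cases hb : c = b <;> simp [ha, hb, inv_mul_cancel₀ h]

theorem card_idx : Fintype.card (Fin t → Fin k) = k ^ t := by
  rw [Fintype.card_fun, Fintype.card_fin, Fintype.card_fin]

/-- a non-zero slot matrix has at least the rank of one line -/
theorem rank_sl_ge (l : Fin t) {C : Matrix (Fin k) (Fin k) F} (hC : C ≠ 0) : k ^ t ≤ k * (sl l C).rank := by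
  have h1 : (1 : Matrix (Fin t → Fin k) (Fin t → Fin k) F).rank ≤ ∑ _c : Fin k, (sl l C).rank := by
    rw [← sl_single_sum (F := F) l]
    refine (rank_one_le_sum _ _).trans (Finset.sum_le_sum fun c _ => ?_)
    obtain ⟨X, Y, h⟩ := exists_diag hC c
    rw [← h, ← sl_mul, ← sl_mul]
    exact (rank_mul_le_left _ _).trans (rank_mul_le_right _ _)
  rwa [rank_one, card_idx, Finset.sum_const, Finset.card_univ, Fintype.card_fin, smul_eq_mul] at h1

/-- two slots -/
theorem rank_sl_sl_ge {l m : Fin t} (hlm : l ≠ m) {C C' : Matrix (Fin k) (Fin k) F} (hC : C ≠ 0) (hC' : C' ≠ 0) :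
    k ^ t ≤ k * k * (sl l C * sl m C').rank := by
  have h1 : (1 : Matrix (Fin t → Fin k) (Fin t → Fin k) F).rank ≤
      ∑ _p : Fin k × Fin k, (sl l C * sl m C').rank := by
    rw [show (1 : Matrix (Fin t → Fin k) (Fin t → Fin k) F) = ∑ p : Fin k × Fin k,
        sl l (Matrix.single p.1 p.1 (1 : F)) * sl m (Matrix.single p.2 p.2 1) by
      rw [Fintype.sum_prod_type]
      simp only [← Finset.mul_sum, sl_single_sum, mul_one]]
    refine (rank_one_le_sum _ _).trans (Finset.sum_le_sum fun p _ => ?_)
    obtain ⟨X, Y, h⟩ := exists_diag hC p.1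
    obtain ⟨X', Y', h'⟩ := exists_diag hC' p.2
    rw [← h, ← h', ← sl_mul, ← sl_mul, ← sl_mul, ← sl_mul,
      show sl l X * sl l C * sl l Y * (sl m X' * sl m C' * sl m Y') =
        sl l X * sl m X' * (sl l C * sl m C') * (sl l Y * sl m Y') by
      have c1 := fun A B : Matrix (Fin k) (Fin k) F => (sl_commute hlm A B).eq
      calc sl l X * sl l C * sl l Y * (sl m X' * sl m C' * sl m Y')
          = sl l X * sl l C * (sl l Y * sl m X') * (sl m C' * sl m Y') := by simp only [mul_assoc]
        _ = sl l X * (sl l C * sl m X') * (sl l Y * sl m C') * sl m Y' := by rw [c1]; simp only [mul_assoc]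
        _ = _ := by rw [c1, c1]; simp only [mul_assoc]]
    exact (rank_mul_le_left _ _).trans (rank_mul_le_right _ _)
  rwa [rank_one, card_idx, Finset.sum_const, Finset.card_univ, Fintype.card_prod, Fintype.card_fin, smul_eq_mul] at h1

/-- a slot matrix with three independent images -/
theorem rank_sl_three (l : Fin t) {C : Matrix (Fin k) (Fin k) F} {w : Fin 3 → Fin k → F}
    (hw : LinearIndependent F fun a => C *ᵥ w a) : 3 * k ^ t ≤ k * (sl l C).rank := by
  classical
  have hk : 3 ≤ k := by simpa using hw.fintype_card_le_finrank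
  let f : (Fin 3 → F) →ₗ[F] (Fin k → F) := (Matrix.of fun i a => (C *ᵥ w a) i).mulVecLin
  have hf : LinearMap.ker f = ⊥ := by
    refine LinearMap.ker_eq_bot'.2 fun v hv => funext fun a => ?_
    refine Fintype.linearIndependent_iff.1 hw v ?_ a
    refine funext fun i => (Eq.trans ?_ (congrFun hv i))
    simp [f, Matrix.mulVec, dotProduct, Finset.sum_apply, mul_comm]
  obtain ⟨g, hg⟩ := f.exists_leftInverse_of_injective hf
  let ι : Fin 3 → Fin k := fun a => ⟨a, by omega⟩
  let Y : Matrix (Fin k) (Fin k) F := ∑ a, Matrix.vecMulVec (w a) (Pi.single (ι a) 1)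
  let X : Matrix (Fin k) (Fin k) F := LinearMap.toMatrix'
    ((Matrix.of fun i (a : Fin 3) => if ι a = i then (1 : F) else 0).mulVecLin.comp g)
  have hXv : ∀ a, X *ᵥ (C *ᵥ w a) = Pi.single (ι a) 1 := fun a => by
    simp only [X, LinearMap.toMatrix'_mulVec, LinearMap.comp_apply]
    have : f (Pi.single a 1) = C *ᵥ w a := by
      simp only [f, mulVecLin_apply, Matrix.mulVec_single_one]; rfl
    rw [← this, show g (f (Pi.single a 1)) = Pi.single a 1 from LinearMap.congr_fun hg _]
    simp only [mulVecLin_apply, Matrix.mulVec_single_one]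
    funext i
    simp [Pi.single_apply, Matrix.col_apply, eq_comm]
  have hXCY : X * C * Y = ∑ a, Matrix.single (ι a) (ι a) 1 := by
    rw [show Y = ∑ a, Matrix.vecMulVec (w a) (Pi.single (ι a) 1) from rfl, Finset.mul_sum]
    refine Finset.sum_congr rfl fun a _ => ?_
    rw [Matrix.mul_vecMulVec, ← mulVec_mulVec, hXv, ← Matrix.single_eq_single_vecMulVec_single]
  have hι : Function.Injective ι := fun a b h => Fin.ext (by simpa [ι] using congrArg Fin.val h)
  have hsum := (rank_sum_orth (P := fun a => sl (β := Fin t) l (Matrix.single (ι a) (ι a) (1 : F)))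
    (fun a => by rw [sl_mul, Matrix.single_mul_single_same, one_mul])
    (fun a b hab => by rw [sl_mul, Matrix.single_mul_single_of_ne (1 : F) (ι a) (ι a) (ι b) (hι.ne hab) (1 : F), sl_zero]) Finset.univ).2
  have hne : ∀ a, k ^ t ≤ k * (sl (β := Fin t) l (Matrix.single (ι a) (ι a) (1 : F))).rank := fun a =>
    rank_sl_ge l (fun h => by simpa using congrFun (congrFun h (ι a)) (ι a))
  have he : (∑ a, sl (β := Fin t) l (Matrix.single (ι a) (ι a) (1 : F))) = sl l (X * C * Y) := by
    rw [hXCY]
    simp only [Fin.sum_univ_three, sl_add]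
  rw [he, ← sl_mul, ← sl_mul] at hsum
  have hle : (sl l X * sl l C * sl l Y).rank ≤ (sl l C).rank := (rank_mul_le_left _ _).trans (rank_mul_le_right _ _)
  have h3 : 3 * k ^ t ≤ k * ∑ a, (sl (β := Fin t) l (Matrix.single (ι a) (ι a) (1 : F))).rank := by
    rw [Finset.mul_sum]
    simpa using Finset.sum_le_sum (s := Finset.univ) fun a _ => hne a
  calc 3 * k ^ t ≤ _ := h3
    _ ≤ k * (sl l C).rank := Nat.mul_le_mul_left _ (hsum.trans hle)

/-- a slot rank one matrix -/
theorem rank_sl_rk_le [Finite F] (J : Matrix (Fin k) (Fin k) F) (i : Fin t) (u v : Fin k → F) :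
    k * (sl i (rk J u v)).rank ≤ k ^ t := by
  rw [← SpWreath.inS_outS (J := J) i u v]
  have h := (rank_mul_le_left (SpWreath.inS i u) (SpWreath.outS J i v)).trans (Matrix.rank_le_card_width _)
  refine le_trans (Nat.mul_le_mul_left k h) ?_
  have hc : Fintype.card (Rest (SpWreath.at1 i) → Fin k) = k ^ (t - 1) := by
    rw [Fintype.card_fun, Fintype.card_fin]
    congr 1
    rw [show Fintype.card (Rest (SpWreath.at1 i)) = Fintype.card {j : Fin t // j ≠ i} from
      Fintype.card_congr (Equiv.subtypeEquivRight fun j => ⟨fun h e => h 0 e.symm, fun h _ e => h e.symm⟩),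
      Fintype.card_subtype_compl, Fintype.card_fin, Fintype.card_subtype_eq]
  rw [hc, ← pow_succ', Nat.sub_add_cancel (by have := i.2; omega)]

end Cfsg.Agent.ClassicalMax.OOWreath
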