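import Cfsg.Agent.ClassicalMax.OOWreath.Space

/-!
A reflection of one slot of even dimension is a product of reflections of the tensor power, and lies in the commutator
subgroup when there are three slots or the determinant of the form is a square.
-/

set_option autoImplicit false
set_option linter.unusedSectionVars false
set_option linter.unusedSimpArgs false

namespace Cfsg.Agent.ClassicalMax.OOWreath

open Matrix Module QuadraticMap Cfsg.Agent.Classical Cfsg.Agent.Classical.Quad Cfsg.Agent.ClassicalMax.TPow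
open Cfsg.Agent.ClassicalMax.SpWreath (GV GV_det pv bf_pv rk_pv)
open Cfsg.Agent.ClassicalMax.OWreath (mt mt_mulVec mt_injective)

variable {F : Type*} [Field F] {k t : ℕ} {J : Matrix (Fin k) (Fin k) F}

/-- an orthogonal basis of a slot: projections summing to one, the product of the values in the class of the
determinant -/
theorem SJ.exists_orth_basis (hJ : SJ J) : ∃ f : Fin k → Fin k → F,
    (∀ a b, a ≠ b → bf J (f a) (f b) = 0) ∧ (∀ a, bf J (f a) (f a) ≠ 0) ∧
    (∑ a, (bf J (f a) (f a))⁻¹ • rk J (f a) (f a) = 1) ∧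
    ∃ d : F, d ≠ 0 ∧ ∏ a, bf J (f a) (f a) = d * d * J.det := by
  classical
  obtain ⟨f, hf, hf0⟩ : ∃ f : Fin k → Fin k → F, (∀ a b, a ≠ b → bf J (f a) (f b) = 0) ∧
      ∀ a, bf J (f a) (f a) ≠ 0 := by
    suffices h : ∀ n, n ≤ k → ∃ f : Fin n → Fin k → F, (∀ a b, a ≠ b → bf J (f a) (f b) = 0) ∧
        ∀ a, bf J (f a) (f a) ≠ 0 from h k le_rfl
    intro n
    induction n with
    | zero => exact fun _ => ⟨fun a => a.elim0, fun a => a.elim0, fun a => a.elim0⟩
    | succ n ih =>
      intro hn
      obtain ⟨f, hf, hf0⟩ := ih (by omega)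
      obtain ⟨w, hw, hfw⟩ := hJ.exists_orth (show n < k by omega) f hf hf0
      refine ⟨Fin.snoc f w, fun a b hab => ?_, fun a => ?_⟩
      · cases a using Fin.lastCases <;> cases b using Fin.lastCases
        · exact absurd rfl hab
        · rw [Fin.snoc_last, Fin.snoc_castSucc, hJ.comm, hfw]
        · rw [Fin.snoc_last, Fin.snoc_castSucc, hfw]
        · rw [Fin.snoc_castSucc, Fin.snoc_castSucc]
          exact hf _ _ fun e => hab (congrArg Fin.castSucc e)
      · cases a using Fin.lastCases
        · rwa [Fin.snoc_last]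
        · rw [Fin.snoc_castSucc]; exact hf0 _
  refine ⟨f, hf, hf0, ?_⟩
  set P : Matrix (Fin k) (Fin k) F := Matrix.of f with hP
  set D : Matrix (Fin k) (Fin k) F := Matrix.diagonal fun a => bf J (f a) (f a) with hD
  have hPJ : P * J * Pᵀ = D := by
    ext a b
    have e : (P * J * Pᵀ) a b = bf J (f a) (f b) := by
      rw [bf, dotProduct_mulVec]
      rfl
    rw [e, hD, Matrix.diagonal_apply]
    split_ifs with h
    · rw [h]
    · exact hf a b h
  have hdet : P.det * P.det * J.det = ∏ a, bf J (f a) (f a) := by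
    have h := congrArg Matrix.det hPJ
    rw [det_mul, det_mul, det_transpose, hD, det_diagonal] at h
    rw [← h]; ring
  have hne : ∏ a, bf J (f a) (f a) ≠ 0 := Finset.prod_ne_zero_iff.2 fun a _ => hf0 a
  have hPne : P.det ≠ 0 := fun h => hne (by rw [← hdet, h]; ring)
  refine ⟨?_, P.det, hPne, hdet.symm⟩
  have h1 : P * J * (Pᵀ * Matrix.diagonal fun a => (bf J (f a) (f a))⁻¹) = 1 := by
    rw [← Matrix.mul_assoc, hPJ, hD, Matrix.diagonal_mul_diagonal, ← Matrix.diagonal_one]
    congr 1
    funext a
    exact mul_inv_cancel₀ (hf0 a)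
  rw [← mul_eq_one_comm.1 h1]
  ext x y
  rw [Matrix.sum_apply, Matrix.mul_apply]
  refine Finset.sum_congr rfl fun a _ => ?_
  rw [Matrix.smul_apply, smul_eq_mul, rk, vecMulVec_apply, Matrix.mul_diagonal, Matrix.transpose_apply, hP,
    Matrix.of_apply, mul_comm (f a x) (_⁻¹), mul_assoc]
  rfl

theorem tens_sum_pi {β γ : Type} [Fintype β] [DecidableEq β] [DecidableEq γ] (s : β → Finset γ)
    (X : β → γ → Matrix (Fin k) (Fin k) F) :
    tens (fun l => ∑ b ∈ s l, X l b) = ∑ y ∈ Fintype.piFinset s, tens (fun l => X l (y l)) := by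
  ext x z
  simp only [tens_apply, Matrix.sum_apply]
  exact Finset.prod_univ_sum s fun l b => X l b (x l) (z l)

variable [Finite F] {Q : QuadraticForm F ((Fin t → Fin k) → F)} {c : F}

namespace SSpace

variable (hV : SSpace Q J c)
include hV

theorem rO_mat {v : (Fin t → Fin k) → F} (hv : Q v ≠ 0) :
    (mt (rO hv) : Matrix (Fin t → Fin k) (Fin t → Fin k) F) =
      1 - (2 * (bf (GV J) v v)⁻¹) • rk (GV J) v v := by
  refine Matrix.toLin'.injective (LinearMap.ext fun x => ?_)
  rw [Matrix.toLin'_apply, Matrix.toLin'_apply, mt_mulVec, rO_apply, sub_mulVec, one_mulVec, smul_mulVec, rk_mulVec,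
    smul_smul, hV.pol, hV.Q_eq, hV.bf_comm x v]
  congr 2
  have hb : bf (GV J) v v ≠ 0 := fun e => hv (by rw [hV.Q_eq, e, mul_zero])
  have h2 := hV.sj.two
  have hc := hV.c0
  field_simp

/-- a reflection of a slot is a commutator -/
theorem refl_inC (hev : Even k) (ht : 2 ≤ t) (hsq : 3 ≤ t ∨ IsSquare J.det) (i : Fin t) {a : Fin k → F}
    (ha : bf J a a ≠ 0) : InCm Q (sl i (rf J a)) := by
  classical
  have hJ := hV.sj
  have hc0 : c / 2 ≠ 0 := div_ne_zero hV.c0 hJ.two
  obtain ⟨f, hf, hf0, hsum, d, hd0, hd⟩ := hJ.exists_orth_basis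
  haveI : Nontrivial (Fin t) := Fin.nontrivial_iff_two_le.2 ht
  let o : Fin k := ⟨0, by have := hJ.kk; omega⟩
  let s : Fin t → Finset (Fin k) := fun j => if j = i then {o} else Finset.univ
  let vec : Fin t → Fin k → Fin k → F := fun j x => if j = i then a else f x
  let v : (Fin t → Fin k) → (Fin t → Fin k) → F := fun y => pv fun j => vec j (y j)
  set S := Fintype.piFinset s with hS
  have hvec : ∀ j x, bf J (vec j x) (vec j x) ≠ 0 := fun j x => by
    simp only [vec]; split_ifs
    exacts [ha, hf0 x]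
  have hvv : ∀ y, bf (GV J) (v y) (v y) = ∏ j, bf J (vec j (y j)) (vec j (y j)) := fun y => bf_pv _ _
  have hvne : ∀ y, Q (v y) ≠ 0 := fun y => by
    rw [hV.Q_eq, hvv]
    exact mul_ne_zero hc0 (Finset.prod_ne_zero_iff.2 fun j _ => hvec j _)
  have horth : ∀ y ∈ S, ∀ y' ∈ S, y ≠ y' → bf (GV J) (v y) (v y') = 0 := by
    intro y hy y' hy' hne
    obtain ⟨j, hj⟩ := Function.ne_iff.1 hne
    rw [bf_pv]
    refine Finset.prod_eq_zero (Finset.mem_univ j) ?_
    have h1 := Fintype.mem_piFinset.1 hy j
    have h2 := Fintype.mem_piFinset.1 hy' j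
    rcases eq_or_ne j i with rfl | hji
    · simp only [s, if_true, Finset.mem_singleton] at h1 h2
      exact absurd (h1.trans h2.symm) hj
    · simp only [vec, if_neg hji]
      exact hf _ _ hj
  set P : (Fin t → Fin k) → Matrix (Fin t → Fin k) (Fin t → Fin k) F :=
    fun y => (bf (GV J) (v y) (v y))⁻¹ • rk (GV J) (v y) (v y) with hP
  -- the sum of the projections
  have hPsum : ∑ y ∈ S, P y = sl i ((bf J a a)⁻¹ • rk J a a) := by
    have e : ∀ y, P y = tens fun j => (bf J (vec j (y j)) (vec j (y j)))⁻¹ • rk J (vec j (y j)) (vec j (y j)) := by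
      intro y
      rw [tens_smul, ← rk_pv, Finset.prod_inv_distrib, ← hvv]
    rw [Finset.sum_congr rfl fun y _ => e y,
      ← tens_sum_pi s (fun j x => (bf J (vec j x) (vec j x))⁻¹ • rk J (vec j x) (vec j x)), sl]
    congr 1
    funext j
    rcases eq_or_ne j i with rfl | hji
    · simp [s, vec]
    · simp only [s, vec, if_neg hji, Function.update_of_ne hji, Pi.one_apply]
      exact hsum
  -- products of the reflections
  let b : S → (Fin t → Fin k) → F := fun y => v y.1
  have hb : ∀ y : S, Q (b y) ≠ 0 := fun y => hvne y.1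
  have hprod : ∀ l : List S, l.Nodup → (mt (l.map fun y => rO (hb y)).prod :
      Matrix (Fin t → Fin k) (Fin t → Fin k) F) = 1 - (2 : F) • (l.map fun y => P y.1).sum := by
    intro l hl
    induction l with
    | nil => simp [map_one, Units.val_one]
    | cons y l ih =>
      obtain ⟨hy, hl⟩ := List.nodup_cons.1 hl
      rw [List.map_cons, List.prod_cons, map_mul, Units.val_mul, ih hl, hV.rO_mat, List.map_cons, List.sum_cons]
      have h0 : ∀ l : List S, y ∉ l → rk (GV J) (v y.1) (v y.1) * (l.map fun z => P z.1).sum = 0 := by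
        intro l hl
        induction l with
        | nil => simp
        | cons z l ih' =>
          rw [List.mem_cons, not_or] at hl
          rw [List.map_cons, List.sum_cons, mul_add, ih' hl.2, add_zero, mul_smul_comm, rk_mul_rk,
            horth _ y.2 _ z.2 (fun e => hl.1 (Subtype.ext e)), zero_smul, smul_zero]
      have hR := h0 l hy
      simp only [hP] at hR ⊢
      simp only [sub_mul, one_mul, mul_sub, mul_one, smul_mul_assoc, mul_smul_comm, hR, smul_zero, sub_zero,
        smul_add, smul_smul, b]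
      abel
  set l := (Finset.univ : Finset S).toList with hl
  have hmat : (mt (l.map fun y => rO (hb y)).prod : Matrix (Fin t → Fin k) (Fin t → Fin k) F) = sl i (rf J a) := by
    rw [hprod l (Finset.nodup_toList _), hl, Finset.sum_map_toList, Finset.sum_coe_sort S P, hPsum, ← sl_smul, rf,
      ← sl_one (β := Fin t) (κ := Fin k) (F := F) i, smul_smul, ← div_eq_mul_inv, sub_eq_add_neg, ← neg_one_smul F
      (sl i _), ← sl_smul, ← sl_add, neg_one_smul, ← sub_eq_add_neg]
  refine ⟨_, ?_, hmat⟩
  obtain ⟨h1, h2⟩ := chars_list hV.nd hV.hex b hb l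
  have hlen : Even l.length := by
    rw [hl, Finset.length_toList, Finset.card_univ, Fintype.card_coe, hS, Fintype.card_piFinset]
    obtain ⟨j, hj⟩ := exists_ne i
    refine even_iff_two_dvd.2 (dvd_trans (even_iff_two_dvd.1 hev) ?_)
    refine dvd_trans ?_ (Finset.dvd_prod_of_mem _ (Finset.mem_univ j))
    simp [s, hj]
  rw [mem_commutator_chars hV.nd hV.hex, h1, hlen.neg_one_pow]
  refine ⟨rfl, fun h => ?_⟩
  rw [h2 h, hlen.neg_one_pow, one_mul, qs_eq_one]
  have e : (l.map fun y => Q (b y)).prod = ∏ y ∈ S, Q (v y) := by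
    rw [hl, Finset.prod_map_toList]
    exact Finset.prod_coe_sort S fun y => Q (v y)
  rw [e, Finset.prod_congr rfl fun y _ => by rw [hV.Q_eq, hvv], Finset.prod_mul_distrib, Finset.prod_const]
  have hcard : Even S.card := by rwa [hl, Finset.length_toList, Finset.card_univ, Fintype.card_coe] at hlen
  refine (hcard.isSquare_pow _).mul ?_
  rw [Finset.prod_comm]
  refine Finset.prod_induction _ IsSquare (fun _ _ => IsSquare.mul) IsSquare.one fun j _ => ?_
  rcases eq_or_ne j i with rfl | hji
  · simp only [vec, if_true, Finset.prod_const]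
    exact hcard.isSquare_pow _
  simp only [vec, if_neg hji]
  rw [← Finset.prod_fiberwise_of_maps_to' (g := fun y : Fin t → Fin k => y j) (t := Finset.univ)
    (fun _ _ => Finset.mem_univ _) (fun x => bf J (f x) (f x))]
  have hcount : ∀ x, (S.filter fun y => y j = x).card = ∏ l ∈ Finset.univ.erase j, (s l).card := fun x =>
    Fintype.card_filter_piFinset_eq_of_mem s j (by simp [s, hji])
  simp only [Finset.prod_const, hcount, Finset.prod_pow]
  by_cases h3 : 3 ≤ t
  · obtain ⟨m, hm⟩ : ∃ m, m ∉ ({i, j} : Finset (Fin t)) := by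
      by_contra! hall
      have := Finset.card_le_card (fun m (_ : m ∈ (Finset.univ : Finset (Fin t))) => hall m)
      rw [Finset.card_univ, Fintype.card_fin, Finset.card_pair (Ne.symm hji)] at this
      omega
    simp only [Finset.mem_insert, Finset.mem_singleton, not_or] at hm
    refine Even.isSquare_pow (even_iff_two_dvd.2 (dvd_trans (even_iff_two_dvd.1 hev) ?_)) _
    refine dvd_trans ?_ (Finset.dvd_prod_of_mem _ (Finset.mem_erase.2 ⟨hm.2, Finset.mem_univ m⟩))
    simp [s, hm.1]
  · have hone : ∏ l ∈ Finset.univ.erase j, (s l).card = 1 := Finset.prod_eq_one fun m hm => by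
      have hmi : m = i := by
        have h1 := Finset.ne_of_mem_erase hm
        have h2 : j.1 ≠ i.1 := fun e => hji (Fin.ext e)
        have h1' : m.1 ≠ j.1 := fun e => h1 (Fin.ext e)
        have := m.2; have := i.2; have := j.2
        exact Fin.ext (by omega)
      simp [s, hmi]
    rw [hone, pow_one, hd]
    exact (IsSquare.mul_self d).mul (hsq.resolve_left h3)

end SSpace

end Cfsg.Agent.ClassicalMax.OOWreath
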