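import Cfsg.Agent.ClassicalMax.TPow.Wreath
import Cfsg.Agent.ClassicalMax.TPow.Slot
import Cfsg.Agent.ClassicalMax.TPow.SpDecomp
import Cfsg.Agent.ClassicalMax.OTensor.Quadr

/-!
One slot: a non-degenerate symmetric form of dimension at least 3 in odd characteristic, its singular vectors, and the
root operators `rk p e - rk e p`.
-/

set_option autoImplicit false
set_option linter.unusedSectionVars false

namespace Cfsg.Agent.ClassicalMax.OOWreath

open Matrix Module QuadraticMap Cfsg.Agent.Classical Cfsg.Agent.Classical.Quad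
open Cfsg.Agent.ClassicalMax.TPow

variable {F : Type*} [Field F] {k : ℕ} {J : Matrix (Fin k) (Fin k) F}

/-- a slot: the form is symmetric, non-degenerate and of dimension at least 3, over a field with 5 elements when the
dimension is 3 -/
structure SJ (J : Matrix (Fin k) (Fin k) F) : Prop where
  two : (2 : F) ≠ 0
  symm : Jᵀ = J
  det : IsUnit J.det
  kk : 3 ≤ k
  q5 : 5 ≤ Nat.card F ∨ 4 ≤ k
  nop : k = 4 → ∀ p y : Fin k → F, p ≠ 0 → bf J p p = 0 → bf J y y = 0 → bf J p y = 0 → ∃ c : F, y = c • p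

/-- the quadratic form of a slot -/
noncomputable def qJ (J : Matrix (Fin k) (Fin k) F) : QuadraticForm F (Fin k → F) :=
  LinearMap.BilinMap.toQuadraticMap
    (Matrix.toLinearMap₂' F J : LinearMap.BilinMap F (Fin k → F) F)

theorem qJ_apply (J : Matrix (Fin k) (Fin k) F) (x : Fin k → F) : qJ J x = bf J x x := by
  rw [qJ, LinearMap.BilinMap.toQuadraticMap_apply, Matrix.toLinearMap₂'_apply']
  rfl

/-- the root operator -/
def xp (J : Matrix (Fin k) (Fin k) F) (p e : Fin k → F) : Matrix (Fin k) (Fin k) F := rk J p e - rk J e p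

/-- the root element -/
def eS (J : Matrix (Fin k) (Fin k) F) (p e : Fin k → F) : Matrix (Fin k) (Fin k) F :=
  1 + xp J p e + (2 : F)⁻¹ • (xp J p e * xp J p e)

theorem xp_neg (p e : Fin k → F) : xp J p (-e) = -xp J p e := by
  rw [← neg_one_smul F e, xp, xp, rk_smul_left, rk_smul_right]
  module

theorem xp_add (p e e' : Fin k → F) : xp J p (e + e') = xp J p e + xp J p e' := by
  rw [xp, xp, xp, rk_add_left, rk_add_right]; abel

theorem xp_smul (c : F) (p e : Fin k → F) : xp J p (c • e) = c • xp J p e := by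
  rw [xp, xp, rk_smul_left, rk_smul_right, smul_sub]

namespace SJ

variable (hJ : SJ J)
include hJ

theorem comm (u v : Fin k → F) : bf J u v = bf J v u := by
  rw [bf_swap J (ε := (1 : F)) (by rw [hJ.symm, one_smul]), one_mul]

theorem polar_qJ (x y : Fin k → F) : polar (qJ J) x y = 2 * bf J x y := by
  rw [polar, qJ_apply, qJ_apply, qJ_apply, bf_add_left, bf_add_right, bf_add_right, hJ.comm y x]
  ring

theorem qJ_nd : (polarBilin (qJ J)).Nondegenerate := by
  constructor <;> intro v hv <;> by_contra h <;> obtain ⟨w, hw⟩ := exists_bf_ne J hJ.det h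
  · have := hv w
    rw [polarBilin_apply_apply, hJ.polar_qJ] at this
    exact hw ((mul_eq_zero.1 this).resolve_left hJ.two)
  · have := hv w
    rw [polarBilin_apply_apply, hJ.polar_qJ, hJ.comm] at this
    exact hw ((mul_eq_zero.1 this).resolve_left hJ.two)

theorem finrank_slot : 3 ≤ finrank F (Fin k → F) := by
  rw [Module.finrank_fintype_fun_eq_card, Fintype.card_fin]; exact hJ.kk

theorem adjJ_rk (u v : Fin k → F) : adjJ J (rk J u v) = rk J v u := by
  rw [adjJ, Matrix.mul_assoc, rk_transpose J (ε := (1 : F)) (by rw [hJ.symm, one_smul]), one_smul,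
    ← Matrix.mul_assoc, nonsing_inv_mul J hJ.det, Matrix.one_mul]

theorem bf_adjJ (S : Matrix (Fin k) (Fin k) F) (u v : Fin k → F) :
    bf J (adjJ J S *ᵥ u) v = bf J u (S *ᵥ v) := by
  have e : J * adjJ J S = Sᵀ * J := by
    rw [adjJ, ← Matrix.mul_assoc, ← Matrix.mul_assoc, mul_nonsing_inv J hJ.det, Matrix.one_mul]
  rw [hJ.comm, bf, mulVec_mulVec, e, ← mulVec_mulVec, dotProduct_mulVec, vecMul_transpose, hJ.comm u, bf]

theorem rk_mul (S : Matrix (Fin k) (Fin k) F) (u v : Fin k → F) : rk J u v * S = rk J u (adjJ J S *ᵥ v) := by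
  refine Matrix.toLin'.injective (LinearMap.ext fun x => ?_)
  rw [Matrix.toLin'_apply, Matrix.toLin'_apply, ← mulVec_mulVec, rk_mulVec, rk_mulVec, hJ.bf_adjJ]

theorem rk_ne {u v : Fin k → F} (hu : u ≠ 0) (hv : v ≠ 0) : rk J u v ≠ 0 := rk_eq_zero J hJ.det hu hv

theorem xp_mul {p e e' : Fin k → F} (hp : bf J p p = 0) (he : bf J p e = 0) (he' : bf J p e' = 0) :
    xp J p e * xp J p e' = (-bf J e e') • rk J p p := by
  simp only [xp, mul_sub, sub_mul, rk_mul_rk, hp, he', hJ.comm e p, he, zero_smul, sub_zero, zero_sub, neg_smul]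

theorem xp_mul_rk {p e : Fin k → F} (hp : bf J p p = 0) (he : bf J p e = 0) :
    xp J p e * rk J p p = 0 ∧ rk J p p * xp J p e = 0 := by
  simp [xp, mul_sub, sub_mul, rk_mul_rk, hp, he, hJ.comm e p]

theorem eS_eq {p e : Fin k → F} (hp : bf J p p = 0) (he : bf J p e = 0) :
    eS J p e = 1 + xp J p e + (-(bf J e e / 2)) • rk J p p := by
  rw [eS, hJ.xp_mul hp he he, smul_smul, div_eq_mul_inv, mul_neg, mul_comm (2 : F)⁻¹]

theorem eS_inv {p e : Fin k → F} (hp : bf J p p = 0) (he : bf J p e = 0) : eS J p e * eS J p (-e) = 1 := by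
  have he' : bf J p (-e) = 0 := by rw [← neg_one_smul F e, bf_smul_right, he, mul_zero]
  have hq : bf J (-e) (-e) = bf J e e := by
    rw [← neg_one_smul F e, bf_smul_left, bf_smul_right]; ring
  obtain ⟨h1, h2⟩ := hJ.xp_mul_rk hp he
  rw [hJ.eS_eq hp he, hJ.eS_eq hp he', hq, xp_neg]
  simp only [add_mul, mul_add, one_mul, mul_one, mul_neg, smul_mul_assoc, mul_smul_comm, h1, h2, rk_mul_rk, hp,
    zero_smul, smul_zero, neg_zero, hJ.xp_mul hp he he]
  have h2' := hJ.two
  match_scalars <;> field_simp <;> ring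

variable [Finite F]

theorem exists_iso : ∃ p, p ≠ 0 ∧ bf J p p = 0 := by
  obtain ⟨p, hp, h⟩ := exists_singular (qJ J) hJ.finrank_slot
  exact ⟨p, hp, by rw [← qJ_apply]; exact h⟩

/-- a singular partner and a non-singular vector orthogonal to the pair -/
theorem exists_frame {p : Fin k → F} (hp0 : p ≠ 0) (hp : bf J p p = 0) :
    ∃ q e, bf J q q = 0 ∧ bf J p q = 1 ∧ bf J p e = 0 ∧ bf J q e = 0 ∧ bf J e e ≠ 0 := by
  obtain ⟨f, hf, hpf⟩ := exists_hyp_pair hJ.qJ_nd hp0 (by rw [qJ_apply, hp])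
  obtain ⟨u, hpu, hfu, hu⟩ := exists_aniso_perp hJ.qJ_nd hJ.finrank_slot (by rw [qJ_apply, hp]) hf hpf
  rw [qJ_apply] at hf hu
  rw [hJ.polar_qJ] at hpf hpu hfu
  have h1 := (mul_eq_zero.1 hpu).resolve_left hJ.two
  have h2 := (mul_eq_zero.1 hfu).resolve_left hJ.two
  refine ⟨(2 : F) • f, u, ?_, ?_, h1, ?_, hu⟩
  · rw [bf_smul_left, bf_smul_right, hf]; simp
  · rw [bf_smul_right, hpf]
  · rw [bf_smul_left, h2, mul_zero]

/-- two orthogonal non-singular vectors orthogonal to a pair, in dimension at least 4 -/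
theorem exists_frame4 (hk : 4 ≤ k) {p q e : Fin k → F} (hp : bf J p p = 0) (hq : bf J q q = 0)
    (hpq : bf J p q = 1) (hpe : bf J p e = 0) (hqe : bf J q e = 0) (he : bf J e e ≠ 0) :
    ∃ e', bf J p e' = 0 ∧ bf J q e' = 0 ∧ bf J e e' = 0 ∧ bf J e' e' ≠ 0 := by
  by_contra! hall
  let π : (Fin k → F) → (Fin k → F) := fun z =>
    z + (-bf J q z) • p + (-bf J p z) • q + (-(bf J e z / bf J e e)) • e
  have hπ : ∀ z, bf J p (π z) = 0 ∧ bf J q (π z) = 0 ∧ bf J e (π z) = 0 := fun z => by
    refine ⟨?_, ?_, ?_⟩ <;>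
      simp only [π, bf_add_right, bf_smul_right, hp, hq, hpq, hJ.comm q p, hpe, hqe, hJ.comm e p, hJ.comm e q,
        mul_zero, mul_one, add_zero, zero_add, add_neg_cancel] <;> field_simp <;> ring
  have hzero : ∀ z, π z = 0 := fun z => by
    by_contra hz
    obtain ⟨w, hw⟩ := exists_bf_ne J hJ.det hz
    obtain ⟨a, b, c⟩ := hπ z
    obtain ⟨a', b', c'⟩ := hπ w
    have hsum : ∀ u v, (bf J p u = 0 ∧ bf J q u = 0 ∧ bf J e u = 0) → (bf J p v = 0 ∧ bf J q v = 0 ∧ bf J e v = 0) →
        bf J u v = 0 := fun u v hu hv => by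
      have h1 := hall u hu.1 hu.2.1 hu.2.2
      have h2 := hall v hv.1 hv.2.1 hv.2.2
      have h3 := hall (u + v) (by rw [bf_add_right, hu.1, hv.1, add_zero]) (by rw [bf_add_right, hu.2.1, hv.2.1, add_zero])
        (by rw [bf_add_right, hu.2.2, hv.2.2, add_zero])
      rw [bf_add_left, bf_add_right, bf_add_right, h1, h2, hJ.comm v u, zero_add, add_zero, ← two_mul] at h3
      exact (mul_eq_zero.1 h3).resolve_left hJ.two
    have h3 := hsum _ _ (hπ z) (hπ w)
    have h4 : bf J (π z) (π w) = bf J (π z) w := by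
      show bf J (π z) (w + _ + _ + _) = _
      simp only [bf_add_right, bf_smul_right, hJ.comm (π z) p, hJ.comm (π z) q, hJ.comm (π z) e, a, b, c, mul_zero,
        add_zero]
    rw [h4] at h3
    exact hw h3
  have hle : (⊤ : Submodule F (Fin k → F)) ≤ Submodule.span F (Set.range ![p, q, e]) := fun z _ => by
    have h := hzero z
    have e1 : z = (bf J q z) • p + (bf J p z) • q + (bf J e z / bf J e e) • e := by
      rw [← sub_eq_zero, ← h]; simp only [π]; module
    rw [e1]
    exact Submodule.add_mem _ (Submodule.add_mem _ (Submodule.smul_mem _ _ (Submodule.subset_span ⟨0, rfl⟩))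
      (Submodule.smul_mem _ _ (Submodule.subset_span ⟨1, rfl⟩))) (Submodule.smul_mem _ _ (Submodule.subset_span ⟨2, rfl⟩))
  have h1 := Submodule.finrank_mono hle
  rw [finrank_top, Module.finrank_fintype_fun_eq_card, Fintype.card_fin] at h1
  have h2 := finrank_range_le_card (R := F) ![p, q, e]
  rw [Fintype.card_fin] at h2
  simp only [Set.finrank] at h2
  omega

/-- a subspace containing the singular vectors is everything -/
theorem iso_span (S : Submodule F (Fin k → F)) (h : ∀ g, bf J g g = 0 → g ∈ S) : S = ⊤ := by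
  obtain ⟨p, hp0, hp⟩ := hJ.exists_iso
  exact OTensor.top_of_partners hJ.two hJ.qJ_nd hJ.finrank_slot hp0 (by rw [qJ_apply, hp]) S
    fun g hg _ => h g (by rw [← qJ_apply, hg])

/-- a subspace containing the singular partners of a singular vector is everything -/
theorem partner_span {p : Fin k → F} (hp0 : p ≠ 0) (hp : bf J p p = 0) (S : Submodule F (Fin k → F))
    (h : ∀ g, bf J g g = 0 → bf J p g ≠ 0 → g ∈ S) : S = ⊤ :=
  OTensor.top_of_partners hJ.two hJ.qJ_nd hJ.finrank_slot hp0 (by rw [qJ_apply, hp]) S fun g hg hpg =>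
    h g (by rw [← qJ_apply, hg]) fun e => by rw [hJ.polar_qJ, e, mul_zero] at hpg; exact zero_ne_one hpg

/-- an operator with vanishing values on the singular vectors has scalar symmetric part -/
theorem cone {S : Matrix (Fin k) (Fin k) F} (h : ∀ p, bf J p p = 0 → bf J p (S *ᵥ p) = 0) :
    ∃ κ : F, S + adjJ J S = κ • (1 : Matrix (Fin k) (Fin k) F) := by
  set B := S + adjJ J S with hB
  have hsym : ∀ x y, bf J (B *ᵥ x) y = bf J x (B *ᵥ y) := fun x y => by
    simp only [hB, add_mulVec, bf_add_left, bf_add_right, hJ.bf_adjJ]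
    rw [hJ.comm (S *ᵥ x) y, ← hJ.bf_adjJ, hJ.comm (adjJ J S *ᵥ y) x]
    ring
  have hd : ∀ p, bf J p p = 0 → bf J p (B *ᵥ p) = 0 := fun p hp => by
    simp only [hB, add_mulVec, bf_add_right, h p hp, zero_add]
    rw [hJ.comm, hJ.bf_adjJ, h p hp]
  have key : ∀ p, qJ J p = 0 → Matrix.toLin' B p ∈ F ∙ p := by
    intro p hp'
    rw [qJ_apply] at hp'
    rw [Matrix.toLin'_apply]
    rcases eq_or_ne p 0 with rfl | hp0
    · simp
    refine OTensor.mem_line_of_perp hJ.qJ_nd fun y hpy => ?_
    rw [hJ.polar_qJ] at hpy ⊢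
    have hpy := (mul_eq_zero.1 hpy).resolve_left hJ.two
    obtain ⟨g, e, hg, hpg, hpe, hge, he⟩ := hJ.exists_frame hp0 hp'
    -- the cubic in a parameter
    have hf : ∀ x, bf J p x = 0 → bf J g x = 0 → ∀ t : F,
        2 * t * bf J (B *ᵥ p) x + t ^ 2 * (bf J (B *ᵥ x) x - bf J x x * bf J (B *ᵥ p) g) -
          t ^ 3 * bf J x x * bf J (B *ᵥ x) g = 0 := by
      intro x hpx hgx t
      have h2 := hJ.two
      have h1 := hd (p + t • x + (-(t ^ 2) * bf J x x / 2) • g) (by
        simp only [bf_add_left, bf_add_right, bf_smul_left, bf_smul_right, hp', hg, hpg, hJ.comm g p, hpx,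
          hJ.comm x p, hgx, hJ.comm x g]
        field_simp
        ring)
      simp only [mulVec_add, mulVec_smul, bf_add_left, bf_add_right, bf_smul_left, bf_smul_right] at h1
      rw [show bf J x (B *ᵥ p) = bf J (B *ᵥ p) x from hJ.comm _ _, show bf J p (B *ᵥ x) = bf J (B *ᵥ p) x from
        (hsym p x).symm, show bf J g (B *ᵥ p) = bf J (B *ᵥ p) g from hJ.comm _ _, show bf J p (B *ᵥ g) =
        bf J (B *ᵥ p) g from (hsym p g).symm, show bf J x (B *ᵥ x) = bf J (B *ᵥ x) x from hJ.comm _ _,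
        show bf J g (B *ᵥ x) = bf J (B *ᵥ x) g from hJ.comm _ _, show bf J x (B *ᵥ g) = bf J (B *ᵥ x) g from
        (hsym x g).symm, hd p hp', hd g hg] at h1
      field_simp at h1
      have : (2 * 2 : F) * (2 * t * bf J (B *ᵥ p) x + t ^ 2 * (bf J (B *ᵥ x) x - bf J x x * bf J (B *ᵥ p) g) -
          t ^ 3 * bf J x x * bf J (B *ᵥ x) g) = 0 := by linear_combination h1
      exact (mul_eq_zero.1 this).resolve_left (mul_ne_zero h2 h2)
    have hodd : ∀ x, bf J p x = 0 → bf J g x = 0 →
        2 * bf J (B *ᵥ p) x = bf J x x * bf J (B *ᵥ x) g := fun x hpx hgx => by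
      have : (2 : F) * (2 * bf J (B *ᵥ p) x - bf J x x * bf J (B *ᵥ x) g) = 0 := by
        linear_combination hf x hpx hgx 1 - hf x hpx hgx (-1)
      exact sub_eq_zero.1 ((mul_eq_zero.1 this).resolve_left hJ.two)
    have hE : ∀ x, bf J p x = 0 → bf J g x = 0 → bf J (B *ᵥ p) x = 0 := by
      intro x hpx hgx
      by_cases hq : 5 ≤ Nat.card F
      · classical
        letI := Fintype.ofFinite F
        obtain ⟨s, -, hs⟩ := Finset.exists_mem_notMem_of_card_lt_card (s := ({0, 1, -1} : Finset F))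
          (t := Finset.univ) (lt_of_le_of_lt Finset.card_le_three (by
            rw [Finset.card_univ, ← Nat.card_eq_fintype_card]; omega))
        simp only [Finset.mem_insert, Finset.mem_singleton, not_or] at hs
        obtain ⟨hs0, hs1, hs2⟩ := hs
        have e1 := hodd x hpx hgx
        have e2 := hodd (s • x) (by rw [bf_smul_right, hpx, mul_zero]) (by rw [bf_smul_right, hgx, mul_zero])
        simp only [mulVec_smul, bf_smul_left, bf_smul_right] at e2
        have e3 : (2 * s * ((s - 1) * (s + 1))) * bf J (B *ᵥ p) x = 0 := by linear_combination (s ^ 3) * e1 - e2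
        exact (mul_eq_zero.1 e3).resolve_left (mul_ne_zero (mul_ne_zero hJ.two hs0)
          (mul_ne_zero (sub_ne_zero.2 hs1) fun e => hs2 (eq_neg_of_add_eq_zero_left e)))
      · have hk : 4 ≤ k := hJ.q5.resolve_left hq
        by_cases hx : bf J x x = 0
        · have := hodd x hpx hgx
          rw [hx, zero_mul] at this
          exact (mul_eq_zero.1 this).resolve_left hJ.two
        obtain ⟨y, hpy', hgy, hxy, hy⟩ := hJ.exists_frame4 hk hp' hg hpg hpx hgx hx
        have e1 := hodd x hpx hgx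
        have e2 := hodd y hpy' hgy
        have e3 := hodd (x + y) (by rw [bf_add_right, hpx, hpy', add_zero]) (by rw [bf_add_right, hgx, hgy, add_zero])
        have e4 := hodd (x + (-1 : F) • y) (by rw [bf_add_right, bf_smul_right, hpx, hpy']; ring)
          (by rw [bf_add_right, bf_smul_right, hgx, hgy]; ring)
        simp only [mulVec_add, mulVec_smul, bf_add_left, bf_add_right, bf_smul_left, bf_smul_right, hJ.comm y x,
          hxy] at e3 e4
        have hM : bf J (B *ᵥ x) g = 0 := by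
          have : 2 * bf J y y * bf J (B *ᵥ x) g = 0 := by linear_combination 2 * e1 - e3 - e4
          exact (mul_eq_zero.1 this).resolve_left (mul_ne_zero hJ.two hy)
        rw [hM, mul_zero] at e1
        exact (mul_eq_zero.1 e1).resolve_left hJ.two
    set x := y + (-bf J g y) • p with hx
    have h0 := hE x (by rw [hx, bf_add_right, bf_smul_right, hpy, hp']; ring)
      (by rw [hx, bf_add_right, bf_smul_right, hJ.comm g p, hpg]; ring)
    rw [hx, bf_add_right, bf_smul_right, hJ.comm (B *ᵥ p) p, hd p hp', mul_zero, add_zero] at h0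
    rw [h0, mul_zero]
  obtain ⟨κ, hκ⟩ := OTensor.scalar_of_sing hJ.two hJ.qJ_nd hJ.finrank_slot (Matrix.toLin' B) (Matrix.toLin' B)
    (fun x y => by rw [hJ.polar_qJ, hJ.polar_qJ, Matrix.toLin'_apply, Matrix.toLin'_apply, hsym]) key key
  refine ⟨κ, Matrix.toLin'.injective (LinearMap.ext fun x => ?_)⟩
  rw [hκ, map_smul, Matrix.toLin'_one]
  rfl

/-- a skew operator other than zero moves a singular vector off its line -/
theorem exists_moved {A : Matrix (Fin k) (Fin k) F} (hA : adjJ J A = -A) (h0 : A ≠ 0) :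
    ∃ p, bf J p p = 0 ∧ ∀ c : F, A *ᵥ p ≠ c • p := by
  obtain ⟨p, hp, h⟩ := OTensor.exists_moved hJ.two hJ.qJ_nd hJ.finrank_slot (S := Matrix.toLin' A) (fun x y => by
    rw [hJ.polar_qJ, hJ.polar_qJ, Matrix.toLin'_apply, Matrix.toLin'_apply, ← hJ.bf_adjJ, hA, neg_mulVec,
      ← neg_one_smul F (A *ᵥ x), bf_smul_left]
    ring) (fun e => h0 (Matrix.toLin'.injective (e.trans (map_zero _).symm)))
  refine ⟨p, by rw [← qJ_apply, hp], fun c e => h (Submodule.mem_span_singleton.2 ⟨c, ?_⟩)⟩
  rw [Matrix.toLin'_apply, e]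

end SJ

end Cfsg.Agent.ClassicalMax.OOWreath
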