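import Cfsg.Agent.ClassicalMax.OOWreath.Classify
import Cfsg.Agent.ClassicalMax.OOWreath.RadReduce
import Cfsg.Agent.ClassicalMax.OOWreath.Multi
import Cfsg.Agent.ClassicalMax.SpWreath.Struct

/-!
An element sending a root-stable family of signed reflections of a slot to signed reflections maps the slot to a slot.
-/

set_option autoImplicit false
set_option linter.unusedSectionVars false
set_option linter.unusedSimpArgs false

namespace Cfsg.Agent.ClassicalMax.OOWreath

open Matrix Cfsg.Agent.ClassicalMax.TPow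
open Cfsg.Agent.ClassicalMax.SpWreath (GV GV_det)

variable {F : Type*} [Field F] {k t : ℕ} {J : Matrix (Fin k) (Fin k) F}

theorem rk_conj (hJ : SJ J) (A : Matrix (Fin k) (Fin k) F) (u v : Fin k → F) :
    A * rk J u v * adjJ J A = rk J (A *ᵥ u) (A *ᵥ v) := by
  rw [mul_rk, hJ.rk_mul, adj_adj hJ.symm hJ.det]

theorem bf_iso (hJ : SJ J) {A : Matrix (Fin k) (Fin k) F} (hA : adjJ J A * A = 1) (u v : Fin k → F) :
    bf J (A *ᵥ u) (A *ᵥ v) = bf J u v := by
  conv_lhs => rw [← adj_adj hJ.symm hJ.det A, hJ.bf_adjJ, adj_adj hJ.symm hJ.det, mulVec_mulVec, hA, one_mulVec]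

theorem dl_conj (hJ : SJ J) {A : Matrix (Fin k) (Fin k) F} (hA : adjJ J A * A = 1) (u : Fin k → F) :
    A * dl J u * adjJ J A = dl J (A *ᵥ u) := by
  simp only [dl, rf, mul_smul_comm, smul_mul_assoc, mul_sub, sub_mul, mul_one, rk_conj hJ, mul_eq_one_comm.1 hA,
    bf_iso hJ hA]

theorem eS_iso (hJ : SJ J) {p e : Fin k → F} (hp : bf J p p = 0) (he : bf J p e = 0) :
    adjJ J (eS J p e) * eS J p e = 1 ∧ eS J p e * adjJ J (eS J p e) = 1 := by
  rw [eS_adj hJ hp he]
  exact ⟨mul_eq_one_comm.1 (hJ.eS_inv hp he), hJ.eS_inv hp he⟩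

theorem dl_ne_scalar (hJ : SJ J) {u : Fin k → F} (hu : bf J u u ≠ 0) (c : F) : dl J u ≠ c • 1 := fun h => by
  have hk := hJ.kk
  obtain ⟨w, hw, hw0⟩ := hJ.exists_orth (n := 1) (by omega) ![u] (fun a b e => absurd (Subsingleton.elim a b) e)
    (fun _ => by simpa using hu)
  have h1 := congrArg (fun X => bf J u (X *ᵥ u)) h
  have h2 := congrArg (fun X => bf J w (X *ᵥ w)) h
  simp only [smul_mulVec, one_mulVec, dl_self hu, bf_smul_right] at h1
  simp only [smul_mulVec, one_mulVec, dl_perp (show bf J u w = 0 from hw0 0), bf_smul_right] at h2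
  have e1 := mul_right_cancel₀ hu h1
  have e2 := mul_right_cancel₀ hw h2
  exact sg_ne (F := F) (k := k) ((mul_eq_zero.1
    (show (2 : F) * sg F k = 0 by linear_combination e2 - e1)).resolve_left hJ.two)

theorem slot_eq [Nonempty (Fin k)] {i j : Fin t} {A B : Matrix (Fin k) (Fin k) F} (h : sl i A = sl j B)
    (hA : ∀ c : F, A ≠ c • 1) : i = j := by
  classical
  by_contra hij
  obtain ⟨a⟩ := ‹Nonempty (Fin k)›
  have hc : ∀ C, Commute (sl (β := Fin t) i A) (sl i C) := fun C => h ▸ sl_commute (Ne.symm hij) B C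
  refine hA (A a a) (Matrix.ext fun x y => ?_)
  have h1 := congrFun (congrFun (sl_injective i ((sl_mul i A _).symm.trans ((hc (Matrix.single y a 1)).eq.trans
    (sl_mul i _ A)))) x) a
  simp only [Matrix.mul_apply, Matrix.single_apply, ite_and, mul_ite, ite_mul, one_mul, mul_one, zero_mul,
    mul_zero, Finset.sum_ite_eq, Finset.mem_univ, if_true] at h1
  rw [Matrix.smul_apply, Matrix.one_apply, smul_eq_mul, mul_ite, mul_one, mul_zero, h1]
  rcases eq_or_ne x y with rfl | hxy <;> simp [*, Ne.symm]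

theorem rf_comm (hJ : SJ J) {u v : Fin k → F} (hu : bf J u u ≠ 0) (hv : bf J v v ≠ 0)
    (h : Commute (dl J u) (dl J v)) : bf J u v = 0 ∨ dl J u = dl J v := by
  by_cases h0 : bf J u v = 0
  · exact Or.inl h0
  refine Or.inr ?_
  have hc : rf J u * rf J v = rf J v * rf J u := by
    have := h.eq
    simp only [dl, smul_mul_assoc, mul_smul_comm, smul_smul, sg_sq, one_smul] at this
    exact this
  have h1 := congrArg (· *ᵥ v) hc
  simp only [← mulVec_mulVec] at h1
  rw [rf_self hv, mulVec_neg, rf_mulVec, rf_mulVec v] at h1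
  obtain ⟨κ, hκ⟩ : ∃ κ, κ = 2 / bf J u u * bf J u v := ⟨_, rfl⟩
  obtain ⟨lam, hlam⟩ : ∃ lam, lam = 2 / bf J v v * bf J v (v + (-κ) • u) := ⟨_, rfl⟩
  rw [← hκ, ← hlam] at h1
  have hκ0 : κ ≠ 0 := hκ ▸ mul_ne_zero (div_ne_zero hJ.two hu) h0
  have e : u = ((2 - lam) * (-(2 * κ))⁻¹ * (-1 : F)) • v := by
    refine smul_right_injective _ (mul_ne_zero hJ.two hκ0) ?_
    have h2 : ((2 : F) * κ) • u = (2 - lam) • v := by linear_combination (norm := module) h1
    simp only [h2, smul_smul]
    congr 1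
    have := hJ.two
    field_simp
  rw [e, dl, dl, rf_smul]
  intro hz
  rw [hz, zero_smul] at e
  exact hu (by rw [e, bf, zero_dotProduct])

variable [Finite F] {Sg : Finset (Fin t)} {G : Subgroup (GL (Fin t → Fin k) F)}

namespace Setting

variable (hS : Setting J Sg G)
include hS

theorem mem_Sg {l : Fin t} {A : Matrix (Fin k) (Fin k) F} (h : MG G (sl l A)) (hA : ∀ c : F, A ≠ c • 1) : l ∈ Sg := by
  by_contra hl
  have hk := hS.sj.kk
  haveI : Nonempty (Fin k) := ⟨⟨0, by omega⟩⟩
  refine hA _ (SpWreath.scalar_of_commute fun B => sl_injective l ?_).choose_spec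
  rw [← sl_mul, ← sl_mul]
  exact (hS.out' h hl B).eq

/-- the image of a root-stable family of reflections -/
theorem slot_image {g : Matrix (Fin t → Fin k) (Fin t → Fin k) F} (hg : MG G g) {j : Fin t}
    (C : (Fin k → F) → Prop) (hC0 : ∀ c, C c → bf J c c ≠ 0)
    (hCr : ∀ c p e, C c → bf J p p = 0 → bf J p e = 0 → C (eS J p e *ᵥ c)) (hCne : ∃ c, C c)
    (him : ∀ c, C c → ∃ (l : Fin t) (u : Fin k → F), bf J u u ≠ 0 ∧
      g * sl j (dl J c) * adjJ (GV J) g = sl l (dl J u)) :
    ∃ l, ∀ A, ∃ B, g * sl j A = sl l B * g := by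
  classical
  have hJ := hS.sj
  have hk := hJ.kk
  haveI : Nonempty (Fin k) := ⟨⟨0, by omega⟩⟩
  obtain ⟨-, hg1, hg2⟩ := hS.adj_inv hg
  have hinj : ∀ {X Y : Matrix (Fin t → Fin k) (Fin t → Fin k) F},
      g * X * adjJ (GV J) g = g * Y * adjJ (GV J) g → X = Y := fun {X Y} e => by
    have := congrArg (fun Z => adjJ (GV J) g * Z * g) e
    simpa only [← mul_assoc, hg1, one_mul, mul_assoc _ _ g, mul_one] using this
  choose L U hU hLU using him
  have hsame : ∀ c (hc : C c) c' (hc' : C c'), bf J c c' ≠ 0 → L c hc = L c' hc' := fun c hc c' hc' hne => by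
    by_contra hL
    have h1 : Commute (sl (β := Fin t) j (dl J c)) (sl j (dl J c')) := by
      refine hinj ?_
      have e : ∀ X Y, g * (X * Y) * adjJ (GV J) g = g * X * adjJ (GV J) g * (g * Y * adjJ (GV J) g) := fun X Y => by
        rw [show g * X * adjJ (GV J) g * (g * Y * adjJ (GV J) g) = g * X * (adjJ (GV J) g * g) * Y * adjJ (GV J) g by
          simp only [mul_assoc], hg1, mul_one]
        simp only [mul_assoc]
      rw [e, e, hLU c hc, hLU c' hc']
      exact sl_commute hL _ _
    rw [Commute, SemiconjBy, sl_mul, sl_mul] at h1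
    rcases rf_comm hJ (hC0 c hc) (hC0 c' hc') (sl_injective j h1) with h | h
    · exact hne h
    · refine hL (slot_eq ((hLU c hc).symm.trans ((congrArg (fun A => g * sl j A * adjJ (GV J) g) h).trans
        (hLU c' hc'))) (dl_ne_scalar hJ (hU c hc)))
  obtain ⟨c0, hc0⟩ := hCne
  have hall : ∀ c (hc : C c), L c hc = L c0 hc0 := by
    intro c hc
    by_contra hne
    let W : Submodule F (Fin k → F) := Submodule.span F {v | ∃ h : C v, L v h = L c0 hc0}
    have hW0 : c0 ∈ W := Submodule.subset_span ⟨hc0, rfl⟩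
    obtain ⟨p, hp, hpc⟩ : ∃ p, bf J p p = 0 ∧ bf J c0 p ≠ 0 := by
      by_contra! h
      let S : Submodule F (Fin k → F) :=
        { carrier := {w | bf J c0 w = 0}
          zero_mem' := by simp [bf]
          add_mem' := fun {x y} hx hy => by
            show bf J c0 (x + y) = 0
            rw [bf_add_right, show bf J c0 x = 0 from hx, show bf J c0 y = 0 from hy, add_zero]
          smul_mem' := fun a x hx => by
            show bf J c0 (a • x) = 0
            rw [bf_smul_right, show bf J c0 x = 0 from hx, mul_zero] }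
      have hS' : S = ⊤ := hJ.iso_span S fun g hg => h g hg
      exact hC0 c0 hc0 (show c0 ∈ S from hS' ▸ Submodule.mem_top)
    have hp0 : p ≠ 0 := fun e => hpc (by rw [e]; simp [bf])
    have hpc' : bf J p c0 ≠ 0 := by rwa [hJ.comm]
    obtain ⟨N, hN⟩ : ∃ N, N = 2 * bf J c0 c0 / (bf J p c0 * bf J p c0) := ⟨_, rfl⟩
    have heS : ∀ e, bf J p e = 0 → eS J p e *ᵥ c0 =
        c0 + bf J e c0 • p - bf J p c0 • e + (-(bf J e e / 2) * bf J p c0) • p := fun e he => by
      rw [hJ.eS_eq hp he, xp, add_mulVec, add_mulVec, one_mulVec, sub_mulVec, smul_mulVec, rk_mulVec, rk_mulVec,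
        rk_mulVec, smul_smul]
      module
    have hin : ∀ e, bf J p e = 0 → bf J e e ≠ N → eS J p e *ᵥ c0 ∈ W := fun e he hNe => by
      refine Submodule.subset_span ⟨hCr c0 p e hc0 hp he, (hsame c0 hc0 _ _ ?_).symm⟩
      rw [heS e he, sub_eq_add_neg, ← neg_smul, bf_add_right, bf_add_right, bf_add_right, bf_smul_right,
        bf_smul_right, bf_smul_right, hJ.comm c0 p, hJ.comm c0 e]
      intro h0
      refine hNe ?_
      have h2 := hJ.two
      rw [hN, eq_div_iff (mul_ne_zero hpc' hpc')]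
      field_simp at h0
      linear_combination -h0
    obtain ⟨e0, he0, he00, he0N⟩ : ∃ e, bf J p e = 0 ∧ bf J e e ≠ 0 ∧ bf J e e ≠ N := by
      obtain ⟨q, e, hq, hpq, hpe, hqe, he⟩ := hJ.exists_frame hp0 hp
      by_contra! hbad
      have h1 := hbad e hpe he
      by_cases h5 : 5 ≤ Nat.card F
      · letI := Fintype.ofFinite F
        obtain ⟨s, -, hs⟩ := Finset.exists_mem_notMem_of_card_lt_card (s := ({0, 1, -1} : Finset F))
          (t := Finset.univ) (lt_of_le_of_lt Finset.card_le_three (by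
            rw [Finset.card_univ, ← Nat.card_eq_fintype_card]; omega))
        simp only [Finset.mem_insert, Finset.mem_singleton, not_or] at hs
        obtain ⟨hs0, hs1, hs2⟩ := hs
        have hee : bf J (s • e) (s • e) = s * s * bf J e e := by rw [bf_smul_left, bf_smul_right]; ring
        have h3 := hbad (s • e) (by rw [bf_smul_right, hpe, mul_zero])
          (by rw [hee]; exact mul_ne_zero (mul_ne_zero hs0 hs0) he)
        rw [hee, h1] at h3
        have hN0 : N ≠ 0 := h1 ▸ he
        have h4 : (s - 1) * (s + 1) = 0 := mul_right_cancel₀ hN0 (by linear_combination h3)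
        rcases mul_eq_zero.1 h4 with h | h
        · exact hs1 (sub_eq_zero.1 h)
        · exact hs2 (eq_neg_of_add_eq_zero_left h)
      · obtain ⟨e', hpe', -, hee', he'⟩ := hJ.exists_frame4 (hJ.q5.resolve_left h5) hp hq hpq hpe hqe he
        have h2 := hbad e' hpe' he'
        have hv : bf J (e + e') (e + e') = N + N := by
          rw [bf_add_left, bf_add_right, bf_add_right, h1, h2, hJ.comm e' e, hee']; ring
        have hN0 : N ≠ 0 := h1 ▸ he
        have h3 := hbad (e + e') (by rw [bf_add_right, hpe, hpe', add_zero])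
          (by rw [hv, ← two_mul]; exact mul_ne_zero hJ.two hN0)
        rw [hv] at h3
        exact hN0 (by linear_combination h3)
    have hneg : ∀ e, bf J p e = 0 → bf J p (-e) = 0 ∧ bf J (-e) (-e) = bf J e e := fun e he =>
      ⟨by rw [← neg_one_smul F e, bf_smul_right, he, mul_zero],
        by rw [← neg_one_smul F e, bf_smul_left, bf_smul_right]; ring⟩
    have hX : ∀ e, bf J p e = 0 → bf J e e ≠ N → bf J e c0 • p - bf J p c0 • e ∈ W := fun e he hNe => by
      have h2 := hJ.two
      obtain ⟨hn1, hn2⟩ := hneg e he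
      have h1 := W.smul_mem (2 : F)⁻¹ (W.sub_mem (hin e he hNe) (hin (-e) hn1 (hn2 ▸ hNe)))
      rw [heS e he, heS _ hn1, hn2, ← neg_one_smul F e, bf_smul_left] at h1
      refine cast (congrArg (· ∈ W) ?_) h1
      match_scalars <;> field_simp <;> ring
    have hpW : p ∈ W := by
      have h2 := hJ.two
      obtain ⟨hn1, hn2⟩ := hneg e0 he0
      have h1 := W.smul_mem (-(bf J e0 e0) * bf J p c0)⁻¹
        (W.sub_mem (W.add_mem (hin e0 he0 he0N) (hin (-e0) hn1 (hn2 ▸ he0N))) (W.smul_mem 2 hW0))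
      rw [heS e0 he0, heS _ hn1, hn2, ← neg_one_smul F e0, bf_smul_left] at h1
      refine cast (congrArg (· ∈ W) ?_) h1
      match_scalars <;> field_simp <;> ring
    have heW : ∀ e, bf J p e = 0 → e ∈ W := fun e he => by
      have hgood : ∀ e, bf J p e = 0 → bf J e e ≠ N → e ∈ W := fun e he hNe => by
        have h1 := W.smul_mem (-(bf J p c0))⁻¹ (W.sub_mem (hX e he hNe) (W.smul_mem (bf J e c0) hpW))
        refine cast (congrArg (· ∈ W) ?_) h1
        match_scalars <;> field_simp <;> ring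
      by_cases hb : bf J e e = N
      swap
      · exact hgood e he hb
      have h0 := hgood e0 he0 he0N
      by_cases hplus : bf J (e + e0) (e + e0) = N
      · have hm : bf J (e + (-1 : F) • e0) (e + (-1 : F) • e0) ≠ N := fun hm => by
          simp only [bf_add_left, bf_add_right, bf_smul_left, bf_smul_right, hJ.comm e0 e] at hplus hm
          refine he00 ((mul_eq_zero.1 (?_ : (2 : F) * bf J e0 e0 = 0)).resolve_left hJ.two)
          linear_combination hplus + hm - 2 * hb
        have := W.add_mem (hgood _ (by rw [bf_add_right, bf_smul_right, he, he0]; ring) hm) h0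
        refine cast (congrArg (· ∈ W) ?_) this
        module
      · have := W.sub_mem (hgood _ (by rw [bf_add_right, he, he0, add_zero]) hplus) h0
        simpa using this
    have htop : ∀ z, z ∈ W := fun z => by
      have h1 := W.add_mem (heW (z + (-(bf J p z / bf J p c0)) • c0) (by
        rw [bf_add_right, bf_smul_right]; field_simp; ring)) (W.smul_mem (bf J p z / bf J p c0) hW0)
      refine cast (congrArg (· ∈ W) ?_) h1
      module
    refine hC0 c hc (Submodule.span_induction (p := fun v _ => bf J c v = 0) ?_ (by simp [bf])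
      (fun x y _ _ hx hy => by rw [bf_add_right, hx, hy, add_zero])
      (fun a x _ hx => by rw [bf_smul_right, hx, mul_zero]) (htop c))
    rintro v ⟨hv, hvL⟩
    by_contra hcv
    exact hne ((hsame c hc v hv hcv).trans hvL)
  obtain ⟨l, hl⟩ : ∃ l, l = L c0 hc0 := ⟨_, rfl⟩
  let A0 := Algebra.adjoin F (Set.range fun c : {c // C c} => sl (β := Fin t) j (dl J c.1))
  have hA1 : ∀ X ∈ A0, (∃ A, X = sl j A) ∧ ∃ B, g * X = sl l B * g := fun X hX => by
    induction hX using Algebra.adjoin_induction with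
    | mem X hX =>
      obtain ⟨⟨c, hc⟩, rfl⟩ := hX
      refine ⟨⟨_, rfl⟩, dl J (U c hc), ?_⟩
      rw [hl, ← hall c hc, ← hLU c hc, mul_assoc (g * _), hg1, mul_one]
    | algebraMap r =>
      refine ⟨⟨r • 1, by rw [sl_smul, sl_one, Algebra.algebraMap_eq_smul_one]⟩, r • 1, ?_⟩
      rw [sl_smul, sl_one, Algebra.algebraMap_eq_smul_one, smul_mul_assoc, mul_smul_comm, one_mul, mul_one]
    | add X Y _ _ hX hY =>
      obtain ⟨⟨A, rfl⟩, B, hB⟩ := hX
      obtain ⟨⟨A', rfl⟩, B', hB'⟩ := hY
      exact ⟨⟨A + A', (sl_add _ _ _).symm⟩, B + B', by rw [mul_add, hB, hB', sl_add, add_mul]⟩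
    | mul X Y _ _ hX hY =>
      obtain ⟨⟨A, rfl⟩, B, hB⟩ := hX
      obtain ⟨⟨A', rfl⟩, B', hB'⟩ := hY
      exact ⟨⟨A * A', sl_mul _ _ _⟩, B * B', by rw [← mul_assoc, hB, mul_assoc, hB', ← mul_assoc, sl_mul]⟩
  have hInv : Inv J fun X => X ∈ A0 := by
    refine ⟨⟨A0.one_mem, fun a b => A0.add_mem, fun a ha s => A0.smul_mem ha s, fun a b => A0.mul_mem⟩, ?_⟩
    intro X hX l' p e hp he
    have he' : bf J p (-e) = 0 := by rw [← neg_one_smul F e, bf_smul_right, he, mul_zero]
    rcases eq_or_ne l' j with rfl | hl'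
    swap
    · obtain ⟨A, rfl⟩ := (hA1 X hX).1
      rwa [(sl_commute hl' _ _).eq, mul_assoc, sl_mul, hJ.eS_inv hp he, sl_one, mul_one]
    have h1 : sl (β := Fin t) l' (eS J p (-e)) * sl l' (eS J p e) = 1 := by
      rw [sl_mul, mul_eq_one_comm.1 (hJ.eS_inv hp he), sl_one]
    induction hX using Algebra.adjoin_induction with
    | mem X hX =>
      obtain ⟨⟨c, hc⟩, rfl⟩ := hX
      rw [sl_mul, sl_mul, ← eS_adj hJ hp he, dl_conj hJ (eS_iso hJ hp he).1]
      exact Algebra.subset_adjoin ⟨⟨_, hCr c p e hc hp he⟩, rfl⟩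
    | algebraMap r =>
      rw [Algebra.algebraMap_eq_smul_one, mul_smul_comm, mul_one, smul_mul_assoc, sl_mul, hJ.eS_inv hp he, sl_one,
        ← Algebra.algebraMap_eq_smul_one]
      exact A0.algebraMap_mem r
    | add X Y _ _ hX hY => rw [mul_add, add_mul]; exact A0.add_mem hX hY
    | mul X Y _ _ hX hY =>
      refine cast (congrArg (· ∈ A0) ?_) (A0.mul_mem hX hY)
      rw [show sl l' (eS J p e) * X * sl l' (eS J p (-e)) * (sl l' (eS J p e) * Y * sl l' (eS J p (-e))) =
        sl l' (eS J p e) * X * (sl l' (eS J p (-e)) * sl l' (eS J p e)) * (Y * sl l' (eS J p (-e))) by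
          simp only [mul_assoc], h1, mul_one]
      simp only [mul_assoc]
  obtain ⟨l', hl'⟩ := hInv.exists_slot hJ (Algebra.subset_adjoin ⟨⟨c0, hc0⟩, rfl⟩) (fun κ e => by
    rw [← sl_one (F := F) (κ := Fin k) j, ← sl_smul] at e
    exact dl_ne_scalar hJ (hC0 c0 hc0) κ (sl_injective j e))
  obtain ⟨A, hA⟩ := (hA1 _ (hl' (dl J c0))).1
  obtain rfl := slot_eq hA (dl_ne_scalar hJ (hC0 c0 hc0))
  exact ⟨l, fun A => (hA1 _ (hl' A)).2⟩

end Setting

/-- a matrix without contractions in one slot vanishes -/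
theorem ext_ct (hJ : SJ J) (i : Fin t) {X : Matrix (Fin t → Fin k) (Fin t → Fin k) F}
    (h : ∀ a b, ct J i a b X = 0) : X = 0 := by
  refine eq_zero_of_slices i fun x y => Matrix.ext fun p q => ?_
  have h1 := congrFun (congrFun (h (J⁻¹ *ᵥ Pi.single p 1) (Pi.single q 1)) x) (Function.update y i (x i))
  rw [ct_apply, Function.update_self, if_pos rfl, Matrix.zero_apply] at h1
  have e : slice' X i x (Function.update y i (x i)) = slice' X i x y := by
    ext a b; simp [slice', Function.update_idem]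
  rw [e, hJ.comm, bf, mulVec_mulVec, mul_nonsing_inv J hJ.det, one_mulVec, dotProduct_single_one,
    Matrix.mulVec_single_one] at h1
  exact h1

/-- a matrix commuting with all slots but one -/
theorem eq_sl_of_commute (hJ : SJ J) (i : Fin t) {X : Matrix (Fin t → Fin k) (Fin t → Fin k) F}
    (h : ∀ j, j ≠ i → ∀ A, Commute X (sl j A)) : ∃ S, X = sl i S := by
  haveI : Nonempty (Fin k) := ⟨⟨0, by have := hJ.kk; omega⟩⟩
  let x0 : Fin t → Fin k := fun _ => ⟨0, by have := hJ.kk; omega⟩
  refine ⟨slice' X i x0 x0, sub_eq_zero.1 (ext_ct hJ i fun a b => ?_)⟩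
  rw [ct_sub, show ct J i a b (sl i (slice' X i x0 x0)) = bf J a (slice' X i x0 x0 *ᵥ b) • 1 by
    rw [← one_mul (sl i _), ct_mul_sl, ct_one], sub_eq_zero]
  obtain ⟨κ, hκ⟩ := eq_smul_one_of_commute (ct J i a b X) fun j A => by
    rcases eq_or_ne j i with rfl | hj
    · exact (ct_commute j a b X A).eq
    · exact (ct_commute_other hj a b (h j hj A)).eq
  rw [hκ]
  congr 1
  have := congrFun (congrFun hκ x0) x0
  rw [ct_apply, if_pos rfl, Matrix.smul_apply, Matrix.one_apply_eq, smul_eq_mul, mul_one] at this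
  exact this.symm

/-- an element mapping all slot algebras but one to slot algebras permutes them -/
theorem std_of_but (hJ : SJ J) {g g' : Matrix (Fin t → Fin k) (Fin t → Fin k) F} (h1 : g * g' = 1) (i : Fin t)
    (h : ∀ j, j ≠ i → ∃ l, ∀ A, ∃ B, g * sl j A = sl l B * g) : Std g := by
  classical
  have hk := hJ.kk
  haveI : Nonempty (Fin k) := ⟨⟨0, by omega⟩⟩
  have h2 : g' * g = 1 := mul_eq_one_comm.1 h1
  choose π hπ using h
  choose θ hθ using hπ
  have hr : ∀ {X Y : Matrix (Fin t → Fin k) (Fin t → Fin k) F}, X * g = Y * g → X = Y := fun {X Y} e => by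
    simpa only [mul_assoc, h1, mul_one] using congrArg (· * g') e
  have hl : ∀ {X Y : Matrix (Fin t → Fin k) (Fin t → Fin k) F}, g * X = g * Y → X = Y := fun {X Y} e => by
    simpa only [← mul_assoc, h2, one_mul] using congrArg (g' * ·) e
  have hsurj : ∀ j hj, Function.Surjective (θ j hj) := fun j hj => by
    let f : Matrix (Fin k) (Fin k) F →ₗ[F] Matrix (Fin k) (Fin k) F :=
      { toFun := θ j hj
        map_add' := fun A B => sl_injective (π j hj) (hr (by rw [← hθ, sl_add, sl_add, mul_add, add_mul, hθ, hθ]))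
        map_smul' := fun c A => sl_injective (π j hj) (hr (by
          rw [← hθ, sl_smul, RingHom.id_apply, sl_smul, mul_smul_comm, hθ, smul_mul_assoc])) }
    have hfi : Function.Injective f := fun A B e => sl_injective j (hl (by
      rw [hθ j hj, hθ j hj, show θ j hj A = θ j hj B from e]))
    exact LinearMap.injective_iff_surjective.1 hfi
  have hinj : Function.Injective fun j : {j // j ≠ i} => π j.1 j.2 := fun a b e => by
    by_contra hab
    obtain ⟨A, hA⟩ := hsurj a.1 a.2 (θ b.1 b.2 (Matrix.single ⟨0, by omega⟩ ⟨1, by omega⟩ 1))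
    have h3 : sl b.1 (Matrix.single (⟨0, by omega⟩ : Fin k) (⟨1, by omega⟩ : Fin k) (1 : F)) = sl a.1 A :=
      hl (by rw [hθ b.1 b.2, hθ a.1 a.2, hA, show π a.1 a.2 = π b.1 b.2 from e])
    have h4 := slot_disjoint (fun e' => hab (Subtype.ext e'.symm)) h3 (a := ⟨0, by omega⟩) (b := ⟨1, by omega⟩)
      (by simp)
    simp at h4
  obtain ⟨i', hi'⟩ : ∃ i', ∀ m, m ≠ i' → ∃ (j : Fin t) (hj : j ≠ i), π j hj = m := by
    by_contra! hall
    obtain ⟨m, -, hm⟩ := hall i
    obtain ⟨m', hm'm, hm'⟩ := hall m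
    have hsub : (Finset.univ.image fun j : {j // j ≠ i} => π j.1 j.2) ⊆ (Finset.univ.erase m).erase m' := fun x hx => by
      obtain ⟨j, -, rfl⟩ := Finset.mem_image.1 hx
      simp only [Finset.mem_erase, Finset.mem_univ, and_true]
      exact ⟨hm' j.1 j.2, hm j.1 j.2⟩
    have h3 := Finset.card_le_card hsub
    rw [Finset.card_image_of_injective _ hinj, Finset.card_univ, Fintype.card_subtype_compl, Fintype.card_fin,
      Fintype.card_subtype_eq, Finset.card_erase_of_mem (by simp [hm'm]), Finset.card_erase_of_mem (Finset.mem_univ _),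
      Finset.card_univ, Fintype.card_fin] at h3
    have hnt : Nontrivial (Fin t) := ⟨⟨m', m, hm'm⟩⟩
    have := Fintype.one_lt_card (α := Fin t)
    rw [Fintype.card_fin] at this
    omega
  intro j
  rcases eq_or_ne j i with rfl | hj
  swap
  · exact ⟨π j hj, fun A => ⟨_, hθ j hj A⟩⟩
  refine ⟨i', fun A => ?_⟩
  obtain ⟨S, hS⟩ := eq_sl_of_commute hJ i' (X := g * sl j A * g') fun m hm C => by
    obtain ⟨a, ha, rfl⟩ := hi' m hm
    obtain ⟨B, rfl⟩ := hsurj a ha C
    have e : sl (π a ha) (θ a ha B) = g * sl a B * g' := by rw [hθ a ha, mul_assoc, h1, mul_one]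
    rw [e]
    show g * sl j A * g' * (g * sl a B * g') = g * sl a B * g' * (g * sl j A * g')
    rw [show g * sl j A * g' * (g * sl a B * g') = g * (sl j A * (g' * g) * sl a B) * g' by simp only [mul_assoc],
      show g * sl a B * g' * (g * sl j A * g') = g * (sl a B * (g' * g) * sl j A) * g' by simp only [mul_assoc],
      h2, mul_one, mul_one, (sl_commute (Ne.symm ha) A B).eq]
  exact ⟨S, by rw [← hS, mul_assoc _ g', h2, mul_one]⟩

end Cfsg.Agent.ClassicalMax.OOWreath
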