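import Cfsg.Agent.ClassicalMax.OOWreath.Induct
import Cfsg.Agent.ClassicalMax.OWreath.Frame
import Cfsg.Agent.Classical.OrthChar

/-!
An orthogonal space that is a tensor power of a slot: matrices of isometries, and the slot root elements, pairs of
reflections and even permutations in the commutator subgroup.
-/

set_option autoImplicit false
set_option linter.unusedSectionVars false
set_option linter.unusedSimpArgs false

namespace Cfsg.Agent.ClassicalMax.OOWreath

open Matrix Module QuadraticMap Cfsg.Agent.Classical Cfsg.Agent.Classical.Quad Cfsg.Agent.ClassicalMax.TPow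
open Cfsg.Agent.ClassicalMax.SpWreath (GV GV_det)
open Cfsg.Agent.ClassicalMax.OWreath (mt mt_mulVec mt_injective)

variable {F : Type*} [Field F] {k t : ℕ} {J : Matrix (Fin k) (Fin k) F}
  {Q : QuadraticForm F ((Fin t → Fin k) → F)} {c : F}

/-- a quadratic form polarising to a multiple of a tensor power of a slot -/
structure SSpace (Q : QuadraticForm F ((Fin t → Fin k) → F)) (J : Matrix (Fin k) (Fin k) F) (c : F) : Prop where
  c0 : c ≠ 0
  sj : SJ J
  pol : ∀ x y, polar Q x y = c * bf (GV J) x y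

theorem bf_adj {ν : Type} [Fintype ν] [DecidableEq ν] {G : Matrix ν ν F} (hG : IsUnit G.det) (hGs : Gᵀ = G)
    (S : Matrix ν ν F) (u v : ν → F) : bf G (adjJ G S *ᵥ u) v = bf G u (S *ᵥ v) := by
  have hc : ∀ a b, bf G a b = bf G b a := fun a b => by
    rw [bf_swap G (ε := (1 : F)) (by rw [hGs, one_smul]), one_mul]
  have e : G * adjJ G S = Sᵀ * G := by
    rw [adjJ, ← Matrix.mul_assoc, ← Matrix.mul_assoc, mul_nonsing_inv G hG, Matrix.one_mul]
  rw [hc, bf, mulVec_mulVec, e, ← mulVec_mulVec, dotProduct_mulVec, vecMul_transpose, hc u, bf]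

variable (Q) in
/-- the matrix is that of an element of the commutator subgroup -/
def InCm [Finite F] (M : Matrix (Fin t → Fin k) (Fin t → Fin k) F) : Prop :=
  ∃ g ∈ commutator (oG Q), (mt g : Matrix (Fin t → Fin k) (Fin t → Fin k) F) = M

variable (J) in
/-- the matrix is an isometry of the tensor power -/
def InO (M : Matrix (Fin t → Fin k) (Fin t → Fin k) F) : Prop := adjJ (GV J) M * M = 1

namespace SSpace

variable [Finite F] (hV : SSpace Q J c)
include hV

theorem GVd : IsUnit (GV J (β := Fin t)).det := GV_det hV.sj.det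

theorem GVs : (GV J (β := Fin t))ᵀ = GV J := GV_symm hV.sj.symm

theorem bf_comm (x y : (Fin t → Fin k) → F) : bf (GV J) x y = bf (GV J) y x := by
  rw [bf_swap (GV J) (ε := (1 : F)) (by rw [hV.GVs, one_smul]), one_mul]

theorem Q_eq (x : (Fin t → Fin k) → F) : Q x = c / 2 * bf (GV J) x x := by
  have h := hV.pol x x
  rw [polar_self'] at h
  have h2 := hV.sj.two
  field_simp
  linear_combination h

theorem nd : (polarBilin Q).Nondegenerate :=
  nondeg_of fun x hx => by
    by_contra hne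
    obtain ⟨y, hy⟩ := exists_bf_ne (GV J) hV.GVd hne
    have := hx y
    rw [hV.pol] at this
    exact mul_ne_zero hV.c0 hy this

theorem hex : Nat.card F ≠ 2 ∨ finrank F ((Fin t → Fin k) → F) ≠ 4 := Or.inl fun h => hV.sj.two (by
  haveI := Fintype.ofFinite F
  rw [Nat.card_eq_fintype_card] at h
  exact_mod_cast (show ((2 : ℕ) : F) = 0 by rw [← h]; exact Nat.cast_card_eq_zero F))

theorem mt_iso (g : oG Q) : InO J (mt g : Matrix (Fin t → Fin k) (Fin t → Fin k) F) := by
  set A := (mt g : Matrix (Fin t → Fin k) (Fin t → Fin k) F)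
  have e : Aᵀ * GV J * A = GV J := by
    ext a b
    have h := polar_oG g (Pi.single a 1) (Pi.single b 1)
    rw [hV.pol, hV.pol, ← mt_mulVec, ← mt_mulVec] at h
    have h1 := mul_left_cancel₀ hV.c0 h
    have e : ∀ (G : Matrix (Fin t → Fin k) (Fin t → Fin k) F) a b, bf G (Pi.single a 1) (Pi.single b 1) = G a b :=
      fun G a b => by simp [bf, single_dotProduct]
    rw [← e (Aᵀ * GV J * A) a b, ← e (GV J) a b, ← h1, bf, bf, ← mulVec_mulVec, ← mulVec_mulVec,
      dotProduct_mulVec _ Aᵀ, vecMul_transpose]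
  rw [InO, adjJ, Matrix.mul_assoc (GV J)⁻¹, Matrix.mul_assoc (GV J)⁻¹, e, nonsing_inv_mul _ hV.GVd]

/-- an isometry of the tensor power as an element of the group -/
theorem exists_oG {M : Matrix (Fin t → Fin k) (Fin t → Fin k) F} (h : InO J M) :
    ∃ g : oG Q, (mt g : Matrix (Fin t → Fin k) (Fin t → Fin k) F) = M := by
  classical
  let U : GL (Fin t → Fin k) F := ⟨M, adjJ (GV J) M, mul_eq_one_comm.1 h, h⟩
  have hU : glEquiv (Fin t → Fin k) F U ∈ oG Q := by
    show ∀ x, Q (glEquiv (Fin t → Fin k) F U x) = Q x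
    intro x
    rw [glEquiv_apply]
    show Q (M *ᵥ x) = Q x
    rw [hV.Q_eq, hV.Q_eq, ← bf_adj hV.GVd hV.GVs, mulVec_mulVec, h, one_mulVec]
  refine ⟨⟨glEquiv (Fin t → Fin k) F U, hU⟩, ?_⟩
  show ((glEquiv (Fin t → Fin k) F).symm (glEquiv (Fin t → Fin k) F U) :
    Matrix (Fin t → Fin k) (Fin t → Fin k) F) = M
  rw [MulEquiv.symm_apply_apply]

theorem one_inC : InCm Q (1 : Matrix (Fin t → Fin k) (Fin t → Fin k) F) :=
  ⟨1, one_mem _, by rw [map_one, Units.val_one]⟩

theorem mul_inC {M N : Matrix (Fin t → Fin k) (Fin t → Fin k) F} (hM : InCm Q M) (hN : InCm Q N) :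
    InCm Q (M * N) := by
  obtain ⟨g, hg, rfl⟩ := hM
  obtain ⟨g', hg', rfl⟩ := hN
  exact ⟨g * g', mul_mem hg hg', by rw [map_mul, Units.val_mul]⟩

/-- a commutator of two isometries -/
theorem comm_inC {X Y : Matrix (Fin t → Fin k) (Fin t → Fin k) F} (hX : InO J X) (hY : InO J Y) :
    InCm Q (X * Y * adjJ (GV J) X * adjJ (GV J) Y) := by
  obtain ⟨g, rfl⟩ := hV.exists_oG hX
  obtain ⟨g', rfl⟩ := hV.exists_oG hY
  have hinv : ∀ a : oG Q, (mt a⁻¹ : Matrix (Fin t → Fin k) (Fin t → Fin k) F) =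
      adjJ (GV J) (mt a : Matrix (Fin t → Fin k) (Fin t → Fin k) F) := fun a => by
    have h1 := hV.mt_iso a
    have h2 : (mt a : Matrix (Fin t → Fin k) (Fin t → Fin k) F) * (OWreath.mt a⁻¹ : Matrix (Fin t → Fin k) (Fin t → Fin k) F) = 1 := by
      rw [← Units.val_mul, ← map_mul, mul_inv_cancel, map_one, Units.val_one]
    exact (left_inv_eq_right_inv h1 h2).symm
  refine ⟨g * g' * g⁻¹ * g'⁻¹, Subgroup.commutator_mem_commutator (Subgroup.mem_top _) (Subgroup.mem_top _), ?_⟩
  rw [map_mul, map_mul, map_mul, Units.val_mul, Units.val_mul, Units.val_mul, hinv, hinv]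

theorem sl_inO (l : Fin t) {A : Matrix (Fin k) (Fin k) F} (h : adjJ J A * A = 1) : InO J (sl l A) := by
  rw [InO, adj_sl hV.sj.det, sl_mul, h, sl_one]

theorem adj_eS {p e : Fin k → F} (hp : bf J p p = 0) (he : bf J p e = 0) : adjJ J (eS J p e) = eS J p (-e) := by
  have hJ := hV.sj
  have he' : bf J p (-e) = 0 := by rw [← neg_one_smul F e, bf_smul_right, he, mul_zero]
  have hq : bf J (-e) (-e) = bf J e e := by
    rw [← neg_one_smul F e, bf_smul_left, bf_smul_right]; ring
  rw [hJ.eS_eq hp he, hJ.eS_eq hp he', hq, xp_neg, adj_add, adj_add, adj_one hJ.det, adj_smul, hJ.adjJ_rk, xp,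
    adj_sub, hJ.adjJ_rk, hJ.adjJ_rk, neg_sub]

theorem eS_isoJ {p e : Fin k → F} (hp : bf J p p = 0) (he : bf J p e = 0) :
    adjJ J (eS J p e) * eS J p e = 1 := by
  rw [hV.adj_eS hp he]
  have h := hV.sj.eS_inv hp (show bf J p (-e) = 0 by rw [← neg_one_smul F e, bf_smul_right, he, mul_zero])
  rwa [neg_neg] at h

theorem dl_isoJ {u : Fin k → F} (hu : bf J u u ≠ 0) : adjJ J (dl J u) * dl J u = 1 := by
  rw [hV.sj.dl_adj, dl_sq hu]

theorem rf_isoJ {u : Fin k → F} (hu : bf J u u ≠ 0) : adjJ J (rf J u) * rf J u = 1 := by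
  rw [hV.sj.rf_adj, rf_sq hu]

/-- the slot root elements are commutators -/
theorem root_inC (l : Fin t) {p e : Fin k → F} (hp : bf J p p = 0) (he : bf J p e = 0) :
    InCm Q (sl l (eS J p e)) := by
  have hJ := hV.sj
  have hsm : ∀ (s : F) (x : Fin k → F), bf J p x = 0 → bf J p (s • x) = 0 := fun s x hx => by
    rw [bf_smul_right, hx, mul_zero]
  -- a non-singular parameter
  have aniso : ∀ x : Fin k → F, bf J p x = 0 → bf J x x ≠ 0 → InCm Q (sl l (eS J p x)) := by
    intro x hx hxx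
    have h2 := hJ.two
    set s : F := -(2 : F)⁻¹ with hs
    have hsx := hsm s x hx
    have hsx' : bf J p (-(s • x)) = 0 := by rw [← neg_smul]; exact hsm _ x hx
    refine cast (congrArg (InCm Q) ?_) (hV.comm_inC (hV.sl_inO l (hV.dl_isoJ hxx))
      (hV.sl_inO l (hV.eS_isoJ hp hsx)))
    rw [adj_sl hJ.det, adj_sl hJ.det, hJ.dl_adj, hV.adj_eS hp hsx, sl_mul, sl_mul, sl_mul, dl_eS_dl hJ hp hx hxx,
      eS_add hJ hp hsx' hsx', ← neg_smul, ← add_smul, hs]
    congr 2
    rw [neg_neg, ← two_mul, mul_inv_cancel₀ h2, one_smul]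
  rcases eq_or_ne p 0 with rfl | hp0
  · refine cast (congrArg (InCm Q) ?_) hV.one_inC
    rw [show eS J (0 : Fin k → F) e = 1 by
      rw [eS, xp, rk, rk, zero_vecMulVec, zero_vecMul, vecMulVec_zero, sub_zero, mul_zero, smul_zero, add_zero,
        add_zero], sl_one]
  by_cases hee : bf J e e ≠ 0
  · exact aniso e he hee
  push Not at hee
  obtain ⟨q, w, -, -, hpw, -, hw⟩ := hJ.exists_frame hp0 hp
  obtain ⟨s, hs, hsw⟩ : ∃ s : F, s ≠ 0 ∧ bf J (e + s • w) (e + s • w) ≠ 0 := by
    by_contra! hall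
    have h1 := hall 1 one_ne_zero
    have h2 := hall (-1) (neg_ne_zero.2 one_ne_zero)
    simp only [bf_add_left, bf_add_right, bf_smul_left, bf_smul_right, hee, hJ.comm w e] at h1 h2
    exact hw ((mul_eq_zero.1 (show (2 : F) * bf J w w = 0 by linear_combination h1 + h2)).resolve_left hJ.two)
  have hneg : bf J (-(s • w)) (-(s • w)) ≠ 0 := by
    rw [← neg_smul, bf_smul_left, bf_smul_right]
    exact mul_ne_zero (neg_ne_zero.2 hs) (mul_ne_zero (neg_ne_zero.2 hs) hw)
  have hp1 : bf J p (e + s • w) = 0 := by rw [bf_add_right, he, hsm s w hpw, add_zero]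
  have hp2 : bf J p (-(s • w)) = 0 := by rw [← neg_smul]; exact hsm _ w hpw
  refine cast (congrArg (InCm Q) ?_) (hV.mul_inC (aniso _ hp1 hsw) (aniso _ hp2 hneg))
  rw [sl_mul, eS_add hJ hp hp1 hp2]
  congr 2
  abel

/-- a pair of reflections of the same norm is a commutator -/
theorem pair_inC (l : Fin t) {a b : Fin k → F} (ha : bf J a a ≠ 0) (hab : bf J a a = bf J b b) :
    InCm Q (sl l (rf J a * rf J b)) := by
  have hJ := hV.sj
  have h2 := hJ.two
  have hb : bf J b b ≠ 0 := hab ▸ ha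
  have conj : ∀ r : Fin k → F, bf J r r ≠ 0 → ∀ s : F, s ≠ 0 → rf J r *ᵥ a = s • b →
      InCm Q (sl l (rf J a * rf J b)) := by
    intro r hr s hs h
    refine cast (congrArg (InCm Q) ?_) (hV.comm_inC (hV.sl_inO l (hV.rf_isoJ ha)) (hV.sl_inO l (hV.rf_isoJ hr)))
    rw [adj_sl hJ.det, adj_sl hJ.det, hJ.rf_adj, hJ.rf_adj, sl_mul, sl_mul, sl_mul, mul_assoc (rf J a),
      mul_assoc (rf J a)]
    have e1 : rf J r * rk J a a * rf J r = (s * s) • rk J b b := by
      rw [mul_rk, hJ.rk_mul, hJ.rf_adj, h, rk_smul_left, rk_smul_right, smul_smul]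
    have e2 : s * s * bf J b b = bf J b b := by
      have h' := hJ.rf_iso hr a a
      rw [h, bf_smul_left, bf_smul_right, hab] at h'
      linear_combination h'
    have e3 : s * s = 1 := mul_right_cancel₀ hb (e2.trans (one_mul _).symm)
    have e4 : rf J r * rf J a * rf J r = rf J b := by
      rw [show rf J a = 1 - (2 / bf J a a) • rk J a a from rfl, mul_sub, sub_mul, mul_one, Matrix.mul_smul,
        Matrix.smul_mul, e1, e3, one_smul, hab]
      congr 1
      exact rf_sq (J := J) hr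
    rw [e4]
  by_cases h1 : bf J (a + (-1 : F) • b) (a + (-1 : F) • b) ≠ 0
  · refine conj _ h1 1 one_ne_zero ?_
    rw [rf_mulVec, one_smul]
    have e : bf J (a + (-1 : F) • b) (a + (-1 : F) • b) = 2 * bf J (a + (-1 : F) • b) a := by
      simp only [bf_add_left, bf_add_right, bf_smul_left, bf_smul_right, hJ.comm b a, hab]
      ring
    have hne : bf J (a + (-1 : F) • b) a ≠ 0 := fun h0 => h1 (by rw [e, h0, mul_zero])
    rw [e, show -(2 / (2 * bf J (a + (-1 : F) • b) a) * bf J (a + (-1 : F) • b) a) = -1 by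
      field_simp]
    module
  push Not at h1
  have h3 : bf J (a + b) (a + b) ≠ 0 := fun h3 => ha (by
    simp only [bf_add_left, bf_add_right, bf_smul_left, bf_smul_right, hJ.comm b a, ← hab] at h1 h3
    have : (2 * 2 : F) * bf J a a = 0 := by linear_combination h1 + h3
    exact (mul_eq_zero.1 this).resolve_left (mul_ne_zero h2 h2))
  refine conj _ h3 (-1) (neg_ne_zero.2 one_ne_zero) ?_
  rw [rf_mulVec]
  have e : bf J (a + b) (a + b) = 2 * bf J (a + b) a := by
    simp only [bf_add_left, bf_add_right, hJ.comm b a, hab]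
    ring
  have hne : bf J (a + b) a ≠ 0 := fun h0 => h3 (by rw [e, h0, mul_zero])
  rw [e, show -(2 / (2 * bf J (a + b) a) * bf J (a + b) a) = -1 by field_simp]
  module

/-- an even permutation of the slots is a product of commutators -/
theorem perm_inC {σ : Equiv.Perm (Fin t)} (hσ : Equiv.Perm.sign σ = 1) :
    ∃ g ∈ commutator (oG Q), mt g = Asch.permU (F := F) (m := k) σ := by
  classical
  have hex : ∀ τ : Equiv.Perm (Fin t), ∃ g : oG Q, mt g = Asch.permU (F := F) (m := k) τ := fun τ => by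
    obtain ⟨g, hg⟩ := hV.exists_oG (M := (Asch.permU (F := F) (m := k) τ : Matrix (Fin t → Fin k) (Fin t → Fin k) F))
      (by rw [InO, adjJ, Matrix.mul_assoc (GV J)⁻¹, Matrix.mul_assoc (GV J)⁻¹, SpWreath.permU_iso,
        nonsing_inv_mul _ hV.GVd])
    exact ⟨g, Units.ext hg⟩
  choose f hf using hex
  let φ : Equiv.Perm (Fin t) →* oG Q := MonoidHom.mk' f fun τ ρ => mt_injective (by
    rw [hf, map_mul, hf, hf]
    exact Units.ext (Asch.permM_mul τ ρ).symm)
  exact ⟨φ σ, OWreath.mem_commutator_map φ (OWreath.perm_mem_commutator hσ), hf σ⟩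

end SSpace

end Cfsg.Agent.ClassicalMax.OOWreath
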