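import Cfsg.Agent.ClassicalMax.OOWreath.Base
import Mathlib.LinearAlgebra.Matrix.Rank

/-!
Elements permuting the slot algebras, and their factor at a fixed slot.
-/

set_option autoImplicit false
set_option linter.unusedSectionVars false
set_option linter.unusedSimpArgs false

namespace Cfsg.Agent.ClassicalMax.OOWreath

open Matrix Cfsg.Agent.ClassicalMax.TPow

variable {F : Type*} [Field F] {k t : ℕ}

theorem Std.mul {M N : Matrix (Fin t → Fin k) (Fin t → Fin k) F} (hM : Std M) (hN : Std N) : Std (M * N) := by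
  intro l
  obtain ⟨l', h'⟩ := hN l
  obtain ⟨l'', h''⟩ := hM l'
  refine ⟨l'', fun A => ?_⟩
  obtain ⟨B, hB⟩ := h' A
  obtain ⟨C, hC⟩ := h'' B
  exact ⟨C, by rw [mul_assoc, hB, ← mul_assoc, hC, mul_assoc]⟩

theorem Std.one : Std (1 : Matrix (Fin t → Fin k) (Fin t → Fin k) F) :=
  fun l => ⟨l, fun A => ⟨A, by rw [one_mul, mul_one]⟩⟩

theorem Std.sl (j : Fin t) {A A' : Matrix (Fin k) (Fin k) F} (h : A' * A = 1) : Std (TPow.sl j A) := by
  intro l
  refine ⟨l, fun B => ?_⟩
  rcases eq_or_ne l j with rfl | hlj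
  · exact ⟨A * B * A', by rw [sl_mul, sl_mul, mul_assoc _ A' A, h, mul_one]⟩
  · exact ⟨B, (sl_commute hlj.symm A B).eq⟩

theorem Std.neg {M : Matrix (Fin t → Fin k) (Fin t → Fin k) F} (hM : Std M) : Std (-M) := fun l => by
  obtain ⟨l', h⟩ := hM l
  refine ⟨l', fun A => ?_⟩
  obtain ⟨B, hB⟩ := h A
  exact ⟨B, by rw [neg_mul, mul_neg, hB]⟩

/-- the permutation of the slots and the maps between their algebras -/
theorem Std.data (hk : 2 ≤ k) {M M' : Matrix (Fin t → Fin k) (Fin t → Fin k) F} (h1 : M * M' = 1) (hM : Std M) :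
    ∃ (σ : Equiv.Perm (Fin t)) (θ : Fin t → Matrix (Fin k) (Fin k) F ≃ₐ[F] Matrix (Fin k) (Fin k) F),
      ∀ l A, M * TPow.sl l A = TPow.sl (σ l) (θ l A) * M := by
  classical
  haveI : Nonempty (Fin k) := ⟨⟨0, by omega⟩⟩
  have h2 : M' * M = 1 := mul_eq_one_comm.1 h1
  choose π hπ using hM
  choose θ hθ using hπ
  have hr : ∀ {X Y : Matrix (Fin t → Fin k) (Fin t → Fin k) F}, X * M = Y * M → X = Y := fun {X Y} e => by
    have := congrArg (· * M') e
    simpa only [mul_assoc, h1, mul_one] using this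
  have hl : ∀ {X Y : Matrix (Fin t → Fin k) (Fin t → Fin k) F}, M * X = M * Y → X = Y := fun {X Y} e => by
    have := congrArg (M' * ·) e
    simpa only [← mul_assoc, h2, one_mul] using this
  have hinj : ∀ j, Function.Injective (θ j) := fun j A B e => by
    refine sl_injective j (hl ?_)
    rw [hθ, hθ, e]
  let f : ∀ j, Matrix (Fin k) (Fin k) F →ₐ[F] Matrix (Fin k) (Fin k) F := fun j =>
    AlgHom.ofLinearMap
      { toFun := θ j
        map_add' := fun A B => sl_injective (π j) (hr (by rw [← hθ, sl_add, sl_add, mul_add, add_mul, hθ, hθ]))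
        map_smul' := fun c A => sl_injective (π j) (hr (by
          rw [← hθ, sl_smul, RingHom.id_apply, sl_smul, mul_smul_comm, hθ, smul_mul_assoc])) }
      (sl_injective (π j) (hr (by
        show TPow.sl (π j) (θ j 1) * M = TPow.sl (π j) 1 * M
        rw [← hθ, sl_one, sl_one, mul_one, one_mul])))
      (fun A B => sl_injective (π j) (hr (by
        show TPow.sl (π j) (θ j (A * B)) * M = TPow.sl (π j) (θ j A * θ j B) * M
        rw [← hθ, ← sl_mul, ← sl_mul, ← mul_assoc, hθ, mul_assoc, hθ, mul_assoc])))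
  have hbij : ∀ j, Function.Bijective (f j) := fun j =>
    ⟨hinj j, LinearMap.injective_iff_surjective.1 (show Function.Injective (f j).toLinearMap from hinj j)⟩
  have hπi : Function.Injective π := fun i j e => by
    by_contra hij
    obtain ⟨A, hA⟩ := (hbij i).2 (θ j (Matrix.single ⟨0, by omega⟩ ⟨1, by omega⟩ 1))
    have hA' : θ i A = θ j (Matrix.single ⟨0, by omega⟩ ⟨1, by omega⟩ 1) := hA
    have h3 : TPow.sl j (Matrix.single (⟨0, by omega⟩ : Fin k) (⟨1, by omega⟩ : Fin k) (1 : F)) = TPow.sl i A :=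
      hl (by rw [hθ, hθ, hA', e])
    have h4 := slot_disjoint (Ne.symm hij) h3 (a := ⟨0, by omega⟩) (b := ⟨1, by omega⟩) (by simp)
    simp at h4
  exact ⟨Equiv.ofBijective π (Finite.injective_iff_bijective.1 hπi), fun j => AlgEquiv.ofBijective (f j) (hbij j),
    fun l A => hθ l A⟩

theorem Std.inv (hk : 2 ≤ k) {M M' : Matrix (Fin t → Fin k) (Fin t → Fin k) F} (h1 : M * M' = 1) (hM : Std M) :
    Std M' := by
  obtain ⟨σ, θ, h⟩ := hM.data hk h1
  intro l
  refine ⟨σ.symm l, fun A => ⟨(θ (σ.symm l)).symm A, ?_⟩⟩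
  have e := congrArg (fun X => M' * X * M') (h (σ.symm l) ((θ (σ.symm l)).symm A))
  simp only [σ.apply_symm_apply, AlgEquiv.apply_symm_apply, mul_assoc, h1, mul_one, ← mul_assoc M' M,
    mul_eq_one_comm.1 h1, one_mul] at e
  exact e.symm

/-- the factor at a fixed slot -/
theorem exists_factor {l : Fin t} {M : Matrix (Fin t → Fin k) (Fin t → Fin k) F} (hM0 : M ≠ 0)
    {θ : Matrix (Fin k) (Fin k) F ≃ₐ[F] Matrix (Fin k) (Fin k) F}
    (h : ∀ A, M * TPow.sl l A = TPow.sl l (θ A) * M) :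
    ∃ (B : Matrix (Fin k) (Fin k) F) (R : Matrix (Fin t → Fin k) (Fin t → Fin k) F), IsUnit B.det ∧
      (∀ A, θ A * B = B * A) ∧ (∀ A, Commute R (TPow.sl l A)) ∧ M = TPow.sl l B * R ∧
      ∀ j, j ≠ l → ∀ A, Commute M (TPow.sl j A) → Commute R (TPow.sl j A) := by
  classical
  have hsl : ∀ x y A, slice' M l x y * A = θ A * slice' M l x y := fun x y A => by
    have := congrArg (fun Z => slice' Z l x y) (h A)
    simpa only [slice'_mul_sl, slice'_sl_mul] using this
  obtain ⟨x0, y0, hB0⟩ : ∃ x y, slice' M l x y ≠ 0 := by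
    by_contra! h0
    refine hM0 (Matrix.ext fun x y => ?_)
    have := congrFun (congrFun (h0 x y) (x l)) (y l)
    simpa [slice'] using this
  obtain ⟨B, hB⟩ : ∃ B, B = slice' M l x0 y0 := ⟨_, rfl⟩
  rw [← hB] at hB0
  have hBA : ∀ A, θ A * B = B * A := fun A => by rw [hB, hsl]
  obtain ⟨a, b, hab⟩ : ∃ a b, B a b ≠ 0 := by
    by_contra! h0; exact hB0 (Matrix.ext h0)
  have hBu : IsUnit B.det := by
    rw [← Matrix.isUnit_iff_isUnit_det, ← Matrix.mulVec_injective_iff_isUnit]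
    refine (injective_iff_map_eq_zero (Matrix.mulVecLin B)).2 fun v hv => by_contra fun hv0 => ?_
    obtain ⟨c, hc⟩ := Function.ne_iff.1 hv0
    have h1 : B *ᵥ (Matrix.single b c (v c)⁻¹ *ᵥ v) = 0 := by
      rw [mulVec_mulVec, ← hBA, ← mulVec_mulVec, show B *ᵥ v = 0 from hv, mulVec_zero]
    have h2 : Matrix.single b c (v c)⁻¹ *ᵥ v = Pi.single b 1 := by
      rw [Matrix.single_mulVec, inv_mul_cancel₀ hc]; rfl
    have h3 := congrFun h1 a
    rw [h2, Matrix.mulVec_single_one] at h3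
    exact hab h3
  haveI : Nonempty (Fin k) := ⟨a⟩
  have hall : ∀ x y, ∃ c : F, slice' M l x y = c • B := fun x y => by
    obtain ⟨S, hS⟩ : ∃ S, S = B⁻¹ * slice' M l x y := ⟨_, rfl⟩
    have hc : ∀ A, S * A = A * S := fun A => by
      have e : A * B⁻¹ = B⁻¹ * θ A := by
        calc A * B⁻¹ = B⁻¹ * (B * A) * B⁻¹ := by rw [← mul_assoc B⁻¹, nonsing_inv_mul B hBu, one_mul]
          _ = B⁻¹ * θ A * (B * B⁻¹) := by rw [← hBA]; simp only [mul_assoc]
          _ = _ := by rw [mul_nonsing_inv B hBu, mul_one]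
      rw [hS, mul_assoc, hsl, ← mul_assoc, ← e, mul_assoc]
    have hscal : ∃ c : F, S = c • 1 := by
      refine ⟨S a a, Matrix.ext fun i j => ?_⟩
      have h1 := congrFun (congrFun (hc (Matrix.single j a 1)) i) a
      simp only [Matrix.mul_apply, Matrix.single_apply, ite_and, mul_ite, ite_mul, one_mul, mul_one, zero_mul,
        mul_zero, Finset.sum_ite_eq, Finset.mem_univ, if_true] at h1
      rw [Matrix.smul_apply, Matrix.one_apply, smul_eq_mul, mul_ite, mul_one, mul_zero, h1]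
      by_cases hij : i = j <;> simp [hij, Ne.symm]
    obtain ⟨c, hc'⟩ := hscal
    refine ⟨c, ?_⟩
    calc slice' M l x y = B * S := by rw [hS, ← mul_assoc, mul_nonsing_inv B hBu, one_mul]
      _ = c • B := by rw [hc', mul_smul_comm, mul_one]
  let φ : Matrix (Fin k) (Fin k) F →ₗ[F] F := (B a b)⁻¹ • Matrix.entryLinearMap F F a b
  have hsl' : ∀ x y, slice' M l x y = φ (slice' M l x y) • B := fun x y => by
    obtain ⟨c, hc⟩ := hall x y
    rw [hc]
    congr 1
    show c = (B a b)⁻¹ * (c • B) a b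
    rw [Matrix.smul_apply, smul_eq_mul, mul_comm c, ← mul_assoc, inv_mul_cancel₀ hab, one_mul]
  have hMe : M = TPow.sl l B * lift l φ M := eq_sl_mul_lift l φ hsl'
  refine ⟨B, lift l φ M, hBu, hBA, lift_commute l φ M, hMe, fun j hj A hc => ?_⟩
  refine sub_eq_zero.1 (eq_zero_of_sl_mul (i := l) hB0 (fun C => ?_) ?_)
  · exact ((lift_commute l φ M C).mul_left (sl_commute hj A C)).sub_left
      ((sl_commute hj A C).mul_left (lift_commute l φ M C))
  · rw [mul_sub, ← mul_assoc, ← hMe, ← mul_assoc, (sl_commute hj.symm B A).eq, mul_assoc, ← hMe, hc.eq, sub_self]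

/-- ranks of orthogonal idempotents add -/
theorem rank_add_orth {ν : Type} [Fintype ν] [DecidableEq ν] {P Q : Matrix ν ν F} (hP : P * P = P) (hQ : Q * Q = Q)
    (hPQ : P * Q = 0) (hQP : Q * P = 0) : P.rank + Q.rank ≤ (P + Q).rank := by
  have e1 : LinearMap.range P.mulVecLin ⊔ LinearMap.range Q.mulVecLin ≤ LinearMap.range (P + Q).mulVecLin := by
    refine sup_le ?_ ?_
    · rintro _ ⟨v, rfl⟩
      exact ⟨P *ᵥ v, by simp [mulVecLin_apply, add_mulVec, mulVec_mulVec, hP, hQP]⟩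
    · rintro _ ⟨v, rfl⟩
      exact ⟨Q *ᵥ v, by simp [mulVecLin_apply, add_mulVec, mulVec_mulVec, hQ, hPQ]⟩
  have e2 : LinearMap.range P.mulVecLin ⊓ LinearMap.range Q.mulVecLin = ⊥ := by
    refine eq_bot_iff.2 fun x hx => ?_
    obtain ⟨⟨v, rfl⟩, w, hw⟩ := hx
    simp only [mulVecLin_apply] at hw ⊢
    have h := congrArg (P *ᵥ ·) hw
    simp only [mulVec_mulVec, hPQ, hP, zero_mulVec] at h
    simp [← h]
  have h1 := Submodule.finrank_sup_add_finrank_inf_eq (LinearMap.range P.mulVecLin) (LinearMap.range Q.mulVecLin)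
  rw [e2, finrank_bot, add_zero] at h1
  have h2 := Submodule.finrank_mono e1
  rw [Matrix.rank, Matrix.rank, Matrix.rank]
  omega

/-- the rank of a sum of orthogonal idempotents -/
theorem rank_sum_orth {ν γ : Type} [Fintype ν] [DecidableEq ν] {P : γ → Matrix ν ν F} (hP : ∀ c, P c * P c = P c)
    (hPP : ∀ c c', c ≠ c' → P c * P c' = 0) (s : Finset γ) :
    (∑ c ∈ s, P c) * (∑ c ∈ s, P c) = ∑ c ∈ s, P c ∧ ∑ c ∈ s, (P c).rank ≤ (∑ c ∈ s, P c).rank := by
  classical
  induction s using Finset.induction_on with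
  | empty => simp
  | insert c s hc ih =>
    have h1 : P c * ∑ d ∈ s, P d = 0 := by
      rw [Finset.mul_sum]; exact Finset.sum_eq_zero fun d hd => hPP _ _ fun e => hc (e ▸ hd)
    have h2 : (∑ d ∈ s, P d) * P c = 0 := by
      rw [Finset.sum_mul]; exact Finset.sum_eq_zero fun d hd => hPP _ _ fun e => hc (e ▸ hd)
    rw [Finset.sum_insert hc, Finset.sum_insert hc]
    refine ⟨by rw [add_mul, mul_add, mul_add, hP, h1, h2, ih.1]; abel, ?_⟩
    have h3 := rank_add_orth (hP c) ih.1 h1 h2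
    omega

end Cfsg.Agent.ClassicalMax.OOWreath
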