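import Cfsg.Agent.ClassicalMax.OOWreath.Structure
import Cfsg.Agent.ClassicalMax.OTensor.Square
import Cfsg.Agent.ClassicalMax.OTensorFour.Invariant

/-!
Two slots: the slot space is a tensor product of two isometric orthogonal spaces, and an element of an overgroup that
is not standard forces every Siegel transformation, whatever the determinant of the slot.
-/

set_option autoImplicit false
set_option linter.unusedSectionVars false
set_option linter.unusedSimpArgs false

namespace Cfsg.Agent.ClassicalMax.OOWreath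

open Matrix Module QuadraticMap Cfsg.Geo Cfsg.Agent.Classical Cfsg.Agent.Classical.Quad Cfsg.Agent.ClassicalMax.TPow
open Cfsg.Agent.ClassicalMax.SpWreath (GV GV_det pv bf_pv)
open Cfsg.Agent.ClassicalMax.OWreath (mt mt_mulVec mt_injective)
open Cfsg.Agent.ClassicalMax.OTensor (Core Frame Over InN)

variable {F : Type*} [Field F] {k t : ℕ}

/-- a tensor product of invertible matrices on a pure tensor -/
theorem pureU_mulVec_pv (gs : Fin t → GL (Fin k) F) (f : Fin t → Fin k → F) :
    (Asch.pureU gs : Matrix (Fin t → Fin k) (Fin t → Fin k) F) *ᵥ pv f =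
      pv fun j => (gs j : Matrix (Fin k) (Fin k) F) *ᵥ f j := by
  funext z
  simp only [Asch.pureU, Asch.pureM, PrimeDim.mat, mulVec, dotProduct, pv, Matrix.of_apply, ← Finset.prod_mul_distrib]
  exact (Fintype.prod_sum fun j l => (gs j : Matrix (Fin k) (Fin k) F) (z j) l * f j l).symm

/-- a permutation of the slots on a pure tensor -/
theorem permU_mulVec_pv (σ : Equiv.Perm (Fin t)) (f : Fin t → Fin k → F) :
    (Asch.permU (F := F) (m := k) σ : Matrix (Fin t → Fin k) (Fin t → Fin k) F) *ᵥ pv f =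
      pv fun j => f (σ.symm j) := by
  funext z
  simp only [Asch.permU, Asch.permM, mulVec, dotProduct, pv, Matrix.of_apply, ite_mul, one_mul, zero_mul,
    Finset.sum_ite_eq', Finset.mem_univ, if_true, Function.comp_apply]
  exact Fintype.prod_equiv σ _ _ fun j => by rw [Equiv.symm_apply_apply]

/-- the pure tensor of two slots -/
def pt2 : (Fin k → F) →ₗ[F] (Fin k → F) →ₗ[F] ((Fin 2 → Fin k) → F) :=
  LinearMap.mk₂ F (fun u w y => u (y 0) * w (y 1))
    (fun a b w => funext fun y => add_mul _ _ _) (fun s a w => funext fun y => mul_assoc _ _ _)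
    (fun u a b => funext fun y => mul_add _ _ _) (fun s u a => funext fun y => mul_left_comm _ _ _)

theorem pt2_eq (u w : Fin k → F) : pt2 u w = pv ![u, w] := funext fun y => by
  simp [pt2, pv, Fin.prod_univ_two]

theorem pt2_span : Submodule.span F (Set.range fun p : (Fin k → F) × (Fin k → F) => pt2 p.1 p.2) = ⊤ := by
  classical
  refine eq_top_iff.2 fun x _ => ?_
  rw [pi_eq_sum_univ x]
  refine Submodule.sum_mem _ fun y _ => Submodule.smul_mem _ _ (Submodule.subset_span ⟨(Pi.single (y 0) 1, Pi.single (y 1) 1), ?_⟩)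
  funext z
  show (Pi.single (y 0) 1 : Fin k → F) (z 0) * (Pi.single (y 1) 1 : Fin k → F) (z 1) = _
  simp only [Pi.single_apply, funext_iff, Fin.forall_fin_two, ite_and, ite_mul, one_mul, zero_mul,
    eq_comm (a := z _)]

/-- a pair of invertible maps of the slots -/
theorem pt2_lift (a b : (Fin k → F) ≃ₗ[F] (Fin k → F)) :
    ∃ u : GL (Fin 2 → Fin k) F, u ∈ tensorWreathStandard k 2 F ∧
      ∀ x y, glEquiv (Fin 2 → Fin k) F u (pt2 x y) = pt2 (a x) (b y) := by
  refine ⟨Asch.pureU ![(glEquiv (Fin k) F).symm a, (glEquiv (Fin k) F).symm b],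
    Subgroup.subset_closure (Or.inl ⟨_, fun _ _ => rfl⟩), fun x y => ?_⟩
  have e : ∀ (c : (Fin k → F) ≃ₗ[F] (Fin k → F)) (z : Fin k → F),
      ((glEquiv (Fin k) F).symm c : Matrix (Fin k) (Fin k) F) *ᵥ z = c z := fun c z => by
    refine (glEquiv_apply _ _).symm.trans ?_
    rw [MulEquiv.apply_symm_apply]
  rw [glEquiv_apply]
  change PrimeDim.mat (Asch.pureU _) *ᵥ _ = _
  unfold PrimeDim.mat
  rw [pt2_eq, pt2_eq, pureU_mulVec_pv]
  congr 1
  funext j
  fin_cases j <;> simp [e]

variable [Finite F] {J : Matrix (Fin k) (Fin k) F} {Q : QuadraticForm F ((Fin 2 → Fin k) → F)} {c : F}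

namespace SSpace

variable (hV : SSpace Q J c)
include hV

/-- two slots form an orthogonal tensor decomposition -/
theorem core2 : Core Q ((c * (2 : F)⁻¹) • qJ J) ((2 : F)⁻¹ • qJ J) (pt2 (F := F) (k := k)) := by
  have hJ := hV.sj
  have h2 := hJ.two
  have hU : ∀ x y, polar ((c * (2 : F)⁻¹) • qJ J) x y = c * bf J x y := fun x y => by
    rw [FunLike.coe_smul, polar_smul, hJ.polar_qJ, smul_eq_mul]
    field_simp
  have hW : ∀ x y, polar ((2 : F)⁻¹ • qJ J) x y = bf J x y := fun x y => by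
    rw [FunLike.coe_smul, polar_smul, hJ.polar_qJ, smul_eq_mul]
    field_simp
  refine ⟨h2, hV.nd, nondeg_of fun x hx => ?_, nondeg_of fun x hx => ?_, fun u w u' w' => ?_, pt2_span,
    fun a b => (pt2_lift a b).elim fun u hu => ⟨glEquiv (Fin 2 → Fin k) F u, hu.2⟩⟩
  · by_contra hne
    obtain ⟨y, hy⟩ := exists_bf_ne J hJ.det hne
    exact mul_ne_zero hV.c0 hy ((hU x y).symm.trans (hx y))
  · by_contra hne
    obtain ⟨y, hy⟩ := exists_bf_ne J hJ.det hne
    exact hy ((hW x y).symm.trans (hx y))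
  · rw [hU, hW, hV.pol, pt2_eq, pt2_eq, bf_pv, Fin.prod_univ_two]
    simp only [Matrix.cons_val_zero, Matrix.cons_val_one, mul_assoc]

/-- the exchange of the two slots -/
theorem exists_swap2 : ∃ σ : oG Q, mt σ ∈ tensorWreathStandard k 2 F ∧ ∀ x y, σ.1 (pt2 x y) = pt2 y x := by
  set τ : Equiv.Perm (Fin 2) := Equiv.swap 0 1 with hτ
  obtain ⟨σ, hσ⟩ := hV.exists_oG (M := (Asch.permU (F := F) (m := k) τ : Matrix (Fin 2 → Fin k) (Fin 2 → Fin k) F))
    (by rw [InO, adjJ, Matrix.mul_assoc (GV J)⁻¹, Matrix.mul_assoc (GV J)⁻¹, SpWreath.permU_iso,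
      nonsing_inv_mul _ hV.GVd])
  refine ⟨σ, ?_, fun x y => ?_⟩
  · rw [show mt σ = Asch.permU τ from Units.ext hσ]
    exact Subgroup.subset_closure (Or.inr ⟨τ, fun _ _ => rfl⟩)
  · rw [← mt_mulVec, hσ, pt2_eq, pt2_eq, permU_mulVec_pv]
    congr 1
    funext j
    fin_cases j <;> simp [hτ]

/-- an element keeping the two slots is standard -/
theorem mem_standard_of_inN (hk : 1 ≤ k) {g : oG Q} (h : InN (pt2 (F := F) (k := k)) g.1) :
    mt g ∈ tensorWreathStandard k 2 F := by
  obtain ⟨a, b, h⟩ := h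
  haveI : Nonempty (Fin k) := ⟨⟨0, by omega⟩⟩
  obtain ⟨z, hz⟩ := exists_ne (0 : Fin k → F)
  have hne : ∀ x y : Fin k → F, x ≠ 0 → y ≠ 0 → pt2 x y ≠ 0 := fun x y hx hy e => by
    obtain ⟨i, hi⟩ := Function.ne_iff.1 hx
    obtain ⟨j, hj⟩ := Function.ne_iff.1 hy
    exact mul_ne_zero hi hj (congrFun e ![i, j])
  have ha : Function.Injective a := (injective_iff_map_eq_zero a).2 fun x hx => by
    by_contra h0
    refine hne x z h0 hz (g.1.injective ?_)
    rw [h, hx, map_zero, LinearMap.zero_apply, map_zero]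
  have hb : Function.Injective b := (injective_iff_map_eq_zero b).2 fun x hx => by
    by_contra h0
    refine hne z x hz h0 (g.1.injective ?_)
    rw [h, hx, map_zero, map_zero]
  obtain ⟨u, hu, he⟩ := pt2_lift (LinearEquiv.ofBijective a ⟨ha, LinearMap.injective_iff_surjective.1 ha⟩)
    (LinearEquiv.ofBijective b ⟨hb, LinearMap.injective_iff_surjective.1 hb⟩)
  suffices mt g = u from this ▸ hu
  refine (glEquiv (Fin 2 → Fin k) F).injective (LinearEquiv.toLinearMap_injective (hV.core2.ext_pure fun x y => ?_))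
  show glEquiv (Fin 2 → Fin k) F (mt g) (pt2 x y) = glEquiv (Fin 2 → Fin k) F u (pt2 x y)
  rw [he, glEquiv_apply]
  show (mt g : Matrix (Fin 2 → Fin k) (Fin 2 → Fin k) F) *ᵥ _ = _
  rw [mt_mulVec, h]
  rfl

/-- an element exchanging the two slots is standard -/
theorem mem_standard_of_swapped (hk : 1 ≤ k) {g : oG Q} {α β : (Fin k → F) →ₗ[F] (Fin k → F)}
    (h : ∀ x y, g.1 (pt2 x y) = pt2 (β y) (α x)) : mt g ∈ tensorWreathStandard k 2 F := by
  obtain ⟨σ, hσS, hσ⟩ := hV.exists_swap2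
  have h1 : mt (g * σ) ∈ tensorWreathStandard k 2 F :=
    hV.mem_standard_of_inN hk ⟨β, α, fun x y => by rw [oG_mul_apply, hσ, h]⟩
  rw [map_mul] at h1
  exact (Subgroup.mul_mem_cancel_right _ hσS).1 h1

/-- the criterion for two slots -/
theorem eo_le_two_slots (hk : 4 ≤ k) {H : Subgroup (oG Q)}
    (hH : ∀ g ∈ commutator (oG Q), mt g ∈ tensorWreathStandard k 2 F → g ∈ H) {g : oG Q}
    (hg : g ∈ H) (hgS : mt g ∉ tensorWreathStandard k 2 F) : eo Q ≤ H := by
  by_contra hne
  refine hgS ?_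
  have hC := hV.core2
  have hfr : finrank F (Fin k → F) = k := by rw [Module.finrank_fintype_fun_eq_card, Fintype.card_fin]
  have hO : Over (pt2 (F := F) (k := k)) H := fun x hx hN => hH x hx (hV.mem_standard_of_inN (by omega) hN)
  rcases eq_or_lt_of_le hk with rfl | hk5
  · have h2 := hV.sj.two
    have hsq : ∀ (s : F) (x : Fin 4 → F), s ≠ 0 → (s • qJ J) x = 0 → bf J x x = 0 := fun s x hs e => by
      rw [_root_.smul_apply, smul_eq_mul, qJ_apply] at e
      exact (mul_eq_zero.1 e).resolve_left hs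
    have ell : ∀ (s : F), s ≠ 0 → ∀ p y, (s • qJ J) p = 0 → (s • qJ J) y = 0 → polar (s • qJ J) p y = 0 → p ≠ 0 →
        y ∈ F ∙ p := fun s hs p y hp hy hpy hp0 => by
      rw [FunLike.coe_smul, polar_smul, hV.sj.polar_qJ, smul_eq_mul] at hpy
      obtain ⟨d, hd⟩ := hV.sj.nop rfl p y hp0 (hsq s p hs hp) (hsq s y hs hy)
        (((mul_eq_zero.1 hpy).resolve_left hs |> mul_eq_zero.1).resolve_left h2)
      exact Submodule.mem_span_singleton.2 ⟨d, hd.symm⟩
    have hH4 : OTensorFour.Hyp44 Q ((c * (2 : F)⁻¹) • qJ J) ((2 : F)⁻¹ • qJ J) pt2 H := by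
      refine ⟨⟨hC, hfr, hfr, ell _ (mul_ne_zero hV.c0 (inv_ne_zero h2)), ell _ (inv_ne_zero h2)⟩, hne,
        fun x hx hN => hH x hx ?_, ?_⟩
      · rcases OTensor3.mem_NS.1 hN with hN | ⟨a, b, hab⟩
        · exact hV.mem_standard_of_inN (by omega) hN
        · exact hV.mem_standard_of_swapped (by omega) fun u w => hab w u
      · obtain ⟨σ, -, hσ⟩ := hV.exists_swap2
        exact ⟨σ, LinearMap.id, LinearMap.id, fun x y => hσ y x⟩
    rcases OTensor3.mem_NS.1 (hH4.ns_all hg) with hN | ⟨a, b, hab⟩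
    · exact hV.mem_standard_of_inN (by omega) hN
    · exact hV.mem_standard_of_swapped (by omega) fun u w => hab w u
  · have hF : Frame Q ((c * (2 : F)⁻¹) • qJ J) ((2 : F)⁻¹ • qJ J) (pt2 (F := F) (k := k)) :=
      ⟨hC, by omega, by omega, le_rfl, fun h => absurd h (by omega), fun h => absurd h (by omega)⟩
    rcases hO.inN_or hF rfl hne hg with hN | ⟨α, β, hab⟩
    · exact hV.mem_standard_of_inN (by omega) hN
    · exact hV.mem_standard_of_swapped (by omega) hab

end SSpace

end Cfsg.Agent.ClassicalMax.OOWreath
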