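import Cfsg.Agent.ClassicalMax.OOWreath.SlotImage

/-!
If the centralisers of the good signed reflections permute the slot algebras, an element conjugating a good signed
reflection to an element that permutes the slot algebras does so itself.
-/

set_option autoImplicit false
set_option linter.unusedSectionVars false
set_option linter.unusedSimpArgs false

namespace Cfsg.Agent.ClassicalMax.OOWreath

open Matrix Cfsg.Agent.ClassicalMax.TPow
open Cfsg.Agent.ClassicalMax.SpWreath (GV GV_det)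

variable {F : Type*} [Field F] {k t : ℕ} {J : Matrix (Fin k) (Fin k) F}

variable (J) in
/-- the centralisers of good signed reflections permute the slot algebras -/
def CentStd (Sg : Finset (Fin t)) (G : Subgroup (GL (Fin t → Fin k) F)) : Prop :=
  ∀ i ∈ Sg, ∀ u, Good J u → ∀ g : Matrix (Fin t → Fin k) (Fin t → Fin k) F, MG G g →
    Commute g (sl i (dl J u)) → Std g

theorem slot_map_eq (hk : 2 ≤ k) {M M' : Matrix (Fin t → Fin k) (Fin t → Fin k) F} (hMM : M * M' = 1) {l a b : Fin t}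
    {A B B' : Matrix (Fin k) (Fin k) F} (hA : ∀ c : F, B ≠ c • 1)
    (h : M * sl l A = sl a B * M) (h' : M * sl l A = sl b B' * M) : a = b := by
  haveI : Nonempty (Fin k) := ⟨⟨0, by omega⟩⟩
  refine slot_eq (A := B) (B := B') ?_ hA
  have := congrArg (· * M') (h.symm.trans h')
  simpa only [mul_assoc, hMM, mul_one] using this

theorem image_nonscalar (hk : 2 ≤ k) {M M' : Matrix (Fin t → Fin k) (Fin t → Fin k) F} (hMM : M' * M = 1)
    {l a : Fin t} {A B : Matrix (Fin k) (Fin k) F} (h : M * sl l A = sl a B * M) (hA : ∀ c : F, A ≠ c • 1) (c : F) :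
    B ≠ c • 1 := fun e => by
  haveI : Nonempty (Fin k) := ⟨⟨0, by omega⟩⟩
  rw [e, sl_smul, sl_one, smul_mul_assoc, one_mul] at h
  have h1 := congrArg (M' * ·) h
  simp only [← mul_assoc, hMM, one_mul, mul_smul_comm] at h1
  rw [← sl_one (F := F) (κ := Fin k) l, ← sl_smul] at h1
  exact hA c (sl_injective l h1)

theorem exists_nonscalar (hk : 2 ≤ k) : ∃ A : Matrix (Fin k) (Fin k) F, ∀ c : F, A ≠ c • 1 :=
  ⟨Matrix.single ⟨0, by omega⟩ ⟨1, by omega⟩ 1, fun c h => by
    have := congrFun (congrFun h ⟨0, by omega⟩) ⟨1, by omega⟩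
    simp at this⟩

theorem Std.slot_perm (hk : 2 ≤ k) {M M' : Matrix (Fin t → Fin k) (Fin t → Fin k) F} (hMM : M * M' = 1)
    {σ : Equiv.Perm (Fin t)} {θ : Fin t → Matrix (Fin k) (Fin k) F ≃ₐ[F] Matrix (Fin k) (Fin k) F}
    (hθ : ∀ l A, M * TPow.sl l A = TPow.sl (σ l) (θ l A) * M) {l l' : Fin t}
    (h : ∀ A, ∃ B, M * TPow.sl l A = TPow.sl l' B * M) : σ l = l' := by
  obtain ⟨A, hA⟩ := exists_nonscalar (F := F) hk
  obtain ⟨B, hB⟩ := h A
  exact slot_map_eq hk hMM (image_nonscalar hk (mul_eq_one_comm.1 hMM) (hθ l A) hA) (hθ l A) hB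

/-- a product of two slot matrices lying in one slot -/
theorem slot_prod [Finite F] (hJ : SJ J) {i m n : Fin t} (hmi : m ≠ i) {X Y Z : Matrix (Fin k) (Fin k) F} (hX : IsUnit X.det)
    (hY : Y ≠ 0) (h : sl i X * sl m Y = sl n Z) : (∃ c : F, Y = c • 1) ∨ ∃ c : F, X = c • 1 := by
  haveI : Nonempty (Fin k) := ⟨⟨0, by have := hJ.kk; omega⟩⟩
  rcases eq_or_ne n i with rfl | hn
  · left
    by_contra! hY'
    refine hmi (slot_eq (B := X⁻¹ * Z) ?_ hY')
    rw [← sl_mul, ← h, ← mul_assoc, sl_mul, nonsing_inv_mul X hX, sl_one, one_mul]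
  · right
    refine SpWreath.scalar_of_commute fun A => ?_
    have h1 : Commute (sl i X * sl m Y) (sl i A) := h ▸ sl_commute hn Z A
    refine sub_eq_zero.1 (by_contra fun hne => hY (sl_injective m ?_))
    rw [sl_zero]
    refine eq_zero_of_sl_mul (i := i) hne (fun C => sl_commute hmi Y C) ?_
    rw [sub_eq_add_neg, ← neg_one_smul F (A * X), sl_add, sl_smul, neg_one_smul, add_mul, neg_mul, ← sl_mul, ← sl_mul,
      mul_assoc, ← (sl_commute hmi Y A).eq, ← mul_assoc, h1.eq, ← mul_assoc, add_neg_cancel]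

/-- the sum of the projections to an orthogonal basis -/
theorem triangle (hJ : SJ J) (hk3 : k = 3) {a b c : Fin k → F} (ha : bf J a a ≠ 0) (hb : bf J b b ≠ 0)
    (hc : bf J c c ≠ 0) (hab : bf J a b = 0) (hac : bf J a c = 0) (hbc : bf J b c = 0) :
    dl J a * dl J b = dl J c := by
  have h1 : ∀ z : Fin k → F, (dl J a * dl J b) *ᵥ z = dl J c *ᵥ z := fun z => by
    refine sub_eq_zero.1 (hJ.eq_zero_of_orth (n := 3) hk3.symm ![a, b, c] ?_ ?_ ?_)
    · intro x y hxy
      fin_cases x <;> fin_cases y <;> first | exact absurd rfl hxy | simp [hab, hac, hbc, hJ.comm b a, hJ.comm c a, hJ.comm c b]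
    · intro x; fin_cases x <;> assumption
    intro x
    have hba : bf J b a = 0 := by rw [hJ.comm, hab]
    have hca : bf J c a = 0 := by rw [hJ.comm, hac]
    have hcb : bf J c b = 0 := by rw [hJ.comm, hbc]
    have hsg : sg F k = -1 := by rw [sg, hk3]; norm_num
    have e : ∀ v, bf J v ((dl J a * dl J b) *ᵥ z) = bf J (dl J b *ᵥ (dl J a *ᵥ v)) z := fun v => by
      conv_rhs => rw [← hJ.dl_adj b, hJ.bf_adjJ, ← hJ.dl_adj a, hJ.bf_adjJ, mulVec_mulVec]
    have e' : ∀ v, bf J v (dl J c *ᵥ z) = bf J (dl J c *ᵥ v) z := fun v => by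
      conv_rhs => rw [← hJ.dl_adj c, hJ.bf_adjJ]
    rw [sub_eq_add_neg, ← neg_one_smul F (dl J c *ᵥ z), bf_add_right, bf_smul_right, e, e']
    fin_cases x <;>
      simp [dl_self ha, dl_self hb, dl_self hc, dl_perp hab, dl_perp hba, dl_perp hac, dl_perp hca, dl_perp hbc,
        dl_perp hcb, mulVec_smul, mulVec_neg, smul_smul, bf_smul_left, hsg]
  exact Matrix.toLin'.injective (LinearMap.ext fun z => by rw [Matrix.toLin'_apply, Matrix.toLin'_apply, h1 z])

/-- the third vector of an orthogonal triangle of good vectors is good -/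
theorem good_third (hJ : SJ J) (hk3 : k = 3) {a b c : Fin k → F} (ha : Good J a) (hb : Good J b) (hc : bf J c c ≠ 0)
    (hab : bf J a b = 0) (hac : bf J a c = 0) (hbc : bf J b c = 0) : Good J c := by
  subst hk3
  refine ⟨hc, fun _ => ?_⟩
  obtain ⟨x, hx⟩ := ha.2 (by decide)
  obtain ⟨y, hy⟩ := hb.2 (by decide)
  let M : Matrix (Fin 3) (Fin 3) F := Matrix.of fun i j => ![a, b, c] j i
  have hM : Mᵀ * J * M = Matrix.diagonal ![bf J a a, bf J b b, bf J c c] := by
    ext i j
    have e : (Mᵀ * J * M) i j = bf J (![a, b, c] i) (![a, b, c] j) := by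
      rw [Matrix.mul_assoc]
      simp only [bf, Matrix.mul_apply, dotProduct, mulVec, Matrix.transpose_apply, M, Matrix.of_apply]
    rw [e]
    fin_cases i <;> fin_cases j <;> simp [hab, hac, hbc, hJ.comm b a, hJ.comm c a, hJ.comm c b]
  have h1 := congrArg Matrix.det hM
  rw [det_mul, det_mul, det_transpose, det_diagonal, Fin.prod_univ_three] at h1
  simp only [Matrix.cons_val_zero, Matrix.cons_val_one, Matrix.cons_val_two, Matrix.tail_cons, Matrix.head_cons] at h1
  have hM0 : M.det ≠ 0 := fun e => by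
    rw [e] at h1
    simp only [zero_mul, mul_zero] at h1
    exact mul_ne_zero (mul_ne_zero ha.1 hb.1) hc h1.symm
  have hD := hJ.det.ne_zero
  refine ⟨M.det * J.det * J.det / (x * y), ?_⟩
  have hxy : (x * y) * (x * y) ≠ 0 := by
    rw [show (x * y) * (x * y) = (x * x) * (y * y) by ring, ← hx, ← hy]
    exact mul_ne_zero (mul_ne_zero ha.1 hD) (mul_ne_zero hb.1 hD)
  rw [div_mul_div_comm, eq_div_iff hxy]
  linear_combination (-(bf J c c * J.det * (y * y))) * hx - (bf J c c * J.det * (bf J a a * J.det)) * hy -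
    (J.det * J.det * J.det) * h1

variable [Finite F]

theorem exists_good_perp (hJ : SJ J) {n : ℕ} (hn : n + 1 < k) (f : Fin n → Fin k → F)
    (hf : ∀ a b, a ≠ b → bf J (f a) (f b) = 0) (hf0 : ∀ a, bf J (f a) (f a) ≠ 0) :
    ∃ u, Good J u ∧ ∀ a, bf J (f a) u = 0 := by
  obtain ⟨e, he, hef⟩ := hJ.exists_orth (by omega) f hf hf0
  obtain ⟨e', he', hef'⟩ := hJ.exists_orth (n := n + 1) hn (Fin.cons e f) (by
    intro a b hab
    refine Fin.cases ?_ (fun a' => ?_) a b hab
    · intro b hab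
      refine Fin.cases (fun h => absurd rfl h) (fun b' _ => ?_) b hab
      simp only [Fin.cons_zero, Fin.cons_succ]
      rw [hJ.comm, hef]
    · intro b hab
      refine Fin.cases (fun _ => ?_) (fun b' h => ?_) b hab
      · simp only [Fin.cons_zero, Fin.cons_succ]; exact hef a'
      · simp only [Fin.cons_succ]; exact hf a' b' fun e => h (by rw [e]))
    (fun a => Fin.cases (by simpa using he) (fun a' => by simpa using hf0 a') a)
  obtain ⟨x, y, hxy⟩ := hJ.exists_binary he he' (by simpa using hef' 0) hJ.det.ne_zero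
  refine ⟨x • e + y • e', hJ.good_of_value hxy, fun a => ?_⟩
  rw [bf_add_right, bf_smul_right, bf_smul_right, hef a, show bf J (f a) e' = 0 by simpa using hef' a.succ]
  ring

theorem exists_triangle (hJ : SJ J) (hk3 : k = 3) :
    ∃ a b c, Good J a ∧ Good J b ∧ Good J c ∧ dl J a * dl J b = dl J c := by
  obtain ⟨a, ha, -⟩ := exists_good_perp hJ (n := 0) (by omega) ![] (fun a => a.elim0) (fun a => a.elim0)
  obtain ⟨b, hb, hab⟩ := exists_good_perp hJ (n := 1) (by omega) ![a] (fun _ _ h => absurd (Subsingleton.elim _ _) h)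
    (fun _ => by simpa using ha.1)
  have hab' : bf J a b = 0 := by simpa using hab 0
  obtain ⟨c, hc, hc'⟩ := hJ.exists_orth (n := 2) (by omega) ![a, b] (by
    intro x y h; fin_cases x <;> fin_cases y <;> first | exact absurd rfl h | simp [hJ.comm b a, hab'])
    (by intro x; fin_cases x; exacts [ha.1, hb.1])
  have hac : bf J a c = 0 := hc' 0
  have hbc : bf J b c = 0 := hc' 1
  exact ⟨a, b, c, ha, hb, good_third hJ hk3 ha hb hc hab' hac hbc, triangle hJ hk3 ha.1 hb.1 hc hab' hac hbc⟩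

namespace Setting

variable {Sg : Finset (Fin t)} {G : Subgroup (GL (Fin t → Fin k) F)} (hS : Setting J Sg G)
include hS

/-- a slot element conjugate to a signed reflection is one -/
theorem classify_slot {i : Fin t} {u0 : Fin k → F} (hu0 : bf J u0 u0 ≠ 0)
    {g : Matrix (Fin t → Fin k) (Fin t → Fin k) F} (hg : MG G g) {l : Fin t} {B : Matrix (Fin k) (Fin k) F}
    (h : g * sl i (dl J u0) * adjJ (GV J) g = sl l B) :
    ∃ l' u, bf J u u ≠ 0 ∧ g * sl i (dl J u0) * adjJ (GV J) g = sl l' (dl J u) := by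
  have hJ := hS.sj
  have hk := hJ.kk
  obtain ⟨-, hg1, hg2⟩ := hS.adj_inv hg
  have hBB : B * B = 1 := by
    haveI : Nonempty (Fin k) := ⟨⟨0, by omega⟩⟩
    refine sl_injective l ?_
    rw [← sl_mul, ← h, sl_one, show g * sl i (dl J u0) * adjJ (GV J) g * (g * sl i (dl J u0) * adjJ (GV J) g) =
      g * sl i (dl J u0) * (adjJ (GV J) g * g) * sl i (dl J u0) * adjJ (GV J) g by simp only [mul_assoc], hg1, mul_one,
      mul_assoc g, sl_mul, dl_sq hu0, sl_one, mul_one, hg2]
  rcases classify hS hu0 hg rfl (h ▸ Std.sl l hBB) with ⟨l', u, hu, e⟩ | ⟨-, l1, l2, hne, h1, -, -⟩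
  · exact ⟨l', u, hu, e⟩
  exfalso
  obtain ⟨A, hA⟩ := exists_nonscalar (F := F) (k := k) (by omega)
  obtain ⟨C, hC⟩ := h1 A
  have hMM : sl (β := Fin t) l B * sl l B = 1 := by rw [sl_mul, hBB, sl_one]
  rw [h] at hC
  have hfix : ∃ C', sl l B * sl l1 A = sl l1 C' * sl l B := by
    rcases eq_or_ne l1 l with rfl | h'
    · exact ⟨B * A * B, by rw [sl_mul, sl_mul, mul_assoc _ B B, hBB, mul_one]⟩
    · exact ⟨A, (sl_commute (Ne.symm h') B A).eq⟩
  obtain ⟨C', hC'⟩ := hfix
  exact hne (slot_map_eq (by omega) hMM (image_nonscalar (by omega) hMM hC hA) hC hC').symm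

/-- conjugates of slot elements by elements permuting the slot algebras -/
theorem std_conj_slot {M : Matrix (Fin t → Fin k) (Fin t → Fin k) F} (hM : MG G M) (hMs : Std M) (l : Fin t)
    (A : Matrix (Fin k) (Fin k) F) : ∃ l' B, M * sl l A * adjJ (GV J) M = sl l' B := by
  obtain ⟨l', h⟩ := hMs l
  obtain ⟨B, hB⟩ := h A
  exact ⟨l', B, by rw [hB, mul_assoc, (hS.adj_inv hM).2.2, mul_one]⟩

theorem std_adj {M : Matrix (Fin t → Fin k) (Fin t → Fin k) F} (hM : MG G M) (hMs : Std M) : Std (adjJ (GV J) M) :=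
  Std.inv (by have := hS.sj.kk; omega) (hS.adj_inv hM).2.2 hMs

/-- one good reflection of a slot goes to a reflection -/
theorem exists_refl_image {g : Matrix (Fin t → Fin k) (Fin t → Fin k) F} (hg : MG G g) {j : Fin t} (hj : j ∈ Sg)
    (hstd : ∀ c, Good J c → Std (g * sl j (dl J c) * adjJ (GV J) g)) :
    ∃ (c : Fin k → F) (l : Fin t) (u : Fin k → F), Good J c ∧ bf J u u ≠ 0 ∧
      g * sl j (dl J c) * adjJ (GV J) g = sl l (dl J u) := by
  have hJ := hS.sj
  have hk := hJ.kk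
  by_contra! hno
  obtain ⟨-, hg1, hg2⟩ := hS.adj_inv hg
  have hsw : ∀ c, Good J c → k = 3 ∧ ∃ (σ : Equiv.Perm (Fin t))
      (θ : Fin t → Matrix (Fin k) (Fin k) F ≃ₐ[F] Matrix (Fin k) (Fin k) F), Equiv.Perm.sign σ = -1 ∧
      ∀ l A, g * sl j (dl J c) * adjJ (GV J) g * sl l A = sl (σ l) (θ l A) * (g * sl j (dl J c) * adjJ (GV J) g) := by
    intro c hc
    rcases classify hS hc.1 hg rfl (hstd c hc) with ⟨l, u, hu, e⟩ | ⟨hk3, l, l', hne, h1, h2, h3⟩
    · exact absurd e (hno c l u hc hu)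
    obtain ⟨hMa, hM1, hM2⟩ := hS.adj_inv (hS.conj_mem hg (hS.refl j hj c hc))
    obtain ⟨σ, θ, hθ⟩ := (hstd c hc).data (by omega) hM2
    have hσ : σ = Equiv.swap l l' := by
      refine Equiv.ext fun m => ?_
      rcases eq_or_ne m l with rfl | hm
      · rw [Equiv.swap_apply_left]; exact Std.slot_perm (by omega) hM2 hθ h1
      rcases eq_or_ne m l' with rfl | hm'
      · rw [Equiv.swap_apply_right]; exact Std.slot_perm (by omega) hM2 hθ h2
      rw [Equiv.swap_apply_of_ne_of_ne hm hm']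
      exact Std.slot_perm (by omega) hM2 hθ fun A => ⟨A, (h3 m hm hm' A).eq⟩
    exact ⟨hk3, σ, θ, by rw [hσ, Equiv.Perm.sign_swap hne], hθ⟩
  obtain ⟨u0, hu0, -⟩ := exists_good_perp hJ (n := 0) (by omega) ![] (fun a => a.elim0) (fun a => a.elim0)
  obtain ⟨a, b, c, ha, hb, hc, habc⟩ := exists_triangle hJ (hsw u0 hu0).1
  obtain ⟨-, σa, θa, hsa, hθa⟩ := hsw a ha
  obtain ⟨-, σb, θb, hsb, hθb⟩ := hsw b hb
  obtain ⟨-, σc, θc, hsc, hθc⟩ := hsw c hc
  have hprod : g * sl j (dl J c) * adjJ (GV J) g =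
      g * sl j (dl J a) * adjJ (GV J) g * (g * sl j (dl J b) * adjJ (GV J) g) := by
    rw [show g * sl j (dl J a) * adjJ (GV J) g * (g * sl j (dl J b) * adjJ (GV J) g) =
      g * sl j (dl J a) * (adjJ (GV J) g * g) * sl j (dl J b) * adjJ (GV J) g by simp only [mul_assoc], hg1, mul_one,
      mul_assoc g (sl j _) (sl j _), sl_mul, habc]
  have hσ : σc = σa * σb := Equiv.ext fun m =>
    Std.slot_perm (by omega) (hS.adj_inv (hS.conj_mem hg (hS.refl j hj c hc))).2.2 hθc fun A =>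
      ⟨θa (σb m) (θb m A), by rw [hprod, mul_assoc, hθb, ← mul_assoc, hθa, mul_assoc, Equiv.Perm.mul_apply]⟩
  rw [hσ, Equiv.Perm.sign_mul, hsa, hsb] at hsc
  exact absurd hsc (by decide)

variable (hC : CentStd J Sg G)
include hC

/-- conjugating a good reflection to a reflection -/
theorem uf_refl {i : Fin t} (hi : i ∈ Sg) {u : Fin k → F} (hu : Good J u)
    {g : Matrix (Fin t → Fin k) (Fin t → Fin k) F} (hg : MG G g) {l : Fin t} {u' : Fin k → F}
    (h : adjJ (GV J) g * sl i (dl J u) * g = sl l (dl J u')) : Std g := by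
  have hJ := hS.sj
  obtain ⟨hga, hg1, hg2⟩ := hS.adj_inv hg
  have hgx : sl i (dl J u) * g = g * sl l (dl J u') := by
    rw [← h, ← mul_assoc, ← mul_assoc, hg2, one_mul]
  have hstd : ∀ X, MG G X → Commute X (sl l (dl J u')) → Std (g * X * adjJ (GV J) g) := fun X hX hc => by
    refine hC i hi u hu _ (hS.conj_mem hg hX) ?_
    have e : adjJ (GV J) g * sl i (dl J u) = sl l (dl J u') * adjJ (GV J) g := by
      rw [← h, mul_assoc, hg2, mul_one]
    show g * X * adjJ (GV J) g * sl i (dl J u) = sl i (dl J u) * (g * X * adjJ (GV J) g)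
    rw [mul_assoc, e, ← mul_assoc, ← mul_assoc, ← mul_assoc (sl i _) g, hgx, mul_assoc g X, hc.eq, ← mul_assoc]
  refine std_of_but hJ hg2 l fun j hjl => ?_
  by_cases hj : j ∈ Sg
  swap
  · exact ⟨j, fun A => ⟨A, (hS.out' hg hj A).eq⟩⟩
  refine hS.slot_image hg (fun c => Good J c ∧ ∃ (l : Fin t) (w : Fin k → F), bf J w w ≠ 0 ∧
    g * sl j (dl J c) * adjJ (GV J) g = sl l (dl J w)) (fun c hc => hc.1.1) ?_ ?_ (fun c hc => hc.2)
  · rintro c p e ⟨hc, l1, w, hw, hcw⟩ hp he
    have hA := eS_iso hJ hp he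
    refine ⟨⟨by rw [bf_iso hJ hA.1]; exact hc.1, fun h => by rw [bf_iso hJ hA.1]; exact hc.2 h⟩, ?_⟩
    obtain ⟨hr, -⟩ := hS.mg_root hj hp he
    have hR := hstd _ hr (sl_commute hjl _ _)
    obtain ⟨l2, B, hB⟩ := hS.std_conj_slot (hS.conj_mem hg hr) hR l1 (dl J w)
    refine hS.classify_slot (i := j) (by rw [bf_iso hJ hA.1]; exact hc.1) hg (l := l2) (B := B) ?_
    rw [← hB, ← hcw, hS.adj_mul', hS.adj_mul', hS.adj_adj', adj_sl hJ.det, ← dl_conj hJ hA.1, ← sl_mul, ← sl_mul]
    simp only [mul_assoc]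
    rw [← mul_assoc (adjJ (GV J) g) g, hg1, one_mul, ← mul_assoc (adjJ (GV J) g) g, hg1, one_mul]
  · obtain ⟨c, l1, w, hc, hw, h1⟩ := hS.exists_refl_image hg hj
      fun c hc => hstd _ (hS.refl j hj c hc) (sl_commute hjl _ _)
    exact ⟨c, hc, l1, w, hw, h1⟩

/-- conjugating a good reflection to an element permuting the slots -/
theorem uf {i : Fin t} (hi : i ∈ Sg) {u : Fin k → F} (hu : Good J u)
    {g : Matrix (Fin t → Fin k) (Fin t → Fin k) F} (hg : MG G g)
    (h : Std (adjJ (GV J) g * sl i (dl J u) * g)) : Std g := by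
  classical
  have hJ := hS.sj
  have hk := hJ.kk
  haveI : Nonempty (Fin k) := ⟨⟨0, by omega⟩⟩
  obtain ⟨hga, hg1, hg2⟩ := hS.adj_inv hg
  obtain ⟨x', hx'⟩ : ∃ x', x' = adjJ (GV J) g * sl i (dl J u) * g := ⟨_, rfl⟩
  rw [← hx'] at h
  rcases classify hS hu.1 hga (hx'.trans (by rw [hS.adj_adj'])) h with ⟨l, u', -, e⟩ | ⟨hk3, l1, l2, hne, h1, h2, h3⟩
  · exact hS.uf_refl hC hi hu hg (hx' ▸ e)
  have hgx : sl i (dl J u) * g = g * x' := by rw [hx', ← mul_assoc, ← mul_assoc, hg2, one_mul]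
  have hxg : adjJ (GV J) g * sl i (dl J u) = x' * adjJ (GV J) g := by rw [hx', mul_assoc, hg2, mul_one]
  have hstd : ∀ X, MG G X → Commute X x' → Std (g * X * adjJ (GV J) g) := fun X hX hc => by
    refine hC i hi u hu _ (hS.conj_mem hg hX) ?_
    show g * X * adjJ (GV J) g * sl i (dl J u) = sl i (dl J u) * (g * X * adjJ (GV J) g)
    rw [mul_assoc, hxg, ← mul_assoc, ← mul_assoc, ← mul_assoc (sl i _) g, hgx, mul_assoc g X, hc.eq, ← mul_assoc]
  have hx'M : MG G x' := hx' ▸ (hga.mul (hS.refl i hi u hu)).mul hg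
  by_cases h3rd : ∃ m ∈ Sg, m ≠ l1 ∧ m ≠ l2
  · obtain ⟨m, hm, hm1, hm2⟩ := h3rd
    obtain ⟨c, l, w, hc, -, hcw⟩ := hS.exists_refl_image hg hm
      fun c hc => hstd _ (hS.refl m hm c hc) (h3 m hm1 hm2 _).symm
    have h4 := hS.uf_refl hC hm hc hga (l := l) (u' := w) (by rwa [hS.adj_adj'])
    have := hS.std_adj hga h4
    rwa [hS.adj_adj'] at this
  push Not at h3rd
  exfalso
  have hxx : x' * x' = 1 := by
    rw [hx', show adjJ (GV J) g * sl i (dl J u) * g * (adjJ (GV J) g * sl i (dl J u) * g) =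
      adjJ (GV J) g * sl i (dl J u) * (g * adjJ (GV J) g) * sl i (dl J u) * g by simp only [mul_assoc], hg2, mul_one,
      mul_assoc (adjJ (GV J) g), sl_mul, dl_sq hu.1, sl_one, mul_one, hg1]
  have hxs : adjJ (GV J) x' = x' := by
    rw [hx', hS.adj_mul', hS.adj_mul', hS.adj_adj', adj_sl hJ.det, hJ.dl_adj, mul_assoc]
  have hl1 : l1 ∈ Sg := by
    by_contra hl
    obtain ⟨A, hA⟩ := exists_nonscalar (F := F) (k := k) (by omega)
    obtain ⟨B, hB⟩ := h1 A
    exact hne (slot_map_eq (by omega) hxx hA (hS.out' hx'M hl A).eq hB)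
  obtain ⟨σ', θ', hθ'⟩ := h.data (by omega) hxx
  have hσ' : σ' l1 = l2 := Std.slot_perm (by omega) hxx hθ' h1
  have hB1 : ∀ c, x' * sl l1 (dl J c) * x' = sl l2 (θ' l1 (dl J c)) := fun c => by
    rw [hθ', hσ', mul_assoc, hxx, mul_one]
  obtain ⟨a, b, c, ha, hb, hc, habc⟩ := exists_triangle hJ hk3
  -- the images of the diagonal involutions
  have key : ∀ c, Good J c → ∃ S : Matrix (Fin k) (Fin k) F, ∃ i2 : Fin t, i2 ∈ Sg ∧ i2 ≠ i ∧
      g * (sl l1 (dl J c) * (x' * sl l1 (dl J c) * x')) * adjJ (GV J) g = sl i (dl J u) * sl i2 S := by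
    intro c hc
    obtain ⟨Mc, hMc⟩ : ∃ Mc, Mc = sl l1 (dl J c) * (x' * sl l1 (dl J c) * x') := ⟨_, rfl⟩
    have hcl := (sl_commute hne (dl J c) (θ' l1 (dl J c))).eq
    have hMcM : MG G Mc := hMc ▸ (hS.refl l1 hl1 c hc).mul ((hx'M.mul (hS.refl l1 hl1 c hc)).mul hx'M)
    have hcomm : Commute Mc x' := by
      show Mc * x' = x' * Mc
      have e1 : Mc = x' * sl l1 (dl J c) * x' * sl l1 (dl J c) := by rw [hMc, hB1, hcl]
      conv_lhs => rw [e1]
      rw [hMc]
      simp only [mul_assoc, hxx, mul_one]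
    obtain ⟨N, hN⟩ : ∃ N, N = g * Mc * adjJ (GV J) g := ⟨_, rfl⟩
    have hNs : Std N := hN ▸ hstd _ hMcM hcomm
    have hNM : MG G N := hN ▸ hS.conj_mem hg hMcM
    obtain ⟨-, hN1, hN2⟩ := hS.adj_inv hNM
    have hNx : Commute N (sl i (dl J u)) := by
      rw [hN]
      show g * Mc * adjJ (GV J) g * sl i (dl J u) = sl i (dl J u) * (g * Mc * adjJ (GV J) g)
      rw [mul_assoc, hxg, ← mul_assoc, ← mul_assoc, ← mul_assoc (sl i _) g, hgx, mul_assoc g Mc, hcomm.eq, ← mul_assoc]
    obtain ⟨σ, θ, hθ⟩ := hNs.data (by omega) hN2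
    have hσi : σ i = i := slot_map_eq (by omega) hN2
      (image_nonscalar (by omega) hN1 (hθ i _) (dl_ne_scalar hJ hu.1)) (hθ i _) hNx.eq
    have hσo : ∀ m ∉ Sg, σ m = m := fun m hm => Std.slot_perm (by omega) hN2 hθ fun A => ⟨A, (hS.out' hNM hm A).eq⟩
    obtain ⟨i2, hi2, hi2i, hcov⟩ : ∃ i2, i2 ∈ Sg ∧ i2 ≠ i ∧ ∀ m ∈ Sg, m = i ∨ m = i2 := by
      have hl2 : l2 ∈ Sg := by
        by_contra hl
        obtain ⟨A, hA⟩ := exists_nonscalar (F := F) (k := k) (by omega)
        obtain ⟨B, hB⟩ := h2 A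
        exact hne (slot_map_eq (by omega) hxx hA (hS.out' hx'M hl A).eq hB).symm
      by_cases hil : i = l1
      · exact ⟨l2, hl2, fun e => hne (hil ▸ e.symm), fun m hm => by
          by_cases hm1 : m = l1
          · exact Or.inl (hm1.trans hil.symm)
          · exact Or.inr (h3rd m hm hm1)⟩
      · have hi2' : i = l2 := h3rd i hi hil
        exact ⟨l1, hl1, fun e => hil e.symm, fun m hm => by
          by_cases hm1 : m = l1
          · exact Or.inr hm1
          · exact Or.inl ((h3rd m hm hm1).trans hi2'.symm)⟩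
    have hσ : ∀ m, σ m = m := fun m => by
      by_cases hm : m ∈ Sg
      · rcases hcov m hm with rfl | rfl
        · exact hσi
        · by_contra hne'
          by_cases hm' : σ m ∈ Sg
          · rcases hcov _ hm' with e | e
            · exact hi2i (σ.injective (e.trans hσi.symm))
            · exact hne' e
          · exact hne' (σ.injective (hσo _ hm'))
      · exact hσo m hm
    obtain ⟨B, R, hBu, -, hR, hNB, hRo⟩ := exists_factor (l := i) (M := N)
      (fun e => by rw [e, mul_zero] at hN1; exact zero_ne_one hN1) (θ := θ i) (fun A => by rw [hθ, hσi])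
    obtain ⟨S, hRS⟩ := eq_sl_of_commute hJ i2 (X := R) fun m hm A => by
      rcases eq_or_ne m i with rfl | hmi
      · exact hR A
      · refine hRo m hmi A (hS.out' hNM (fun hmS => ?_) A)
        rcases hcov m hmS with e | e
        · exact hmi e
        · exact hm e
    rw [hRS] at hNB
    have hS0 : S ≠ 0 := fun e => by
      rw [hNB, e, sl_zero, mul_zero, mul_zero] at hN1
      exact zero_ne_one hN1
    -- multiply by the reflection
    have hxN : sl i (dl J u) * N = g * (x' * Mc) * adjJ (GV J) g := by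
      rw [hN, ← mul_assoc, ← mul_assoc, hgx, mul_assoc g x' Mc]
    obtain ⟨h', hh'⟩ : ∃ h', h' = g * (x' * sl l1 (dl J c)) * adjJ (GV J) g := ⟨_, rfl⟩
    have hh'M : MG G h' := hh' ▸ hS.conj_mem hg (hx'M.mul (hS.refl l1 hl1 c hc))
    have hconj : h' * sl i (dl J u) * adjJ (GV J) h' = sl i (dl J u) * N := by
      rw [hxN, hh', hS.adj_mul', hS.adj_mul', hS.adj_adj', hS.adj_mul', adj_sl hJ.det, hJ.dl_adj, hxs, hMc]
      simp only [mul_assoc]
      rw [← mul_assoc (adjJ (GV J) g) (sl i _), hxg]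
      simp only [mul_assoc]
      rw [← mul_assoc (adjJ (GV J) g) g, hg1, one_mul]
    have hcls := classify hS hu.1 hh'M hconj.symm ((Std.sl i (dl_sq hu.1)).mul hNs)
    rcases hcls with ⟨n, w, hw, e⟩ | ⟨-, m, m', hmm, g1, -, -⟩
    swap
    · exfalso
      refine hmm ?_
      have hXX : sl i (dl J u) * N * (adjJ (GV J) N * sl i (dl J u)) = 1 := by
        rw [mul_assoc, ← mul_assoc N, hN2, one_mul, sl_mul, dl_sq hu.1, sl_one]
      obtain ⟨A, hA⟩ := exists_nonscalar (F := F) (k := k) (by omega)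
      obtain ⟨C, hC'⟩ := g1 A
      have hfix : ∃ C', sl i (dl J u) * N * sl m A = sl m C' * (sl i (dl J u) * N) := by
        rcases eq_or_ne m i with rfl | hmi
        · refine ⟨dl J u * θ m A * dl J u, ?_⟩
          rw [mul_assoc, hθ, hσ, ← mul_assoc, ← mul_assoc (sl m _) (sl m _), sl_mul, sl_mul,
            mul_assoc _ (dl J u) (dl J u), dl_sq hu.1, mul_one]
        · refine ⟨θ m A, ?_⟩
          rw [mul_assoc, hθ, hσ, ← mul_assoc, (sl_commute (Ne.symm hmi) _ _).eq, mul_assoc]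
      obtain ⟨C', hC''⟩ := hfix
      exact (slot_map_eq (by omega) hXX (image_nonscalar (by omega) (mul_eq_one_comm.1 hXX) hC' hA) hC' hC'').symm
    rw [hNB, ← mul_assoc, sl_mul] at e
    have hBu' : IsUnit (dl J u * B).det := by
      rw [det_mul]
      refine IsUnit.mul ?_ hBu
      exact isUnit_iff_ne_zero.2 fun h0 => by simpa [det_mul, h0] using congrArg Matrix.det (dl_sq hu.1)
    rcases slot_prod hJ hi2i hBu' hS0 e with ⟨s, hs⟩ | ⟨s, hs⟩
    swap
    · have hBe : B = s • dl J u := by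
        have := congrArg (dl J u * ·) hs
        simpa only [← mul_assoc, dl_sq hu.1, one_mul, mul_smul_comm, mul_one] using this
      refine ⟨s • S, i2, hi2, hi2i, ?_⟩
      rw [← hMc, ← hN, hNB, hBe, sl_smul, sl_smul, smul_mul_assoc, mul_smul_comm]
    exfalso
    rw [hs, sl_smul, sl_one, mul_smul_comm, mul_one, ← sl_smul] at e hNB
    obtain rfl := (slot_eq e.symm (dl_ne_scalar hJ hw)).symm
    have hB' : s • B = dl J u * dl J w := by
      rw [← sl_injective i e, mul_smul_comm, ← mul_assoc, dl_sq hu.1, one_mul]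
    have hu0w : bf J u w = 0 := by
      have h5 : Commute (dl J u) (dl J w) := by
        have h6 := hNx.eq
        rw [hNB, sl_mul, sl_mul, hB'] at h6
        have h7 := congrArg (dl J u * ·) (sl_injective i h6)
        simp only [← mul_assoc, dl_sq hu.1, one_mul] at h7
        exact h7.symm
      rcases rf_comm hJ hu.1 hw h5 with h | h
      · exact h
      · exfalso
        rw [h, dl_sq hw] at hB'
        have : Mc = 1 := by
          have h8 := congrArg (fun X => adjJ (GV J) g * X * g) (hN.symm.trans (hNB.trans (by rw [hB', sl_one])))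
          simp only [← mul_assoc, hg1, one_mul, mul_one] at h8
          rwa [mul_assoc _ _ g, hg1, mul_one] at h8
        rw [hMc, hB1] at this
        refine dl_ne_scalar hJ hc.1 1 ?_
        rw [one_smul]
        refine sl_injective l1 ?_
        rw [sl_one]
        have h9 := congrArg (· * sl l2 (θ' l1 (dl J c))) this
        simp only [one_mul, mul_assoc, sl_mul, ← map_mul, dl_sq hc.1, map_one, sl_one, mul_one] at h9
        exfalso
        exact dl_ne_scalar hJ hc.1 1 (by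
          rw [one_smul]
          by_contra hne1
          exact hne (slot_eq h9 (dl_ne_scalar hJ hc.1)))
    obtain ⟨v, hv, hv'⟩ := hJ.exists_orth (n := 2) (by omega) ![u, w] (by
      intro x y h; fin_cases x <;> fin_cases y <;> first | exact absurd rfl h | simp [hJ.comm w u, hu0w])
      (by intro x; fin_cases x; exacts [hu.1, hw])
    rw [triangle hJ hk3 hu.1 hw hv hu0w (hv' 0) (hv' 1)] at hB'
    rw [hB'] at hNB
    have hMce : Mc = adjJ (GV J) g * sl i (dl J v) * adjJ (GV J) (adjJ (GV J) g) := by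
      rw [hS.adj_adj', ← hNB, hN, ← mul_assoc, ← mul_assoc, hg1, one_mul, mul_assoc, hg1, mul_one]
    have hθc : θ' l1 (dl J c) * θ' l1 (dl J c) = 1 := by rw [← map_mul, dl_sq hc.1, map_one]
    have hMcs : Std Mc := by
      rw [hMc, hB1]; exact (Std.sl l1 (dl_sq hc.1)).mul (Std.sl l2 hθc)
    have hMc2 : Mc = sl l1 (dl J c) * sl l2 (θ' l1 (dl J c)) := by rw [hMc, hB1]
    have hns : ∀ s : F, θ' l1 (dl J c) ≠ s • 1 := fun s e' => dl_ne_scalar hJ hc.1 s
      ((θ' l1).injective (by rw [e', map_smul, map_one]))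
    rcases classify hS hv hga hMce hMcs with ⟨n, z, hz, e'⟩ | ⟨-, m, m', hmm, g1, -, -⟩
    · rw [hMc2] at e'
      have hcu : IsUnit (dl J c).det :=
        isUnit_iff_ne_zero.2 fun h0 => by simpa [det_mul, h0] using congrArg Matrix.det (dl_sq hc.1)
      rcases slot_prod hJ (Ne.symm hne) hcu (fun e => hns 0 (by rw [e, zero_smul])) e' with ⟨s, hs⟩ | ⟨s, hs⟩
      · exact hns s hs
      · exact dl_ne_scalar hJ hc.1 s hs
    · refine hmm ?_
      obtain ⟨A, hA⟩ := exists_nonscalar (F := F) (k := k) (by omega)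
      obtain ⟨C, hC'⟩ := g1 A
      have hMM : Mc * Mc = 1 := by
        rw [hMc2, mul_assoc, ← mul_assoc (sl l2 _) (sl l1 _), ← (sl_commute hne _ _).eq, mul_assoc (sl l1 _),
          sl_mul, hθc, sl_one, mul_one, sl_mul, dl_sq hc.1, sl_one]
      have hfix : ∃ C', Mc * sl m A = sl m C' * Mc := by
        rw [hMc2]
        rcases eq_or_ne m l1 with rfl | hm1
        · refine ⟨dl J c * A * dl J c, ?_⟩
          rw [mul_assoc, ((sl_commute hne A _).symm).eq, ← mul_assoc, ← mul_assoc, sl_mul, sl_mul,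
            mul_assoc _ (dl J c) (dl J c), dl_sq hc.1, mul_one]
        rcases eq_or_ne m l2 with rfl | hm2
        · refine ⟨θ' l1 (dl J c) * A * θ' l1 (dl J c), ?_⟩
          rw [mul_assoc, sl_mul, ← mul_assoc (sl m _) (sl l1 _), ← (sl_commute (Ne.symm hm1) _ _).eq, mul_assoc,
            sl_mul, mul_assoc _ (θ' l1 _) (θ' l1 _), hθc, mul_one]
        · exact ⟨A, ((sl_commute (Ne.symm hm1) _ A).mul_left (sl_commute (Ne.symm hm2) _ A)).eq⟩
      obtain ⟨C', hC''⟩ := hfix
      exact (slot_map_eq (by omega) hMM (image_nonscalar (by omega) hMM hC' hA) hC' hC'').symm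
  obtain ⟨Sa, i2, hi2, hi2i, hNa⟩ := key a ha
  obtain ⟨Sb, i2b, hi2b, hi2bi, hNb⟩ := key b hb
  obtain ⟨Sc, i2c, hi2c, hi2ci, hNc⟩ := key c hc
  have hcase : ∀ m ∈ Sg, m ≠ i → m = i2 := fun m hm hmi => by
    by_contra hne'
    have e1 := fun n (hn : n ∈ Sg) (hn1 : n ≠ l1) => h3rd n hn hn1
    by_cases hm1 : m = l1 <;> by_cases hi1 : i = l1 <;> by_cases hj1 : i2 = l1
    all_goals first
      | exact hmi (hm1.trans hi1.symm)
      | exact hne' (hm1.trans hj1.symm)
      | exact hi2i (hj1.trans hi1.symm)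
      | exact hmi ((e1 m hm hm1).trans (e1 i hi hi1).symm)
      | exact hne' ((e1 m hm hm1).trans (e1 i2 hi2 hj1).symm)
      | exact hi2i ((e1 i2 hi2 hj1).trans (e1 i hi hi1).symm)
  obtain rfl := hcase i2b hi2b hi2bi
  obtain rfl := hcase i2c hi2c hi2ci
  have hprod : sl l1 (dl J a) * (x' * sl l1 (dl J a) * x') * (sl l1 (dl J b) * (x' * sl l1 (dl J b) * x')) =
      sl l1 (dl J c) * (x' * sl l1 (dl J c) * x') := by
    rw [hB1, hB1, hB1, mul_assoc, ← mul_assoc (sl l2 _) (sl l1 _), ← (sl_commute hne _ _).eq,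
      mul_assoc (sl l1 _) (sl l2 _), sl_mul, ← mul_assoc, sl_mul, ← map_mul, habc]
  have h9 := congrArg (fun X => g * X * adjJ (GV J) g) hprod
  rw [hNc, show ∀ X Y, g * (X * Y) * adjJ (GV J) g = g * X * adjJ (GV J) g * (g * Y * adjJ (GV J) g) from fun X Y => by
    rw [show g * X * adjJ (GV J) g * (g * Y * adjJ (GV J) g) = g * X * (adjJ (GV J) g * g) * Y * adjJ (GV J) g by
      simp only [mul_assoc], hg1, mul_one]
    simp only [mul_assoc], hNa, hNb, mul_assoc, ← mul_assoc (sl _ Sa) (sl i _), (sl_commute hi2i _ _).eq,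
    mul_assoc (sl i _) (sl _ Sa), sl_mul, ← mul_assoc, sl_mul, dl_sq hu.1, sl_one, one_mul] at h9
  have h10 : sl i (dl J u) * sl i2c (Sa * Sb) = sl i2c Sc := by
    rw [h9, ← mul_assoc, sl_mul, dl_sq hu.1, sl_one, one_mul]
  have hSS : Sa * Sb ≠ 0 := fun e => by
    rw [e, sl_zero] at h9
    have hu1 : IsUnit (dl J u).det :=
      isUnit_iff_ne_zero.2 fun h0 => by simpa [det_mul, h0] using congrArg Matrix.det (dl_sq hu.1)
    rw [← h9] at hNc
    have h11 := congrArg (fun X => adjJ (GV J) g * X * g) hNc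
    simp only [← mul_assoc, hg1, one_mul, mul_zero, zero_mul] at h11
    rw [mul_assoc _ _ g, hg1, mul_one] at h11
    have h12 := congrArg (fun X => X * (x' * sl l1 (dl J c) * x') * sl l1 (dl J c)) h11
    simp only [zero_mul, mul_assoc] at h12
    rw [← mul_assoc x' x', hxx, one_mul, ← mul_assoc (sl l1 _) (sl l1 _), sl_mul, dl_sq hc.1, sl_one, one_mul,
      ← mul_assoc x' x', hxx, one_mul, sl_mul, dl_sq hc.1, sl_one] at h12
    exact one_ne_zero h12
  rcases slot_prod hJ hi2ci (isUnit_iff_ne_zero.2 fun h0 => by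
    simpa [det_mul, h0] using congrArg Matrix.det (dl_sq hu.1)) hSS h10 with ⟨s, hs⟩ | ⟨s, hs⟩
  · rw [hs, sl_smul, sl_one, mul_smul_comm, mul_one, ← sl_smul] at h10
    refine hi2ci (slot_eq h10 fun r e => ?_).symm
    rcases eq_or_ne s 0 with rfl | hs0
    · exact hSS (by rw [hs, zero_smul])
    · refine dl_ne_scalar hJ hu.1 (s⁻¹ * r) ?_
      rw [mul_smul, ← e, smul_smul, inv_mul_cancel₀ hs0, one_smul]
  · exact dl_ne_scalar hJ hu.1 s hs

end Setting

end Cfsg.Agent.ClassicalMax.OOWreath
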